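import Mathlib
import Cfsg.Agent.Lib.Helper7.SOC1
import Cfsg.Agent.Lib.Helper1.MinimalNormal

set_option autoImplicit false
set_option linter.style.haveILetI false
set_option linter.unusedSectionVars false

/-! Groups in which `p`-subgroups of equal order are conjugate: the two inductive cases
(minimal normal subgroup of prime order; non-cyclic minimal normal subgroup). -/

open Pointwise

namespace Cfsg.Agent.Lib.Helper7.SOC

open Cfsg.Agent.Lib

universe u

variable {G : Type u} [Group G]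

theorem card_sup_eq_mul_card_map (N : Subgroup G) [N.Normal] (X : Subgroup G) :
    Nat.card ↥(X ⊔ N) = Nat.card N * Nat.card (X.map (QuotientGroup.mk' N)) := by
  have h := Helper1.card_comap_mk' N (X.map (QuotientGroup.mk' N))
  rw [Subgroup.comap_map_eq, QuotientGroup.ker_mk'] at h
  exact h

theorem normal_le_of_prime_dvd [Finite G] (hPD : PD G) (N : Subgroup G) [hN : N.Normal] (p : ℕ)
    (hp : p.Prime) (hNp : Nat.card N = p) (X : Subgroup G) (hX : p ∣ Nat.card X) : N ≤ X := by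
  haveI := Fact.mk hp
  obtain ⟨x, hx⟩ := exists_prime_orderOf_dvd_card' (G := ↥X) p hX
  have hZc : Nat.card (Subgroup.zpowers (x : G)) = p := by
    rw [Nat.card_zpowers, Subgroup.orderOf_coe, hx]
  have hNpg : IsPGroup p ↥N := IsPGroup.of_card (n := 1) (by rw [hNp, pow_one])
  have hZpg : IsPGroup p ↥(Subgroup.zpowers (x : G)) :=
    IsPGroup.of_card (n := 1) (by rw [hZc, pow_one])
  obtain ⟨g, hg⟩ := hPD p hp N (Subgroup.zpowers (x : G)) hNpg hZpg (by rw [hNp, hZc])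
  rw [Subgroup.Normal.conj_smul_eq_self] at hg
  rw [hg, Subgroup.zpowers_le]
  exact x.2

theorem caseA [Finite G] [Group.IsSolvable G] (hPD : PD G) (N : Subgroup G) [hN : N.Normal]
    (p : ℕ) (hp : p.Prime) (hNp : Nat.card N = p) (hq : Concl (G ⧸ N)) : Concl G := by
  intro H K hHK
  have hfs : Function.Surjective (QuotientGroup.mk' N) := QuotientGroup.mk'_surjective N
  have hker : (QuotientGroup.mk' N).ker = N := QuotientGroup.ker_mk' N
  by_cases hpH : p ∣ Nat.card H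
  · have hpK : p ∣ Nat.card K := by rw [← hHK]; exact hpH
    have hNH : N ≤ H := normal_le_of_prime_dvd hPD N p hp hNp H hpH
    have hNK : N ≤ K := normal_le_of_prime_dvd hPD N p hp hNp K hpK
    have h1 := card_sup_eq_mul_card_map N H
    have h2 := card_sup_eq_mul_card_map N K
    rw [sup_eq_left.2 hNH] at h1
    rw [sup_eq_left.2 hNK] at h2
    have hppos : 0 < Nat.card N := Nat.card_pos
    have h3 : Nat.card (H.map (QuotientGroup.mk' N)) = Nat.card (K.map (QuotientGroup.mk' N)) := by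
      apply Nat.eq_of_mul_eq_mul_left hppos
      rw [← h1, ← h2, hHK]
    obtain ⟨y, hy⟩ := hq _ _ h3
    obtain ⟨g, hg⟩ := Helper1.conj_sup_ker_of_map (QuotientGroup.mk' N) hfs ⟨y, hy⟩
    rw [hker] at hg
    refine ⟨g, ?_⟩
    have h4 : N ≤ MulAut.conj g • H := by
      have h5 : MulAut.conj g • N ≤ MulAut.conj g • H :=
        Subgroup.pointwise_smul_le_pointwise_smul_iff.2 hNH
      rwa [Subgroup.Normal.conj_smul_eq_self _ N] at h5
    rw [sup_eq_left.2 h4, sup_eq_left.2 hNK] at hg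
    exact hg
  · have hpK : ¬ p ∣ Nat.card K := by rw [← hHK]; exact hpH
    have hmapcard : ∀ X : Subgroup G, ¬ p ∣ Nat.card X →
        Nat.card (X.map (QuotientGroup.mk' N)) = Nat.card X := by
      intro X hX
      have h1 := card_sup_eq_mul_card_map N X
      have h2 : Nat.card X ∣ Nat.card ↥(X ⊔ N) := Subgroup.card_dvd_of_le le_sup_left
      have h3 : Nat.card N ∣ Nat.card ↥(X ⊔ N) := Subgroup.card_dvd_of_le le_sup_right
      have hcop : (Nat.card N).Coprime (Nat.card X) := by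
        rw [hNp]; exact (Nat.Prime.coprime_iff_not_dvd hp).2 hX
      have h4 : Nat.card N * Nat.card X ∣
          Nat.card N * Nat.card (X.map (QuotientGroup.mk' N)) := by
        rw [← h1]; exact Nat.Coprime.mul_dvd_of_dvd_of_dvd hcop h3 h2
      have h5 : Nat.card X ∣ Nat.card (X.map (QuotientGroup.mk' N)) :=
        Nat.dvd_of_mul_dvd_mul_left Nat.card_pos h4
      exact Nat.dvd_antisymm (Subgroup.card_map_dvd X _) h5
    obtain ⟨y, hy⟩ := hq (H.map (QuotientGroup.mk' N)) (K.map (QuotientGroup.mk' N))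
      (by rw [hmapcard H hpH, hmapcard K hpK, hHK])
    obtain ⟨g, hg⟩ := Helper1.conj_sup_ker_of_map (QuotientGroup.mk' N) hfs ⟨y, hy⟩
    rw [hker] at hg
    obtain ⟨W, hW⟩ : ∃ W : Subgroup G, W = K ⊔ N := ⟨_, rfl⟩
    have hKW : K ≤ W := by rw [hW]; exact le_sup_left
    have hH1W : MulAut.conj g • H ≤ W := by rw [hW, ← hg]; exact le_sup_left
    have hWc : Nat.card W = p * Nat.card K := by
      rw [hW, card_sup_eq_mul_card_map N K, hmapcard K hpK, hNp]
    have hH1c : Nat.card (MulAut.conj g • H : Subgroup G) = Nat.card K := by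
      rw [Helper1.card_conj_smul, hHK]
    have hidx : ((MulAut.conj g • H).subgroupOf W).index = p := by
      have h1 := Subgroup.card_mul_index ((MulAut.conj g • H).subgroupOf W)
      rw [Helper1.card_subgroupOf_of_le hH1W, hH1c, hWc, mul_comm p] at h1
      exact Nat.eq_of_mul_eq_mul_left Nat.card_pos h1
    have hcop : (Nat.card ((MulAut.conj g • H).subgroupOf W)).Coprime
        ((MulAut.conj g • H).subgroupOf W).index := by
      rw [hidx, Helper1.card_subgroupOf_of_le hH1W, hH1c]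
      exact ((Nat.Prime.coprime_iff_not_dvd hp).2 hpK).symm
    obtain ⟨w, hw⟩ := Helper1.hall_conj (G := ↥W) ((MulAut.conj g • H).subgroupOf W)
      (K.subgroupOf W) hcop
      (by rw [Helper1.card_subgroupOf_of_le hH1W, Helper1.card_subgroupOf_of_le hKW, hH1c])
    have h5 := Helper1.conj_smul_of_subgroupOf hH1W hKW w hw
    refine ⟨(w : G) * g, ?_⟩
    rw [map_mul, mul_smul]
    exact h5

/-! ### Case B -/

theorem ord_r_mem [Finite G] {r : ℕ} (hr : r.Prime) (hPD : PD G) (N : Subgroup G) [hN : N.Normal]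
    (hNr : r ∣ Nat.card N) (x : G) (hx : orderOf x = r) : x ∈ N := by
  haveI := Fact.mk hr
  obtain ⟨y, hy⟩ := exists_prime_orderOf_dvd_card' (G := ↥N) r hNr
  have hZ1c : Nat.card (Subgroup.zpowers (y : G)) = r := by
    rw [Nat.card_zpowers, Subgroup.orderOf_coe, hy]
  have hZ2c : Nat.card (Subgroup.zpowers x) = r := by
    rw [Nat.card_zpowers, hx]
  obtain ⟨g, hg⟩ := hPD r hr _ _ (IsPGroup.of_card (n := 1) (by rw [hZ1c, pow_one]))
    (IsPGroup.of_card (n := 1) (by rw [hZ2c, pow_one])) (hZ1c.trans hZ2c.symm)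
  have h1 : Subgroup.zpowers (y : G) ≤ N := by rw [Subgroup.zpowers_le]; exact y.2
  have h2 : MulAut.conj g • Subgroup.zpowers (y : G) ≤ MulAut.conj g • N :=
    Subgroup.pointwise_smul_le_pointwise_smul_iff.2 h1
  rw [Subgroup.Normal.conj_smul_eq_self _ N, hg] at h2
  exact h2 (Subgroup.mem_zpowers x)

theorem no_ord_rsq [Finite G] {r : ℕ} (hr : r.Prime) (hPD : PD G) (N : Subgroup G) [hN : N.Normal]
    (hNexp : ∀ x ∈ N, x ^ r = 1) (hN2 : r ^ 2 ∣ Nat.card N) (x : G) : orderOf x ≠ r ^ 2 := by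
  intro hx
  haveI := Fact.mk hr
  obtain ⟨E0, hE0⟩ := Sylow.exists_subgroup_card_pow_prime (G := ↥N) r hN2
  have hEc : Nat.card (E0.map N.subtype) = r ^ 2 := by
    rw [Subgroup.card_map_of_injective (Subgroup.subtype_injective N), hE0]
  have hZc : Nat.card (Subgroup.zpowers x) = r ^ 2 := by rw [Nat.card_zpowers, hx]
  obtain ⟨g, hg⟩ := hPD r hr _ _ (IsPGroup.of_card (n := 2) hEc) (IsPGroup.of_card (n := 2) hZc)
    (hEc.trans hZc.symm)
  have h1 : E0.map N.subtype ≤ N := Subgroup.map_subtype_le E0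
  have h2 : MulAut.conj g • E0.map N.subtype ≤ MulAut.conj g • N :=
    Subgroup.pointwise_smul_le_pointwise_smul_iff.2 h1
  rw [Subgroup.Normal.conj_smul_eq_self _ N, hg] at h2
  have h3 : x ^ r = 1 := hNexp x (h2 (Subgroup.mem_zpowers x))
  have h4 : orderOf x ∣ r := orderOf_dvd_of_pow_eq_one h3
  rw [hx] at h4
  have h5 := Nat.le_of_dvd hr.pos h4
  have h6 := hr.two_le
  nlinarith

theorem rgroup_le [Finite G] {r : ℕ} (hr : r.Prime) (hPD : PD G) (N : Subgroup G) [hN : N.Normal]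
    (hNexp : ∀ x ∈ N, x ^ r = 1) (hN2 : r ^ 2 ∣ Nat.card N) (U : Subgroup G)
    (hU : IsPGroup r U) : U ≤ N := by
  intro x hxU
  obtain ⟨k, hk⟩ := hU ⟨x, hxU⟩
  have hk' : x ^ (r ^ k) = 1 := by
    have h0 := congrArg (Subtype.val) hk
    simpa using h0
  obtain ⟨j, hjk, hj⟩ := (Nat.dvd_prime_pow hr).1 (orderOf_dvd_of_pow_eq_one hk')
  have hNr : r ∣ Nat.card N := dvd_trans (dvd_pow_self r (by norm_num)) hN2
  rcases Nat.lt_or_ge j 2 with hj2 | hj2
  · interval_cases j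
    · rw [pow_zero, orderOf_eq_one_iff] at hj
      rw [hj]; exact one_mem N
    · rw [pow_one] at hj
      exact ord_r_mem hr hPD N hNr x hj
  · exfalso
    have h1 : r ^ (j - 2) ∣ orderOf x := by rw [hj]; exact pow_dvd_pow r (Nat.sub_le j 2)
    have h2 : orderOf (x ^ (r ^ (j - 2))) = r ^ 2 := by
      rw [orderOf_pow_of_dvd (pow_ne_zero _ hr.ne_zero) h1, hj,
        Nat.pow_div (Nat.sub_le j 2) hr.pos]
      congr 1
      omega
    exact no_ord_rsq hr hPD N hNexp hN2 _ h2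

theorem coprime_index [Finite G] {r : ℕ} (hr : r.Prime) (hPD : PD G) (N : Subgroup G)
    [hN : N.Normal] (hNexp : ∀ x ∈ N, x ^ r = 1) (hN2 : r ^ 2 ∣ Nat.card N) :
    IsPGroup r N ∧ (Nat.card N).Coprime N.index := by
  haveI := Fact.mk hr
  have hNpg : IsPGroup r ↥N := by
    intro x
    refine ⟨1, ?_⟩
    rw [pow_one]
    exact Subtype.ext (by simpa using hNexp x x.2)
  obtain ⟨P⟩ : Nonempty (Sylow r G) := inferInstance
  have hPN : (P : Subgroup G) ≤ N := rgroup_le hr hPD N hNexp hN2 _ P.isPGroup'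
  have hNP : N = (P : Subgroup G) := P.is_maximal' hNpg hPN
  refine ⟨hNpg, ?_⟩
  rw [hNP]
  exact P.card_coprime_index

theorem decomp [Finite G] [Group.IsSolvable G] {r : ℕ} (hr : r.Prime) (hPD : PD G)
    (N : Subgroup G) [hN : N.Normal] (hNexp : ∀ x ∈ N, x ^ r = 1) (hN2 : r ^ 2 ∣ Nat.card N)
    (X : Subgroup G) :
    ∃ X' : Subgroup G, X' ≤ X ∧ (Nat.card X').Coprime r ∧ (X ⊓ N) ⊔ X' = X ∧
      Nat.card ↥(X ⊓ N) = r ^ (Nat.card X).factorization r ∧
      Nat.card X' = Nat.card X / r ^ (Nat.card X).factorization r := by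
  haveI := Fact.mk hr
  have hXne : Nat.card X ≠ 0 := Nat.card_pos.ne'
  obtain ⟨hNpg, -⟩ := coprime_index hr hPD N hNexp hN2
  have hcopX : (Nat.card X / r ^ (Nat.card X).factorization r).Coprime
      (r ^ (Nat.card X).factorization r) :=
    (Nat.Coprime.pow_left _ (Nat.coprime_ordCompl hr hXne)).symm
  obtain ⟨X0, hX0⟩ := Helper1.hall_exists (G := ↥X)
    (Nat.card X / r ^ (Nat.card X).factorization r) (r ^ (Nat.card X).factorization r)
    (by rw [mul_comm]; exact (Nat.ordProj_mul_ordCompl_eq_self (Nat.card X) r).symm) hcopX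
  have hX'c : Nat.card (X0.map X.subtype) = Nat.card X / r ^ (Nat.card X).factorization r := by
    rw [Subgroup.card_map_of_injective (Subgroup.subtype_injective X), hX0]
  have hX'le : X0.map X.subtype ≤ X := Subgroup.map_subtype_le X0
  have hX'cop : (Nat.card (X0.map X.subtype)).Coprime r := by
    rw [hX'c]; exact (Nat.coprime_ordCompl hr hXne).symm
  obtain ⟨S⟩ : Nonempty (Sylow r ↥X) := inferInstance
  have hSc : Nat.card ((S : Subgroup ↥X).map X.subtype) = r ^ (Nat.card X).factorization r := by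
    rw [Subgroup.card_map_of_injective (Subgroup.subtype_injective X)]
    exact S.card_eq_multiplicity
  have hSle : (S : Subgroup ↥X).map X.subtype ≤ X ⊓ N :=
    le_inf (Subgroup.map_subtype_le _) (rgroup_le hr hPD N hNexp hN2 _ (S.isPGroup'.map _))
  have hXNpg : IsPGroup r ↥(X ⊓ N) := hNpg.to_le inf_le_right
  obtain ⟨k, hk⟩ := IsPGroup.iff_card.1 hXNpg
  have hk1 : k ≤ (Nat.card X).factorization r := by
    apply (Nat.Prime.pow_dvd_iff_le_factorization hr hXne).1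
    rw [← hk]; exact Subgroup.card_dvd_of_le inf_le_left
  have hk2 : (Nat.card X).factorization r ≤ k := by
    apply (Nat.pow_dvd_pow_iff_le_right hr.one_lt).1
    rw [← hk, ← hSc]; exact Subgroup.card_dvd_of_le hSle
  have hXNc : Nat.card ↥(X ⊓ N) = r ^ (Nat.card X).factorization r := by
    rw [hk, le_antisymm hk1 hk2]
  refine ⟨X0.map X.subtype, hX'le, hX'cop, ?_, hXNc, hX'c⟩
  apply Subgroup.eq_of_le_of_card_ge (sup_le inf_le_left hX'le)
  apply Nat.le_of_dvd Nat.card_pos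
  have h1 : Nat.card ↥(X ⊓ N) ∣ Nat.card ↥((X ⊓ N) ⊔ X0.map X.subtype) :=
    Subgroup.card_dvd_of_le le_sup_left
  have h2 : Nat.card ↥(X0.map X.subtype) ∣ Nat.card ↥((X ⊓ N) ⊔ X0.map X.subtype) :=
    Subgroup.card_dvd_of_le le_sup_right
  have h3 := Nat.Coprime.mul_dvd_of_dvd_of_dvd (by rw [hXNc, hX'c]; exact hcopX.symm) h1 h2
  rw [hXNc, hX'c, Nat.ordProj_mul_ordCompl_eq_self] at h3
  exact h3

theorem beta [Finite G] {r : ℕ} (hr : r.Prime) (hPD : PD G) (N Q : Subgroup G) [hN : N.Normal]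
    (hNc : ∀ a ∈ N, ∀ b ∈ N, a * b = b * a) (hNpg : IsPGroup r N)
    (hcompl : Subgroup.IsComplement' N Q)
    (ih : ∀ Q0 : Subgroup G, Q0 ≤ Q → Concl ↥Q0)
    (D1 D2 T : Subgroup G) (hD1 : D1 ≤ N) (hD2 : D2 ≤ N) (hT : T ≤ Q)
    (hT1 : T ≤ Subgroup.normalizer (D1 : Set G)) (hT2 : T ≤ Subgroup.normalizer (D2 : Set G))
    (hc : Nat.card D1 = Nat.card D2) : ∃ g : G, MulAut.conj g • (D1 ⊔ T) = D2 ⊔ T := by
  obtain ⟨g, hg⟩ := hPD r hr D1 D2 (hNpg.to_le hD1) (hNpg.to_le hD2) hc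
  obtain ⟨n, hn, x, hx, rfl⟩ := Helper1.isComplement'_mul_eq hcompl g
  rw [map_mul, mul_smul] at hg
  have hxD1 : MulAut.conj x • D1 ≤ N := by
    have h0 : MulAut.conj x • D1 ≤ MulAut.conj x • N :=
      Subgroup.pointwise_smul_le_pointwise_smul_iff.2 hD1
    rwa [Subgroup.Normal.conj_smul_eq_self _ N] at h0
  rw [conj_smul_eq_self_of_le_of_comm N hNc hn hxD1] at hg
  obtain ⟨Q0, hQ0⟩ : ∃ Q0 : Subgroup G, Q0 = Q ⊓ Subgroup.normalizer (D2 : Set G) := ⟨_, rfl⟩
  have hQ0Q : Q0 ≤ Q := by rw [hQ0]; exact inf_le_left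
  have hQ0D : Q0 ≤ Subgroup.normalizer (D2 : Set G) := by rw [hQ0]; exact inf_le_right
  have hTQ0 : T ≤ Q0 := by rw [hQ0]; exact le_inf hT hT2
  have hxTQ0 : MulAut.conj x • T ≤ Q0 := by
    rw [hQ0]
    apply le_inf
    · have h0 : MulAut.conj x • T ≤ MulAut.conj x • Q :=
        Subgroup.pointwise_smul_le_pointwise_smul_iff.2 hT
      rwa [Subgroup.conj_smul_eq_self_of_mem hx] at h0
    · have h0 := conj_smul_le_normalizer x hT1
      rwa [hg] at h0
  obtain ⟨c, hc'⟩ := ih Q0 hQ0Q ((MulAut.conj x • T).subgroupOf Q0) (T.subgroupOf Q0)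
    (by rw [Helper1.card_subgroupOf_of_le hxTQ0, Helper1.card_subgroupOf_of_le hTQ0,
      Helper1.card_conj_smul])
  have h1 := Helper1.conj_smul_of_subgroupOf hxTQ0 hTQ0 c hc'
  have hcN : (c : G) ∈ Subgroup.normalizer (D2 : Set G) := hQ0D c.2
  refine ⟨(c : G) * x, ?_⟩
  rw [map_mul, mul_smul, Subgroup.smul_sup, Subgroup.smul_sup, hg, h1,
    conj_smul_eq_self_of_mem_normalizer hcN]

theorem caseB [Finite G] [Group.IsSolvable G] {r : ℕ} (hr : r.Prime) (hPD : PD G)
    (N : Subgroup G) [hN : N.Normal] (hNc : ∀ a ∈ N, ∀ b ∈ N, a * b = b * a)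
    (hNexp : ∀ x ∈ N, x ^ r = 1) (hN2 : r ^ 2 ∣ Nat.card N)
    (ih : ∀ Q : Subgroup G, (Nat.card Q).Coprime r → Concl ↥Q) : Concl G := by
  haveI := Fact.mk hr
  obtain ⟨hNpg, hNcop⟩ := coprime_index hr hPD N hNexp hN2
  obtain ⟨Q, hQ⟩ := Helper1.hall_exists (G := G) N.index (Nat.card N)
    (by rw [mul_comm]; exact (Subgroup.card_mul_index N).symm) hNcop.symm
  have hNr : r ∣ Nat.card N := dvd_trans (dvd_pow_self r (by norm_num)) hN2
  have hQcop : (Nat.card Q).Coprime (Nat.card N) := by rw [hQ]; exact hNcop.symm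
  have hQr : (Nat.card Q).Coprime r := Nat.Coprime.coprime_dvd_right hNr hQcop
  have hQidx : Q.index = Nat.card N := by
    have h1 : Nat.card Q * Q.index = Nat.card N * N.index :=
      (Subgroup.card_mul_index Q).trans (Subgroup.card_mul_index N).symm
    rw [hQ, mul_comm (Nat.card N)] at h1
    exact Nat.eq_of_mul_eq_mul_left (Nat.pos_of_ne_zero Subgroup.index_ne_zero_of_finite) h1
  have hcompl : Subgroup.IsComplement' N Q :=
    Subgroup.isComplement'_of_coprime (by rw [hQ]; exact Subgroup.card_mul_index N)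
      (by rw [hQ]; exact hNcop)
  intro H K hHK
  obtain ⟨H', hH'le, hH'cop, hHdec, hHNc, hH'c⟩ := decomp hr hPD N hNexp hN2 H
  obtain ⟨K', hK'le, hK'cop, hKdec, hKNc, hK'c⟩ := decomp hr hPD N hNexp hN2 K
  have hQH : (Nat.card Q).Coprime Q.index := by rw [hQidx]; exact hQcop
  have hcopidx : ∀ X : Subgroup G, (Nat.card X).Coprime r → (Nat.card X).Coprime Q.index := by
    intro X hX
    rw [hQidx]
    obtain ⟨k, hk⟩ := IsPGroup.iff_card.1 hNpg
    rw [hk]; exact Nat.Coprime.pow_right k hX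
  obtain ⟨a, ha⟩ := Helper1.hall_dominance Q H' hQH (hcopidx H' hH'cop)
  obtain ⟨b, hb⟩ := Helper1.hall_dominance Q K' hQH (hcopidx K' hK'cop)
  rw [Subgroup.subset_pointwise_smul_iff, ← map_inv] at ha hb
  obtain ⟨q, hq⟩ := ih Q hQr ((MulAut.conj a⁻¹ • H').subgroupOf Q)
    ((MulAut.conj b⁻¹ • K').subgroupOf Q)
    (by rw [Helper1.card_subgroupOf_of_le ha, Helper1.card_subgroupOf_of_le hb,
      Helper1.card_conj_smul, Helper1.card_conj_smul, hH'c, hK'c, hHK])
  have h1 := Helper1.conj_smul_of_subgroupOf ha hb q hq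
  obtain ⟨gH, hgH⟩ : ∃ gH : G, gH = (q : G) * a⁻¹ := ⟨_, rfl⟩
  have h2 : MulAut.conj gH • H' = MulAut.conj b⁻¹ • K' := by
    rw [hgH, map_mul, mul_smul]; exact h1
  have hD1 : MulAut.conj gH • (H ⊓ N) ≤ N := by
    have h0 : MulAut.conj gH • (H ⊓ N) ≤ MulAut.conj gH • N :=
      Subgroup.pointwise_smul_le_pointwise_smul_iff.2 inf_le_right
    rwa [Subgroup.Normal.conj_smul_eq_self _ N] at h0
  have hD2 : MulAut.conj b⁻¹ • (K ⊓ N) ≤ N := by
    have h0 : MulAut.conj b⁻¹ • (K ⊓ N) ≤ MulAut.conj b⁻¹ • N :=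
      Subgroup.pointwise_smul_le_pointwise_smul_iff.2 inf_le_right
    rwa [Subgroup.Normal.conj_smul_eq_self _ N] at h0
  have hT1 : MulAut.conj b⁻¹ • K' ≤
      Subgroup.normalizer ((MulAut.conj gH • (H ⊓ N) : Subgroup G) : Set G) := by
    rw [← h2]
    exact conj_smul_le_normalizer gH (hH'le.trans (le_normalizer_inf_normal H N))
  have hT2 : MulAut.conj b⁻¹ • K' ≤
      Subgroup.normalizer ((MulAut.conj b⁻¹ • (K ⊓ N) : Subgroup G) : Set G) :=
    conj_smul_le_normalizer b⁻¹ (hK'le.trans (le_normalizer_inf_normal K N))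
  obtain ⟨g, hg⟩ := beta hr hPD N Q hNc hNpg hcompl
    (fun Q0 h0 => ih Q0 (Nat.Coprime.coprime_dvd_left (Subgroup.card_dvd_of_le h0) hQr))
    (MulAut.conj gH • (H ⊓ N)) (MulAut.conj b⁻¹ • (K ⊓ N)) (MulAut.conj b⁻¹ • K') hD1 hD2 hb
    hT1 hT2
    (by rw [Helper1.card_conj_smul, Helper1.card_conj_smul, hHNc, hKNc, hHK])
  have e1 : MulAut.conj gH • (H ⊓ N) ⊔ MulAut.conj b⁻¹ • K' = MulAut.conj gH • H := by
    rw [← h2, ← Subgroup.smul_sup, hHdec]
  have e2 : MulAut.conj b⁻¹ • (K ⊓ N) ⊔ MulAut.conj b⁻¹ • K' = MulAut.conj b⁻¹ • K := by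
    rw [← Subgroup.smul_sup, hKdec]
  rw [e1, e2] at hg
  refine ⟨b * g * gH, ?_⟩
  rw [map_mul, map_mul, mul_smul, mul_smul, hg, map_inv, smul_inv_smul]

end Cfsg.Agent.Lib.Helper7.SOC
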