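import Mathlib
import Cfsg.Agent.Lib.Helper7.SOC2

set_option autoImplicit false
set_option linter.style.haveILetI false
set_option linter.unusedSectionVars false

/-! Groups in which `p`-subgroups of equal order are conjugate and all Sylow subgroups but one are
cyclic: the induction. -/

open Pointwise

namespace Cfsg.Agent.Lib.Helper7.SOC

open Cfsg.Agent.Lib

universe u

theorem main (r : ℕ) : ∀ n : ℕ, ∀ (G : Type u) [Group G] [Finite G] [Group.IsSolvable G],
    Nat.card G = n → PD G → PC G r → Concl G := by
  intro n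
  induction n using Nat.strong_induction_on with
  | _ n IH =>
  intro G _ _ _ hn hPD hPC
  by_cases htriv : Subsingleton G
  · intro H K _
    exact ⟨1, Subsingleton.elim _ _⟩
  haveI : Nontrivial G := not_subsingleton_iff_nontrivial.1 htriv
  obtain ⟨N, hNn, hNne, hNmin⟩ := Helper1.exists_minimal_normal (G := G)
  haveI := hNn
  obtain ⟨hNcomm, p, hp, hNexp⟩ := Helper1.minimal_normal_of_solvable N hNne hNmin
  haveI := Fact.mk hp
  have hqc : Concl (G ⧸ N) :=
    IH _ (by rw [← hn]; exact Helper1.card_quotient_lt_of_ne_bot N hNne) (G ⧸ N) rfl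
      (pd_quotient N hPD) (pc_quotient N hPC)
  by_cases hNp : Nat.card N = p
  · exact caseA hPD N p hp hNp hqc
  · have hNc : ∀ a ∈ N, ∀ b ∈ N, a * b = b * a := by
      intro a ha b hb
      have h0 := hNcomm.is_comm.comm (⟨a, ha⟩ : ↥N) ⟨b, hb⟩
      exact congrArg Subtype.val h0
    have hNpg : IsPGroup p ↥N := by
      intro x
      refine ⟨1, ?_⟩
      rw [pow_one]
      exact Subtype.ext (by simpa using hNexp x x.2)
    obtain ⟨k, hk⟩ := IsPGroup.iff_card.1 hNpg
    have hN1 : Nat.card N ≠ 1 := fun h => hNne (Subgroup.card_eq_one.1 h)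
    have hk2 : 2 ≤ k := by
      rcases k with _ | _ | k
      · exact absurd (by rw [hk, pow_zero]) hN1
      · exact absurd (by rw [hk, zero_add, pow_one]) hNp
      · omega
    have hpr : p = r := by
      by_contra hne
      haveI : IsCyclic ↥N := hPC p hp hne N hNpg
      obtain ⟨g, hg⟩ := IsCyclic.exists_generator (α := ↥N)
      have h1 : orderOf g = Nat.card N := orderOf_eq_card_of_forall_mem_zpowers hg
      have h2 : orderOf g ∣ p :=
        orderOf_dvd_of_pow_eq_one (Subtype.ext (by simpa using hNexp g g.2))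
      rw [h1] at h2
      rcases (Nat.dvd_prime hp).1 h2 with h | h
      · exact hN1 h
      · exact hNp h
    subst hpr
    have hN2 : p ^ 2 ∣ Nat.card N := by rw [hk]; exact pow_dvd_pow p hk2
    apply caseB hp hPD N hNc hNexp hN2
    intro Q hQ
    have hQlt : Nat.card Q < n := by
      rw [← hn]
      apply lt_of_le_of_ne (Subgroup.card_le_card_group Q)
      intro heq
      have h1 : p ∣ Nat.card G :=
        dvd_trans (dvd_trans (dvd_pow_self p two_ne_zero) hN2) (Subgroup.card_subgroup_dvd_card N)
      rw [← heq] at h1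
      have h2 := Nat.Coprime.eq_one_of_dvd hQ.symm h1
      exact hp.one_lt.ne' h2
    exact IH _ hQlt ↥Q rfl (pd_of_all_cyclic (allcyc_of_coprime Q hPC hQ)) (pc_subgroup Q hPC)

end Cfsg.Agent.Lib.Helper7.SOC
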