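import Mathlib
import Cfsg.Agent.Lib.Helper5.SPEDefs

set_option autoImplicit false
set_option linter.unusedSectionVars false
set_option linter.unusedVariables false

/-!
Farm SPE (S2333), unit P2 (the tail of unit P): `trace_eC_cong`, `trace_idem_nat` (verbatim) and
`finrank_ge_of` (= `finrank_ge` with the two facts of the head of unit P as hypotheses).
-/

namespace Cfsg.Agent.Lib.Helper7.SPE

open Matrix Cfsg Cfsg.Agent.Lib.Helper6.Wl Cfsg.Agent.Lib.Helper5.SPE

section generic
variable {V : Type*} [AddCommGroup V] [Module ℂ V] [FiniteDimensional ℂ V]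

/-- the trace of an idempotent is a natural number, positive if the idempotent is not zero -/
theorem trace_idem_nat (e : Module.End ℂ V) (he : IsIdempotentElem e) :
    ∃ r : ℕ, LinearMap.trace ℂ V e = (r : ℂ) ∧ (e ≠ 0 → 1 ≤ r) := by
  refine ⟨Module.finrank ℂ (LinearMap.range e),
    (LinearMap.IsIdempotentElem.isProj_range e he).trace, ?_⟩
  intro h0
  by_contra hlt
  have h1 : Module.finrank ℂ (LinearMap.range e) = 0 := by omega
  have h2 : LinearMap.trace ℂ V e = 0 := by
    rw [(LinearMap.IsIdempotentElem.isProj_range e he).trace, h1]; simp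
  exact h0 ((LinearMap.IsIdempotentElem.trace_eq_zero_iff he).1 h2)

/-- pairwise orthogonal idempotents of trace `r` -/
theorem card_mul_le_finrank_of_orth {ι : Type*} [DecidableEq ι] (e : ι → Module.End ℂ V)
    (O : Finset ι) (r : ℕ) (hid : ∀ i ∈ O, IsIdempotentElem (e i))
    (horth : ∀ i ∈ O, ∀ j ∈ O, i ≠ j → e i * e j = 0)
    (hr : ∀ i ∈ O, LinearMap.trace ℂ V (e i) = (r : ℂ)) :
    O.card * r ≤ Module.finrank ℂ V := by
  have hE : IsIdempotentElem (∑ i ∈ O, e i) := by
    show (∑ i ∈ O, e i) * (∑ j ∈ O, e j) = ∑ i ∈ O, e i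
    rw [Finset.sum_mul_sum]
    apply Finset.sum_congr rfl
    intro i hi
    rw [Finset.sum_eq_single i]
    · exact (hid i hi).eq
    · intro j hj hji
      exact horth i hi j hj (Ne.symm hji)
    · intro h; exact absurd hi h
  have htr : LinearMap.trace ℂ V (∑ i ∈ O, e i) = ((O.card * r : ℕ) : ℂ) := by
    rw [map_sum, Finset.sum_congr rfl hr, Finset.sum_const, nsmul_eq_mul]
    push_cast; ring
  have h1 := (LinearMap.IsIdempotentElem.isProj_range _ hE).trace
  rw [htr] at h1
  have h2 : O.card * r = Module.finrank ℂ (LinearMap.range (∑ i ∈ O, e i)) := by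
    exact_mod_cast h1
  rw [h2]
  exact Submodule.finrank_le _

end generic

section unitP
variable {F : Type*} [Field F] [Fintype F] [DecidableEq F] {n : ℕ}
variable {V : Type*} [AddCommGroup V] [Module ℂ V] [FiniteDimensional ℂ V]
variable (ρ : Representation ℂ (symplecticGroup (Fin n) F) V) (ψ : AddChar F ℂ)

theorem trace_eC (C : Matrix (Fin n) (Fin n) F) :
    LinearMap.trace ℂ V (eC ρ ψ C) = ((Fintype.card (symAdd F n) : ℂ))⁻¹ *
      ∑ S : symAdd F n,
        ψ (-(Matrix.trace (C * (S : Matrix (Fin n) (Fin n) F)))) *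
          LinearMap.trace ℂ V (ρ (uQ S)) := by
  unfold eC
  simp [map_sum, smul_eq_mul]

theorem trace_eC_cong (B : GL (Fin n) F) (C : Matrix (Fin n) (Fin n) F) :
    LinearMap.trace ℂ V (eC ρ ψ ((B : Matrix (Fin n) (Fin n) F)ᵀ * C * (B : Matrix (Fin n) (Fin n) F))) =
      LinearMap.trace ℂ V (eC ρ ψ C) := by
  rw [trace_eC, trace_eC]
  congr 1
  refine Fintype.sum_equiv (conjSymEquiv B) _ _ ?_
  intro S
  show _ = ψ (-(Matrix.trace (C *
    ((conjSym B S : symAdd F n) : Matrix (Fin n) (Fin n) F)))) *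
      LinearMap.trace ℂ V (ρ (uQ (conjSym B S)))
  have hcoef : Matrix.trace (((B : Matrix (Fin n) (Fin n) F)ᵀ * C * (B : Matrix (Fin n) (Fin n) F)) *
      (S : Matrix (Fin n) (Fin n) F)) =
      Matrix.trace (C * ((conjSym B S : symAdd F n) : Matrix (Fin n) (Fin n) F)) := by
    rw [conjSym_coe]
    calc Matrix.trace ((B : Matrix (Fin n) (Fin n) F)ᵀ * C *
          (B : Matrix (Fin n) (Fin n) F) * (S : Matrix (Fin n) (Fin n) F))
        = Matrix.trace ((B : Matrix (Fin n) (Fin n) F)ᵀ * (C *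
          (B : Matrix (Fin n) (Fin n) F) * (S : Matrix (Fin n) (Fin n) F))) := by
          simp only [Matrix.mul_assoc]
      _ = Matrix.trace ((C *
          (B : Matrix (Fin n) (Fin n) F) * (S : Matrix (Fin n) (Fin n) F)) *
          (B : Matrix (Fin n) (Fin n) F)ᵀ) := Matrix.trace_mul_comm _ _
      _ = _ := by simp only [Matrix.mul_assoc]
  rw [uQ_conjSym, trace_rho_conj, hcoef]

/-- dimension count: pairwise form-distinct matrices whose projectors all have trace `r`; the two
facts `eC_idem`, `eC_mul_eC_of_ne` of the head of unit P are hypotheses here -/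
theorem finrank_ge_of (hidem : ∀ C : Matrix (Fin n) (Fin n) F, IsIdempotentElem (eC ρ ψ C))
    (horth : ∀ C C' : Matrix (Fin n) (Fin n) F, qf C ≠ qf C' → eC ρ ψ C * eC ρ ψ C' = 0)
    (O : Finset (Matrix (Fin n) (Fin n) F)) (r : ℕ)
    (hne : ∀ C ∈ O, ∀ C' ∈ O, C ≠ C' → qf C ≠ qf C')
    (hr : ∀ C ∈ O, LinearMap.trace ℂ V (eC ρ ψ C) = (r : ℂ)) :
    O.card * r ≤ Module.finrank ℂ V := by
  classical
  exact card_mul_le_finrank_of_orth (fun C => eC ρ ψ C) O r
    (fun C _ => hidem C)
    (fun C hC C' hC' h => horth C C' (hne C hC C' hC' h)) hr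

end unitP

end Cfsg.Agent.Lib.Helper7.SPE
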