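import Mathlib
import Cfsg.Agent.Lib.Helper7.SR3

set_option autoImplicit false
open scoped BigOperators Classical

namespace Cfsg.Agent.Lib.Helper7.SR

section general

variable {H : Type*} [AddCommGroup H] [Fintype H] [DecidableEq H]
variable {𝒢 : Subgroup (Equiv.Perm H)}

/-- a subgroup invariant under the stabilizer of `0`. -/
def InvSub (𝒢 : Subgroup (Equiv.Perm H)) (K : AddSubgroup H) : Prop :=
  ∀ σ, St 𝒢 σ → ∀ k ∈ K, σ k ∈ K

/-- primitivity: no nontrivial invariant subgroups. -/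
def Prim (𝒢 : Subgroup (Equiv.Perm H)) : Prop :=
  ∀ K : AddSubgroup H, InvSub 𝒢 K → K = ⊥ ∨ K = ⊤

theorem apply_neg_eq (h𝒢 : HasTrans 𝒢) {σ : Equiv.Perm H} (hσ : St 𝒢 σ) (a : H) :
    ∃ τ, St 𝒢 τ ∧ σ (-a) = -(τ a) := by
  obtain ⟨τ, hτ, hτe⟩ := twist h𝒢 hσ.1 (-a)
  have h1 := hτe a
  rw [neg_add_cancel, hσ.2] at h1
  exact ⟨τ, hτ, eq_neg_of_add_eq_zero_left h1.symm⟩

theorem invSub_closure (h𝒢 : HasTrans 𝒢) {W : Set H}
    (hW : ∀ σ, St 𝒢 σ → ∀ x ∈ W, σ x ∈ W) : InvSub 𝒢 (AddSubgroup.closure W) := by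
  intro σ hσ k hk
  revert σ
  induction hk using AddSubgroup.closure_induction with
  | mem x hx =>
    intro σ hσ
    exact AddSubgroup.subset_closure (hW σ hσ x hx)
  | zero =>
    intro σ hσ
    rw [hσ.2]; exact AddSubgroup.zero_mem _
  | add a b _ _ iha ihb =>
    intro σ hσ
    obtain ⟨τ, hτ, hτe⟩ := twist h𝒢 hσ.1 a
    rw [hτe b]
    exact AddSubgroup.add_mem _ (iha σ hσ) (ihb τ hτ)
  | neg a _ iha =>
    intro σ hσ
    obtain ⟨τ, hτ, hτe⟩ := apply_neg_eq h𝒢 hσ a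
    rw [hτe]
    exact AddSubgroup.neg_mem _ (iha τ hτ)

theorem invSet_neg (h𝒢 : HasTrans 𝒢) {T : Finset H} (hT : InvSet 𝒢 T) :
    InvSet 𝒢 (T.image (fun t => -t)) := by
  intro σ hσ x hx
  obtain ⟨t, ht, rfl⟩ := Finset.mem_image.mp hx
  obtain ⟨τ, hτ, hτe⟩ := apply_neg_eq h𝒢 hσ t
  rw [hτe]
  exact Finset.mem_image.mpr ⟨τ t, hT τ hτ t ht, rfl⟩

/-- the translation stabilizer of an invariant set is an invariant subgroup. -/
theorem exists_stab_sub (h𝒢 : HasTrans 𝒢) {T : Finset H} (hT : InvSet 𝒢 T) :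
    ∃ K : AddSubgroup H, InvSub 𝒢 K ∧ ∀ h, h ∈ K ↔ ∀ a ∈ T, a - h ∈ T := by
  have hbij : ∀ h : H, (∀ a ∈ T, a - h ∈ T) → ∀ b ∈ T, b + h ∈ T := by
    intro h hh b hb
    have himg : T.image (fun a => a - h) = T := by
      apply Finset.eq_of_subset_of_card_le
      · intro x hx
        obtain ⟨a, ha, rfl⟩ := Finset.mem_image.mp hx
        exact hh a ha
      · rw [Finset.card_image_of_injective _ (sub_left_injective)]
    rw [← himg] at hb
    obtain ⟨a, ha, hab⟩ := Finset.mem_image.mp hb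
    have : b + h = a := by rw [← hab]; abel
    rw [this]; exact ha
  let K : AddSubgroup H :=
    { carrier := {h | ∀ a ∈ T, a - h ∈ T}
      zero_mem' := by
        intro a ha
        rw [sub_zero]; exact ha
      add_mem' := by
        intro h h' hh hh' a ha
        have : a - (h + h') = (a - h) - h' := by abel
        rw [this]
        exact hh' _ (hh a ha)
      neg_mem' := by
        intro h hh a ha
        rw [sub_neg_eq_add]
        exact hbij h hh a ha }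
  refine ⟨K, ?_, fun h => Iff.rfl⟩
  intro σ hσ h hh
  have hF : InvFun 𝒢 (ind ℤ T * ind ℤ (T.image (fun t => -t))) :=
    (hT.invFun ℤ).mul h𝒢 ((invSet_neg h𝒢 hT).invFun ℤ)
  have e := hF σ hσ h
  rw [coeff_ind_mul_ind, coeff_ind_mul_ind] at e
  have hfil : ∀ x : H, T.filter (fun a => x - a ∈ T.image (fun t => -t))
      = T.filter (fun a => a - x ∈ T) := by
    intro x
    apply Finset.filter_congr
    intro a _
    rw [Finset.mem_image]
    constructor
    · rintro ⟨t, ht, hta⟩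
      have : a - x = t := by
        have h1 : x - a = -t := hta.symm
        have h2 : a - x = -(x - a) := by abel
        rw [h2, h1, neg_neg]
      rw [this]; exact ht
    · intro h1
      exact ⟨a - x, h1, by abel⟩
  rw [hfil, hfil] at e
  have h1 : T.filter (fun a => a - h ∈ T) = T := Finset.filter_true_of_mem hh
  rw [h1] at e
  have e' : (T.filter (fun a => a - σ h ∈ T)).card = T.card := by exact_mod_cast e
  exact Finset.filter_card_eq e'

end general

section zmod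

variable {p n : ℕ} [hp : Fact p.Prime] [NeZero n] {𝒢 : Subgroup (Equiv.Perm (ZMod n))}

theorem q_ne_zero (hpn : p ∣ n) : ((n / p : ℕ) : ZMod n) ≠ 0 := by
  intro h
  rw [ZMod.natCast_eq_zero_iff] at h
  have hn0 : n ≠ 0 := NeZero.ne n
  have hpos : 0 < n / p := Nat.div_pos (Nat.le_of_dvd (Nat.pos_of_ne_zero hn0) hpn) hp.out.pos
  have hlt : n / p < n := Nat.div_lt_self (Nat.pos_of_ne_zero hn0) hp.out.one_lt
  exact absurd (Nat.le_of_dvd hpos h) (not_le.mpr hlt)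

theorem p_mul_q (hpn : p ∣ n) : (p : ZMod n) * ((n / p : ℕ) : ZMod n) = 0 := by
  have h : ((p * (n / p) : ℕ) : ZMod n) = 0 := by
    rw [Nat.mul_div_cancel' hpn]; exact ZMod.natCast_self n
  simpa using h

theorem p_mul_ne_one (hpn : p ∣ n) (t : ZMod n) : (p : ZMod n) * t ≠ 1 := by
  intro h
  apply q_ne_zero (p := p) hpn
  calc ((n / p : ℕ) : ZMod n) = ((n / p : ℕ) : ZMod n) * ((p : ZMod n) * t) := by rw [h, mul_one]
    _ = ((p : ZMod n) * ((n / p : ℕ) : ZMod n)) * t := by ring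
    _ = 0 := by rw [p_mul_q hpn, zero_mul]

theorem coset_full_prim (hpn : p ∣ n) (h𝒢 : HasTrans 𝒢) (hprim : Prim 𝒢)
    {S : Finset (ZMod n)} (hS : InvSet 𝒢 S) {s h : ZMod n} (hs : s ∈ S)
    (hps : (p : ZMod n) * s ≠ 0) (hh : (p : ZMod n) * h = 0) : s + h ∈ S := by
  have hF : InvFun 𝒢 ((ind (ZMod p) S) ^ p) := (hS.invFun (ZMod p)).pow h𝒢 p
  rw [ind_pow_char] at hF
  obtain ⟨F, hFdef⟩ : ∃ F : AddMonoidAlgebra (ZMod p) (ZMod n),
      F = ∑ t ∈ S, AddMonoidAlgebra.single (p • t) (1 : ZMod p) := ⟨_, rfl⟩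
  rw [← hFdef] at hF
  -- the support is an invariant set inside the multiples of p
  have hW : ∀ σ, St 𝒢 σ → ∀ x ∈ {x : ZMod n | F.coeff x ≠ 0}, σ x ∈ {x : ZMod n | F.coeff x ≠ 0} := by
    intro σ hσ x hx
    rw [Set.mem_setOf_eq] at hx ⊢
    rw [hF σ hσ x]; exact hx
  have hK := invSub_closure h𝒢 hW
  have hKM : AddSubgroup.closure {x : ZMod n | F.coeff x ≠ 0}
      ≤ (AddMonoidHom.mulLeft (p : ZMod n)).range := by
    rw [AddSubgroup.closure_le]
    intro x hx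
    rw [Set.mem_setOf_eq, hFdef, coeff_sum_single_smul] at hx
    have hne : (S.filter fun t => p • t = x).Nonempty := by
      rw [Finset.nonempty_iff_ne_empty]
      intro h0
      rw [h0] at hx
      simp at hx
    obtain ⟨t, ht⟩ := hne
    rw [Finset.mem_filter] at ht
    refine ⟨t, ?_⟩
    rw [AddMonoidHom.coe_mulLeft, ← ht.2, nsmul_eq_mul]
  have hKtop : AddSubgroup.closure {x : ZMod n | F.coeff x ≠ 0} ≠ ⊤ := by
    intro htop
    have h1 : (1 : ZMod n) ∈ (AddMonoidHom.mulLeft (p : ZMod n)).range := by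
      apply hKM; rw [htop]; trivial
    obtain ⟨t, ht⟩ := h1
    rw [AddMonoidHom.coe_mulLeft] at ht
    exact p_mul_ne_one hpn t ht
  have hKbot := (hprim _ hK).resolve_right hKtop
  have e : F.coeff ((p : ZMod n) * s) = 0 := by
    by_contra hne
    have h1 : (p : ZMod n) * s ∈ AddSubgroup.closure {x : ZMod n | F.coeff x ≠ 0} :=
      AddSubgroup.subset_closure hne
    rw [hKbot, AddSubgroup.mem_bot] at h1
    exact hps h1
  rw [hFdef, coeff_sum_single_smul] at e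
  have hdvd : p ∣ (S.filter fun t => p • t = (p : ZMod n) * s).card :=
    (ZMod.natCast_eq_zero_iff _ _).mp e
  have hAC : S.filter (fun t => p • t = (p : ZMod n) * s)
      ⊆ Finset.univ.filter (fun t : ZMod n => (p : ZMod n) * t = (p : ZMod n) * s) := by
    intro t ht
    rw [Finset.mem_filter] at ht ⊢
    refine ⟨Finset.mem_univ _, ?_⟩
    rw [← nsmul_eq_mul]; exact ht.2
  have hCcard : (Finset.univ.filter (fun t : ZMod n => (p : ZMod n) * t = (p : ZMod n) * s)).card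
      ≤ p := by
    have h2 : (Finset.univ.filter (fun t : ZMod n => (p : ZMod n) * t = (p : ZMod n) * s)).card
        ≤ (Finset.univ.filter (fun x : ZMod n => (p : ZMod n) * x = 0)).card := by
      apply Finset.card_le_card_of_injOn (fun t => t - s)
      · intro t ht
        have ht' := (Finset.mem_filter.mp ht).2
        refine Finset.mem_filter.mpr ⟨Finset.mem_univ _, ?_⟩
        rw [mul_sub, ht', sub_self]
      · intro a _ b _ hab
        exact sub_left_injective hab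
    exact h2.trans card_H1_le
  have hsA : s ∈ S.filter (fun t => p • t = (p : ZMod n) * s) :=
    Finset.mem_filter.mpr ⟨hs, nsmul_eq_mul _ _⟩
  have hApos : 0 < (S.filter fun t => p • t = (p : ZMod n) * s).card :=
    Finset.card_pos.mpr ⟨s, hsA⟩
  have hAp : p ≤ (S.filter fun t => p • t = (p : ZMod n) * s).card := Nat.le_of_dvd hApos hdvd
  have hAC' := Finset.eq_of_subset_of_card_le hAC (hCcard.trans hAp)
  have h3 : s + h ∈ Finset.univ.filter (fun t : ZMod n => (p : ZMod n) * t = (p : ZMod n) * s) := by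
    refine Finset.mem_filter.mpr ⟨Finset.mem_univ _, ?_⟩
    rw [mul_add, hh, add_zero]
  rw [← hAC'] at h3
  exact (Finset.mem_filter.mp h3).1

theorem H1_filter_card {T : Finset (ZMod n)} (h0T : (0 : ZMod n) ∉ T) :
    (T.filter (fun a => (p : ZMod n) * a = 0)).card + 1 ≤ p := by
  have hsub : insert 0 (T.filter (fun a => (p : ZMod n) * a = 0))
      ⊆ Finset.univ.filter (fun x : ZMod n => (p : ZMod n) * x = 0) := by
    intro a ha
    rw [Finset.mem_insert] at ha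
    rcases ha with rfl | ha
    · exact Finset.mem_filter.mpr ⟨Finset.mem_univ _, mul_zero _⟩
    · exact Finset.mem_filter.mpr ⟨Finset.mem_univ _, (Finset.mem_filter.mp ha).2⟩
  have h1 := Finset.card_le_card hsub
  rw [Finset.card_insert_of_notMem (by intro h; exact h0T (Finset.mem_filter.mp h).1)] at h1
  exact h1.trans card_H1_le

theorem count_lemma (h𝒢 : HasTrans 𝒢)
    (cf : ∀ {S : Finset (ZMod n)}, InvSet 𝒢 S → ∀ {s h : ZMod n}, s ∈ S →
      (p : ZMod n) * s ≠ 0 → (p : ZMod n) * h = 0 → s + h ∈ S)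
    {T T' : Finset (ZMod n)} (hT : InvSet 𝒢 T) (hT' : InvSet 𝒢 T')
    (hdisj : ∀ a, a ∈ T → a ∈ T' → False)
    (h0T : (0 : ZMod n) ∉ T) (h0T' : (0 : ZMod n) ∉ T') {z0 u₀ : ZMod n} (hz0T : z0 ∈ T)
    (hpz0 : (p : ZMod n) * z0 = 0) (hu₀T : u₀ ∈ T) (hpu₀ : (p : ZMod n) * u₀ ≠ 0)
    (hzu : Conj 𝒢 z0 u₀) :
    (T'.filter (fun h => (p : ZMod n) * h = 0)).card + 1
      ≤ (T.filter (fun a => (p : ZMod n) * a = 0)).card := by
  have hz0 : z0 ≠ 0 := by
    rintro rfl; exact h0T hz0T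
  obtain ⟨Λ, hΛ⟩ : ∃ Λ : ZMod n → Finset (ZMod n),
      ∀ x, Λ x = T.filter (fun a => x - a ∈ T') := ⟨_, fun _ => rfl⟩
  obtain ⟨D, hDdef⟩ : ∃ D : ZMod n → Finset (ZMod n), ∀ x, D x = (Λ x).filter
      (fun a => (p : ZMod n) * a ≠ 0 ∧ (p : ZMod n) * (x - a) ≠ 0) := ⟨_, fun _ => rfl⟩
  obtain ⟨E, hEdef⟩ : ∃ E : ZMod n → Finset (ZMod n), ∀ x, E x = (Λ x).filter
      (fun a => ¬ ((p : ZMod n) * a ≠ 0 ∧ (p : ZMod n) * (x - a) ≠ 0)) := ⟨_, fun _ => rfl⟩
  have hsplit : ∀ x, (Λ x).card = (D x).card + (E x).card := by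
    intro x
    rw [hDdef, hEdef]
    exact (Finset.card_filter_add_card_filter_not _).symm
  have hD : ∀ x, p ∣ (D x).card := by
    intro x
    apply card_dvd_of_shift hz0 (by rw [nsmul_eq_mul]; exact hpz0)
    intro a ha
    rw [hDdef, Finset.mem_filter, hΛ, Finset.mem_filter] at ha ⊢
    obtain ⟨⟨haT, haT'⟩, hpa, hpxa⟩ := ha
    have e1 : x - (a + z0) = (x - a) + (-z0) := by ring
    have hpnz : (p : ZMod n) * (-z0) = 0 := by rw [mul_neg, hpz0, neg_zero]
    refine ⟨⟨cf hT haT hpa hpz0, ?_⟩, ?_, ?_⟩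
    · rw [e1]; exact cf hT' haT' hpxa hpnz
    · rw [mul_add, hpz0, add_zero]; exact hpa
    · rw [e1, mul_add, hpnz, add_zero]; exact hpxa
  have hE1 : E u₀ = (T'.filter (fun h => (p : ZMod n) * h = 0)).image (fun h => u₀ - h) := by
    ext a
    rw [hEdef, Finset.mem_filter, hΛ, Finset.mem_filter, Finset.mem_image]
    constructor
    · rintro ⟨⟨haT, haT'⟩, hnP⟩
      have hcase : (p : ZMod n) * (u₀ - a) = 0 := by
        by_contra hne
        have hpa : (p : ZMod n) * a = 0 := by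
          by_contra hpa; exact hnP ⟨hpa, hne⟩
        have h1 : u₀ + (-a) ∈ T := cf hT hu₀T hpu₀ (by rw [mul_neg, hpa, neg_zero])
        rw [← sub_eq_add_neg] at h1
        exact hdisj _ h1 haT'
      exact ⟨u₀ - a, Finset.mem_filter.mpr ⟨haT', hcase⟩, by ring⟩
    · rintro ⟨h, hh, rfl⟩
      obtain ⟨hhT', hph⟩ := Finset.mem_filter.mp hh
      have e2 : u₀ - (u₀ - h) = h := by ring
      refine ⟨⟨?_, ?_⟩, ?_⟩
      · have h1 : u₀ + (-h) ∈ T := cf hT hu₀T hpu₀ (by rw [mul_neg, hph, neg_zero])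
        rwa [← sub_eq_add_neg] at h1
      · rw [e2]; exact hhT'
      · intro hP
        apply hP.2
        rw [e2]; exact hph
  have hE2 : E z0 ⊆ (T.filter (fun a => (p : ZMod n) * a = 0)).erase z0 := by
    intro a ha
    rw [hEdef, Finset.mem_filter, hΛ, Finset.mem_filter] at ha
    obtain ⟨⟨haT, haT'⟩, hnP⟩ := ha
    rw [Finset.mem_erase, Finset.mem_filter]
    have hpa : (p : ZMod n) * a = 0 := by
      by_contra hpa
      apply hnP
      refine ⟨hpa, ?_⟩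
      rw [mul_sub, hpz0, zero_sub, neg_ne_zero]; exact hpa
    refine ⟨?_, haT, hpa⟩
    rintro rfl
    rw [sub_self] at haT'
    exact h0T' haT'
  have hkle := H1_filter_card (p := p) h0T
  have hkle' := H1_filter_card (p := p) h0T'
  have hz0k : z0 ∈ T.filter (fun a => (p : ZMod n) * a = 0) :=
    Finset.mem_filter.mpr ⟨hz0T, hpz0⟩
  have hE2card : (E z0).card + 1 ≤ (T.filter (fun a => (p : ZMod n) * a = 0)).card := by
    have h1 := Finset.card_le_card hE2
    rw [Finset.card_erase_of_mem hz0k] at h1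
    have hpos : 0 < (T.filter (fun a => (p : ZMod n) * a = 0)).card :=
      Finset.card_pos.mpr ⟨z0, hz0k⟩
    omega
  have hE1card : (E u₀).card = (T'.filter (fun a => (p : ZMod n) * a = 0)).card := by
    rw [hE1, Finset.card_image_of_injective _ sub_right_injective]
  have hlam : InvFun 𝒢 (ind (ZMod p) T * ind (ZMod p) T') :=
    (hT.invFun _).mul h𝒢 (hT'.invFun _)
  obtain ⟨σ, hσ, hσz⟩ := hzu
  have e := hlam σ hσ z0
  rw [hσz, coeff_ind_mul_ind, coeff_ind_mul_ind, ← hΛ, ← hΛ, hsplit u₀, hsplit z0] at e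
  push_cast at e
  have hD0 : ∀ x, ((D x).card : ZMod p) = 0 := fun x => (ZMod.natCast_eq_zero_iff _ _).mpr (hD x)
  rw [hD0, hD0, zero_add, zero_add, ZMod.natCast_eq_natCast_iff'] at e
  have h1 : (E u₀).card < p := by omega
  have h2 : (E z0).card < p := by omega
  rw [Nat.mod_eq_of_lt h1, Nat.mod_eq_of_lt h2] at e
  omega

theorem meets_H1 (hpn : p ∣ n) (h𝒢 : HasTrans 𝒢) (hprim : Prim 𝒢)
    {T : Finset (ZMod n)} (hT : InvSet 𝒢 T) (h0T : (0 : ZMod n) ∉ T) (hne : T.Nonempty) :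
    ∃ t ∈ T, (p : ZMod n) * t = 0 := by
  by_contra hcon
  push Not at hcon
  obtain ⟨K, hK, hKmem⟩ := exists_stab_sub h𝒢 hT
  have hzK : ((n / p : ℕ) : ZMod n) ∈ K := by
    rw [hKmem]
    intro a ha
    rw [sub_eq_add_neg]
    exact coset_full_prim hpn h𝒢 hprim hT ha (hcon a ha)
      (by rw [mul_neg, p_mul_q hpn, neg_zero])
  have hKbot : K ≠ ⊥ := by
    intro h
    rw [h, AddSubgroup.mem_bot] at hzK
    exact q_ne_zero (p := p) hpn hzK
  have hKtop := (hprim K hK).resolve_left hKbot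
  obtain ⟨a, ha⟩ := hne
  have h1 : a ∈ K := by rw [hKtop]; trivial
  rw [hKmem] at h1
  have h2 := h1 a ha
  rw [sub_self] at h2
  exact h0T h2

theorem not_subset_H1 (hn2 : 2 ≤ n) (hnp : n ≠ p) (h𝒢 : HasTrans 𝒢) (hprim : Prim 𝒢)
    {T : Finset (ZMod n)} (hT : InvSet 𝒢 T) (hne : ∃ t ∈ T, t ≠ 0) :
    ∃ u ∈ T, (p : ZMod n) * u ≠ 0 := by
  by_contra hcon
  push Not at hcon
  have hW : ∀ σ, St 𝒢 σ → ∀ x ∈ (T : Set (ZMod n)), σ x ∈ (T : Set (ZMod n)) := by
    intro σ hσ x hx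
    exact hT σ hσ x hx
  have hK := invSub_closure h𝒢 hW
  obtain ⟨t, ht, ht0⟩ := hne
  have hKbot : AddSubgroup.closure (T : Set (ZMod n)) ≠ ⊥ := by
    intro h
    have h1 : t ∈ AddSubgroup.closure (T : Set (ZMod n)) := AddSubgroup.subset_closure ht
    rw [h, AddSubgroup.mem_bot] at h1
    exact ht0 h1
  have hKtop := (hprim _ hK).resolve_left hKbot
  have hle : AddSubgroup.closure (T : Set (ZMod n))
      ≤ (AddMonoidHom.mulLeft (p : ZMod n)).ker := by
    rw [AddSubgroup.closure_le]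
    intro x hx
    rw [SetLike.mem_coe, AddMonoidHom.mem_ker, AddMonoidHom.coe_mulLeft]
    exact hcon x hx
  have h1 : (1 : ZMod n) ∈ (AddMonoidHom.mulLeft (p : ZMod n)).ker := by
    apply hle; rw [hKtop]; trivial
  rw [AddMonoidHom.mem_ker, AddMonoidHom.coe_mulLeft, mul_one, ZMod.natCast_eq_zero_iff] at h1
  rcases (Nat.dvd_prime hp.out).mp h1 with h | h
  · omega
  · exact hnp h

theorem main_prim (hn2 : 2 ≤ n) (hpn : p ∣ n) (hnp : n ≠ p) (h𝒢 : HasTrans 𝒢) (hprim : Prim 𝒢) :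
    ∀ x : ZMod n, x ≠ 0 → ∀ y : ZMod n, y ≠ 0 → Conj 𝒢 x y := by
  intro x hx y hy
  by_contra hnc
  have cf : ∀ {S : Finset (ZMod n)}, InvSet 𝒢 S → ∀ {s h : ZMod n}, s ∈ S →
      (p : ZMod n) * s ≠ 0 → (p : ZMod n) * h = 0 → s + h ∈ S := by
    intro S hS s h hs hps hh
    exact coset_full_prim hpn h𝒢 hprim hS hs hps hh
  have hT := invSet_orb (𝒢 := 𝒢) x
  have hT' := invSet_orb (𝒢 := 𝒢) y
  have hdisj : ∀ a, a ∈ orb 𝒢 x → a ∈ orb 𝒢 y → False := by
    intro a h1 h2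
    rw [mem_orb] at h1 h2
    exact hnc (h1.trans h2.symm)
  have h0T : (0 : ZMod n) ∉ orb 𝒢 x := by
    intro h; rw [mem_orb] at h; exact h.ne_zero hx rfl
  have h0T' : (0 : ZMod n) ∉ orb 𝒢 y := by
    intro h; rw [mem_orb] at h; exact h.ne_zero hy rfl
  have hxT : x ∈ orb 𝒢 x := mem_orb.mpr (Conj.refl _)
  have hyT : y ∈ orb 𝒢 y := mem_orb.mpr (Conj.refl _)
  obtain ⟨z, hzT, hpz⟩ := meets_H1 hpn h𝒢 hprim hT h0T ⟨x, hxT⟩
  obtain ⟨z', hzT', hpz'⟩ := meets_H1 hpn h𝒢 hprim hT' h0T' ⟨y, hyT⟩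
  obtain ⟨u, huT, hpu⟩ := not_subset_H1 hn2 hnp h𝒢 hprim hT ⟨x, hxT, hx⟩
  obtain ⟨u', huT', hpu'⟩ := not_subset_H1 hn2 hnp h𝒢 hprim hT' ⟨y, hyT, hy⟩
  have hzu : Conj 𝒢 z u := (mem_orb.mp hzT).symm.trans (mem_orb.mp huT)
  have hzu' : Conj 𝒢 z' u' := (mem_orb.mp hzT').symm.trans (mem_orb.mp huT')
  have c1 := count_lemma h𝒢 cf hT hT' hdisj h0T h0T' hzT hpz huT hpu hzu
  have c2 := count_lemma h𝒢 cf hT' hT (fun a h1 h2 => hdisj a h2 h1) h0T' h0T hzT' hpz' huT' hpu'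
    hzu'
  omega

end zmod

end Cfsg.Agent.Lib.Helper7.SR
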