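import Mathlib
import Cfsg.Agent.Lib.Helper7.SR5

set_option autoImplicit false
open scoped Classical Pointwise

namespace Cfsg.Agent.Lib.Helper7.SR

theorem schur_cyclic {G Ω : Type*} [Group G] [MulAction G Ω] [Finite Ω]
    (hn : 2 ≤ Nat.card Ω) (hnp : ¬ IsPrimePow (Nat.card Ω))
    (C : Subgroup G) (hcyc : IsCyclic ↥C)
    (hC : MulAction.IsPretransitive ↥C Ω ∧ ∀ a : Ω, MulAction.stabilizer ↥C a = ⊥)
    (hprim : MulAction.IsPreprimitive G Ω) : MulAction.IsMultiplyPretransitive G Ω 2 := by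
  obtain ⟨n, hndef⟩ : ∃ n, n = Nat.card Ω := ⟨_, rfl⟩
  rw [← hndef] at hn hnp
  haveI : NeZero n := ⟨by omega⟩
  haveI : Nonempty Ω := by
    have : 0 < Nat.card Ω := by omega
    exact (Nat.card_pos_iff.mp this).1
  obtain ⟨ω₀⟩ : Nonempty Ω := inferInstance
  obtain ⟨c, hc⟩ := hcyc.exists_generator
  have hinjC : Function.Injective (fun x : ↥C => x • ω₀) := by
    intro x y hxy
    have h1 : y⁻¹ * x ∈ MulAction.stabilizer ↥C ω₀ := by
      rw [MulAction.mem_stabilizer_iff, mul_smul]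
      show y⁻¹ • (x • ω₀) = ω₀
      rw [show x • ω₀ = y • ω₀ from hxy, inv_smul_smul]
    rw [hC.2 ω₀, Subgroup.mem_bot] at h1
    exact (inv_mul_eq_one.mp h1).symm
  have hsurjC : Function.Surjective (fun x : ↥C => x • ω₀) :=
    fun ω => hC.1.exists_smul_eq ω₀ ω
  have hcardC : Nat.card ↥C = n := by
    rw [hndef]; exact Nat.card_congr (Equiv.ofBijective _ ⟨hinjC, hsurjC⟩)
  have hordc : orderOf c = n := by
    rw [← hcardC]; exact orderOf_eq_card_of_forall_mem_zpowers hc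
  have hadd : ∀ x a : ZMod n, (c ^ (x + a).val) • ω₀ = (c ^ a.val) • ((c ^ x.val) • ω₀) := by
    intro x a
    rw [← mul_smul, ← pow_add]
    congr 1
    rw [pow_eq_pow_iff_modEq, hordc, ZMod.val_add, add_comm a.val]
    exact Nat.mod_modEq _ _
  have hinj : Function.Injective (fun x : ZMod n => (c ^ x.val) • ω₀) := by
    intro x y hxy
    have h1 := hinjC hxy
    rw [pow_eq_pow_iff_modEq, hordc] at h1
    have h2 := Nat.ModEq.eq_of_lt_of_lt h1 (ZMod.val_lt x) (ZMod.val_lt y)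
    exact ZMod.val_injective n h2
  have hbij : Function.Bijective (fun x : ZMod n => (c ^ x.val) • ω₀) := by
    apply Function.Injective.bijective_of_nat_card_le hinj
    rw [Nat.card_zmod, hndef]
  obtain ⟨e, he⟩ : ∃ e : ZMod n ≃ Ω, ∀ x, e x = (c ^ x.val) • ω₀ :=
    ⟨Equiv.ofBijective _ hbij, fun _ => rfl⟩
  have he_add : ∀ x a : ZMod n, e (x + a) = (c ^ a.val) • e x := by
    intro x a; rw [he, he, hadd]
  obtain ⟨φ, hφ⟩ : ∃ φ : G →* Equiv.Perm (ZMod n), ∀ g x, φ g x = e.symm (g • e x) :=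
    ⟨(e.symm.permCongrHom.toMonoidHom).comp (MulAction.toPermHom G Ω), fun _ _ => rfl⟩
  obtain ⟨𝒢, h𝒢def⟩ : ∃ 𝒢 : Subgroup (Equiv.Perm (ZMod n)), 𝒢 = φ.range := ⟨_, rfl⟩
  have hmem : ∀ π, π ∈ 𝒢 ↔ ∃ g, φ g = π := by
    intro π; rw [h𝒢def]; exact MonoidHom.mem_range
  have h𝒢 : HasTrans 𝒢 := by
    intro a
    rw [hmem]
    refine ⟨((c ^ a.val : ↥C) : G), ?_⟩
    ext x
    rw [hφ, Equiv.coe_addRight]
    have h1 : ((c ^ a.val : ↥C) : G) • e x = e (x + a) := by rw [he_add]; rfl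
    rw [h1, Equiv.symm_apply_apply]
  have hprim' : Prim 𝒢 := by
    intro K hK
    have key : ∀ g : G, (∃ k ∈ K, φ g k ∈ K) → ∀ k₂ ∈ K, φ g k₂ ∈ K := by
      rintro g ⟨k, hk, hgk⟩ k₂ hk₂
      have hφg : φ g ∈ 𝒢 := (hmem _).mpr ⟨g, rfl⟩
      obtain ⟨τ, hτ, hτe⟩ := twist h𝒢 hφg 0
      simp only [zero_add] at hτe
      have h0 : φ g 0 ∈ K := by
        have h2 : φ g 0 = φ g k - τ k := by rw [hτe k]; abel
        rw [h2]; exact K.sub_mem hgk (hK τ hτ k hk)
      rw [hτe k₂]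
      exact K.add_mem h0 (hK τ hτ k₂ hk₂)
    have sub : ∀ g : G, (∃ k ∈ K, φ g k ∈ K) →
        g • (e '' (K : Set (ZMod n))) ⊆ e '' (K : Set (ZMod n)) := by
      intro g hg ω hω
      obtain ⟨ω', ⟨k₂, hk₂, rfl⟩, rfl⟩ := hω
      refine ⟨φ g k₂, key g hg k₂ hk₂, ?_⟩
      rw [hφ, Equiv.apply_symm_apply]
    have hblock : MulAction.IsBlock G (e '' (K : Set (ZMod n))) := by
      rw [MulAction.isBlock_iff_smul_eq_of_mem]
      intro g a ha hga
      obtain ⟨k, hk, rfl⟩ := ha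
      obtain ⟨k', hk', hk'e⟩ := hga
      have hgk : φ g k ∈ K := by
        rw [hφ, ← hk'e, Equiv.symm_apply_apply]; exact hk'
      apply Set.Subset.antisymm (sub g ⟨k, hk, hgk⟩)
      have hinv : φ g⁻¹ (φ g k) = k := by
        rw [← Equiv.Perm.mul_apply, ← map_mul, inv_mul_cancel, map_one]; rfl
      have h3 := sub g⁻¹ ⟨φ g k, hgk, by rw [hinv]; exact hk⟩
      rw [Set.smul_set_subset_iff_subset_inv_smul_set, inv_inv] at h3
      exact h3
    haveI := hprim
    have htriv := MulAction.IsPreprimitive.isTrivialBlock_of_isBlock hblock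
    rcases htriv with h | h
    · left
      rw [AddSubgroup.eq_bot_iff_forall]
      intro k hk
      have h1 := h (Set.mem_image_of_mem e hk) (Set.mem_image_of_mem e K.zero_mem)
      exact e.injective h1
    · right
      rw [AddSubgroup.eq_top_iff']
      intro x
      have h1 : e x ∈ e '' (K : Set (ZMod n)) := by rw [h]; trivial
      obtain ⟨k, hk, hke⟩ := h1
      rw [← e.injective hke]; exact hk
  -- the prime
  have hn1 : n ≠ 1 := by omega
  have hp : (n.minFac).Prime := Nat.minFac_prime hn1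
  haveI : Fact (n.minFac).Prime := ⟨hp⟩
  have hpn : n.minFac ∣ n := Nat.minFac_dvd n
  have hnp' : n ≠ n.minFac := by
    intro h
    apply hnp
    rw [h]; exact hp.isPrimePow
  rw [MulAction.is_two_pretransitive_iff]
  intro a b c' d hab hcd
  have hx : e.symm b - e.symm a ≠ 0 := by
    rw [sub_ne_zero]; intro h; exact hab (e.symm.injective h).symm
  have hy : e.symm d - e.symm c' ≠ 0 := by
    rw [sub_ne_zero]; intro h; exact hcd (e.symm.injective h).symm
  obtain ⟨σ, hσ, hσe⟩ := main_prim hn hpn hnp' h𝒢 hprim' _ hx _ hy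
  have hπ : Equiv.addRight (e.symm c') * σ * Equiv.addRight (-(e.symm a)) ∈ 𝒢 :=
    𝒢.mul_mem (𝒢.mul_mem (h𝒢 _) hσ.1) (h𝒢 _)
  obtain ⟨g, hg⟩ := (hmem _).mp hπ
  refine ⟨g, ?_, ?_⟩
  · have h1 : φ g (e.symm a) = e.symm c' := by
      rw [hg]
      simp only [Equiv.Perm.mul_apply, Equiv.coe_addRight, add_neg_cancel, hσ.2, zero_add]
    rw [hφ, Equiv.apply_symm_apply] at h1
    exact e.symm.injective h1
  · have h1 : φ g (e.symm b) = e.symm d := by
      rw [hg]
      simp only [Equiv.Perm.mul_apply, Equiv.coe_addRight]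
      rw [← sub_eq_add_neg, hσe, sub_add_cancel]
    rw [hφ, Equiv.apply_symm_apply] at h1
    exact e.symm.injective h1

end Cfsg.Agent.Lib.Helper7.SR
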