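import Mathlib
import Cfsg.Prelude.Def_Local

/-!
# Farm SRC (S3153): unit STUBS (statements only; each unit is proved in its own file
`Cfsg/Agent/Lib/<HelperN>/SRCUk.lean`, namespace `Cfsg.Agent.Lib.<HelperN>.SRC`, same binder
list, so that `example : @stub = @mine := rfl`-style checking works up to the name).
This file is never imported by a proved row.
-/

set_option autoImplicit false

namespace Cfsg.Agent.Lib.Helper7.SRCStubs

open Cfsg

/-- U0: in a group of 2-rank at most 1, an involution `a` and a commuting element `b` with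
`b ^ 2 = 1`: `b = 1` or `b = a`. -/
theorem U0 {H : Type*} [Group H] (hr : Cfsg.PRankLE 2 1 H) {a b : H}
    (ha : a ^ 2 = 1) (hb : b ^ 2 = 1) (hab : a * b = b * a) (ha1 : a ≠ 1) : b = 1 ∨ b = a := by
  sorry

/-- U1: tight embedding: the centralizer of an involution `t` of `C_X(P)` lies in `N_X(P)`. -/
theorem U1 {X : Type*} [Group X] [Finite X] (P : Subgroup X)
    (hK : Cfsg.IsTightlyEmbedded (Subgroup.centralizer (P : Set X)))
    (hN : Subgroup.normalizer (P : Set X) =
      Subgroup.normalizer (Subgroup.centralizer (P : Set X) : Set X))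
    (t : X) (ht : orderOf t = 2) (htP : t ∈ Subgroup.centralizer (P : Set X))
    (x : X) (hx : x * t = t * x) : x ∈ Subgroup.normalizer (P : Set X) := by
  sorry

/-- U2: an involution `t` of `T ∩ C_X(P)` (T a 2-subgroup of `N_X(P)`, `C_X(P)` of 2-rank 1) is
central in `T`. -/
theorem U2 {X : Type*} [Group X] [Finite X] (P : Subgroup X)
    (hr : Cfsg.PRankLE 2 1 ↥(Subgroup.centralizer (P : Set X)))
    (T : Subgroup X) (hT : IsPGroup 2 ↥T) (hTN : T ≤ Subgroup.normalizer (P : Set X))
    (t : X) (ht : orderOf t = 2) (htT : t ∈ T) (htP : t ∈ Subgroup.centralizer (P : Set X))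
    (y : X) (hy : y ∈ T) : y * t = t * y := by
  sorry

/-- U3: an element of `N` normalizing the image of a Sylow 2-subgroup of `N`, with square in
it, lies in it. -/
theorem U3 {X : Type*} [Group X] [Finite X] (N : Subgroup X) (S : Sylow 2 ↥N) (g : X)
    (hgN : g ∈ N)
    (hn : ∀ s ∈ (S : Subgroup ↥N).map N.subtype, g * s * g⁻¹ ∈ (S : Subgroup ↥N).map N.subtype)
    (hg : g ^ 2 ∈ (S : Subgroup ↥N).map N.subtype) : g ∈ (S : Subgroup ↥N).map N.subtype := by
  sorry

/-- U4: an involution `s ≠ t` of `P C_X(P)` commuting with the involution `t ∈ C_X(P)` is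
`p` or `p t` for an involution `p ∈ P`. -/
theorem U4 {X : Type*} [Group X] [Finite X] (P : Subgroup X)
    (hr : Cfsg.PRankLE 2 1 ↥(Subgroup.centralizer (P : Set X)))
    (hZ : Odd (Nat.card ↥(Subgroup.center ↥P)))
    (t : X) (ht : orderOf t = 2) (htP : t ∈ Subgroup.centralizer (P : Set X))
    (s : X) (hs : orderOf s = 2) (hst : s * t = t * s) (hne : s ≠ t)
    (hsPK : s ∈ P ⊔ Subgroup.centralizer (P : Set X)) :
    ∃ p ∈ P, orderOf p = 2 ∧ (s = p ∨ s = p * t) := by
  sorry

/-- U5: if `C_X(t) ≤ N_X(P)`, `P` quasisimple of even order, then `C_{O(X)}(t)` centralizes `P`. -/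
theorem U5 {X : Type*} [Group X] [Finite X] (P : Subgroup X)
    (hq : Cfsg.IsQuasisimple ↥P) (p : X) (hpP : p ∈ P) (hp : orderOf p = 2)
    (t : X) (hCt : ∀ x : X, x * t = t * x → x ∈ Subgroup.normalizer (P : Set X))
    (w : X) (hw : w ∈ Cfsg.oddCore X) (hwt : w * t = t * w) :
    w ∈ Subgroup.centralizer (P : Set X) := by
  sorry

/-- U6: a four-group `{1,t,s,ts}` acting on a normal subgroup `W` of odd order: `W` is generated
by the three fixed-point subgroups (wrapper of `Helper1.coprime_generated_by_centralizers`). -/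
theorem U6 {X : Type*} [Group X] [Finite X] (W : Subgroup X) [W.Normal]
    (hW : Odd (Nat.card ↥W)) (t s : X) (ht : orderOf t = 2) (hs : orderOf s = 2)
    (hst : s * t = t * s) (hne : s ≠ t) (D : Subgroup X)
    (h1 : ∀ w ∈ W, w * t = t * w → w ∈ D) (h2 : ∀ w ∈ W, w * s = s * w → w ∈ D)
    (h3 : ∀ w ∈ W, w * (t * s) = (t * s) * w → w ∈ D) : W ≤ D := by
  sorry

/-- U7: `u` centralizes the normal subgroup `W`, and `[x,u] = [x,p]` for all `x ∈ P`, with
`p ∈ P` an involution, `P` quasisimple with centre of odd order: then `[P,W] = 1`. -/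
theorem U7 {X : Type*} [Group X] [Finite X] (P : Subgroup X)
    (hq : Cfsg.IsQuasisimple ↥P) (hZ : Odd (Nat.card ↥(Subgroup.center ↥P)))
    (W : Subgroup X) [W.Normal]
    (p : X) (hpP : p ∈ P) (hp : orderOf p = 2) (u : X)
    (hu : ∀ w ∈ W, u * w = w * u)
    (hup : ∀ x ∈ P, x * u * x⁻¹ * u⁻¹ = x * p * x⁻¹ * p⁻¹) :
    ⁅P, W⁆ = ⊥ := by
  sorry

/-- U8: a 2-component `L` containing a quasisimple `P` with `[P, O(X)] = 1` is quasisimple. -/
theorem U8 {X : Type*} [Group X] [Finite X] (P : Subgroup X)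
    (hq : Cfsg.IsQuasisimple ↥P) (hPW : ⁅P, Cfsg.oddCore X⁆ = ⊥)
    (L : Subgroup X) (hL : Cfsg.IsPComponent 2 L) (hPL : P ≤ L) : Cfsg.IsQuasisimple ↥L := by
  sorry

end Cfsg.Agent.Lib.Helper7.SRCStubs
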