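import Mathlib
import Cfsg.Prelude.Def_Local
import Cfsg.Agent.Lib.Helper2.Components
import Cfsg.Agent.Lib.Helper2.Quasisimple

/-!
# Farm SRC (S3153), unit U7

`u` centralizes the normal subgroup `W`, and `[x,u] = [x,p]` for all `x ∈ P`, with `p ∈ P` an
involution and `P` quasisimple with centre of odd order: then `[P,W] = 1`.
-/

set_option autoImplicit false

namespace Cfsg.Agent.Lib.Helper7.SRC

open Cfsg

theorem U7 {X : Type*} [Group X] [Finite X] (P : Subgroup X)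
    (hq : Cfsg.IsQuasisimple ↥P) (hZ : Odd (Nat.card ↥(Subgroup.center ↥P)))
    (W : Subgroup X) [W.Normal]
    (p : X) (hpP : p ∈ P) (hp : orderOf p = 2) (u : X)
    (hu : ∀ w ∈ W, u * w = w * u)
    (hup : ∀ x ∈ P, x * u * x⁻¹ * u⁻¹ = x * p * x⁻¹ * p⁻¹) :
    ⁅P, W⁆ = ⊥ := by
  have hCn : (Subgroup.centralizer (W : Set X)).Normal := inferInstance
  have huC : u ∈ Subgroup.centralizer (W : Set X) := by
    rw [Subgroup.mem_centralizer_iff]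
    intro w hw
    exact (hu w hw).symm
  have hcomm : ∀ x ∈ P, x * p * x⁻¹ * p⁻¹ ∈ Subgroup.centralizer (W : Set X) := by
    intro x hx
    rw [← hup x hx]
    exact Subgroup.mul_mem _ (hCn.conj_mem u huC x) (Subgroup.inv_mem _ huC)
  have hn : ((Subgroup.centralizer (W : Set X)).subgroupOf P).Normal := inferInstance
  rcases Cfsg.Agent.Lib.Helper2.isQuasisimple_normal_eq_top_or_le_center hq
    ((Subgroup.centralizer (W : Set X)).subgroupOf P) with h | h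
  · have hPC : P ≤ Subgroup.centralizer (W : Set X) := by
      rwa [Subgroup.subgroupOf_eq_top] at h
    rw [Subgroup.commutator_eq_bot_iff_le_centralizer]
    exact hPC
  · exfalso
    have hcen : ∀ x : ↥P, x * ⟨p, hpP⟩ * x⁻¹ * (⟨p, hpP⟩ : ↥P)⁻¹ ∈ Subgroup.center ↥P := by
      intro x
      apply h
      rw [Subgroup.mem_subgroupOf]
      exact hcomm x.1 x.2
    let f : ↥P →* ↥(Subgroup.center ↥P) :=
      { toFun := fun x => ⟨x * ⟨p, hpP⟩ * x⁻¹ * (⟨p, hpP⟩ : ↥P)⁻¹, hcen x⟩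
        map_one' := by
          apply Subtype.ext
          show (1 : ↥P) * ⟨p, hpP⟩ * (1 : ↥P)⁻¹ * (⟨p, hpP⟩ : ↥P)⁻¹ = 1
          group
        map_mul' := by
          intro x y
          have hc := Subgroup.mem_center_iff.1 (hcen y)
          apply Subtype.ext
          show (x * y) * ⟨p, hpP⟩ * (x * y)⁻¹ * (⟨p, hpP⟩ : ↥P)⁻¹ =
            (x * ⟨p, hpP⟩ * x⁻¹ * (⟨p, hpP⟩ : ↥P)⁻¹) * (y * ⟨p, hpP⟩ * y⁻¹ * (⟨p, hpP⟩ : ↥P)⁻¹)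
          calc (x * y) * ⟨p, hpP⟩ * (x * y)⁻¹ * (⟨p, hpP⟩ : ↥P)⁻¹
              = (x * (y * ⟨p, hpP⟩ * y⁻¹ * (⟨p, hpP⟩ : ↥P)⁻¹)) *
                  (⟨p, hpP⟩ * x⁻¹ * (⟨p, hpP⟩ : ↥P)⁻¹) := by group
            _ = ((y * ⟨p, hpP⟩ * y⁻¹ * (⟨p, hpP⟩ : ↥P)⁻¹) * x) *
                  (⟨p, hpP⟩ * x⁻¹ * (⟨p, hpP⟩ : ↥P)⁻¹) := by rw [hc x]
            _ = (y * ⟨p, hpP⟩ * y⁻¹ * (⟨p, hpP⟩ : ↥P)⁻¹) *
                  (x * ⟨p, hpP⟩ * x⁻¹ * (⟨p, hpP⟩ : ↥P)⁻¹) := by group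
            _ = (x * ⟨p, hpP⟩ * x⁻¹ * (⟨p, hpP⟩ : ↥P)⁻¹) *
                  (y * ⟨p, hpP⟩ * y⁻¹ * (⟨p, hpP⟩ : ↥P)⁻¹) := (hc _).symm }
    have hf := Cfsg.Agent.Lib.Helper2.hom_eq_one_of_isPerfect hq.1
      (fun a b : ↥(Subgroup.center ↥P) => Subtype.ext (Subgroup.mem_center_iff.1 b.2 a.1)) f
    have hppc : (⟨p, hpP⟩ : ↥P) ∈ Subgroup.center ↥P := by
      rw [Subgroup.mem_center_iff]
      intro x
      have h1 : x * ⟨p, hpP⟩ * x⁻¹ * (⟨p, hpP⟩ : ↥P)⁻¹ = 1 := congrArg Subtype.val (hf x)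
      calc x * ⟨p, hpP⟩ = (x * ⟨p, hpP⟩ * x⁻¹ * (⟨p, hpP⟩ : ↥P)⁻¹) * ⟨p, hpP⟩ * x := by group
        _ = ⟨p, hpP⟩ * x := by rw [h1, one_mul]
    have hord : orderOf (⟨⟨p, hpP⟩, hppc⟩ : ↥(Subgroup.center ↥P)) = 2 := by
      rw [Subgroup.orderOf_mk, Subgroup.orderOf_mk, hp]
    have hdvd : 2 ∣ Nat.card ↥(Subgroup.center ↥P) := hord ▸ orderOf_dvd_natCard _
    exact (Nat.not_even_iff_odd.2 hZ) (even_iff_two_dvd.2 hdvd)

end Cfsg.Agent.Lib.Helper7.SRC
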