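import Mathlib
import Cfsg.Prelude.Def_SolvableStructure
import Cfsg.Agent.Lib.Helper1.Supersolvable2
import Cfsg.Agent.Lib.Helper1.SupersolvableDerived
import Cfsg.Agent.Lib.Helper1.SupersolvableLargestPrime
import Cfsg.Agent.Lib.Helper1.SchmidtStructure

/-!
Abstract linear part of S3033: a supersolvable irreducible linear group over `ZMod r` whose
prime-power-order `r'`-elements act as scalars on their commutator spaces has a common eigenvector,
provided proper subgroups have common eigenvectors.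
-/

set_option autoImplicit false

universe u

namespace Cfsg.Agent.Lib.Helper7

open Cfsg

theorem isSolvable_of_isSupersolvable' {G : Type u} [Group G] [Finite G]
    (hG : IsSupersolvable G) : Group.IsSolvable G := by
  haveI : Group.IsNilpotent (commutator G) :=
    Cfsg.Agent.Lib.Helper1.isNilpotent_commutator_of_isSupersolvable G hG
  exact Group.isSolvable_of_ker_le_range (commutator G).subtype Abelianization.of
    (by rw [Abelianization.ker_of, Subgroup.range_subtype])

/-- A property of group elements that is multiplicative on `zpowers k` and holds for the elements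
of prime power order of `zpowers k` holds for `k`. -/
theorem prop_of_prime_power_parts {G : Type*} [Group G] (P : G → Prop) (h1 : P 1)
    (k : G) (hk : IsOfFinOrder k)
    (hmul : ∀ a ∈ Subgroup.zpowers k, ∀ b ∈ Subgroup.zpowers k, P a → P b → P (a * b))
    (hpp : ∀ a ∈ Subgroup.zpowers k, (∃ t e : ℕ, t.Prime ∧ orderOf a = t ^ e) → P a) : P k := by
  have key : ∀ n : ℕ, ∀ a ∈ Subgroup.zpowers k, orderOf a = n → P a := by
    intro n
    induction n using Nat.strong_induction_on with
    | _ n ih =>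
    intro a ha hn
    have hafin : IsOfFinOrder a := by
      obtain ⟨z, rfl⟩ := Subgroup.mem_zpowers_iff.mp ha
      exact hk.zpow
    have hn0 : n ≠ 0 := by rw [← hn]; exact (orderOf_pos_iff.mpr hafin).ne'
    by_cases hn1 : n = 1
    · rw [hn1, orderOf_eq_one_iff] at hn; rw [hn]; exact h1
    obtain ⟨t, ht, htn⟩ := Nat.exists_prime_and_dvd hn1
    obtain ⟨e, m, hm, hem⟩ := Nat.exists_eq_pow_mul_and_not_dvd hn0 t ht.ne_one
    by_cases hm1 : m = 1
    · apply hpp a ha ⟨t, e, ht, ?_⟩
      rw [hn, hem, hm1, mul_one]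
    have he0 : e ≠ 0 := by
      rintro rfl
      rw [pow_zero, one_mul] at hem
      exact hm (hem ▸ htn)
    have hm0 : m ≠ 0 := by rintro rfl; rw [mul_zero] at hem; exact hn0 hem
    have hcop : Nat.Coprime (t ^ e) m :=
      Nat.Coprime.pow_left e ((Nat.Prime.coprime_iff_not_dvd ht).mpr hm)
    obtain ⟨x, y, hbez⟩ : ∃ x y : ℤ, ((t ^ e : ℕ) : ℤ) * x + (m : ℤ) * y = 1 := by
      refine ⟨Nat.gcdA (t ^ e) m, Nat.gcdB (t ^ e) m, ?_⟩
      have := Nat.gcd_eq_gcd_ab (t ^ e) m
      rw [hcop.gcd_eq_one] at this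
      rw [← this]; rfl
    have hdec : a = (a ^ (t ^ e)) ^ x * (a ^ m) ^ y := by
      rw [← zpow_natCast a (t ^ e), ← zpow_natCast a m, ← zpow_mul, ← zpow_mul, ← zpow_add, hbez,
        zpow_one]
    have hte : 2 ≤ t ^ e := by
      calc 2 ≤ t := ht.two_le
        _ = t ^ 1 := (pow_one t).symm
        _ ≤ t ^ e := Nat.pow_le_pow_right ht.pos (Nat.one_le_iff_ne_zero.mpr he0)
    have hm2 : 2 ≤ m := by omega
    have hA : P ((a ^ (t ^ e)) ^ x) := by
      apply ih (orderOf ((a ^ (t ^ e)) ^ x)) ?_ _ ?_ rfl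
      · have h1 : orderOf ((a ^ (t ^ e)) ^ x) ∣ m := by
          apply orderOf_dvd_of_pow_eq_one
          rw [← zpow_natCast, ← zpow_mul, mul_comm, zpow_mul, zpow_natCast, ← pow_mul, ← hem, ← hn,
            pow_orderOf_eq_one, one_zpow]
        have h2 : m < n := by rw [hem]; nlinarith
        exact lt_of_le_of_lt (Nat.le_of_dvd (Nat.pos_of_ne_zero hm0) h1) h2
      · exact Subgroup.zpow_mem _ (Subgroup.pow_mem _ ha _) _
    have hB : P ((a ^ m) ^ y) := by
      apply ih (orderOf ((a ^ m) ^ y)) ?_ _ ?_ rfl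
      · have h1 : orderOf ((a ^ m) ^ y) ∣ t ^ e := by
          apply orderOf_dvd_of_pow_eq_one
          rw [← zpow_natCast, ← zpow_mul, mul_comm, zpow_mul, zpow_natCast, ← pow_mul, mul_comm,
            ← hem, ← hn, pow_orderOf_eq_one, one_zpow]
        have h2 : t ^ e < n := by rw [hem]; nlinarith
        exact lt_of_le_of_lt (Nat.le_of_dvd (by omega) h1) h2
      · exact Subgroup.zpow_mem _ (Subgroup.pow_mem _ ha _) _
    rw [hdec]
    exact hmul _ (Subgroup.zpow_mem _ (Subgroup.pow_mem _ ha _) _) _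
      (Subgroup.zpow_mem _ (Subgroup.pow_mem _ ha _) _) hA hB
  exact key _ k (Subgroup.mem_zpowers k) rfl

section linear

variable {r : ℕ} [hr : Fact r.Prime] {V : Type u} [AddCommGroup V] [Module (ZMod r) V]

theorem linEquiv_pow_eig (f : V ≃ₗ[ZMod r] V) {v : V} {c : ZMod r} (h : f v = c • v) (n : ℕ) :
    (f ^ n) v = c ^ n • v := by
  induction n with
  | zero => rw [pow_zero, pow_zero, one_smul]; rfl
  | succ n ih =>
    have e : (f ^ (n + 1)) v = (f ^ n) (f v) := by rw [pow_succ]; rfl
    rw [e, h, map_smul, ih, smul_smul, pow_succ, mul_comm]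

theorem eig_eq_one_of_orderOf_char {k : V ≃ₗ[ZMod r] V} {e : ℕ} (hk : orderOf k = r ^ e) {v : V}
    (hv : v ≠ 0) {c : ZMod r} (h : k v = c • v) : c = 1 := by
  have h1 := linEquiv_pow_eig k h (r ^ e)
  rw [ZMod.pow_card_pow] at h1
  have h2 : k ^ r ^ e = 1 := by rw [← hk]; exact pow_orderOf_eq_one k
  rw [h2] at h1
  have h3 : (1 - c) • v = 0 := by
    rw [sub_smul, one_smul, ← h1]; exact sub_self _
  rcases smul_eq_zero.mp h3 with h4 | h4
  · exact (sub_eq_zero.mp h4).symm
  · exact absurd h4 hv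

theorem indep_of_eig (φ : V ≃ₗ[ZMod r] V) {x y : V} (hx0 : x ≠ 0) (hy0 : y ≠ 0) {a b : ZMod r}
    (hab : a ≠ b) (hx : φ x = a • x) (hy : φ y = b • y) :
    ∀ c d : ZMod r, c • x + d • y = 0 → c = 0 ∧ d = 0 := by
  intro c d h
  have h1 : c • a • x + d • b • y = 0 := by
    have := congrArg φ h
    rwa [map_add, map_smul, map_smul, hx, hy, map_zero] at this
  have h2 : (d * (b - a)) • y = 0 := by
    have e : (d * (b - a)) • y = (c • a • x + d • b • y) - a • (c • x + d • y) := by module
    rw [e, h1, h, smul_zero, sub_zero]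
  have hd : d = 0 := by
    rcases smul_eq_zero.mp h2 with h3 | h3
    · rcases mul_eq_zero.mp h3 with h4 | h4
      · exact h4
      · exact absurd (sub_eq_zero.mp h4).symm hab
    · exact absurd h3 hy0
  refine ⟨?_, hd⟩
  rw [hd, zero_smul, add_zero] at h
  rcases smul_eq_zero.mp h with h3 | h3
  · exact h3
  · exact absurd h3 hx0

theorem eig_pair (φ : V ≃ₗ[ZMod r] V)
    (hφ : ∀ v : V, ∃ c : ZMod r, φ (φ v - v) = c • (φ v - v)) {x y : V}
    (hind : ∀ c d : ZMod r, c • x + d • y = 0 → c = 0 ∧ d = 0) {a b : ZMod r}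
    (hx : φ x = a • x) (hy : φ y = b • y) : a = 1 ∨ b = 1 ∨ a = b := by
  obtain ⟨c, hc⟩ := hφ (x + y)
  have e1 : φ (x + y) - (x + y) = (a - 1) • x + (b - 1) • y := by
    rw [map_add, hx, hy]; module
  rw [e1, map_add, map_smul, map_smul, hx, hy] at hc
  have key : ((a - 1) * (a - c)) • x + ((b - 1) * (b - c)) • y = 0 := by
    have h0 := sub_eq_zero.mpr hc
    rw [← h0]; module
  obtain ⟨h1, h2⟩ := hind _ _ key
  by_cases ha : a = 1
  · exact Or.inl ha
  by_cases hb : b = 1
  · exact Or.inr (Or.inl hb)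
  right; right
  have h3 : a = c := by
    rcases mul_eq_zero.mp h1 with h | h
    · exact absurd (sub_eq_zero.mp h) ha
    · exact sub_eq_zero.mp h
  have h4 : b = c := by
    rcases mul_eq_zero.mp h2 with h | h
    · exact absurd (sub_eq_zero.mp h) hb
    · exact sub_eq_zero.mp h
  rw [h3, h4]

end linear

end Cfsg.Agent.Lib.Helper7
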