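import Mathlib
import Cfsg.Agent.Lib.Helper7.SSPairA

/-!
Abstract linear part of S3033 (main theorem).
-/

set_option autoImplicit false
set_option maxHeartbeats 1600000

universe u

namespace Cfsg.Agent.Lib.Helper7

open Cfsg

variable {r : ℕ} [hr : Fact r.Prime] {V : Type u} [AddCommGroup V] [Module (ZMod r) V]

/-- The final contradiction in the `2`-dimensional swap configuration. -/
theorem swap_config_false
    (M K : Subgroup (V ≃ₗ[ZMod r] V))
    (hK : ∀ φ ∈ M, ∀ t : ℕ, t.Prime → t ≠ r → (∃ e : ℕ, orderOf φ = t ^ e) →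
      ∀ v : V, ∃ c : ZMod r, φ (φ v - v) = c • (φ v - v))
    (hKM : K ≤ M) (hKcomm : ∀ k₁ ∈ K, ∀ k₂ ∈ K, k₁ * k₂ = k₂ * k₁)
    (hKnorm : ∀ m ∈ M, ∀ k ∈ K, m * k * m⁻¹ ∈ K)
    (g k₁ : V ≃ₗ[ZMod r] V) (hgM : g ∈ M) (hk₁K : k₁ ∈ K) (t e₁ : ℕ) (ht : t.Prime) (htr : t ≠ r)
    (hk₁ord : orderOf k₁ = t ^ e₁)
    (x' y' : V) (a' : ZMod r) (hx'0 : x' ≠ 0)
    (hind' : ∀ c d : ZMod r, c • x' + d • y' = 0 → c = 0 ∧ d = 0)
    (hspan' : ∀ v : V, ∃ c d : ZMod r, v = c • x' + d • y')
    (hgx' : g x' = y') (hgy' : g y' = x') (hkx' : k₁ x' = a' • x') (hky' : k₁ y' = y')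
    (ha'1 : a' ≠ 1) : False := by
  have hk₁M : k₁ ∈ M := hKM hk₁K
  have hginv_x : g⁻¹ x' = y' := by rw [← hgy']; exact g.symm_apply_apply y'
  have hginv_y : g⁻¹ y' = x' := by rw [← hgx']; exact g.symm_apply_apply x'
  obtain ⟨k₂, hk₂⟩ : ∃ k₂ : V ≃ₗ[ZMod r] V, k₂ = g * k₁ * g⁻¹ := ⟨_, rfl⟩
  have hk₂K : k₂ ∈ K := hk₂ ▸ hKnorm g hgM k₁ hk₁K
  have hk₂x : k₂ x' = x' := by
    rw [hk₂]
    show g (k₁ (g⁻¹ x')) = x'
    rw [hginv_x, hky', hgy']
  have hk₂y : k₂ y' = a' • y' := by
    rw [hk₂]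
    show g (k₁ (g⁻¹ y')) = a' • y'
    rw [hginv_y, hkx', map_smul, hgx']
  obtain ⟨c₂, hc₂⟩ : ∃ c₂ : V ≃ₗ[ZMod r] V, c₂ = k₁ * k₂ * k₂ := ⟨_, rfl⟩
  have hc₂M : c₂ ∈ M := hc₂ ▸ M.mul_mem (M.mul_mem hk₁M (hKM hk₂K)) (hKM hk₂K)
  have hc₂x : c₂ x' = a' • x' := by
    rw [hc₂]
    show k₁ (k₂ (k₂ x')) = _
    rw [hk₂x, hk₂x, hkx']
  have hc₂y : c₂ y' = (a' * a') • y' := by
    rw [hc₂]
    show k₁ (k₂ (k₂ y')) = _
    rw [hk₂y, map_smul, hk₂y, map_smul, map_smul, hky', smul_smul]
  have hc₂ord : ∃ j : ℕ, orderOf c₂ = t ^ j := by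
    have hk₂pow : k₂ ^ (t ^ e₁) = 1 := by
      rw [hk₂, conj_pow, ← hk₁ord, pow_orderOf_eq_one, mul_one, mul_inv_cancel]
    have hk₁pow : k₁ ^ (t ^ e₁) = 1 := by rw [← hk₁ord, pow_orderOf_eq_one]
    have hcomm12 : Commute k₁ k₂ := hKcomm k₁ hk₁K k₂ hk₂K
    have hpow : c₂ ^ (t ^ e₁) = 1 := by
      rw [hc₂, (hcomm12.mul_left (Commute.refl k₂)).mul_pow, hcomm12.mul_pow, hk₁pow, hk₂pow,
        mul_one, mul_one]
    obtain ⟨j, _, hj⟩ := (Nat.dvd_prime_pow ht).mp (orderOf_dvd_of_pow_eq_one hpow)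
    exact ⟨j, hj⟩
  have ha'0 : a' ≠ 0 := by
    rintro rfl
    rw [zero_smul] at hkx'
    exact hx'0 (k₁.injective (hkx'.trans (map_zero k₁).symm))
  have ham1 : a' = -1 := by
    rcases eig_pair c₂ (hK c₂ hc₂M t ht htr hc₂ord) hind' hc₂x hc₂y with h | h | h
    · exact absurd h ha'1
    · rcases mul_self_eq_one_iff.mp h with h' | h'
      · exact absurd h' ha'1
      · exact h'
    · exfalso
      have h0 : a' * (a' - 1) = 0 := by linear_combination -h
      rcases mul_eq_zero.mp h0 with h' | h'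
      · exact ha'0 h'
      · exact ha'1 (sub_eq_zero.mp h')
  subst ham1
  have hhx : (g * k₁) x' = -y' := by
    show g (k₁ x') = _
    rw [hkx', map_smul, hgx', neg_one_smul]
  have hhy : (g * k₁) y' = x' := by
    show g (k₁ y') = _
    rw [hky', hgy']
  have hh2 : ∀ v : V, ((g * k₁) * (g * k₁)) v = -v := by
    intro v
    obtain ⟨c, d, rfl⟩ := hspan' v
    show (g * k₁) ((g * k₁) (c • x' + d • y')) = _
    rw [map_add, map_smul, map_smul, hhx, hhy, map_add, map_smul, map_smul, map_neg, hhy, hhx]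
    module
  have h4 : (g * k₁) ^ (2 ^ 2) = 1 := by
    apply LinearEquiv.ext
    intro v
    have e : (g * k₁) ^ (2 ^ 2) = ((g * k₁) * (g * k₁)) * ((g * k₁) * (g * k₁)) := by
      rw [show (2 : ℕ) ^ 2 = 2 * 2 from rfl, pow_mul, pow_two, pow_two]
    rw [e]
    show ((g * k₁) * (g * k₁)) (((g * k₁) * (g * k₁)) v) = v
    rw [hh2, hh2, neg_neg]
  have h2 : (g * k₁) ^ 2 ≠ 1 := by
    intro h
    have h' : ((g * k₁) ^ 2) x' = x' := by rw [h]; rfl
    rw [pow_two, hh2] at h'
    have h'' : ((-1 : ZMod r) - 1) • x' = 0 := by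
      rw [sub_smul, neg_one_smul, one_smul, h', sub_self]
    rcases smul_eq_zero.mp h'' with h3 | h3
    · exact ha'1 (sub_eq_zero.mp h3)
    · exact hx'0 h3
  have hord4 : orderOf (g * k₁) = 2 ^ 2 := by
    obtain ⟨j, hj, hj'⟩ := (Nat.dvd_prime_pow Nat.prime_two).mp (orderOf_dvd_of_pow_eq_one h4)
    interval_cases j
    · exfalso
      rw [pow_zero, orderOf_eq_one_iff] at hj'
      rw [hj', one_pow] at h2
      exact h2 rfl
    · exfalso
      apply h2
      rw [pow_one] at hj'
      rw [← hj', pow_orderOf_eq_one]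
    · exact hj'
  have h2r : (2 : ℕ) ≠ r := by
    intro h2r
    have h0 : ((2 : ℕ) : ZMod r) = 0 := by rw [h2r]; exact ZMod.natCast_self r
    apply ha'1
    push_cast at h0
    linear_combination -h0
  obtain ⟨c, hc⟩ := hK (g * k₁) (M.mul_mem hgM hk₁M) 2 Nat.prime_two h2r ⟨2, hord4⟩ x'
  rw [hhx, map_sub, map_neg, hhy, hhx] at hc
  have key : (-1 + c) • x' + (1 + c) • y' = 0 := by
    have h0 := sub_eq_zero.mpr hc
    rw [← h0]; module
  obtain ⟨h1, h2'⟩ := hind' _ _ key
  apply ha'1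
  linear_combination h1 - h2'

theorem exists_common_eigenvector_of_scalOnComm [Finite V] [Nontrivial V]
    (M : Subgroup (V ≃ₗ[ZMod r] V)) (hM : IsSupersolvable ↥M)
    (hirr : ∀ W : AddSubgroup V, (∀ φ ∈ M, ∀ v ∈ W, φ v ∈ W) → W = ⊥ ∨ W = ⊤)
    (hK : ∀ φ ∈ M, ∀ t : ℕ, t.Prime → t ≠ r → (∃ e : ℕ, orderOf φ = t ^ e) →
      ∀ v : V, ∃ c : ZMod r, φ (φ v - v) = c • (φ v - v))
    (hE : ∀ K : Subgroup (V ≃ₗ[ZMod r] V), K ≤ M → K ≠ M →
      ∃ v : V, v ≠ 0 ∧ ∀ φ ∈ K, ∃ c : ZMod r, φ v = c • v) :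
    ∃ v : V, v ≠ 0 ∧ ∀ φ ∈ M, ∃ c : ZMod r, φ v = c • v := by
  classical
  have hrp : r.Prime := hr.out
  haveI : Finite (V ≃ₗ[ZMod r] V) :=
    Finite.of_injective (fun f : V ≃ₗ[ZMod r] V => (f : V → V)) DFunLike.coe_injective
  -- predicate form of irreducibility
  have hirrP : ∀ P : V → Prop, P 0 → (∀ u w, P u → P w → P (u + w)) → (∀ u, P u → P (-u)) →
      (∀ φ ∈ M, ∀ u, P u → P (φ u)) → (∃ u, P u ∧ u ≠ 0) → ∀ u, P u := by
    rintro P h0 hadd hneg hinv ⟨u, hu, hu0⟩
    let W : AddSubgroup V :=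
      { carrier := {v | P v}
        zero_mem' := h0
        add_mem' := fun ha hb => hadd _ _ ha hb
        neg_mem' := fun ha => hneg _ ha }
    rcases hirr W (fun φ hφ v hv => hinv φ hφ v hv) with h | h
    · exfalso
      apply hu0
      have : u ∈ W := hu
      rw [h] at this
      exact AddSubgroup.mem_bot.mp this
    · intro v
      have : v ∈ W := by rw [h]; exact AddSubgroup.mem_top v
      exact this
  by_cases hMbot : M = ⊥
  · obtain ⟨v, hv⟩ := exists_ne (0 : V)
    refine ⟨v, hv, fun φ hφ => ⟨1, ?_⟩⟩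
    rw [hMbot, Subgroup.mem_bot] at hφ
    rw [hφ, one_smul]; rfl
  haveI : Nontrivial ↥M := (Subgroup.nontrivial_iff_ne_bot M).mpr hMbot
  haveI : Group.IsSolvable ↥M := isSolvable_of_isSupersolvable' hM
  obtain ⟨K', s, hs, hK'n, hK'idx⟩ :=
    Cfsg.Agent.Lib.Helper1.exists_normal_prime_index_of_isSolvable (G := ↥M)
  obtain ⟨K, hKdef⟩ : ∃ K : Subgroup (V ≃ₗ[ZMod r] V), K = K'.map M.subtype := ⟨_, rfl⟩
  have hKM : K ≤ M := by rw [hKdef]; exact Subgroup.map_subtype_le K'
  have hmemK : ∀ (φ : V ≃ₗ[ZMod r] V) (hφ : φ ∈ M), φ ∈ K ↔ (⟨φ, hφ⟩ : ↥M) ∈ K' := by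
    intro φ hφ
    rw [hKdef]
    constructor
    · rintro ⟨m, hm, hmφ⟩
      have : m = ⟨φ, hφ⟩ := Subtype.ext hmφ
      rwa [← this]
    · intro h; exact ⟨⟨φ, hφ⟩, h, rfl⟩
  have hK'top : K' ≠ ⊤ := by
    intro h; rw [h, Subgroup.index_top] at hK'idx; exact hs.ne_one hK'idx.symm
  have hKne : K ≠ M := by
    intro h
    apply hK'top
    rw [eq_top_iff]
    intro m _
    have : (m : V ≃ₗ[ZMod r] V) ∈ K := by rw [h]; exact m.2
    exact (hmemK _ m.2).mp this
  have hKnorm : ∀ m ∈ M, ∀ k ∈ K, m * k * m⁻¹ ∈ K := by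
    intro m hm k hk
    have hkM := hKM hk
    rw [hmemK _ (M.mul_mem (M.mul_mem hm hkM) (M.inv_mem hm))]
    exact hK'n.conj_mem ⟨k, hkM⟩ ((hmemK k hkM).mp hk) ⟨m, hm⟩
  obtain ⟨x, hx0, hxK⟩ := hE K hKM hKne
  have hconj : ∀ g ∈ M, ∀ k ∈ K, ∀ c : ZMod r, (g⁻¹ * k * g) x = c • x → k (g x) = c • g x := by
    intro g _ k _ c h
    have e : k * g = g * (g⁻¹ * k * g) := by group
    calc k (g x) = (k * g) x := rfl
      _ = (g * (g⁻¹ * k * g)) x := by rw [e]
      _ = g ((g⁻¹ * k * g) x) := rfl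
      _ = c • g x := by rw [h, map_smul]
  have hconjK : ∀ g ∈ M, ∀ k ∈ K, g⁻¹ * k * g ∈ K := by
    intro g hg k hk
    have := hKnorm g⁻¹ (M.inv_mem hg) k hk
    rwa [inv_inv] at this
  have horbK : ∀ g ∈ M, ∀ k ∈ K, ∃ c : ZMod r, k (g x) = c • g x := by
    intro g hg k hk
    obtain ⟨c, hc⟩ := hxK _ (hconjK g hg k hk)
    exact ⟨c, hconj g hg k hk c hc⟩
  -- the orbit of `x` spans `V`
  have horb : ∀ P : V → Prop, P 0 → (∀ u w, P u → P w → P (u + w)) → (∀ u, P u → P (-u)) →
      (∀ g ∈ M, P (g x)) → ∀ v, P v := by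
    intro P h0 hadd hneg hP
    have hQ : ∀ v, v ∈ AddSubgroup.closure {v : V | ∃ g ∈ M, v = g x} := by
      apply hirrP (fun v => v ∈ AddSubgroup.closure {v : V | ∃ g ∈ M, v = g x}) (zero_mem _)
        (fun u w hu hw => add_mem hu hw) (fun u hu => neg_mem hu)
      · intro φ hφ u hu
        induction hu using AddSubgroup.closure_induction with
        | mem v hv =>
          obtain ⟨g, hg, rfl⟩ := hv
          exact AddSubgroup.subset_closure ⟨φ * g, M.mul_mem hφ hg, rfl⟩
        | zero => rw [map_zero]; exact zero_mem _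
        | add a b _ _ ha hb => rw [map_add]; exact add_mem ha hb
        | neg a _ ha => rw [map_neg]; exact neg_mem ha
      · exact ⟨x, AddSubgroup.subset_closure ⟨1, M.one_mem, rfl⟩, hx0⟩
    intro v
    have hv := hQ v
    induction hv using AddSubgroup.closure_induction with
    | mem v hv => obtain ⟨g, hg, rfl⟩ := hv; exact hP g hg
    | zero => exact h0
    | add a b _ _ ha hb => exact hadd _ _ ha hb
    | neg a _ ha => exact hneg _ ha
  have hKcomm : ∀ k₁ ∈ K, ∀ k₂ ∈ K, k₁ * k₂ = k₂ * k₁ := by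
    intro k₁ hk₁ k₂ hk₂
    apply LinearEquiv.ext
    intro v
    show k₁ (k₂ v) = k₂ (k₁ v)
    revert v
    apply horb (fun v => k₁ (k₂ v) = k₂ (k₁ v))
    · simp
    · intro u w hu hw; simp only [map_add, hu, hw]
    · intro u hu; simp only [map_neg, hu]
    · intro g hg
      obtain ⟨c₁, h₁⟩ := horbK g hg k₁ hk₁
      obtain ⟨c₂, h₂⟩ := horbK g hg k₂ hk₂
      calc k₁ (k₂ (g x)) = k₁ (c₂ • g x) := by rw [h₂]
        _ = c₂ • c₁ • g x := by rw [map_smul, h₁]
        _ = c₁ • c₂ • g x := smul_comm _ _ _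
        _ = k₂ (k₁ (g x)) := by rw [h₁, map_smul, h₂]
  -- an element of `s`-power order outside `K`
  obtain ⟨g, hgM, hgK, e, hge⟩ : ∃ g : V ≃ₗ[ZMod r] V, g ∈ M ∧ g ∉ K ∧ ∃ e : ℕ, orderOf g = s ^ e := by
    obtain ⟨m, hm⟩ : ∃ m : ↥M, m ∉ K' := by
      by_contra h; push Not at h; exact hK'top (eq_top_iff.mpr fun m _ => h m)
    obtain ⟨e, n', hn', hen⟩ := Nat.exists_eq_pow_mul_and_not_dvd (orderOf_pos m).ne' s hs.ne_one
    refine ⟨((m ^ n' : ↥M) : V ≃ₗ[ZMod r] V), (m ^ n').2, ?_, e, ?_⟩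
    · rw [hmemK _ (m ^ n').2]
      intro hmem
      apply hm
      have h1 : (QuotientGroup.mk' K' m) ^ n' = 1 := by
        rw [← map_pow]; exact (QuotientGroup.eq_one_iff _).mpr hmem
      have h2 : (QuotientGroup.mk' K' m) ^ s = 1 := by
        rw [← map_pow, ← hK'idx]; exact (QuotientGroup.eq_one_iff _).mpr (K'.pow_index_mem m)
      have h3 : orderOf (QuotientGroup.mk' K' m) ∣ Nat.gcd n' s :=
        Nat.dvd_gcd (orderOf_dvd_of_pow_eq_one h1) (orderOf_dvd_of_pow_eq_one h2)
      have h4 : Nat.gcd n' s = 1 := Nat.Coprime.symm ((Nat.Prime.coprime_iff_not_dvd hs).mpr hn')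
      rw [h4, Nat.dvd_one, orderOf_eq_one_iff] at h3
      exact (QuotientGroup.eq_one_iff m).mp h3
    · rw [Subgroup.orderOf_coe]
      have hdvd : n' ∣ orderOf m := ⟨s ^ e, by rw [hen]; ring⟩
      have hn'0 : n' ≠ 0 := by rintro rfl; rw [mul_zero] at hen; exact (orderOf_pos m).ne' hen
      rw [orderOf_pow_of_dvd hn'0 hdvd, hen, Nat.mul_div_cancel _ (Nat.pos_of_ne_zero hn'0)]
  -- invariance under `K` and `g` gives invariance under `M`
  have hgen : ∀ P : V → Prop, (∀ k ∈ K, ∀ v, P v → P (k v)) → (∀ v, P v → P (g v)) →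
      ∀ φ ∈ M, ∀ v, P v → P (φ v) := by
    intro P hPK hPg
    let S : Subgroup ↥M :=
      { carrier := {m | ∀ v, P ((m : V ≃ₗ[ZMod r] V) v) ↔ P v}
        one_mem' := fun v => Iff.rfl
        mul_mem' := fun {a b} ha hb v => (ha ((b : V ≃ₗ[ZMod r] V) v)).trans (hb v)
        inv_mem' := fun {a} ha v => by
          have h := ha (((a : V ≃ₗ[ZMod r] V)⁻¹) v)
          have e : (a : V ≃ₗ[ZMod r] V) (((a : V ≃ₗ[ZMod r] V)⁻¹) v) = v :=
            (a : V ≃ₗ[ZMod r] V).apply_symm_apply v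
          rw [e] at h
          exact h.symm }
    have hK'S : K' ≤ S := by
      intro k hk v
      have hkK : (k : V ≃ₗ[ZMod r] V) ∈ K := (hmemK _ k.2).mpr hk
      constructor
      · intro h
        have h' := hPK _ (K.inv_mem hkK) _ h
        have e : ((k : V ≃ₗ[ZMod r] V)⁻¹) ((k : V ≃ₗ[ZMod r] V) v) = v :=
          (k : V ≃ₗ[ZMod r] V).symm_apply_apply v
        rwa [e] at h'
      · exact hPK _ hkK v
    have hgS : (⟨g, hgM⟩ : ↥M) ∈ S := by
      intro v
      constructor
      · intro h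
        have hpow : ∀ j : ℕ, ∀ w, P w → P ((g ^ j) w) := by
          intro j
          induction j with
          | zero => intro w hw; simpa using hw
          | succ j ih =>
            intro w hw
            have e : (g ^ (j + 1)) w = (g ^ j) (g w) := by rw [pow_succ]; rfl
            rw [e]; exact ih _ (hPg w hw)
        have hn : 0 < orderOf g := by rw [hge]; exact pow_pos hs.pos e
        have h' := hpow (orderOf g - 1) _ h
        have e2 : (g ^ (orderOf g - 1)) (g v) = v := by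
          show (g ^ (orderOf g - 1) * g) v = v
          rw [← pow_succ, Nat.sub_add_cancel hn, pow_orderOf_eq_one]; rfl
        rwa [e2] at h'
      · exact hPg v
    have hStop : S = ⊤ := by
      have h1 : K'.relIndex S * S.index = K'.index := Subgroup.relIndex_mul_index hK'S
      rw [hK'idx] at h1
      have h2 : S.index ∣ s := Dvd.intro_left _ h1
      rcases (Nat.dvd_prime hs).mp h2 with h3 | h3
      · exact Subgroup.index_eq_one.mp h3
      · exfalso
        rw [h3] at h1
        have h4 : K'.relIndex S = 1 :=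
          Nat.eq_of_mul_eq_mul_right hs.pos (by rw [one_mul]; exact h1)
        have h5 : S ≤ K' := Subgroup.relIndex_eq_one.mp h4
        exact hgK ((hmemK g hgM).mpr (h5 hgS))
    intro φ hφ v hv
    have : (⟨φ, hφ⟩ : ↥M) ∈ S := by rw [hStop]; exact Subgroup.mem_top _
    exact (this v).mpr hv
  have heig : ∀ v : V, v ≠ 0 → (∀ k ∈ K, ∃ c : ZMod r, k v = c • v) → (∃ c : ZMod r, g v = c • v) →
      ∃ v : V, v ≠ 0 ∧ ∀ φ ∈ M, ∃ c : ZMod r, φ v = c • v := by
    intro v hv0 hvK hvg
    refine ⟨v, hv0, fun φ hφ => ?_⟩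
    have h := hgen (fun w => ∃ c : ZMod r, w = c • v) ?_ ?_ φ hφ v ⟨1, (one_smul _ _).symm⟩
    · exact h
    · rintro k hk w ⟨c, rfl⟩
      obtain ⟨d, hd⟩ := hvK k hk
      exact ⟨c * d, by rw [map_smul, hd, smul_smul]⟩
    · rintro w ⟨c, rfl⟩
      obtain ⟨d, hd⟩ := hvg
      exact ⟨c * d, by rw [map_smul, hd, smul_smul]⟩
  by_cases hsr : s = r
  · -- the case of index `r`: a normal subgroup of order `r` has nonzero fixed points
    exfalso
    subst hsr
    have hcardM : Nat.card ↥M = Nat.card K' * s := by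
      have h := K'.card_mul_index
      rw [hK'idx] at h
      exact h.symm
    have hmax : ∀ q : ℕ, q.Prime → q ∣ Nat.card ↥M → q ≤ s := by
      intro q hq hqd
      rw [hcardM] at hqd
      rcases (Nat.Prime.dvd_mul hq).mp hqd with hqK | hqs
      · haveI : Fact q.Prime := ⟨hq⟩
        obtain ⟨k, hk⟩ := exists_prime_orderOf_dvd_card' q hqK
        obtain ⟨kk, hkk⟩ : ∃ kk : V ≃ₗ[ZMod s] V, kk = ((k : ↥M) : V ≃ₗ[ZMod s] V) := ⟨_, rfl⟩
        have hkkK : kk ∈ K := by
          rw [hkk, hmemK _ (k : ↥M).2]; exact k.2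
        have hkkord : orderOf kk = q := by
          rw [hkk, Subgroup.orderOf_coe, Subgroup.orderOf_coe, hk]
        have hkk1 : kk ≠ 1 := by
          intro h
          rw [h, orderOf_one] at hkkord
          exact hq.ne_one hkkord.symm
        by_contra hlt
        push Not at hlt
        apply hkk1
        apply LinearEquiv.ext
        intro v
        show kk v = v
        revert v
        apply horb (fun v => kk v = v)
        · simp
        · intro u w hu hw; rw [map_add, hu, hw]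
        · intro u hu; rw [map_neg, hu]
        · intro g' hg'
          obtain ⟨c, hc⟩ := horbK g' hg' kk hkkK
          have hgx0 : g' x ≠ 0 := fun h => hx0 (g'.injective (h.trans (map_zero g').symm))
          have hcq : c ^ q = 1 := by
            have h1 := linEquiv_pow_eig kk hc q
            rw [← hkkord, pow_orderOf_eq_one] at h1
            have h3 : (1 - c ^ orderOf kk) • g' x = 0 := by
              rw [sub_smul, one_smul, ← h1]; exact sub_self _
            rcases smul_eq_zero.mp h3 with h4 | h4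
            · rw [hkkord] at h4; exact (sub_eq_zero.mp h4).symm
            · exact absurd h4 hgx0
          have hc0 : c ≠ 0 := by
            rintro rfl
            rw [zero_pow hq.ne_zero] at hcq
            exact zero_ne_one hcq
          have hcs : c ^ (s - 1) = 1 := ZMod.pow_card_sub_one_eq_one hc0
          have hc1 : c = 1 := by
            have hd1 : orderOf c ∣ q := orderOf_dvd_of_pow_eq_one hcq
            have hd2 : orderOf c ∣ s - 1 := orderOf_dvd_of_pow_eq_one hcs
            rcases (Nat.dvd_prime hq).mp hd1 with h | h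
            · exact orderOf_eq_one_iff.mp h
            · exfalso
              rw [h] at hd2
              have : q ≤ s - 1 := Nat.le_of_dvd (by have := hrp.two_le; omega) hd2
              omega
          rw [hc, hc1, one_smul]
      · exact Nat.le_of_dvd hrp.pos hqs
    have hsdvd : s ∣ Nat.card ↥M := by rw [hcardM]; exact Dvd.intro_left _ rfl
    obtain ⟨R, hRn, hRcard⟩ :=
      Cfsg.Agent.Lib.Helper1.exists_normal_card_eq_largest_prime ↥M hM s hrp hsdvd hmax
    have hRbot : R ≠ ⊥ := by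
      intro h
      rw [h, Subgroup.card_bot] at hRcard
      exact hrp.ne_one hRcard.symm
    obtain ⟨⟨ρ', hρ'R⟩, hρ'1⟩ := Subgroup.ne_bot_iff_exists_ne_one.mp hRbot
    have hρ'1' : ρ' ≠ 1 := fun h => hρ'1 (Subtype.ext h)
    have hρ'ord : orderOf ρ' = s := by
      have h1 : orderOf ρ' ∣ s := by
        have := orderOf_dvd_natCard (⟨ρ', hρ'R⟩ : ↥R)
        rwa [hRcard, Subgroup.orderOf_mk] at this
      rcases (Nat.dvd_prime hrp).mp h1 with h | h
      · exact absurd (orderOf_eq_one_iff.mp h) hρ'1'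
      · exact h
    have hRz : R = Subgroup.zpowers ρ' := by
      symm
      apply Subgroup.eq_of_le_of_card_ge (Subgroup.zpowers_le.mpr hρ'R)
      rw [Nat.card_zpowers, hρ'ord, hRcard]
    obtain ⟨ρ, hρ⟩ : ∃ ρ : V ≃ₗ[ZMod s] V, ρ = (ρ' : V ≃ₗ[ZMod s] V) := ⟨_, rfl⟩
    have hρord : orderOf ρ = s := by rw [hρ, Subgroup.orderOf_coe, hρ'ord]
    have hρ1 : ρ ≠ 1 := by
      intro h
      rw [h, orderOf_one] at hρord
      exact hrp.ne_one hρord.symm
    have hpg : IsPGroup s ↥(Subgroup.zpowers ρ) := by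
      apply IsPGroup.of_card (n := 1)
      rw [Nat.card_zpowers, hρord, pow_one]
    have hsV : s ∣ Nat.card V := by
      obtain ⟨v, hv⟩ := exists_ne (0 : V)
      have h1 : s • v = 0 := by
        rw [← Nat.cast_smul_eq_nsmul (ZMod s), ZMod.natCast_self, zero_smul]
      have h2 : addOrderOf v ∣ s := addOrderOf_dvd_of_nsmul_eq_zero h1
      rcases (Nat.dvd_prime hrp).mp h2 with h | h
      · exact absurd (AddMonoid.addOrderOf_eq_one_iff.mp h) hv
      · rw [← h]; exact addOrderOf_dvd_natCard v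
    have h0fix : (0 : V) ∈ MulAction.fixedPoints ↥(Subgroup.zpowers ρ) V := by
      intro m
      exact smul_zero m
    obtain ⟨b, hbfix, hb0⟩ :=
      hpg.exists_fixed_point_of_prime_dvd_card_of_fixed_point V hsV h0fix
    have hρb : ρ b = b := by
      have := hbfix ⟨ρ, Subgroup.mem_zpowers ρ⟩
      exact this
    have hall : ∀ v : V, ρ v = v := by
      apply hirrP (fun v => ρ v = v)
      · exact map_zero ρ
      · intro u w hu hw; rw [map_add, hu, hw]
      · intro u hu; rw [map_neg, hu]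
      · intro φ hφ u hu
        -- `φ⁻¹ ρ φ ∈ ⟨ρ⟩`
        have h1 : (⟨φ, hφ⟩ : ↥M)⁻¹ * ρ' * (⟨φ, hφ⟩ : ↥M)⁻¹⁻¹ ∈ R :=
          hRn.conj_mem ρ' hρ'R _
        rw [hRz] at h1
        obtain ⟨j, hj⟩ := Subgroup.mem_zpowers_iff.mp h1
        have h2 : ρ ^ j = φ⁻¹ * ρ * φ := by
          have := congrArg (fun m : ↥M => (m : V ≃ₗ[ZMod s] V)) hj
          simp only [Subgroup.coe_zpow, Subgroup.coe_mul, Subgroup.coe_inv, inv_inv] at this
          rw [hρ]; exact this
        have h3 : (ρ ^ j) u = u := by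
          have hstab : ρ ∈ MulAction.stabilizer (V ≃ₗ[ZMod s] V) u := hu
          have := Subgroup.zpow_mem _ hstab j
          exact this
        rw [h2] at h3
        have h4 : ρ (φ u) = φ ((φ⁻¹ * ρ * φ) u) := by
          show (ρ * φ) u = (φ * (φ⁻¹ * ρ * φ)) u
          have e : ρ * φ = φ * (φ⁻¹ * ρ * φ) := by group
          rw [e]
        rw [h4, h3]
      · exact ⟨b, hρb, fun h => hb0 h.symm⟩
    exact hρ1 (LinearEquiv.ext hall)
  · have hKg := hK g hgM s hs hsr ⟨e, hge⟩
    by_cases hA : ∀ k ∈ K, ∀ c : ZMod r, k x = c • x → k (g x) = c • g x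
    · -- `K` acts by scalars
      have hA' : ∀ k ∈ K, ∀ c : ZMod r, k x = c • x → (g⁻¹ * k * g) x = c • x := by
        intro k hk c hc
        have h1 := hA k hk c hc
        have h2 : g ((g⁻¹ * k * g) x) = k (g x) := by
          show (g * (g⁻¹ * k * g)) x = (k * g) x
          have e : g * (g⁻¹ * k * g) = k * g := by group
          rw [e]
        apply g.injective
        rw [h2, h1, map_smul]
      have hall : ∀ v : V, ∀ k ∈ K, ∀ c : ZMod r, k x = c • x → k v = c • v := by
        apply hirrP (fun v => ∀ k ∈ K, ∀ c : ZMod r, k x = c • x → k v = c • v)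
        · intro k _ c _; rw [map_zero, smul_zero]
        · intro u w hu hw k hk c hc; rw [map_add, hu k hk c hc, hw k hk c hc, smul_add]
        · intro u hu k hk c hc; rw [map_neg, hu k hk c hc, smul_neg]
        · intro φ hφ u hu
          apply hgen (fun v => ∀ k ∈ K, ∀ c : ZMod r, k x = c • x → k v = c • v) ?_ ?_ φ hφ u hu
          · intro k' hk' v hv k hk c hc
            have e : k (k' v) = k' (k v) := by
              show (k * k') v = (k' * k) v
              rw [hKcomm k hk k' hk']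
            rw [e, hv k hk c hc, map_smul]
          · intro v hv k hk c hc
            have h1 := hv _ (hconjK g hgM k hk) c (hA' k hk c hc)
            have h2 : k (g v) = g ((g⁻¹ * k * g) v) := by
              show (k * g) v = (g * (g⁻¹ * k * g)) v
              have e : k * g = g * (g⁻¹ * k * g) := by group
              rw [e]
            rw [h2, h1, map_smul]
        · exact ⟨x, fun k _ c hc => hc, hx0⟩
      obtain ⟨c, hc⟩ := hKg x
      by_cases hw : g x - x = 0
      · exact heig x hx0 hxK ⟨1, by rw [one_smul]; exact sub_eq_zero.mp hw⟩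
      · apply heig (g x - x) hw ?_ ⟨c, hc⟩
        intro k hk
        obtain ⟨d, hd⟩ := hxK k hk
        exact ⟨d, hall _ k hk d hd⟩
    · -- two distinct characters: contradiction
      exfalso
      push Not at hA
      obtain ⟨k₀, hk₀K, a₀, hk₀x, hk₀y⟩ := hA
      obtain ⟨k₁, hk₁K, t, e₁, ht, hk₁ord, a, b, hk₁x, hk₁y, hab⟩ : ∃ k₁ ∈ K, ∃ t e₁ : ℕ,
          t.Prime ∧ orderOf k₁ = t ^ e₁ ∧ ∃ a b : ZMod r, k₁ x = a • x ∧ k₁ (g x) = b • g x ∧
            a ≠ b := by
        by_contra hcon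
        push Not at hcon
        have hP := prop_of_prime_power_parts
          (fun k : V ≃ₗ[ZMod r] V => ∀ c : ZMod r, k x = c • x → k (g x) = c • g x) ?_ k₀
          (isOfFinOrder_of_finite k₀) ?_ ?_
        · exact hk₀y (hP a₀ hk₀x)
        · intro c hc
          have h1 : (1 - c) • x = 0 := by
            have : x = c • x := hc
            rw [sub_smul, one_smul, ← this, sub_self]
          have hc1 : c = 1 := by
            rcases smul_eq_zero.mp h1 with h | h
            · exact (sub_eq_zero.mp h).symm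
            · exact absurd h hx0
          rw [hc1, one_smul]; rfl
        · intro k hk k' hk' hPk hPk' c hc
          have hkK : k ∈ K := (Subgroup.zpowers_le.mpr hk₀K) hk
          have hk'K : k' ∈ K := (Subgroup.zpowers_le.mpr hk₀K) hk'
          obtain ⟨c', hc'⟩ := hxK k' hk'K
          obtain ⟨c'', hc''⟩ := hxK k hkK
          have h1 : (k * k') x = (c' * c'') • x := by
            show k (k' x) = _
            rw [hc', map_smul, hc'', smul_smul]
          have hcc : c = c' * c'' := by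
            have h2 : (c - c' * c'') • x = 0 := by rw [sub_smul, ← hc, h1, sub_self]
            rcases smul_eq_zero.mp h2 with h | h
            · exact sub_eq_zero.mp h
            · exact absurd h hx0
          show k (k' (g x)) = c • g x
          rw [hPk' c' hc', map_smul, hPk c'' hc'', smul_smul, hcc]
        · rintro k hk ⟨t, e₁, ht, hord⟩ c hc
          have hkK : k ∈ K := (Subgroup.zpowers_le.mpr hk₀K) hk
          obtain ⟨b, hb⟩ := horbK g hgM k hkK
          have := hcon k hkK t e₁ ht hord c b hc hb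
          rw [this]; exact hb
      obtain ⟨y, hy⟩ : ∃ y : V, y = g x := ⟨_, rfl⟩
      rw [← hy] at hk₁y
      have hy0 : y ≠ 0 := by
        intro h
        rw [hy] at h
        exact hx0 (g.injective (h.trans (map_zero g).symm))
      have hind := indep_of_eig k₁ hx0 hy0 hab hk₁x hk₁y
      have hk₁M := hKM hk₁K
      have htr : t ≠ r := by
        rintro rfl
        exact hab ((eig_eq_one_of_orderOf_char hk₁ord hx0 hk₁x).trans
          (eig_eq_one_of_orderOf_char hk₁ord hy0 hk₁y).symm)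
      have hab1 : a = 1 ∨ b = 1 := by
        rcases eig_pair k₁ (hK k₁ hk₁M t ht htr ⟨e₁, hk₁ord⟩) hind hk₁x hk₁y with h | h | h
        · exact Or.inl h
        · exact Or.inr h
        · exact absurd h hab
      obtain ⟨c, hc⟩ := hKg x
      rw [← hy] at hc
      have hgy : g y = (1 + c) • y - c • x := by
        rw [map_sub, ← hy] at hc
        have h1 : g y = y + c • (y - x) := by rw [← hc]; abel
        rw [h1]; module
      obtain ⟨l, hl⟩ : ∃ l : ZMod r, k₁ (g y) = l • g y := by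
        have := horbK (g * g) (M.mul_mem hgM hgM) k₁ hk₁K
        rw [hy]; exact this
      have hc' : c = -1 := by
        rw [hgy, map_sub, map_smul, map_smul, hk₁x, hk₁y] at hl
        have key : (c * (l - a)) • x + ((1 + c) * (b - l)) • y = 0 := by
          have h0 := sub_eq_zero.mpr hl
          rw [← h0]; module
        obtain ⟨h1, h2⟩ := hind _ _ key
        by_contra hcn
        have hc0 : c ≠ 0 := by
          rintro rfl
          rw [zero_smul, sub_zero, add_zero, one_smul, hy] at hgy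
          have hyx : g x = x := g.injective hgy
          have h3 := hind 1 (-1) (by rw [one_smul, neg_one_smul, hy, hyx]; exact add_neg_cancel x)
          exact one_ne_zero h3.1
        have h1c : 1 + c ≠ 0 := fun h => hcn (by linear_combination h)
        have e1 : l = a := by
          rcases mul_eq_zero.mp h1 with h | h
          · exact absurd h hc0
          · exact sub_eq_zero.mp h
        have e2 : b = l := by
          rcases mul_eq_zero.mp h2 with h | h
          · exact absurd h h1c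
          · exact sub_eq_zero.mp h
        exact hab (e1.symm.trans e2.symm)
      have hgyx : g y = x := by rw [hgy, hc']; module
      have hspan : ∀ v : V, ∃ c d : ZMod r, v = c • x + d • y := by
        apply hirrP (fun v => ∃ c d : ZMod r, v = c • x + d • y)
        · exact ⟨0, 0, by simp⟩
        · rintro u w ⟨c, d, rfl⟩ ⟨c', d', rfl⟩; exact ⟨c + c', d + d', by module⟩
        · rintro u ⟨c, d, rfl⟩; exact ⟨-c, -d, by module⟩
        · intro φ hφ u hu
          apply hgen (fun v => ∃ c d : ZMod r, v = c • x + d • y) ?_ ?_ φ hφ u hu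
          · rintro k hk v ⟨c, d, rfl⟩
            obtain ⟨c₁, h₁⟩ := hxK k hk
            obtain ⟨c₂, h₂⟩ := horbK g hgM k hk
            rw [← hy] at h₂
            exact ⟨c * c₁, d * c₂, by
              rw [map_add, map_smul, map_smul, h₁, h₂, smul_smul, smul_smul]⟩
          · rintro v ⟨c, d, rfl⟩
            exact ⟨d, c, by rw [map_add, map_smul, map_smul, hgyx, ← hy, add_comm]⟩
        · exact ⟨x, ⟨1, 0, by simp⟩, hx0⟩
      rcases hab1 with ha | hb
      · -- `a = 1`: swap the roles of `x` and `y`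
        have hind' : ∀ c d : ZMod r, c • y + d • x = 0 → c = 0 ∧ d = 0 := by
          intro c d h
          have := hind d c (by rw [add_comm]; exact h)
          exact ⟨this.2, this.1⟩
        have hspan' : ∀ v : V, ∃ c d : ZMod r, v = c • y + d • x := by
          intro v
          obtain ⟨c, d, h⟩ := hspan v
          exact ⟨d, c, by rw [h, add_comm]⟩
        exact swap_config_false M K hK hKM hKcomm hKnorm g k₁ hgM hk₁K t e₁ ht htr hk₁ord y x b hy0
          hind' hspan' hgyx hy.symm hk₁y (by rw [hk₁x, ha, one_smul])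
          (fun h => hab (ha.trans h.symm))
      · exact swap_config_false M K hK hKM hKcomm hKnorm g k₁ hgM hk₁K t e₁ ht htr hk₁ord x y a hx0
          hind hspan hy.symm hgyx hk₁x (by rw [hk₁y, hb, one_smul])
          (fun h => hab (h.trans hb.symm))

end Cfsg.Agent.Lib.Helper7
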