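import Mathlib
import Cfsg.Prelude.Def_SolvableStructure
import Cfsg.Agent.Lib.Helper7.SSPairB
import Cfsg.Agent.Lib.Helper7.HSubC
import Cfsg.Agent.Lib.Helper1.PNilpotentLocal
import Cfsg.Agent.Lib.Helper1.Huppert8
import Cfsg.Agent.Lib.Helper1.ItoPNilpotent
import Cfsg.Agent.Lib.Helper1.MinimalNormal

/-!
Concrete reductions for S3033: a finite group in which, for distinct primes `p`, `q`, every
`p`-element `x` and `q`-element `g` generate with `x, gxg⁻¹` a subgroup of order not divisible by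
`q²`, is supersolvable.
-/

set_option autoImplicit false
open scoped IsMulCommutative

universe u

namespace Cfsg.Agent.Lib.Helper7

open Cfsg Cfsg.Agent.Lib.Helper1

/-- The hypothesis of S3033. -/
def PairHyp (G : Type*) [Group G] : Prop :=
  ∀ (p q : ℕ), p.Prime → q.Prime → p ≠ q → ∀ (x g : G), (∃ a : ℕ, orderOf x = p ^ a) →
    (∃ b : ℕ, orderOf g = q ^ b) →
    ¬ q ^ 2 ∣ Nat.card ↥(Subgroup.zpowers x ⊔ Subgroup.zpowers (g * x * g⁻¹))

theorem exists_prime_power_lift {G G' : Type*} [Group G] [Group G'] (f : G →* G') {p : ℕ}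
    (hp : p.Prime) (x₀ : G) (hx₀ : IsOfFinOrder x₀) {a : ℕ} (ha : orderOf (f x₀) = p ^ a) :
    ∃ x ∈ Subgroup.zpowers x₀, f x = f x₀ ∧ ∃ a' : ℕ, orderOf x = p ^ a' := by
  have hn0 : orderOf x₀ ≠ 0 := (orderOf_pos_iff.mpr hx₀).ne'
  obtain ⟨e, m, hm, hem⟩ := Nat.exists_eq_pow_mul_and_not_dvd hn0 p hp.ne_one
  have hcop : Nat.Coprime (p ^ a) m :=
    Nat.Coprime.pow_left a ((Nat.Prime.coprime_iff_not_dvd hp).mpr hm)
  obtain ⟨s, y, hbez⟩ : ∃ s y : ℤ, ((p ^ a : ℕ) : ℤ) * s + (m : ℤ) * y = 1 := by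
    refine ⟨Nat.gcdA (p ^ a) m, Nat.gcdB (p ^ a) m, ?_⟩
    have := Nat.gcd_eq_gcd_ab (p ^ a) m
    rw [hcop.gcd_eq_one] at this
    rw [← this]; rfl
  refine ⟨x₀ ^ ((m : ℤ) * y), Subgroup.zpow_mem_zpowers x₀ _, ?_, ?_⟩
  · have h1 : (m : ℤ) * y = 1 - ((p ^ a : ℕ) : ℤ) * s := by linarith
    rw [map_zpow, h1, zpow_sub, zpow_one, zpow_mul, zpow_natCast, ← ha, pow_orderOf_eq_one,
      one_zpow, inv_one, mul_one]
  · have h2 : (x₀ ^ ((m : ℤ) * y)) ^ (p ^ e) = 1 := by
      rw [← zpow_natCast, ← zpow_mul]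
      have : (m : ℤ) * y * ((p ^ e : ℕ) : ℤ) = ((p ^ e * m : ℕ) : ℤ) * y := by push_cast; ring
      rw [this, zpow_mul, zpow_natCast, ← hem, pow_orderOf_eq_one, one_zpow]
    obtain ⟨k, _, hk⟩ := (Nat.dvd_prime_pow hp).mp (orderOf_dvd_of_pow_eq_one h2)
    exact ⟨k, hk⟩

theorem PairHyp.subgroup {G : Type*} [Group G] (h : PairHyp G) (H : Subgroup G) : PairHyp ↥H := by
  intro p q hp hq hpq x g hx hg hdvd
  apply h p q hp hq hpq (x : G) (g : G)
  · rwa [Subgroup.orderOf_coe]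
  · rwa [Subgroup.orderOf_coe]
  · have e : (Subgroup.zpowers x ⊔ Subgroup.zpowers (g * x * g⁻¹)).map H.subtype =
        Subgroup.zpowers (x : G) ⊔ Subgroup.zpowers ((g : G) * x * (g : G)⁻¹) := by
      rw [Subgroup.map_sup, MonoidHom.map_zpowers, MonoidHom.map_zpowers]
      rfl
    rw [← e, Subgroup.card_map_of_injective H.subtype_injective]
    exact hdvd

theorem PairHyp.of_surjective {G G' : Type*} [Group G] [Finite G] [Group G'] (h : PairHyp G)
    (f : G →* G') (hf : Function.Surjective f) : PairHyp G' := by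
  rintro p q hp hq hpq x' g' ⟨a, ha⟩ ⟨b, hb⟩ hdvd
  obtain ⟨x₀, rfl⟩ := hf x'
  obtain ⟨g₀, rfl⟩ := hf g'
  obtain ⟨x, -, hfx, hx⟩ := exists_prime_power_lift f hp x₀ (isOfFinOrder_of_finite x₀) ha
  obtain ⟨g, -, hfg, hg⟩ := exists_prime_power_lift f hq g₀ (isOfFinOrder_of_finite g₀) hb
  apply h p q hp hq hpq x g hx hg
  have e : (Subgroup.zpowers x ⊔ Subgroup.zpowers (g * x * g⁻¹)).map f =
      Subgroup.zpowers (f x₀) ⊔ Subgroup.zpowers (f g₀ * f x₀ * (f g₀)⁻¹) := by
    rw [Subgroup.map_sup, MonoidHom.map_zpowers, MonoidHom.map_zpowers, map_mul, map_mul, map_inv,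
      hfx, hfg]
  rw [← e] at hdvd
  exact dvd_trans hdvd (Subgroup.card_map_dvd _ f)

/-- A supersolvable group has a normal `p`-complement for the smallest prime divisor `p`. -/
theorem hasNormalPComplement_of_isSupersolvable_of_min_prime {G : Type u} [Group G] [Finite G]
    (hG : IsSupersolvable G) {p : ℕ} [hp : Fact p.Prime]
    (hmin : ∀ q : ℕ, q.Prime → q ∣ Nat.card G → p ≤ q) : HasNormalPComplement p G := by
  rw [hasNormalPComplement_iff_frobeniusCondition]
  intro Q hQ g hg hgo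
  obtain ⟨X, hXdef⟩ : ∃ X : Subgroup G, X = Q ⊔ Subgroup.zpowers g := ⟨_, rfl⟩
  have hQX : Q ≤ X := by rw [hXdef]; exact le_sup_left
  have hgX : g ∈ X := by rw [hXdef]; exact Subgroup.mem_sup_right (Subgroup.mem_zpowers g)
  have hXnorm : X ≤ Subgroup.normalizer (Q : Set G) := by
    rw [hXdef]
    exact sup_le Subgroup.le_normalizer (by rw [Subgroup.zpowers_le]; exact hg)
  have hYn : (Q.subgroupOf X).Normal :=
    (Subgroup.normal_subgroupOf_iff_le_normalizer hQX).mpr hXnorm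
  have hYp : IsPGroup p ↥(Q.subgroupOf X) := hQ.comap_subtype
  have hXss : IsSupersolvable ↥X := isSupersolvable_subgroup hG X
  have hcop := coprime_of_min_prime hmin g
  obtain ⟨m, hm⟩ := exists_pow_eq_self_of_coprime hcop.symm
  have key := Huppert.actsTrivially_of_isSupersolvable ↥X hXss inferInstance p hp.out
    (Q.subgroupOf X) hYn hYp ⟨g, hgX⟩ (by rw [← Subgroup.orderOf_coe]; exact hgo)
    (Or.inr ⟨⟨g, hgX⟩ ^ m, Subtype.ext (by
      rw [Subgroup.coe_pow, Subgroup.coe_pow, ← pow_mul, mul_comm, pow_mul]; exact hm.symm)⟩)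
  rw [Subgroup.mem_centralizer_iff]
  intro y hy
  have := key ⟨y, hQX hy⟩ (Subgroup.mem_subgroupOf.mpr hy)
  exact (congrArg Subtype.val this).symm

/-- A finite group all of whose proper subgroups are supersolvable is solvable. -/
theorem isSolvable_of_proper_isSupersolvable {G : Type u} [Group G] [Finite G]
    (h : ∀ H : Subgroup G, H ≠ ⊤ → IsSupersolvable ↥H) : Group.IsSolvable G := by
  rcases subsingleton_or_nontrivial G with hs | hnt
  · exact isSolvable_of_comm (fun a b => Subsingleton.elim _ _)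
  have hcard : 1 < Nat.card G := Finite.one_lt_card
  have hpp : (Nat.card G).minFac.Prime := Nat.minFac_prime (by omega)
  obtain ⟨p, hpdef⟩ : ∃ p, p = (Nat.card G).minFac := ⟨_, rfl⟩
  haveI hp : Fact p.Prime := ⟨by rw [hpdef]; exact hpp⟩
  have hpdvd : p ∣ Nat.card G := by rw [hpdef]; exact Nat.minFac_dvd _
  have hmin : ∀ q : ℕ, q.Prime → q ∣ Nat.card G → p ≤ q := fun q hq hqd => by
    rw [hpdef]; exact Nat.minFac_le_of_dvd hq.two_le hqd
  have hprop : ∀ H : Subgroup G, H ≠ ⊤ → HasNormalPComplement p ↥H := fun H hH =>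
    hasNormalPComplement_of_isSupersolvable_of_min_prime (h H hH)
      (fun q hq hqd => hmin q hq (dvd_trans hqd (Subgroup.card_subgroup_dvd_card H)))
  by_cases hG : HasNormalPComplement p G
  · obtain ⟨P, N, hNn, hc⟩ := hG
    have hNtop : N ≠ ⊤ := by
      intro hN
      have h1 := hc.card_mul_card
      rw [hN, Subgroup.card_top] at h1
      have h2 : Nat.card ↥(P : Subgroup G) = 1 := by
        have : 0 < Nat.card G := Nat.card_pos
        nlinarith
      exact P.ne_bot_of_dvd_card hpdvd (Subgroup.card_eq_one.mp h2)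
    haveI : Group.IsSolvable ↥N := isSolvable_of_isSupersolvable' (h N hNtop)
    haveI : Group.IsSolvable (G ⧸ N) := by
      have hcardq : Nat.card (G ⧸ N) = Nat.card ↥(P : Subgroup G) := by
        rw [← Subgroup.index_eq_card]; exact hc.symm.index_eq_card
      obtain ⟨n, hn⟩ := P.isPGroup'.exists_card_eq
      haveI : Group.IsNilpotent (G ⧸ N) := (IsPGroup.of_card (hcardq.trans hn)).isNilpotent
      infer_instance
    exact Group.isSolvable_of_ker_le_range N.subtype (QuotientGroup.mk' N)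
      (by rw [QuotientGroup.ker_mk', Subgroup.range_subtype])
  · have hnil := (ito_minimal_non_p_nilpotent hG hprop).1
    exact schmidt (fun M hM => hnil M hM.1)

/-- In a supersolvable group every nontrivial normal subgroup contains a normal cyclic subgroup
`⟨x⟩` with `x ≠ 1`. -/
theorem exists_invariant_zpowers_of_normal_of_isSupersolvable (X : Type u) [Group X] [Finite X]
    (hX : IsSupersolvable X) : ∀ Y : Subgroup X, Y.Normal → Y ≠ ⊥ →
    ∃ x ∈ Y, x ≠ 1 ∧ ∀ h : X, h * x * h⁻¹ ∈ Subgroup.zpowers x := by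
  refine supersolvable_induction_prime
    (fun (X : Type u) [Group X] => ∀ Y : Subgroup X, Y.Normal → Y ≠ ⊥ →
      ∃ x ∈ Y, x ≠ 1 ∧ ∀ h : X, h * x * h⁻¹ ∈ Subgroup.zpowers x) ?_ ?_ X hX
  · intro G _ _ Y _ hY
    exact absurd (Subsingleton.elim Y ⊥) hY
  · intro G _ _ N hNn hNp _ _ ih Y hYn hY
    haveI : Fact (Nat.card ↥N).Prime := ⟨hNp⟩
    by_cases hNY : N ≤ Y
    · have hNbot : N ≠ ⊥ := (Subgroup.one_lt_card_iff_ne_bot N).mp hNp.one_lt
      obtain ⟨n, hn⟩ := (Subgroup.ne_bot_iff_exists_ne_one).mp hNbot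
      refine ⟨n, hNY n.2, fun h1 => hn (Subtype.ext h1), fun h => ?_⟩
      have hmem : h * n * h⁻¹ ∈ N := hNn.conj_mem n n.2 h
      have hz := mem_zpowers_of_prime_card (G := ↥N) rfl (g := n) (g' := ⟨_, hmem⟩) hn
      obtain ⟨z, hz⟩ := Subgroup.mem_zpowers_iff.mp hz
      refine Subgroup.mem_zpowers_iff.mpr ⟨z, ?_⟩
      have := congrArg Subtype.val hz
      rwa [Subgroup.coe_zpow] at this
    · have hinf : ∀ a ∈ N, a ∈ Y → a = 1 := by
        intro a haN haY
        by_contra ha1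
        apply hNY
        intro n hnN
        have hz := mem_zpowers_of_prime_card (G := ↥N) rfl (g := ⟨a, haN⟩) (g' := ⟨n, hnN⟩)
          (fun h => ha1 (congrArg Subtype.val h))
        obtain ⟨z, hz⟩ := Subgroup.mem_zpowers_iff.mp hz
        have h2 : a ^ z = n := by
          have := congrArg Subtype.val hz
          rwa [Subgroup.coe_zpow] at this
        rw [← h2]
        exact Y.zpow_mem haY z
      have hY' : Y.map (QuotientGroup.mk' N) ≠ ⊥ := by
        intro h0
        apply hY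
        rw [eq_bot_iff]
        intro y hy
        have : (QuotientGroup.mk' N) y ∈ Y.map (QuotientGroup.mk' N) :=
          Subgroup.mem_map_of_mem _ hy
        rw [h0, Subgroup.mem_bot, QuotientGroup.mk'_apply, QuotientGroup.eq_one_iff] at this
        exact Subgroup.mem_bot.mpr (hinf y this hy)
      obtain ⟨x', hx'Y, hx'1, hx'⟩ := ih (Y.map (QuotientGroup.mk' N))
        (hYn.map _ (QuotientGroup.mk'_surjective N)) hY'
      obtain ⟨y, hyY, rfl⟩ := hx'Y
      refine ⟨y, hyY, fun h1 => hx'1 (by rw [h1, map_one]), fun h => ?_⟩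
      obtain ⟨z, hz⟩ := Subgroup.mem_zpowers_iff.mp (hx' (QuotientGroup.mk' N h))
      refine Subgroup.mem_zpowers_iff.mpr ⟨z, ?_⟩
      have hmemY : (h * y * h⁻¹)⁻¹ * y ^ z ∈ Y :=
        Y.mul_mem (Y.inv_mem (hYn.conj_mem y hyY h)) (Y.zpow_mem hyY z)
      have hmemN : (h * y * h⁻¹)⁻¹ * y ^ z ∈ N := by
        rw [← QuotientGroup.eq_one_iff]
        show (QuotientGroup.mk' N) ((h * y * h⁻¹)⁻¹ * y ^ z) = 1
        rw [map_mul, map_inv, map_zpow, hz, map_mul, map_mul, map_inv]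
        exact inv_mul_cancel _
      have := hinf _ hmemN hmemY
      exact (inv_mul_eq_one.mp this).symm

end Cfsg.Agent.Lib.Helper7
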