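import Mathlib
import Cfsg.Prelude.Def_SolvableStructure
import Cfsg.Agent.Lib.Helper7.SSPairC

/-!
Core lemma and main induction for S3033.
-/

set_option autoImplicit false
open scoped IsMulCommutative

universe u

namespace Cfsg.Agent.Lib.Helper7

open Cfsg Cfsg.Agent.Lib.Helper1

set_option maxHeartbeats 1000000 in
theorem exists_invariant_zpowers_of_pairHyp {G : Type u} [Group G] [Finite G] (hP : PairHyp G)
    (hsub : ∀ H : Subgroup G, H ≠ ⊤ → IsSupersolvable ↥H)
    (N : Subgroup G) [hNn : N.Normal] (hN1 : N ≠ ⊥)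
    (hmin : ∀ M : Subgroup G, M.Normal → M ≤ N → M = ⊥ ∨ M = N)
    [hcomm : IsMulCommutative ↥N] {r : ℕ} [hr : Fact r.Prime] (hexp : ∀ x ∈ N, x ^ r = 1)
    (hquot : IsSupersolvable (G ⧸ N)) :
    ∃ x ∈ N, x ≠ 1 ∧ ∀ g : G, g * x * g⁻¹ ∈ Subgroup.zpowers x := by
  classical
  haveI : Module (ZMod r) (Additive ↥N) := AddCommGroup.zmodModule (n := r) (by
    intro x
    apply Additive.toMul.injective
    rw [toMul_nsmul, toMul_zero]
    exact Subtype.ext (by rw [Subgroup.coe_pow]; exact hexp _ (Additive.toMul x).2))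
  haveI : Nontrivial ↥N := (Subgroup.nontrivial_iff_ne_bot N).mpr hN1
  haveI : Nontrivial (Additive ↥N) := inferInstance
  haveI : Finite (Additive ↥N) := inferInstance
  obtain ⟨ρ, hρ⟩ : ∃ ρ : G →* (Additive ↥N ≃ₗ[ZMod r] Additive ↥N),
      ∀ (g : G) (n : ↥N), ρ g (Additive.ofMul n) = Additive.ofMul (MulAut.conjNormal g n) := by
    refine ⟨{ toFun := fun g => AddEquiv.toLinearEquiv
                (MulEquiv.toAdditive (MulAut.conjNormal g : ↥N ≃* ↥N))
                (fun c x => ZMod.map_smul _ c x)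
              map_one' := ?_
              map_mul' := ?_ }, fun g n => rfl⟩
    · apply LinearEquiv.ext; intro v
      show Additive.ofMul ((MulAut.conjNormal (1 : G) : ↥N ≃* ↥N) (Additive.toMul v)) = v
      rw [map_one]; rfl
    · intro g₁ g₂
      apply LinearEquiv.ext; intro v
      show Additive.ofMul ((MulAut.conjNormal (g₁ * g₂) : ↥N ≃* ↥N) (Additive.toMul v)) =
        Additive.ofMul ((MulAut.conjNormal g₁ : ↥N ≃* ↥N) (Additive.toMul (Additive.ofMul
          ((MulAut.conjNormal g₂ : ↥N ≃* ↥N) (Additive.toMul v)))))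
      rw [map_mul]; rfl
  have hρN : ∀ n ∈ N, ρ n = 1 := by
    intro n hn
    apply LinearEquiv.ext; intro v
    have hex : ∃ w : ↥N, v = Additive.ofMul w := ⟨Additive.toMul v, rfl⟩
    obtain ⟨w, hw0⟩ := hex
    rw [hw0]
    rw [hρ]
    show Additive.ofMul (MulAut.conjNormal n w) = Additive.ofMul w
    congr 1
    apply Subtype.ext
    rw [MulAut.conjNormal_apply]
    have hc : (⟨n, hn⟩ : ↥N) * w = w * ⟨n, hn⟩ := hcomm.is_comm.comm _ _
    have hc' : n * (w : G) = w * n := congrArg Subtype.val hc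
    rw [hc', mul_inv_cancel_right]
  have hNker : N ≤ ρ.rangeRestrict.ker := by
    intro n hn
    rw [MonoidHom.mem_ker]
    apply Subtype.ext
    exact hρN n hn
  have hMss : IsSupersolvable ↥ρ.range :=
    isSupersolvable_of_surjective (QuotientGroup.lift N ρ.rangeRestrict hNker)
      (by
        intro m
        obtain ⟨g, hg⟩ := ρ.rangeRestrict_surjective m
        exact ⟨QuotientGroup.mk' N g, by
          rw [QuotientGroup.mk'_apply, QuotientGroup.lift_mk]; exact hg⟩) hquot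
  -- irreducibility
  have hirr : ∀ W : AddSubgroup (Additive ↥N), (∀ φ ∈ ρ.range, ∀ v ∈ W, φ v ∈ W) →
      W = ⊥ ∨ W = ⊤ := by
    intro W hW
    let L : Subgroup G :=
      { carrier := {g | ∃ h : g ∈ N, Additive.ofMul (⟨g, h⟩ : ↥N) ∈ W}
        one_mem' := ⟨N.one_mem, W.zero_mem⟩
        mul_mem' := by
          rintro a b ⟨ha, ha'⟩ ⟨hb, hb'⟩
          exact ⟨N.mul_mem ha hb, W.add_mem ha' hb'⟩
        inv_mem' := by
          rintro a ⟨ha, ha'⟩
          exact ⟨N.inv_mem ha, W.neg_mem ha'⟩ }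
    have hLn : L.Normal := by
      constructor
      rintro n ⟨hn, hn'⟩ g
      refine ⟨hNn.conj_mem n hn g, ?_⟩
      have := hW (ρ g) ⟨g, rfl⟩ _ hn'
      rw [hρ] at this
      have e : (MulAut.conjNormal g (⟨n, hn⟩ : ↥N) : ↥N) =
          ⟨g * n * g⁻¹, hNn.conj_mem n hn g⟩ := Subtype.ext (MulAut.conjNormal_apply g _)
      rwa [e] at this
    have hLN : L ≤ N := fun g hg => hg.1
    rcases hmin L hLn hLN with h | h
    · left
      rw [eq_bot_iff]
      intro v hv
      have hmem : ((Additive.toMul v : ↥N) : G) ∈ L := ⟨(Additive.toMul v).2, hv⟩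
      rw [h, Subgroup.mem_bot] at hmem
      rw [AddSubgroup.mem_bot]
      have h1 : Additive.toMul v = 1 := Subtype.ext hmem
      exact Additive.toMul.injective h1
    · right
      rw [eq_top_iff]
      intro v _
      have hmem : ((Additive.toMul v : ↥N) : G) ∈ L := by rw [h]; exact (Additive.toMul v).2
      obtain ⟨_, h2⟩ := hmem
      exact h2
  -- scalar action on commutator spaces
  have hK : ∀ φ ∈ ρ.range, ∀ t : ℕ, t.Prime → t ≠ r → (∃ e : ℕ, orderOf φ = t ^ e) →
      ∀ v : Additive ↥N, ∃ c : ZMod r, φ (φ v - v) = c • (φ v - v) := by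
    rintro φ ⟨g₀, rfl⟩ t ht htr ⟨e, he⟩ v
    obtain ⟨g₁, -, hg₁, hg₁o⟩ :=
      exists_prime_power_lift ρ ht g₀ (isOfFinOrder_of_finite g₀) he
    rw [← hg₁]
    have hex : ∃ u : ↥N, v = Additive.ofMul u := ⟨Additive.toMul v, rfl⟩
    obtain ⟨u, hu0⟩ := hex
    rw [hu0]
    have huo : ∃ b : ℕ, orderOf (u : G) = r ^ b :=
      exists_orderOf_eq_prime_pow_iff.mpr ⟨1, by rw [pow_one]; exact hexp _ u.2⟩
    have hH := hP t r ht hr.out htr g₁ (u : G) hg₁o huo
    obtain ⟨D, hD⟩ : ∃ D : Subgroup G,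
        D = Subgroup.zpowers g₁ ⊔ Subgroup.zpowers ((u : G) * g₁ * (u : G)⁻¹) := ⟨_, rfl⟩
    rw [← hD] at hH
    have hg₁D : g₁ ∈ D := by rw [hD]; exact Subgroup.mem_sup_left (Subgroup.mem_zpowers _)
    have hcD : (u : G) * g₁ * (u : G)⁻¹ ∈ D := by
      rw [hD]; exact Subgroup.mem_sup_right (Subgroup.mem_zpowers _)
    obtain ⟨w, hw⟩ : ∃ w : ↥N, w = MulAut.conjNormal g₁ u * u⁻¹ := ⟨_, rfl⟩
    have hwv : ρ g₁ (Additive.ofMul u) - Additive.ofMul u = Additive.ofMul w := by
      rw [hρ, hw, ← div_eq_mul_inv, ofMul_div]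
    have hwG : (w : G) = g₁ * u * g₁⁻¹ * (u : G)⁻¹ := by
      rw [hw, Subgroup.coe_mul, MulAut.conjNormal_apply, Subgroup.coe_inv]
    have hwD : (w : G) ∈ D := by
      rw [hwG]
      have e1 : g₁ * u * g₁⁻¹ * (u : G)⁻¹ = g₁ * ((u : G) * g₁ * (u : G)⁻¹)⁻¹ := by group
      rw [e1]
      exact D.mul_mem hg₁D (D.inv_mem hcD)
    rw [hwv, hρ]
    by_cases hw1 : w = 1
    · refine ⟨0, ?_⟩
      rw [hw1, map_one, zero_smul]; rfl
    have hpg : IsPGroup r ↥(D ⊓ N) := by
      intro x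
      refine ⟨1, Subtype.ext ?_⟩
      rw [pow_one, Subgroup.coe_pow, Subgroup.coe_one]
      exact hexp _ x.2.2
    obtain ⟨k, hk⟩ := hpg.exists_card_eq
    have hk1 : k ≤ 1 := by
      by_contra hk2
      push Not at hk2
      apply hH
      calc r ^ 2 ∣ r ^ k := pow_dvd_pow r hk2
        _ = Nat.card ↥(D ⊓ N) := hk.symm
        _ ∣ Nat.card ↥D := Subgroup.card_dvd_of_le inf_le_left
    have hwDN : (w : G) ∈ D ⊓ N := ⟨hwD, w.2⟩
    have hcard : Nat.card ↥(D ⊓ N) = r := by
      have hk0 : k ≠ 0 := by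
        rintro rfl
        rw [pow_zero, Subgroup.card_eq_one] at hk
        rw [hk, Subgroup.mem_bot] at hwDN
        exact hw1 (Subtype.ext hwDN)
      have hk' : k = 1 := by omega
      rw [hk, hk', pow_one]
    have hcw : g₁ * (w : G) * g₁⁻¹ ∈ D ⊓ N :=
      ⟨D.mul_mem (D.mul_mem hg₁D hwD) (D.inv_mem hg₁D), hNn.conj_mem _ w.2 _⟩
    have hz := mem_zpowers_of_prime_card (G := ↥(D ⊓ N)) hcard (g := ⟨w, hwDN⟩) (g' := ⟨_, hcw⟩)
      (fun h => hw1 (Subtype.ext (congrArg (fun y : ↥(D ⊓ N) => (y : G)) h)))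
    obtain ⟨z, hz⟩ := Subgroup.mem_zpowers_iff.mp hz
    have hz' : (w : G) ^ z = g₁ * (w : G) * g₁⁻¹ := by
      have := congrArg Subtype.val hz
      rwa [Subgroup.coe_zpow] at this
    refine ⟨(z : ZMod r), ?_⟩
    rw [Int.cast_smul_eq_zsmul (ZMod r), ← ofMul_zpow]
    congr 1
    apply Subtype.ext
    rw [MulAut.conjNormal_apply, Subgroup.coe_zpow, hz']
  -- proper subgroups have eigenvectors
  have hE : ∀ K : Subgroup (Additive ↥N ≃ₗ[ZMod r] Additive ↥N), K ≤ ρ.range → K ≠ ρ.range →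
      ∃ v : Additive ↥N, v ≠ 0 ∧ ∀ φ ∈ K, ∃ c : ZMod r, φ v = c • v := by
    intro K hKM hKne
    obtain ⟨H, hHdef⟩ : ∃ H : Subgroup G, H = K.comap ρ := ⟨_, rfl⟩
    have hHtop : H ≠ ⊤ := by
      intro h
      apply hKne
      apply le_antisymm hKM
      rintro _ ⟨g, rfl⟩
      have hg : g ∈ H := by rw [h]; exact Subgroup.mem_top g
      rw [hHdef] at hg
      exact hg
    have hNH : N ≤ H := by
      intro n hn
      rw [hHdef, Subgroup.mem_comap, hρN n hn]
      exact K.one_mem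
    have hHss := hsub H hHtop
    have hYn : (N.subgroupOf H).Normal := inferInstance
    have hYbot : N.subgroupOf H ≠ ⊥ := by
      intro h
      rw [Subgroup.subgroupOf_eq_bot] at h
      apply hN1
      have h2 := h.eq_bot
      rwa [inf_eq_left.mpr hNH] at h2
    obtain ⟨x, hxY, hx1, hx⟩ :=
      exists_invariant_zpowers_of_normal_of_isSupersolvable ↥H hHss _ hYn hYbot
    have hxN : (x : G) ∈ N := Subgroup.mem_subgroupOf.mp hxY
    refine ⟨Additive.ofMul ⟨x, hxN⟩, ?_, ?_⟩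
    · intro h0
      apply hx1
      have h1 : (⟨x, hxN⟩ : ↥N) = 1 := Additive.ofMul.injective h0
      have h2 : ((x : ↥H) : G) = 1 := congrArg Subtype.val h1
      exact Subtype.ext h2
    · intro φ hφ
      obtain ⟨g, rfl⟩ := hKM hφ
      have hgH : g ∈ H := by rw [hHdef]; exact hφ
      obtain ⟨z, hz⟩ := Subgroup.mem_zpowers_iff.mp (hx ⟨g, hgH⟩)
      have hz' : (x : G) ^ z = g * x * g⁻¹ := by
        have := congrArg Subtype.val hz
        rwa [Subgroup.coe_zpow] at this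
      refine ⟨(z : ZMod r), ?_⟩
      rw [hρ, Int.cast_smul_eq_zsmul (ZMod r), ← ofMul_zpow]
      congr 1
      apply Subtype.ext
      rw [MulAut.conjNormal_apply, Subgroup.coe_zpow]
      exact hz'.symm
  obtain ⟨v, hv0, hv⟩ := exists_common_eigenvector_of_scalOnComm ρ.range hMss hirr hK hE
  have hex : ∃ x : ↥N, v = Additive.ofMul x := ⟨Additive.toMul v, rfl⟩
  obtain ⟨x, hx0⟩ := hex
  rw [hx0] at hv0 hv
  refine ⟨x, x.2, ?_, ?_⟩
  · intro h1
    apply hv0
    have hx1 : x = 1 := Subtype.ext h1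
    rw [hx1]; rfl
  · intro g
    obtain ⟨c, hc⟩ := hv (ρ g) ⟨g, rfl⟩
    rw [hρ] at hc
    have hc2 : c • Additive.ofMul x = Additive.ofMul (x ^ c.val) := by
      conv_lhs => rw [← ZMod.natCast_zmod_val c]
      rw [Nat.cast_smul_eq_nsmul (ZMod r), ← ofMul_pow]
    rw [hc2] at hc
    have h3 : (MulAut.conjNormal g x : ↥N) = x ^ c.val := Additive.ofMul.injective hc
    have h4 := congrArg Subtype.val h3
    rw [MulAut.conjNormal_apply, Subgroup.coe_pow] at h4
    rw [h4]
    exact Subgroup.pow_mem _ (Subgroup.mem_zpowers _) _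

theorem isSupersolvable_of_pairHyp_aux : ∀ (n : ℕ) (G : Type u) [Group G] [Finite G],
    Nat.card G = n → PairHyp G → IsSupersolvable G := by
  intro n
  induction n using Nat.strong_induction_on with
  | _ n ih =>
  intro G _ _ hn hP
  rcases subsingleton_or_nontrivial G with hs | hnt
  · exact isSupersolvable_of_subsingleton
  have hsub : ∀ H : Subgroup G, H ≠ ⊤ → IsSupersolvable ↥H := by
    intro H hH
    apply ih (Nat.card ↥H) ?_ ↥H rfl (hP.subgroup H)
    rw [← hn]
    exact lt_of_le_of_ne (Subgroup.card_le_card_group H)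
      (fun h => hH (Subgroup.eq_top_of_card_eq H h))
  haveI : Group.IsSolvable G := isSolvable_of_proper_isSupersolvable hsub
  obtain ⟨N, hNn, hN1, hmin⟩ := exists_minimal_normal (G := G)
  haveI := hNn
  obtain ⟨hcomm, r, hr, hexp⟩ := minimal_normal_of_solvable N hN1 hmin
  haveI : Fact r.Prime := ⟨hr⟩
  haveI := hcomm
  have hquot : IsSupersolvable (G ⧸ N) := by
    apply ih (Nat.card (G ⧸ N)) ?_ (G ⧸ N) rfl
      (hP.of_surjective (QuotientGroup.mk' N) (QuotientGroup.mk'_surjective N))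
    rw [← hn, Subgroup.card_eq_card_quotient_mul_card_subgroup N]
    have h1 : 1 < Nat.card ↥N := (Subgroup.one_lt_card_iff_ne_bot N).mpr hN1
    have h2 : 0 < Nat.card (G ⧸ N) := Nat.card_pos
    nlinarith
  obtain ⟨x, hxN, hx1, hx⟩ := exists_invariant_zpowers_of_pairHyp hP hsub N hN1 hmin hexp hquot
  have hzn : (Subgroup.zpowers x).Normal := zpowers_normal_of_conj_mem x hx
  have hzN : Subgroup.zpowers x = N := by
    rcases hmin _ hzn (by rw [Subgroup.zpowers_le]; exact hxN) with h | h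
    · exfalso; apply hx1
      have hmem : x ∈ Subgroup.zpowers x := Subgroup.mem_zpowers x
      rw [h] at hmem; exact Subgroup.mem_bot.mp hmem
    · exact h
  haveI : IsCyclic ↥N := hzN ▸ (inferInstance : IsCyclic ↥(Subgroup.zpowers x))
  exact isSupersolvable_of_quotient_cyclic N hquot

theorem isSupersolvable_of_pairHyp {G : Type u} [Group G] [Finite G] (h : PairHyp G) :
    IsSupersolvable G :=
  isSupersolvable_of_pairHyp_aux _ G rfl h

end Cfsg.Agent.Lib.Helper7
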