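import Mathlib
import Cfsg.Prelude.Def_Local

/-!
# Farm SSX (S3164): unit STUBS (statements only; each unit is proved in its own file
`Cfsg/Agent/Lib/<HelperN>/SSXVk.lean`, namespace `Cfsg.Agent.Lib.<HelperN>.SSX`, theorem `Vk`,
same binder list as here). This file is never imported by a proved row.
Paper proof: tip "NOMINATE S3164" (helper7). Notation: `a = r * t * r⁻¹ * t⁻¹`, `s = r * t * r⁻¹ = a * t`,
`K = centralizer A`.
-/

set_option autoImplicit false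

namespace Cfsg.Agent.Lib.Helper7.SSXStubs

open Cfsg

/-- V0: cyclic Sylow 2-subgroups give 2-rank at most 1. -/
theorem V0 {H : Type*} [Group H] [Finite H]
    (hcyc : ∀ R : Sylow 2 H, IsCyclic ↥(R : Subgroup H)) : Cfsg.PRankLE 2 1 H := by
  sorry

/-- V1: extraction of `r` with `a = [r,t] ≠ 1`, `a ∈ A`, `r⁻¹ a r ∈ A`. -/
theorem V1 {G : Type*} [Group G] (A R : Subgroup G) (t : G)
    (hc1 : ⁅R, Subgroup.zpowers t⁆ ≠ ⊥) (hc2 : ⁅R, Subgroup.zpowers t⁆ ≤ A) :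
    ∃ r ∈ R, r * t * r⁻¹ * t⁻¹ ≠ 1 ∧ r * t * r⁻¹ * t⁻¹ ∈ A ∧
      r⁻¹ * (r * t * r⁻¹ * t⁻¹) * r ∈ A := by
  sorry

/-- V1b: `a = [r,t]` is an involution commuting with `t`, not in `C(A)`. -/
theorem V1b {G : Type*} [Group G] (A : Subgroup G)
    (hr : Cfsg.PRankLE 2 1 ↥(Subgroup.centralizer (A : Set G)))
    (t : G) (ht : orderOf t = 2) (htA : t ∈ Subgroup.centralizer (A : Set G))
    (r : G) (ha1 : r * t * r⁻¹ * t⁻¹ ≠ 1) (haA : r * t * r⁻¹ * t⁻¹ ∈ A) :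
    orderOf (r * t * r⁻¹ * t⁻¹) = 2 ∧
      (r * t * r⁻¹ * t⁻¹) * t = t * (r * t * r⁻¹ * t⁻¹) ∧
      r * t * r⁻¹ * t⁻¹ ∉ Subgroup.centralizer (A : Set G) := by
  sorry

/-- V2 (INV): a subgroup of even order normalized by an involution `t` contains an involution
commuting with `t`. -/
theorem V2 {G : Type*} [Group G] [Finite G] (M : Subgroup G) (hM : Even (Nat.card ↥M))
    (t : G) (ht : orderOf t = 2) (hn : ∀ m ∈ M, t * m * t⁻¹ ∈ M) :
    ∃ z ∈ M, orderOf z = 2 ∧ z * t = t * z := by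
  sorry

/-- V3 (GU5): if `C(t) ≤ N(A)`, `A` quasisimple and `M ⊴ G` does not contain `A`, then
`C_M(t) ≤ C(A)`. -/
theorem V3 {G : Type*} [Group G] [Finite G] (A : Subgroup G) (hq : Cfsg.IsQuasisimple ↥A)
    (t : G) (hCt : ∀ x : G, x * t = t * x → x ∈ Subgroup.normalizer (A : Set G))
    (M : Subgroup G) [M.Normal] (hAM : ¬ A ≤ M) (m : G) (hm : m ∈ M) (hmt : m * t = t * m) :
    m ∈ Subgroup.centralizer (A : Set G) := by
  sorry

/-- V4: `[A, O(G)] = 1`. -/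
theorem V4 {G : Type*} [Group G] [Finite G] (A : Subgroup G) (hq : Cfsg.IsQuasisimple ↥A)
    (hr : Cfsg.PRankLE 2 1 ↥(Subgroup.centralizer (A : Set G)))
    (t : G) (ht : orderOf t = 2) (htA : t ∈ Subgroup.centralizer (A : Set G))
    (hCt : ∀ x : G, x * t = t * x → x ∈ Subgroup.normalizer (A : Set G))
    (r : G) (ha1 : r * t * r⁻¹ * t⁻¹ ≠ 1) (haA : r * t * r⁻¹ * t⁻¹ ∈ A)
    (haA' : r⁻¹ * (r * t * r⁻¹ * t⁻¹) * r ∈ A) :
    ⁅A, Cfsg.oddCore G⁆ = ⊥ := by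
  sorry

/-- V5 (KEY): every normal subgroup of even order contains `A`. -/
theorem V5 {G : Type*} [Group G] [Finite G] (A : Subgroup G) (hq : Cfsg.IsQuasisimple ↥A)
    (hr : Cfsg.PRankLE 2 1 ↥(Subgroup.centralizer (A : Set G)))
    (t : G) (ht : orderOf t = 2) (htA : t ∈ Subgroup.centralizer (A : Set G))
    (hCt : ∀ x : G, x * t = t * x → x ∈ Subgroup.normalizer (A : Set G))
    (r : G) (ha1 : r * t * r⁻¹ * t⁻¹ ≠ 1) (haA : r * t * r⁻¹ * t⁻¹ ∈ A)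
    (M : Subgroup G) [M.Normal] (hM : Even (Nat.card ↥M)) : A ≤ M := by
  sorry

/-- V6: `A ≤ E(G)`. -/
theorem V6 {G : Type*} [Group G] [Finite G] (A : Subgroup G) (hq : Cfsg.IsQuasisimple ↥A)
    (a : G) (haA : a ∈ A) (ha : orderOf a = 2)
    (hO : ⁅A, Cfsg.oddCore G⁆ = ⊥)
    (hkey : ∀ M : Subgroup G, M.Normal → Even (Nat.card ↥M) → A ≤ M) : A ≤ Cfsg.layer G := by
  sorry

/-- V7: a perfect normal subgroup inside the layer is its own layer. -/
theorem V7 {G : Type*} [Group G] [Finite G] (X : Subgroup G) [X.Normal]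
    (hXE : X ≤ Cfsg.layer G) (hperf : ⁅X, X⁆ = X) : Cfsg.layer ↥X = ⊤ := by
  sorry

/-- V8: if `G` has no nontrivial normal 2-subgroup then the centre of a normal subgroup has odd
order. -/
theorem V8 {G : Type*} [Group G] [Finite G] (X : Subgroup G) [X.Normal]
    (h2 : ∀ Q : Subgroup G, Q.Normal → IsPGroup 2 ↥Q → Q = ⊥) :
    Odd (Nat.card ↥(Subgroup.center ↥X)) := by
  sorry

/-- V9: KEY implies there is no nontrivial normal 2-subgroup. -/
theorem V9 {G : Type*} [Group G] [Finite G] (A : Subgroup G) (hq : Cfsg.IsQuasisimple ↥A)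
    (hkey : ∀ M : Subgroup G, M.Normal → Even (Nat.card ↥M) → A ≤ M)
    (Q : Subgroup G) (hQn : Q.Normal) (hQ : IsPGroup 2 ↥Q) : Q = ⊥ := by
  sorry

end Cfsg.Agent.Lib.Helper7.SSXStubs
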