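import Mathlib

/-!
# Farm SSX (S3164), unit V1: extraction of `r ∈ R` with `a = [r,t] ≠ 1`, `a ∈ A`, `r⁻¹ a r ∈ A`.
-/

set_option autoImplicit false

namespace Cfsg.Agent.Lib.Helper7.SSX

theorem V1 {G : Type*} [Group G] (A R : Subgroup G) (t : G)
    (hc1 : ⁅R, Subgroup.zpowers t⁆ ≠ ⊥) (hc2 : ⁅R, Subgroup.zpowers t⁆ ≤ A) :
    ∃ r ∈ R, r * t * r⁻¹ * t⁻¹ ≠ 1 ∧ r * t * r⁻¹ * t⁻¹ ∈ A ∧
      r⁻¹ * (r * t * r⁻¹ * t⁻¹) * r ∈ A := by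
  have hmem : ∀ r ∈ R, r * t * r⁻¹ * t⁻¹ ∈ A := by
    intro r hr
    apply hc2
    have := Subgroup.commutator_mem_commutator hr (Subgroup.mem_zpowers t)
    rwa [commutatorElement_def] at this
  have hmem' : ∀ r ∈ R, r⁻¹ * (r * t * r⁻¹ * t⁻¹) * r ∈ A := by
    intro r hr
    have h1 := hmem r⁻¹ (R.inv_mem hr)
    have h2 := A.inv_mem h1
    have : (r⁻¹ * t * r⁻¹⁻¹ * t⁻¹)⁻¹ = r⁻¹ * (r * t * r⁻¹ * t⁻¹) * r := by group
    rwa [this] at h2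
  by_contra hcon
  apply hc1
  rw [Subgroup.commutator_eq_bot_iff_le_centralizer]
  intro r hr
  have h1 : r * t * r⁻¹ * t⁻¹ = 1 := by
    by_contra hne
    exact hcon ⟨r, hr, hne, hmem r hr, hmem' r hr⟩
  have hc : Commute r t := by
    show r * t = t * r
    calc r * t = (r * t * r⁻¹ * t⁻¹) * (t * r) := by group
      _ = t * r := by rw [h1, one_mul]
  rw [Subgroup.mem_centralizer_iff]
  intro h hh
  obtain ⟨k, rfl⟩ := Subgroup.mem_zpowers_iff.1 hh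
  exact ((hc.zpow_right k).eq).symm

end Cfsg.Agent.Lib.Helper7.SSX
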