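import Mathlib
import Cfsg.Prelude.Def_Local
import Cfsg.Agent.Lib.Helper4.SRCU0

/-!
# Farm SSX (S3164), unit V1b: `a = [r,t]` is an involution commuting with `t`, not in `C(A)`.
-/

set_option autoImplicit false

namespace Cfsg.Agent.Lib.Helper7.SSX

open Cfsg

theorem V1b {G : Type*} [Group G] (A : Subgroup G)
    (hr : Cfsg.PRankLE 2 1 ↥(Subgroup.centralizer (A : Set G)))
    (t : G) (ht : orderOf t = 2) (htA : t ∈ Subgroup.centralizer (A : Set G))
    (r : G) (ha1 : r * t * r⁻¹ * t⁻¹ ≠ 1) (haA : r * t * r⁻¹ * t⁻¹ ∈ A) :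
    orderOf (r * t * r⁻¹ * t⁻¹) = 2 ∧
      (r * t * r⁻¹ * t⁻¹) * t = t * (r * t * r⁻¹ * t⁻¹) ∧
      r * t * r⁻¹ * t⁻¹ ∉ Subgroup.centralizer (A : Set G) := by
  obtain ⟨a, hadef⟩ : ∃ a : G, a = r * t * r⁻¹ * t⁻¹ := ⟨_, rfl⟩
  rw [← hadef] at ha1 haA ⊢
  have ht2 : t ^ 2 = 1 := by rw [← ht]; exact pow_orderOf_eq_one t
  have ht1 : t ≠ 1 := by
    intro h
    rw [h, orderOf_one] at ht
    exact absurd ht (by norm_num)
  have hat : a * t = t * a := (Subgroup.mem_centralizer_iff.1 htA) a haA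
  have hsat : a * t = r * t * r⁻¹ := by rw [hadef]; group
  have hs2 : (a * t) ^ 2 = 1 := by
    rw [hsat, conj_pow, ht2]; group
  have ha2 : a ^ 2 = 1 := by
    have h := (show Commute a t from hat).mul_pow 2
    rw [hs2, ht2, mul_one] at h
    exact h.symm
  haveI : Fact (Nat.Prime 2) := ⟨Nat.prime_two⟩
  refine ⟨orderOf_eq_prime ha2 ha1, hat, ?_⟩
  intro haK
  have hsK : a * t ∈ Subgroup.centralizer (A : Set G) := Subgroup.mul_mem _ haK htA
  have hst : (a * t) * t = t * (a * t) := by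
    rw [← mul_assoc, ← hat]
  have h := Cfsg.Agent.Lib.Helper4.SRC.U0 hr
    (a := (⟨t, htA⟩ : ↥(Subgroup.centralizer (A : Set G))))
    (b := (⟨a * t, hsK⟩ : ↥(Subgroup.centralizer (A : Set G))))
    (Subtype.ext ht2) (Subtype.ext hs2) (Subtype.ext hst.symm)
    (fun h => ht1 (congrArg Subtype.val h))
  rcases h with h | h
  · have h1 : a * t = 1 := congrArg Subtype.val h
    rw [hsat] at h1
    apply ht1
    have : r * t * r⁻¹ = r * 1 * r⁻¹ := by rw [h1]; group
    exact mul_left_cancel (mul_right_cancel this)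
  · have h1 : a * t = t := congrArg Subtype.val h
    apply ha1
    have : a * t = 1 * t := by rw [h1, one_mul]
    exact mul_right_cancel this

end Cfsg.Agent.Lib.Helper7.SSX
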