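import Mathlib

/-!
# Farm SSX (S3164), unit V2 (INV)

A subgroup of even order normalized by an involution `t` contains an involution commuting
with `t` (fixed-point congruence for the 2-group `⟨t⟩` acting on `M` by conjugation).
-/

set_option autoImplicit false

namespace Cfsg.Agent.Lib.Helper7.SSX

theorem V2 {G : Type*} [Group G] [Finite G] (M : Subgroup G) (hM : Even (Nat.card ↥M))
    (t : G) (ht : orderOf t = 2) (hn : ∀ m ∈ M, t * m * t⁻¹ ∈ M) :
    ∃ z ∈ M, orderOf z = 2 ∧ z * t = t * z := by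
  classical
  haveI : Fact (Nat.Prime 2) := ⟨Nat.prime_two⟩
  have htN : t ∈ Subgroup.normalizer (M : Set G) := Subgroup.mem_normalizer_fintype hn
  obtain ⟨t', ht'⟩ : ∃ t' : ↥(Subgroup.normalizer (M : Set G)), (t' : G) = t := ⟨⟨t, htN⟩, rfl⟩
  have hot' : orderOf t' = 2 := by rw [← Subgroup.orderOf_coe, ht', ht]
  have hZ : IsPGroup 2 ↥(Subgroup.zpowers t') := by
    apply IsPGroup.of_card (n := 1)
    rw [Nat.card_zpowers, hot', pow_one]
  have hmod := hZ.card_modEq_card_fixedPoints ↥M
  have hfix : 2 ∣ Nat.card ↥(MulAction.fixedPoints ↥(Subgroup.zpowers t') ↥M) := by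
    have h2 : 2 ∣ Nat.card ↥M := even_iff_two_dvd.1 hM
    exact (Nat.modEq_zero_iff_dvd.1 (hmod.symm.trans (Nat.modEq_zero_iff_dvd.2 h2)))
  have hset : (((Subgroup.centralizer {t}).subgroupOf M : Subgroup ↥M) : Set ↥M) =
      MulAction.fixedPoints ↥(Subgroup.zpowers t') ↥M := by
    ext m
    simp only [SetLike.mem_coe, Subgroup.mem_subgroupOf, Subgroup.mem_centralizer_singleton_iff,
      MulAction.mem_fixedPoints]
    constructor
    · intro hm z
      obtain ⟨k, hk⟩ := Subgroup.mem_zpowers_iff.1 z.2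
      apply Subtype.ext
      have hval : ((z • m : ↥M) : G) = ((z : ↥(Subgroup.normalizer (M : Set G))) : G) * m *
          ((z : ↥(Subgroup.normalizer (M : Set G))) : G)⁻¹ := rfl
      rw [hval, ← hk]
      have hc : Commute (m : G) t := hm
      have hzk : ((t' ^ k : ↥(Subgroup.normalizer (M : Set G))) : G) = t ^ k := by
        rw [Subgroup.coe_zpow, ht']
      rw [hzk]
      have hc2 : Commute (m : G) (t ^ k) := hc.zpow_right k
      rw [← hc2.eq, mul_inv_cancel_right]
    · intro hm
      have h1 := hm ⟨t', Subgroup.mem_zpowers t'⟩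
      have hval : (((⟨t', Subgroup.mem_zpowers t'⟩ : ↥(Subgroup.zpowers t')) • m : ↥M) : G) =
          (t' : G) * m * (t' : G)⁻¹ := rfl
      have h2 : (t' : G) * m * (t' : G)⁻¹ = m := by rw [← hval, h1]
      rw [ht'] at h2
      calc (m : G) * t = (t * m * t⁻¹) * t := by rw [h2]
        _ = t * m := by group
  have hcard : 2 ∣ Nat.card ↥((Subgroup.centralizer {t}).subgroupOf M) := by
    have : Nat.card ↥((Subgroup.centralizer {t}).subgroupOf M) =
        Nat.card ↥(MulAction.fixedPoints ↥(Subgroup.zpowers t') ↥M) :=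
      congrArg (fun s : Set ↥M => Nat.card ↥s) hset
    rw [this]; exact hfix
  obtain ⟨c, hc⟩ := exists_prime_orderOf_dvd_card' 2 hcard
  refine ⟨((c : ↥M) : G), (c : ↥M).2, ?_, ?_⟩
  · rw [Subgroup.orderOf_coe, Subgroup.orderOf_coe, hc]
  · have := c.2
    rw [Subgroup.mem_subgroupOf, Subgroup.mem_centralizer_singleton_iff] at this
    exact this

end Cfsg.Agent.Lib.Helper7.SSX
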