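import Mathlib
import Cfsg.Prelude.Def_Local
import Cfsg.Prelude.Def_CaseTheorems
import Cfsg.Agent.Lib.Helper2.Components
import Cfsg.Agent.Lib.Helper2.Quasisimple

/-!
# Farm SSX (S3164), unit V3 (GU5)

If `C(t) ≤ N(A)`, `A` quasisimple and `M ⊴ G` does not contain `A`, then `C_M(t) ≤ C(A)`.
The core `centralizes_of_normal` generalises `Helper5.SRCU5.centralizes_of_odd_normal`
(same proof, the parity hypothesis replaced by `¬ P ≤ W`).
-/

set_option autoImplicit false

namespace Cfsg.Agent.Lib.Helper7.SSX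

open Cfsg

/-- A subgroup `C` of a normal subgroup `W` not containing the quasisimple subgroup `P`, with `C`
normalizing `P`, centralizes `P`. -/
theorem centralizes_of_normal {X : Type*} [Group X] (P W : Subgroup X)
    (hq : Cfsg.IsQuasisimple ↥P) [W.Normal] (hPW : ¬ P ≤ W) (C : Subgroup X) (hCW : C ≤ W)
    (hCN : C ≤ Subgroup.normalizer (P : Set X)) : ∀ c ∈ C, ∀ x ∈ P, c * x = x * c := by
  have hnorm : ((W ⊓ P).subgroupOf P).Normal := by
    constructor
    intro n hn g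
    rw [Subgroup.mem_subgroupOf] at hn ⊢
    refine ⟨?_, (g * n * g⁻¹).2⟩
    have := (inferInstance : W.Normal).conj_mem (n : X) hn.1 (g : X)
    simpa using this
  have hcen : (W ⊓ P).subgroupOf P ≤ Subgroup.center ↥P := by
    rcases Cfsg.Agent.Lib.Helper2.isQuasisimple_normal_eq_top_or_le_center hq
      ((W ⊓ P).subgroupOf P) with h | h
    · exfalso
      apply hPW
      intro p hp
      have : (⟨p, hp⟩ : ↥P) ∈ (W ⊓ P).subgroupOf P := by rw [h]; exact Subgroup.mem_top _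
      rw [Subgroup.mem_subgroupOf] at this
      exact this.1
    · exact h
  intro c hc
  have hcW : c ∈ W := hCW hc
  have hcN : c ∈ Subgroup.normalizer (P : Set X) := hCN hc
  have hconj : ∀ x ∈ P, c * x * c⁻¹ ∈ P := fun x hx =>
    (Subgroup.mem_normalizer_iff.mp hcN x).mp hx
  have hz : ∀ x : ↥P, (⟨c * x * c⁻¹ * (x : X)⁻¹, P.mul_mem (hconj x x.2) (P.inv_mem x.2)⟩ : ↥P) ∈
      Subgroup.center ↥P := by
    intro x
    apply hcen
    rw [Subgroup.mem_subgroupOf]
    refine ⟨?_, P.mul_mem (hconj x x.2) (P.inv_mem x.2)⟩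
    have h1 : (x : X) * c⁻¹ * (x : X)⁻¹ ∈ W :=
      (inferInstance : W.Normal).conj_mem c⁻¹ (W.inv_mem hcW) (x : X)
    have := W.mul_mem hcW h1
    simpa [mul_assoc] using this
  let ψ : ↥P →* ↥(Subgroup.center ↥P) :=
    MonoidHom.mk' (fun x => ⟨⟨c * x * c⁻¹ * (x : X)⁻¹, P.mul_mem (hconj x x.2) (P.inv_mem x.2)⟩, hz x⟩)
      (by
        intro a b
        apply Subtype.ext
        apply Subtype.ext
        have hb := Subgroup.mem_center_iff.mp (hz b) a⁻¹
        have hb' : (a : X)⁻¹ * (c * b * c⁻¹ * (b : X)⁻¹) = (c * b * c⁻¹ * (b : X)⁻¹) * (a : X)⁻¹ := by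
          simpa using congrArg (fun y : ↥P => (y : X)) hb
        show c * ((a : X) * (b : X)) * c⁻¹ * ((a : X) * (b : X))⁻¹ =
          (c * a * c⁻¹ * (a : X)⁻¹) * (c * b * c⁻¹ * (b : X)⁻¹)
        calc c * ((a : X) * (b : X)) * c⁻¹ * ((a : X) * (b : X))⁻¹
            = c * a * c⁻¹ * ((c * b * c⁻¹ * (b : X)⁻¹) * (a : X)⁻¹) := by group
          _ = c * a * c⁻¹ * ((a : X)⁻¹ * (c * b * c⁻¹ * (b : X)⁻¹)) := by rw [hb']
          _ = (c * a * c⁻¹ * (a : X)⁻¹) * (c * b * c⁻¹ * (b : X)⁻¹) := by group)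
  intro x hx
  have h1 : ψ ⟨x, hx⟩ = 1 :=
    Cfsg.Agent.Lib.Helper2.hom_eq_one_of_isPerfect hq.1
      (fun a b => by
        apply Subtype.ext
        have := Subgroup.mem_center_iff.mp b.2 (a : ↥P)
        simpa using this) ψ ⟨x, hx⟩
  have h2 : c * x * c⁻¹ * x⁻¹ = 1 := by
    have := congrArg (fun y : ↥(Subgroup.center ↥P) => ((y : ↥P) : X)) h1
    simpa [ψ] using this
  calc c * x = (c * x * c⁻¹ * x⁻¹) * (x * c) := by group
    _ = x * c := by rw [h2, one_mul]

theorem V3 {G : Type*} [Group G] [Finite G] (A : Subgroup G) (hq : Cfsg.IsQuasisimple ↥A)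
    (t : G) (hCt : ∀ x : G, x * t = t * x → x ∈ Subgroup.normalizer (A : Set G))
    (M : Subgroup G) [M.Normal] (hAM : ¬ A ≤ M) (m : G) (hm : m ∈ M) (hmt : m * t = t * m) :
    m ∈ Subgroup.centralizer (A : Set G) := by
  have h := centralizes_of_normal A M hq hAM (Subgroup.zpowers m)
    (by rw [Subgroup.zpowers_le]; exact hm)
    (by rw [Subgroup.zpowers_le]; exact hCt m hmt)
    m (Subgroup.mem_zpowers m)
  rw [Subgroup.mem_centralizer_iff]
  intro x hx
  exact (h x hx).symm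

end Cfsg.Agent.Lib.Helper7.SSX
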