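import Mathlib
import Cfsg.Prelude.Def_Local
import Cfsg.Agent.Lib.Helper7.SSXV1b
import Cfsg.Agent.Lib.Helper7.SSXV3
import Cfsg.Agent.Lib.Helper3.SRCU6v
import Cfsg.Agent.Lib.Helper2.Components
import Cfsg.Agent.Lib.Helper1.FittingCentralizer
import Cfsg.Agent.Lib.Helper1.PLengthOne

/-!
# Farm SSX (S3164), unit V4: `[A, O(G)] = 1`.
-/

set_option autoImplicit false

namespace Cfsg.Agent.Lib.Helper7.SSX

open Cfsg

theorem V4 {G : Type*} [Group G] [Finite G] (A : Subgroup G) (hq : Cfsg.IsQuasisimple ↥A)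
    (hr : Cfsg.PRankLE 2 1 ↥(Subgroup.centralizer (A : Set G)))
    (t : G) (ht : orderOf t = 2) (htA : t ∈ Subgroup.centralizer (A : Set G))
    (hCt : ∀ x : G, x * t = t * x → x ∈ Subgroup.normalizer (A : Set G))
    (r : G) (ha1 : r * t * r⁻¹ * t⁻¹ ≠ 1) (haA : r * t * r⁻¹ * t⁻¹ ∈ A)
    (haA' : r⁻¹ * (r * t * r⁻¹ * t⁻¹) * r ∈ A) :
    ⁅A, Cfsg.oddCore G⁆ = ⊥ := by
  obtain ⟨ha2, hat, haK⟩ := V1b A hr t ht htA r ha1 haA
  obtain ⟨a, hadef⟩ : ∃ a : G, a = r * t * r⁻¹ * t⁻¹ := ⟨_, rfl⟩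
  rw [← hadef] at ha1 haA haA' ha2 hat haK
  obtain ⟨s, hsdef⟩ : ∃ s : G, s = r * t * r⁻¹ := ⟨_, rfl⟩
  have hsat : s = a * t := by rw [hsdef, hadef]; group
  have ht2 : t ^ 2 = 1 := by rw [← ht]; exact pow_orderOf_eq_one t
  have htt : t * t = 1 := by rw [← pow_two]; exact ht2
  have hs2 : orderOf s = 2 := by
    rw [hsdef, ← ht, ← MulAut.conj_apply]
    exact MulEquiv.orderOf_eq _ _
  have hst : s * t = t * s := by
    calc s * t = (a * t) * t := by rw [hsat]
      _ = (t * a) * t := by rw [hat]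
      _ = t * (a * t) := mul_assoc _ _ _
      _ = t * s := by rw [hsat]
  have hne : s ≠ t := by
    intro h
    apply ha1
    have : a * t = 1 * t := by rw [← hsat, h, one_mul]
    exact mul_right_cancel this
  have hts : t * s = a := by
    rw [hsat, ← mul_assoc, ← hat, mul_assoc, htt, mul_one]
  have hWn : (Cfsg.oddCore G).Normal := Cfsg.Agent.Lib.Helper1.pPrimeCore_normal 2
  have hWodd : Odd (Nat.card ↥(Cfsg.oddCore G)) :=
    (Cfsg.Agent.Lib.Helper1.pPrimeCore_card_coprime (G := G) 2).odd_of_right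
  have hAW : ¬ A ≤ Cfsg.oddCore G := by
    intro hle
    have haW : a ∈ Cfsg.oddCore G := hle haA
    have hord : orderOf (⟨a, haW⟩ : ↥(Cfsg.oddCore G)) = 2 := by
      rw [Subgroup.orderOf_mk, ha2]
    have hdvd : 2 ∣ Nat.card ↥(Cfsg.oddCore G) := hord ▸ orderOf_dvd_natCard _
    exact (Nat.not_even_iff_odd.2 hWodd) (even_iff_two_dvd.2 hdvd)
  have h5 : ∀ w ∈ Cfsg.oddCore G, w * t = t * w → w ∈ Subgroup.centralizer (A : Set G) :=
    fun w hw hwt => V3 A hq t hCt (Cfsg.oddCore G) hAW w hw hwt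
  have hcts : ∀ w : G, w * t = t * w → w * s = s * w → w * (t * s) = (t * s) * w := by
    intro w hwt hws
    rw [← mul_assoc, hwt, mul_assoc, hws, mul_assoc]
  have hWD : Cfsg.oddCore G ≤ Subgroup.centralizer {t * s} := by
    apply Cfsg.Agent.Lib.Helper3.SRC.U6 (Cfsg.oddCore G) hWodd t s ht hs2 hst hne
    · intro w hw hwt
      have hwA := h5 w hw hwt
      have hwa : w * a = a * w := ((Subgroup.mem_centralizer_iff.1 hwA) a haA).symm
      have hws : w * s = s * w := by
        rw [hsat, ← mul_assoc, hwa, mul_assoc, hwt, mul_assoc]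
      rw [Subgroup.mem_centralizer_iff]
      intro h hh
      rw [Set.mem_singleton_iff] at hh
      subst hh
      exact (hcts w hwt hws).symm
    · intro w hw hws
      have hw' : r⁻¹ * w * r ∈ Cfsg.oddCore G := by
        have := hWn.conj_mem w hw r⁻¹
        rwa [inv_inv] at this
      have hw't : r⁻¹ * w * r * t = t * (r⁻¹ * w * r) := by
        calc r⁻¹ * w * r * t = r⁻¹ * (w * (r * t * r⁻¹)) * r := by group
          _ = r⁻¹ * ((r * t * r⁻¹) * w) * r := by rw [← hsdef, hws]
          _ = t * (r⁻¹ * w * r) := by group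
      have hw'A := h5 _ hw' hw't
      have hw'a : (r⁻¹ * a * r) * (r⁻¹ * w * r) = (r⁻¹ * w * r) * (r⁻¹ * a * r) :=
        (Subgroup.mem_centralizer_iff.1 hw'A) _ haA'
      have hwa : w * a = a * w := by
        calc w * a = r * ((r⁻¹ * w * r) * (r⁻¹ * a * r)) * r⁻¹ := by group
          _ = r * ((r⁻¹ * a * r) * (r⁻¹ * w * r)) * r⁻¹ := by rw [hw'a]
          _ = a * w := by group
      have hta : t = a⁻¹ * s := by rw [hsat, inv_mul_cancel_left]
      have hwai : w * a⁻¹ = a⁻¹ * w := by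
        calc w * a⁻¹ = a⁻¹ * (a * w) * a⁻¹ := by group
          _ = a⁻¹ * (w * a) * a⁻¹ := by rw [hwa]
          _ = a⁻¹ * w := by group
      have hwt : w * t = t * w := by
        rw [hta, ← mul_assoc, hwai, mul_assoc, hws, mul_assoc]
      rw [Subgroup.mem_centralizer_iff]
      intro h hh
      rw [Set.mem_singleton_iff] at hh
      subst hh
      exact (hcts w hwt hws).symm
    · intro w _ hwts
      rw [Subgroup.mem_centralizer_iff]
      intro h hh
      rw [Set.mem_singleton_iff] at hh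
      subst hh
      exact hwts.symm
  have haC : a ∈ Subgroup.centralizer ((Cfsg.oddCore G : Subgroup G) : Set G) := by
    rw [Subgroup.mem_centralizer_iff]
    intro w hw
    have := (Subgroup.mem_centralizer_iff.1 (hWD hw)) (t * s) (Set.mem_singleton _)
    rw [hts] at this
    exact this.symm
  have hn : ((Subgroup.centralizer ((Cfsg.oddCore G : Subgroup G) : Set G)).subgroupOf A).Normal :=
    inferInstance
  rcases Cfsg.Agent.Lib.Helper2.isQuasisimple_normal_eq_top_or_le_center hq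
    ((Subgroup.centralizer ((Cfsg.oddCore G : Subgroup G) : Set G)).subgroupOf A) with h | h
  · have hAC : A ≤ Subgroup.centralizer ((Cfsg.oddCore G : Subgroup G) : Set G) := by
      rwa [Subgroup.subgroupOf_eq_top] at h
    rw [Subgroup.commutator_eq_bot_iff_le_centralizer]
    exact hAC
  · exfalso
    apply haK
    have hmem : (⟨a, haA⟩ : ↥A) ∈
        (Subgroup.centralizer ((Cfsg.oddCore G : Subgroup G) : Set G)).subgroupOf A := by
      rw [Subgroup.mem_subgroupOf]; exact haC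
    have hc := Subgroup.mem_center_iff.1 (h hmem)
    rw [Subgroup.mem_centralizer_iff]
    intro x hx
    exact congrArg Subtype.val (hc ⟨x, hx⟩)

end Cfsg.Agent.Lib.Helper7.SSX
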