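import Mathlib
import Cfsg.Prelude.Def_Local
import Cfsg.Agent.Lib.Helper7.SSXV1b
import Cfsg.Agent.Lib.Helper7.SSXV2
import Cfsg.Agent.Lib.Helper7.SSXV3
import Cfsg.Agent.Lib.Helper4.SRCU0

/-!
# Farm SSX (S3164), unit V5 (KEY): every normal subgroup of even order contains `A`.
-/

set_option autoImplicit false

namespace Cfsg.Agent.Lib.Helper7.SSX

open Cfsg

theorem V5 {G : Type*} [Group G] [Finite G] (A : Subgroup G) (hq : Cfsg.IsQuasisimple ↥A)
    (hr : Cfsg.PRankLE 2 1 ↥(Subgroup.centralizer (A : Set G)))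
    (t : G) (ht : orderOf t = 2) (htA : t ∈ Subgroup.centralizer (A : Set G))
    (hCt : ∀ x : G, x * t = t * x → x ∈ Subgroup.normalizer (A : Set G))
    (r : G) (ha1 : r * t * r⁻¹ * t⁻¹ ≠ 1) (haA : r * t * r⁻¹ * t⁻¹ ∈ A)
    (M : Subgroup G) [hMn : M.Normal] (hM : Even (Nat.card ↥M)) : A ≤ M := by
  by_contra hAM
  obtain ⟨-, hat, -⟩ := V1b A hr t ht htA r ha1 haA
  have ht2 : t ^ 2 = 1 := by rw [← ht]; exact pow_orderOf_eq_one t
  have ht1 : t ≠ 1 := by
    intro h
    rw [h, orderOf_one] at ht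
    exact absurd ht (by norm_num)
  -- key consequence of rank one: an element of `K` of square one commuting with `t` is `1` or `t`
  have hU0 : ∀ z : G, z ∈ Subgroup.centralizer (A : Set G) → z ^ 2 = 1 → z * t = t * z →
      z = 1 ∨ z = t := by
    intro z hzK hz2 hzt
    have h := Cfsg.Agent.Lib.Helper4.SRC.U0 hr
      (a := (⟨t, htA⟩ : ↥(Subgroup.centralizer (A : Set G))))
      (b := (⟨z, hzK⟩ : ↥(Subgroup.centralizer (A : Set G))))
      (Subtype.ext ht2) (Subtype.ext hz2) (Subtype.ext hzt.symm)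
      (fun h => ht1 (congrArg Subtype.val h))
    rcases h with h | h
    · exact Or.inl (congrArg Subtype.val h)
    · exact Or.inr (congrArg Subtype.val h)
  obtain ⟨z, hzM, hz2, hzt⟩ := V2 M hM t ht (fun m hm => hMn.conj_mem m hm t)
  have hzK : z ∈ Subgroup.centralizer (A : Set G) := V3 A hq t hCt M hAM z hzM hzt
  have hz1 : z ≠ 1 := by
    intro h
    rw [h, orderOf_one] at hz2
    exact absurd hz2 (by norm_num)
  have hzz : z ^ 2 = 1 := by rw [← hz2]; exact pow_orderOf_eq_one z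
  have hzeq : z = t := by
    rcases hU0 z hzK hzz hzt with h | h
    · exact absurd h hz1
    · exact h
  have htM : t ∈ M := hzeq ▸ hzM
  have hsM : r * t * r⁻¹ ∈ M := hMn.conj_mem t htM r
  have hsat : r * t * r⁻¹ = (r * t * r⁻¹ * t⁻¹) * t := by group
  have hst : (r * t * r⁻¹) * t = t * (r * t * r⁻¹) := by
    calc (r * t * r⁻¹) * t = ((r * t * r⁻¹ * t⁻¹) * t) * t := by rw [← hsat]
      _ = (t * (r * t * r⁻¹ * t⁻¹)) * t := by rw [hat]
      _ = t * ((r * t * r⁻¹ * t⁻¹) * t) := mul_assoc _ _ _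
      _ = t * (r * t * r⁻¹) := by rw [← hsat]
  have hsK : r * t * r⁻¹ ∈ Subgroup.centralizer (A : Set G) :=
    V3 A hq t hCt M hAM _ hsM hst
  have hss : (r * t * r⁻¹) ^ 2 = 1 := by
    rw [conj_pow, ht2]; group
  rcases hU0 _ hsK hss hst with h | h
  · apply ht1
    have : r * t * r⁻¹ = r * 1 * r⁻¹ := by rw [h]; group
    have h2 := mul_right_cancel this
    exact mul_left_cancel h2
  · apply ha1
    rw [h, mul_inv_cancel]

end Cfsg.Agent.Lib.Helper7.SSX
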