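import Mathlib
import Cfsg.Agent.Lib.Lead.SWDefs

/-!
# Farm SW (S3211, coordinator lead), unit SL2a

`sl2_inv_unique`, `sl2_sqrt4` (Cayley-Hamilton for `2 × 2` matrices of determinant one over a finite
field of odd order) and the transport `qlike_of_equiv_of` (with the conjugacy statement `sl2_conj4` of
unit SL2b as a hypothesis).
-/

set_option autoImplicit false

namespace Cfsg.Agent.Lib.Helper7.SWSL2a

open Cfsg.Agent.Lib.Lead.SWD

variable {F : Type*} [Field F]

theorem eq_of_coe {x y : Matrix.SpecialLinearGroup (Fin 2) F}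
    (h : (x : Matrix (Fin 2) (Fin 2) F) = (y : Matrix (Fin 2) (Fin 2) F)) : x = y :=
  Matrix.SpecialLinearGroup.ext x y (fun i j => congrFun (congrFun h i) j)

theorem det2 (x : Matrix.SpecialLinearGroup (Fin 2) F) :
    (x : Matrix (Fin 2) (Fin 2) F) 0 0 * (x : Matrix (Fin 2) (Fin 2) F) 1 1
      - (x : Matrix (Fin 2) (Fin 2) F) 0 1 * (x : Matrix (Fin 2) (Fin 2) F) 1 0 = 1 := by
  have h := x.det_coe
  rwa [Matrix.det_fin_two] at h

/-- Cayley-Hamilton -/
theorem ch2 (x : Matrix.SpecialLinearGroup (Fin 2) F) :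
    (x : Matrix (Fin 2) (Fin 2) F) * (x : Matrix (Fin 2) (Fin 2) F) =
      ((x : Matrix (Fin 2) (Fin 2) F) 0 0 + (x : Matrix (Fin 2) (Fin 2) F) 1 1) •
        (x : Matrix (Fin 2) (Fin 2) F) - 1 := by
  have hdet := det2 x
  ext i j
  fin_cases i <;> fin_cases j <;>
    simp [Matrix.mul_apply, Fin.sum_univ_two] <;>
    first | ring1 | linear_combination (-1 : F) * hdet

theorem two_ne_zero_of_odd [Fintype F] (hodd : Odd (Fintype.card F)) : (2 : F) ≠ 0 := by
  apply Ring.two_ne_zero
  intro h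
  have h1 := FiniteField.even_card_of_char_two h
  rcases hodd with ⟨k, hk⟩
  omega

theorem val_sq (x : Matrix.SpecialLinearGroup (Fin 2) F) :
    ((x ^ 2 : Matrix.SpecialLinearGroup (Fin 2) F) : Matrix (Fin 2) (Fin 2) F) =
      (x : Matrix (Fin 2) (Fin 2) F) * (x : Matrix (Fin 2) (Fin 2) F) := by
  rw [pow_two, Matrix.SpecialLinearGroup.coe_mul]

theorem val_neg_one :
    ((-1 : Matrix.SpecialLinearGroup (Fin 2) F) : Matrix (Fin 2) (Fin 2) F) = -1 := by
  rw [Matrix.SpecialLinearGroup.coe_neg, Matrix.SpecialLinearGroup.coe_one]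

theorem val_neg (x : Matrix.SpecialLinearGroup (Fin 2) F) :
    ((-x : Matrix.SpecialLinearGroup (Fin 2) F) : Matrix (Fin 2) (Fin 2) F) =
      -(x : Matrix (Fin 2) (Fin 2) F) :=
  Matrix.SpecialLinearGroup.coe_neg x

theorem val_one :
    ((1 : Matrix.SpecialLinearGroup (Fin 2) F) : Matrix (Fin 2) (Fin 2) F) = 1 :=
  Matrix.SpecialLinearGroup.coe_one

/-- SL2-P1 -/
theorem sl2_inv_unique [Fintype F] (hodd : Odd (Fintype.card F))
    (x : Matrix.SpecialLinearGroup (Fin 2) F) (hx : x ^ 2 = 1) : x = 1 ∨ x = -1 := by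
  have h2 := two_ne_zero_of_odd hodd
  have hch := ch2 x
  have hdet := det2 x
  have hxx : (x : Matrix (Fin 2) (Fin 2) F) * (x : Matrix (Fin 2) (Fin 2) F) = 1 := by
    rw [← val_sq, hx, val_one]
  rw [hxx] at hch
  set X : Matrix (Fin 2) (Fin 2) F := (x : Matrix (Fin 2) (Fin 2) F) with hX
  set s := X 0 0 + X 1 1 with hs
  have h00 : s * X 0 0 = 2 := by
    have h := congrFun (congrFun hch 0) 0
    simp at h
    linear_combination -h
  have h11 : s * X 1 1 = 2 := by
    have h := congrFun (congrFun hch 1) 1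
    simp at h
    linear_combination -h
  have h01 : s * X 0 1 = 0 := by
    have h := congrFun (congrFun hch 0) 1
    simp at h
    rcases h with h | h
    · rw [h, zero_mul]
    · rw [h, mul_zero]
  have h10 : s * X 1 0 = 0 := by
    have h := congrFun (congrFun hch 1) 0
    simp at h
    rcases h with h | h
    · rw [h, zero_mul]
    · rw [h, mul_zero]
  have hs0 : s ≠ 0 := by
    intro h
    rw [h, zero_mul] at h00
    exact h2 h00.symm
  have e01 : X 0 1 = 0 := (mul_eq_zero.mp h01).resolve_left hs0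
  have e10 : X 1 0 = 0 := (mul_eq_zero.mp h10).resolve_left hs0
  have e11 : X 1 1 = X 0 0 := by
    apply mul_left_cancel₀ hs0
    rw [h00, h11]
  have hsq : X 0 0 * X 0 0 = 1 := by
    rw [e01, e11] at hdet
    linear_combination hdet
  rcases mul_self_eq_one_iff.mp hsq with h | h
  · left
    apply eq_of_coe
    rw [val_one, ← hX]
    ext i j
    fin_cases i <;> fin_cases j <;> simp [e01, e10, e11, h]
  · right
    apply eq_of_coe
    rw [val_neg_one, ← hX]
    ext i j
    fin_cases i <;> fin_cases j <;> simp [e01, e10, e11, h]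

/-- SL2-P3 -/
theorem sl2_sqrt4 [Fintype F] (hodd : Odd (Fintype.card F))
    (u v : Matrix.SpecialLinearGroup (Fin 2) F) (huv : u ^ 2 = v ^ 2) (h4 : (u ^ 2) ^ 2 = -1) :
    v = u ∨ v = -u := by
  have h2 := two_ne_zero_of_odd hodd
  have hUV : (u : Matrix (Fin 2) (Fin 2) F) * (u : Matrix (Fin 2) (Fin 2) F) =
      (v : Matrix (Fin 2) (Fin 2) F) * (v : Matrix (Fin 2) (Fin 2) F) := by
    rw [← val_sq, ← val_sq, huv]
  have h4' : ((u : Matrix (Fin 2) (Fin 2) F) * (u : Matrix (Fin 2) (Fin 2) F)) *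
      ((u : Matrix (Fin 2) (Fin 2) F) * (u : Matrix (Fin 2) (Fin 2) F)) = -1 := by
    rw [← val_sq u, ← val_sq (u ^ 2), h4, val_neg_one]
  have chU := ch2 u
  have chV := ch2 v
  have hdU := u.det_coe
  have hdV := v.det_coe
  set U : Matrix (Fin 2) (Fin 2) F := (u : Matrix (Fin 2) (Fin 2) F) with hU
  set V : Matrix (Fin 2) (Fin 2) F := (v : Matrix (Fin 2) (Fin 2) F) with hV'
  set s := U 0 0 + U 1 1 with hs
  set s' := V 0 0 + V 1 1 with hs'
  have hne : ∀ M : Matrix (Fin 2) (Fin 2) F, M = -1 → M * M ≠ -1 := by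
    intro M hM hMM
    rw [hM] at hMM
    have h := congrFun (congrFun hMM 0) 0
    simp at h
    apply h2
    linear_combination h
  have hs0 : s ≠ 0 := by
    intro h
    rw [h, zero_smul, zero_sub] at chU
    exact hne _ chU h4'
  have hs0' : s' ≠ 0 := by
    intro h
    rw [h, zero_smul, zero_sub] at chV
    rw [hUV] at h4'
    exact hne _ chV h4'
  have hsm : s • U = s' • V := by
    have h : s • U - 1 = s' • V - 1 := by rw [← chU, ← chV, hUV]
    exact sub_left_injective h
  have hV : V = (s'⁻¹ * s) • U := by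
    rw [mul_smul, hsm, smul_smul, inv_mul_cancel₀ hs0', one_smul]
  have hdet : (s'⁻¹ * s) * (s'⁻¹ * s) = 1 := by
    have h := hdV
    rw [hV, Matrix.det_smul, hdU, Fintype.card_fin, mul_one, pow_two] at h
    exact h
  rcases mul_self_eq_one_iff.mp hdet with h | h
  · left
    apply eq_of_coe
    rw [← hV', ← hU, hV, h, one_smul]
  · right
    apply eq_of_coe
    rw [val_neg, ← hV', ← hU, hV, h, neg_smul, one_smul]

/-- SL2-T: transport along `e`, with the conjugacy of the elements of order four as a hypothesis -/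
theorem qlike_of_equiv_of {G : Type*} [Group G] [Fintype F] (hodd : Odd (Fintype.card F))
    (hconj : ∀ x y : Matrix.SpecialLinearGroup (Fin 2) F, x ^ 2 = -1 → y ^ 2 = -1 →
      ∃ g : Matrix.SpecialLinearGroup (Fin 2) F, g * x * g⁻¹ = y)
    (L : Subgroup G) (e : ↥L ≃* Matrix.SpecialLinearGroup (Fin 2) F) (j : G) (hjL : j ∈ L)
    (hj : orderOf j = 2) : QLike L j := by
  have h2 := two_ne_zero_of_odd hodd
  have hj2 : j ^ 2 = 1 := by rw [← hj, pow_orderOf_eq_one]
  have hj1 : j ≠ 1 := by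
    intro h
    rw [h, orderOf_one] at hj
    norm_num at hj
  have hej : e ⟨j, hjL⟩ = -1 := by
    have h1 : (e ⟨j, hjL⟩) ^ 2 = 1 := by
      rw [← map_pow]
      have : (⟨j, hjL⟩ : ↥L) ^ 2 = 1 := Subtype.ext hj2
      rw [this, map_one]
    rcases sl2_inv_unique hodd _ h1 with h | h
    · exfalso
      apply hj1
      have h3 : (⟨j, hjL⟩ : ↥L) = 1 := by
        apply e.injective
        rw [h, map_one]
      exact congrArg Subtype.val h3
    · exact h
  refine ⟨hjL, ?_, ?_, ?_⟩
  · intro x hx hx2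
    have h1 : (e ⟨x, hx⟩) ^ 2 = 1 := by
      rw [← map_pow]
      have : (⟨x, hx⟩ : ↥L) ^ 2 = 1 := Subtype.ext hx2
      rw [this, map_one]
    rcases sl2_inv_unique hodd _ h1 with h | h
    · left
      have h3 : (⟨x, hx⟩ : ↥L) = 1 := by
        apply e.injective
        rw [h, map_one]
      exact congrArg Subtype.val h3
    · right
      have h3 : (⟨x, hx⟩ : ↥L) = ⟨j, hjL⟩ := by
        apply e.injective
        rw [h, hej]
      exact congrArg Subtype.val h3
  · intro x hx y hy hx2 hy2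
    have h1 : (e ⟨x, hx⟩) ^ 2 = -1 := by
      rw [← map_pow, ← hej]
      congr 1
      exact Subtype.ext hx2
    have h1' : (e ⟨y, hy⟩) ^ 2 = -1 := by
      rw [← map_pow, ← hej]
      congr 1
      exact Subtype.ext hy2
    obtain ⟨g, hg⟩ := hconj _ _ h1 h1'
    refine ⟨(e.symm g : ↥L).1, (e.symm g).2, ?_⟩
    have h3 : e.symm g * ⟨x, hx⟩ * (e.symm g)⁻¹ = ⟨y, hy⟩ := by
      apply e.injective
      rw [map_mul, map_mul, map_inv, e.apply_symm_apply, hg]
    exact congrArg Subtype.val h3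
  · intro u hu v hv huv h4
    have h1 : (e ⟨u, hu⟩) ^ 2 = (e ⟨v, hv⟩) ^ 2 := by
      rw [← map_pow, ← map_pow]
      congr 1
      exact Subtype.ext huv
    have h1' : ((e ⟨u, hu⟩) ^ 2) ^ 2 = -1 := by
      rw [← map_pow, ← map_pow, ← hej]
      congr 1
      exact Subtype.ext h4
    rcases sl2_sqrt4 hodd _ _ h1 h1' with h | h
    · left
      have h3 : (⟨v, hv⟩ : ↥L) = ⟨u, hu⟩ := e.injective h
      exact congrArg Subtype.val h3
    · right
      have h3 : (⟨v, hv⟩ : ↥L) = ⟨u, hu⟩ * ⟨j, hjL⟩ := by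
        apply e.injective
        rw [h, map_mul, hej, mul_neg, mul_one]
      exact congrArg Subtype.val h3

end Cfsg.Agent.Lib.Helper7.SWSL2a
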