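import Mathlib
import Cfsg.Agent.Lib.Lead.SWDefs
import Cfsg.Agent.Lib.Helper7.SWSL2a
import Cfsg.Agent.Lib.Helper3.SWSL2b

/-!
# Farm SW (S3211, coordinator lead), unit SL2-T: `qlike_of_equiv`, verbatim
-/

set_option autoImplicit false

namespace Cfsg.Agent.Lib.Helper7.SWSL2T

open Cfsg.Agent.Lib.Lead.SWD

variable {G : Type*} [Group G]

/-- SL2-T: transport along `e` -/
theorem qlike_of_equiv {F : Type*} [Field F] [Fintype F] (hodd : Odd (Fintype.card F))
    (L : Subgroup G) (e : ↥L ≃* Matrix.SpecialLinearGroup (Fin 2) F) (j : G) (hjL : j ∈ L)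
    (hj : orderOf j = 2) : QLike L j :=
  Cfsg.Agent.Lib.Helper7.SWSL2a.qlike_of_equiv_of hodd
    (fun x y hx hy => Cfsg.Agent.Lib.Helper3.SWSL2b.sl2_conj4 hodd x y hx hy) L e j hjL hj

end Cfsg.Agent.Lib.Helper7.SWSL2T
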