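import Mathlib
import Cfsg.Prelude.Def_SolvableStructure
import Cfsg.Agent.Lib.Lead.SchSyl
import Cfsg.Agent.Lib.Lead.NilpotentCoprime
import Cfsg.Agent.Lib.Helper1.NilpotentHallAux
import Cfsg.Agent.Lib.Helper1.SchmidtStructure
import Cfsg.Agent.Lib.Helper5.SchSylS

/-!
# S4394, piece S-conc

The nontrivial normal Sylow `p`-subgroup of a minimal non-nilpotent group has the Schmidt-Sylow
property `SSP`.
-/

set_option autoImplicit false

open scoped commutatorElement

namespace Cfsg.Agent.Lib.Helper7.SchSylC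

open Cfsg Cfsg.Agent.Lib.Lead.SchSyl

variable {X : Type*} [Group X]

theorem coprime_orderOf {p q : ℕ} (hp : p.Prime) (hq : q.Prime) (hne : p ≠ q) {H K : Subgroup X}
    (hH : IsPGroup p H) (hK : IsPGroup q K) {a b : X} (ha : a ∈ H) (hb : b ∈ K) :
    (orderOf a).Coprime (orderOf b) := by
  obtain ⟨i, hi⟩ := hH ⟨a, ha⟩
  obtain ⟨j, hj⟩ := hK ⟨b, hb⟩
  have hi' : a ^ (p ^ i) = 1 := congrArg Subtype.val hi
  have hj' : b ^ (q ^ j) = 1 := congrArg Subtype.val hj
  have h1 : orderOf a ∣ p ^ i := orderOf_dvd_of_pow_eq_one hi'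
  have h2 : orderOf b ∣ q ^ j := orderOf_dvd_of_pow_eq_one hj'
  have h3 : (p ^ i).Coprime (q ^ j) := Nat.Coprime.pow i j ((Nat.coprime_primes hp hq).mpr hne)
  exact (h3.coprime_dvd_left h1).coprime_dvd_right h2

theorem commute_of_proper [Finite X]
    (hX2 : ∀ H : Subgroup X, H ≠ ⊤ → Group.IsNilpotent H) {H : Subgroup X} (hH : H ≠ ⊤)
    {a b : X} (ha : a ∈ H) (hb : b ∈ H) (hab : (orderOf a).Coprime (orderOf b)) :
    a * b = b * a := by
  haveI := hX2 H hH
  have h := Cfsg.Agent.Lib.Lead.NilpotentCoprime.commute_of_coprime ↥H inferInstance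
    ⟨a, ha⟩ ⟨b, hb⟩ (by rw [Subgroup.orderOf_mk, Subgroup.orderOf_mk]; exact hab)
  exact congrArg Subtype.val h

/-- **S4394, piece S-conc.** -/
theorem ssp_of_minimal [Finite X] (p : ℕ) [hp : Fact p.Prime]
    (hX : Cfsg.IsMinimalNonNilpotent X) (P : Sylow p X) (hPn : (P : Subgroup X).Normal)
    (hP1 : (P : Subgroup X) ≠ ⊥) : SSP p ↥(P : Subgroup X) := by
  obtain ⟨p1, q1, hp1, hq1, hne, P1, Q1, hcyc, hQ1n, hsup, hnc⟩ :=
    Cfsg.Agent.Lib.Helper1.minimal_non_nilpotent_structure_strong hX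
  haveI hp1F : Fact p1.Prime := ⟨hp1⟩
  haveI hq1F : Fact q1.Prime := ⟨hq1⟩
  have hprop := hX.2
  -- Step A: `p = q1`
  have hpq : p = q1 := by
    by_contra hpq
    have hcop : (Nat.card (P1 : Subgroup X)).Coprime (Nat.card (Q1 : Subgroup X)) :=
      IsPGroup.coprime_card_of_ne p1 q1 hne _ _ P1.isPGroup' Q1.isPGroup'
    have hle : Nat.card X ≤ Nat.card (P1 : Subgroup X) * Nat.card (Q1 : Subgroup X) := by
      haveI := hQ1n
      have h := Cfsg.Agent.Lib.Helper1.card_sup_le_of_normal (P1 : Subgroup X) (Q1 : Subgroup X)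
      rw [hsup, Subgroup.card_top] at h
      exact h
    have hdvd : Nat.card (P1 : Subgroup X) * Nat.card (Q1 : Subgroup X) ∣ Nat.card X :=
      Nat.Coprime.mul_dvd_of_dvd_of_dvd hcop (Subgroup.card_subgroup_dvd_card _)
        (Subgroup.card_subgroup_dvd_card _)
    have hcard : Nat.card X = Nat.card (P1 : Subgroup X) * Nat.card (Q1 : Subgroup X) :=
      le_antisymm hle (Nat.le_of_dvd Nat.card_pos hdvd)
    have hpdvd : p ∣ Nat.card X := by
      have h1 : Nat.card (P : Subgroup X) ≠ 1 := fun h => hP1 (Subgroup.card_eq_one.mp h)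
      have h2 := (P.isPGroup'.card_eq_or_dvd).resolve_left h1
      exact h2.trans (Subgroup.card_subgroup_dvd_card _)
    rw [hcard] at hpdvd
    obtain ⟨a, ha⟩ := IsPGroup.iff_card.mp P1.isPGroup'
    obtain ⟨b, hb⟩ := IsPGroup.iff_card.mp Q1.isPGroup'
    rcases (Nat.Prime.dvd_mul hp.1).mp hpdvd with h | h
    · rw [ha] at h
      have hpp1 : p = p1 := (Nat.prime_dvd_prime_iff_eq hp.1 hp1).mp (hp.1.dvd_of_dvd_pow h)
      subst hpp1
      haveI := Sylow.unique_of_normal P hPn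
      have hPP : P1 = P := Subsingleton.elim _ _
      apply hnc
      intro x hx
      rw [Subgroup.mem_centralizer_iff]
      intro y hy
      have hdis : Disjoint (P1 : Subgroup X) (Q1 : Subgroup X) :=
        IsPGroup.disjoint_of_ne p q1 hne _ _ P1.isPGroup' Q1.isPGroup'
      have hP1n : (P1 : Subgroup X).Normal := by
        rw [hPP]
        exact hPn
      exact (Subgroup.commute_of_normal_of_disjoint _ _ hP1n hQ1n hdis x y hx hy).eq.symm
    · rw [hb] at h
      exact hpq ((Nat.prime_dvd_prime_iff_eq hp.1 hq1).mp (hp.1.dvd_of_dvd_pow h))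
  subst hpq
  -- Step B: `Q1 = P`
  haveI := Sylow.unique_of_normal P hPn
  have hQP : Q1 = P := Subsingleton.elim _ _
  have hnc' : ¬ (P1 : Subgroup X) ≤ Subgroup.centralizer ((P : Subgroup X) : Set X) := by
    rw [← hQP]
    exact hnc
  have hdisj : (P1 : Subgroup X) ⊓ (P : Subgroup X) = ⊥ :=
    disjoint_iff.mp (IsPGroup.disjoint_of_ne p1 p hne _ _ P1.isPGroup' P.isPGroup')
  -- Step C: the generator
  obtain ⟨g, hg⟩ := IsCyclic.exists_generator (α := ↥(P1 : Subgroup X))
  have hP1z : (P1 : Subgroup X) = Subgroup.zpowers (g : X) := by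
    ext x
    constructor
    · intro hx
      obtain ⟨k, hk⟩ := Subgroup.mem_zpowers_iff.mp (hg ⟨x, hx⟩)
      rw [Subgroup.mem_zpowers_iff]
      refine ⟨k, ?_⟩
      have h := congrArg Subtype.val hk
      simpa using h
    · intro hx
      obtain ⟨k, rfl⟩ := Subgroup.mem_zpowers_iff.mp hx
      exact Subgroup.zpow_mem _ g.2 k
  haveI := hPn
  obtain ⟨y, hy⟩ : ∃ y : MulAut ↥(P : Subgroup X), y = MulAut.conjNormal (g : X) := ⟨_, rfl⟩
  have hy_apply : ∀ h : ↥(P : Subgroup X), ((y h : ↥(P : Subgroup X)) : X) = g * h * (g : X)⁻¹ := by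
    intro h
    rw [hy]
    exact MulAut.conjNormal_apply _ _
  -- `y ≠ 1`
  have hyne : y ≠ 1 := by
    intro h1
    apply hnc'
    rw [hP1z, Subgroup.zpowers_le, Subgroup.mem_centralizer_iff]
    intro h hh
    have h2 : (g : X) * h * (g : X)⁻¹ = h := by
      have h3 := hy_apply ⟨h, hh⟩
      rw [h1] at h3
      exact h3.symm
    calc h * (g : X) = ((g : X) * h * (g : X)⁻¹) * g := by rw [h2]
      _ = g * h := by group
  have hg1 : (g : X) ≠ 1 := by
    intro h
    apply hyne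
    rw [hy, h, map_one]
  have hp1o : p1 ∣ orderOf (g : X) := by
    have h1 : orderOf (g : X) ≠ 1 := fun h => hg1 (orderOf_eq_one_iff.mp h)
    obtain ⟨i, hi⟩ := P1.isPGroup' g
    have h2 : (g : X) ^ (p1 ^ i) = 1 := by
      have h := congrArg Subtype.val hi
      simpa using h
    obtain ⟨j, -, hj⟩ := (Nat.dvd_prime_pow hp1).mp (orderOf_dvd_of_pow_eq_one h2)
    rw [hj] at h1 ⊢
    have hj0 : j ≠ 0 := fun h0 => h1 (by rw [h0, pow_zero])
    exact dvd_pow_self p1 hj0
  -- `y ^ p1 = 1`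
  have hHne : (P : Subgroup X) ⊔ Subgroup.zpowers ((g : X) ^ p1) ≠ ⊤ := by
    intro htop
    have hgH : (g : X) ∈ (P : Subgroup X) ⊔ Subgroup.zpowers ((g : X) ^ p1) := by
      rw [htop]
      trivial
    rw [← SetLike.mem_coe, Subgroup.normal_mul] at hgH
    obtain ⟨h, hh, z, hz, hhz⟩ := Set.mem_mul.mp hgH
    rw [SetLike.mem_coe, ← mem_powers_iff_mem_zpowers, Submonoid.mem_powers_iff] at hz
    obtain ⟨k, rfl⟩ := hz
    have hzP1 : ((g : X) ^ p1) ^ k ∈ (P1 : Subgroup X) :=
      Subgroup.pow_mem _ (Subgroup.pow_mem _ g.2 _) _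
    have hh1 : h = 1 := by
      have hhP1 : h ∈ (P1 : Subgroup X) := by
        have h5 : h = (g : X) * (((g : X) ^ p1) ^ k)⁻¹ := eq_mul_inv_of_mul_eq hhz
        rw [h5]
        exact Subgroup.mul_mem _ g.2 (Subgroup.inv_mem _ hzP1)
      have h6 : h ∈ (P1 : Subgroup X) ⊓ (P : Subgroup X) := ⟨hhP1, hh⟩
      rw [hdisj] at h6
      exact Subgroup.mem_bot.mp h6
    rw [hh1, one_mul, ← pow_mul] at hhz
    have h3 : (g : X) ^ (p1 * k) = (g : X) ^ 1 := by rw [hhz, pow_one]
    rw [pow_eq_pow_iff_modEq] at h3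
    have h4 := h3.of_dvd hp1o
    unfold Nat.ModEq at h4
    rw [Nat.mul_mod_right, Nat.mod_eq_of_lt hp1.one_lt] at h4
    exact absurd h4 (by norm_num)
  have hgp : ∀ a ∈ (P : Subgroup X), (g : X) ^ p1 * a = a * (g : X) ^ p1 := by
    intro a ha
    apply commute_of_proper hprop hHne (Subgroup.mem_sup_right (Subgroup.mem_zpowers _))
      (Subgroup.mem_sup_left ha)
    exact coprime_orderOf hp1 hp.1 hne P1.isPGroup' P.isPGroup' (Subgroup.pow_mem _ g.2 _) ha
  have hpow : y ^ p1 = 1 := by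
    rw [hy, ← map_pow]
    apply MulEquiv.ext
    intro a
    apply Subtype.ext
    rw [MulAut.conjNormal_apply, MulAut.one_apply, hgp a a.2, mul_inv_cancel_right]
  -- invariant proper subgroups are fixed pointwise
  have hinv : ∀ A : Subgroup ↥(P : Subgroup X), A.map y.toMonoidHom = A → A ≠ ⊤ →
      ∀ a ∈ A, y a = a := by
    intro A hA hAne a ha
    obtain ⟨A', hA'⟩ : ∃ A' : Subgroup X, A' = A.map (P : Subgroup X).subtype := ⟨_, rfl⟩
    have hA'P : A' ≤ (P : Subgroup X) := by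
      rw [hA']
      exact Subgroup.map_subtype_le A
    have hmemA' : ∀ (x : X) (hx : x ∈ (P : Subgroup X)),
        x ∈ A' ↔ (⟨x, hx⟩ : ↥(P : Subgroup X)) ∈ A := by
      intro x hx
      rw [hA', Subgroup.mem_map]
      constructor
      · rintro ⟨b, hb, hbx⟩
        have : b = ⟨x, hx⟩ := Subtype.ext hbx
        rw [← this]
        exact hb
      · intro h
        exact ⟨⟨x, hx⟩, h, rfl⟩
    have hgN : (g : X) ∈ Subgroup.normalizer (A' : Set X) := by
      rw [Subgroup.mem_normalizer_iff]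
      intro h
      constructor
      · intro hh
        have hhP := hA'P hh
        have h1 : (⟨h, hhP⟩ : ↥(P : Subgroup X)) ∈ A := (hmemA' h hhP).mp hh
        have h2 : y ⟨h, hhP⟩ ∈ A := by
          have h3 : y.toMonoidHom ⟨h, hhP⟩ ∈ A.map y.toMonoidHom := Subgroup.mem_map_of_mem _ h1
          rw [hA] at h3
          exact h3
        have h3 := (hmemA' _ (y ⟨h, hhP⟩).2).mpr h2
        rw [hy_apply] at h3
        exact h3
      · intro hh
        have hghP := hA'P hh
        have h1 : (⟨(g : X) * h * (g : X)⁻¹, hghP⟩ : ↥(P : Subgroup X)) ∈ A :=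
          (hmemA' _ hghP).mp hh
        rw [← hA, Subgroup.mem_map] at h1
        obtain ⟨b, hb, hbe⟩ := h1
        have h2 : (g : X) * (b : X) * (g : X)⁻¹ = g * h * (g : X)⁻¹ := by
          rw [← hy_apply]
          exact congrArg Subtype.val hbe
        have h3 : (b : X) = h := mul_left_cancel (mul_right_cancel h2)
        rw [← h3]
        exact (hmemA' _ b.2).mpr hb
    have hP1N : (P1 : Subgroup X) ≤ Subgroup.normalizer (A' : Set X) := by
      rw [hP1z, Subgroup.zpowers_le]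
      exact hgN
    have hHA : A' ⊔ (P1 : Subgroup X) ≠ ⊤ := by
      intro htop
      obtain ⟨h0, hh0⟩ : ∃ h0 : ↥(P : Subgroup X), h0 ∉ A := by
        by_contra hcon
        push Not at hcon
        exact hAne (eq_top_iff.mpr (fun x _ => hcon x))
      have hmem : (h0 : X) ∈ A' ⊔ (P1 : Subgroup X) := by
        rw [htop]
        trivial
      rw [← SetLike.mem_coe, Subgroup.coe_mul_of_right_le_normalizer_left A' _ hP1N] at hmem
      obtain ⟨a', ha', x, hx, hax⟩ := Set.mem_mul.mp hmem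
      have hx1 : x = 1 := by
        have hxP : x ∈ (P : Subgroup X) := by
          have h5 : x = a'⁻¹ * (h0 : X) := eq_inv_mul_of_mul_eq hax
          rw [h5]
          exact Subgroup.mul_mem _ (Subgroup.inv_mem _ (hA'P ha')) h0.2
        have h6 : x ∈ (P1 : Subgroup X) ⊓ (P : Subgroup X) := ⟨hx, hxP⟩
        rw [hdisj] at h6
        exact Subgroup.mem_bot.mp h6
      rw [hx1, mul_one] at hax
      apply hh0
      have h7 : (h0 : X) ∈ A' := by
        rw [← hax]
        exact ha'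
      exact (hmemA' _ h0.2).mp h7
    have hcomm : (g : X) * (a : X) = (a : X) * g :=
      commute_of_proper hprop hHA (Subgroup.mem_sup_right g.2)
        (Subgroup.mem_sup_left ((hmemA' _ a.2).mpr ha))
        (coprime_orderOf hp1 hp.1 hne P1.isPGroup' P.isPGroup' g.2 a.2)
    apply Subtype.ext
    rw [hy_apply, hcomm, mul_inv_cancel_right]
  exact Cfsg.Agent.Lib.Helper5.SchSylS.ssp_of_aut
    ⟨P.isPGroup', hinv, hyne, hp1, hne, hpow⟩

end Cfsg.Agent.Lib.Helper7.SchSylC
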