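import Mathlib
import Cfsg.Agent.Lib.Lead.SchSyl
import Cfsg.Agent.Lib.Helper1.PSolvStable2
import Cfsg.Agent.Lib.Helper1.PConstrainedOfPSolvable
import Cfsg.Agent.Lib.Helper1.PSolvSub
import Cfsg.Agent.Lib.Helper7.PCore

/-!
# S4394, piece M-c: the cyclic case

`G` finite `p`-solvable with trivial `p'`-core, `S` a Sylow `p`-subgroup with the Schmidt-Sylow
property `SSP`, `Q = O_p(G)`, and `S = Q ⟨w⟩` with `w ∉ Q`: contradiction.
-/

set_option autoImplicit false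

open scoped commutatorElement

namespace Cfsg.Agent.Lib.Helper7.SchSylMc

open Cfsg Cfsg.Agent.Lib.Lead.SchSyl

section general

variable {G : Type*} [Group G]

theorem index_eq_prime_of_sup_zpowers {H : Type*} [Group H] (N : Subgroup H) [N.Normal] (x : H)
    (p : ℕ) [Fact p.Prime] (hgen : N ⊔ Subgroup.zpowers x = ⊤) (hxp : x ^ p ∈ N) (hx : x ∉ N) :
    N.index = p := by
  have h1 : Subgroup.zpowers (QuotientGroup.mk' N x) = ⊤ := by
    have h := congrArg (Subgroup.map (QuotientGroup.mk' N)) hgen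
    rw [Subgroup.map_sup, QuotientGroup.map_mk'_self, bot_sup_eq, MonoidHom.map_zpowers,
      Subgroup.map_top_of_surjective _ (QuotientGroup.mk'_surjective N)] at h
    exact h
  have h2 : orderOf (QuotientGroup.mk' N x) = p := by
    apply orderOf_eq_prime
    · rw [← map_pow]
      exact (QuotientGroup.eq_one_iff _).mpr hxp
    · intro h
      exact hx ((QuotientGroup.eq_one_iff _).mp h)
  rw [Subgroup.index_eq_card, ← h2, ← Nat.card_zpowers, h1, Subgroup.card_top]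

theorem relIndex_eq_prime_of_sup_zpowers (N H : Subgroup G) (hNH : N ≤ H)
    (hnorm : (N.subgroupOf H).Normal) (x : G) (hxH : x ∈ H) (p : ℕ) [Fact p.Prime]
    (hgen : H ≤ N ⊔ Subgroup.zpowers x) (hxp : x ^ p ∈ N) (hx : x ∉ N) : N.relIndex H = p := by
  haveI := hnorm
  have hsub : H.subtype ⟨x, hxH⟩ = x := rfl
  have hm : (N.subgroupOf H ⊔ Subgroup.zpowers (⟨x, hxH⟩ : H)).map H.subtype
      = N ⊔ Subgroup.zpowers x := by
    rw [Subgroup.map_sup, Subgroup.subgroupOf_map_subtype, MonoidHom.map_zpowers,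
      inf_eq_left.mpr hNH, hsub]
  have hgen' : N.subgroupOf H ⊔ Subgroup.zpowers (⟨x, hxH⟩ : H) = ⊤ := by
    rw [eq_top_iff]
    intro h _
    have h1 : (h : G) ∈ N ⊔ Subgroup.zpowers x := hgen h.2
    rw [← hm] at h1
    obtain ⟨t, ht, hth⟩ := h1
    have : t = h := Subtype.ext hth
    rwa [← this]
  exact index_eq_prime_of_sup_zpowers (N.subgroupOf H) ⟨x, hxH⟩ p hgen'
    (by rw [Subgroup.mem_subgroupOf]; simpa using hxp)
    (by rw [Subgroup.mem_subgroupOf]; exact hx)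

theorem isPGroup_of_forall_coprime [Finite G] {p : ℕ} [hp : Fact p.Prime] (D : Subgroup G)
    (h : ∀ g ∈ D, (orderOf g).Coprime p → g = 1) : IsPGroup p D := by
  rintro ⟨g, hg⟩
  have hn0 : orderOf g ≠ 0 := (orderOf_pos g).ne'
  obtain ⟨a, m, hm, hn⟩ := Nat.exists_eq_pow_mul_and_not_dvd hn0 p hp.1.ne_one
  refine ⟨a, Subtype.ext ?_⟩
  show g ^ (p ^ a) = 1
  apply h _ (D.pow_mem hg _)
  have hd : orderOf (g ^ p ^ a) ∣ m := by
    apply orderOf_dvd_of_pow_eq_one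
    rw [← pow_mul, ← hn, pow_orderOf_eq_one]
  exact Nat.Coprime.coprime_dvd_left hd ((Nat.Prime.coprime_iff_not_dvd hp.1).mpr hm).symm

theorem eq_one_of_isPGroup_of_coprime {p : ℕ} {Q : Subgroup G} (hQp : IsPGroup p Q) {x : G}
    (hx : x ∈ Q) {k : ℕ} (hk : k.Coprime p) (hxk : x ^ k = 1) : x = 1 := by
  obtain ⟨m, hm⟩ := hQp ⟨x, hx⟩
  have hm' : x ^ (p ^ m) = 1 := congrArg Subtype.val hm
  have h1 : x ^ (Nat.gcd k (p ^ m)) = 1 := pow_gcd_eq_one.mpr ⟨hxk, hm'⟩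
  have hg : Nat.gcd k (p ^ m) = 1 := Nat.Coprime.pow_right m hk
  rw [hg, pow_one] at h1
  exact h1

theorem mem_secKer_iff (Q U : Subgroup G) [U.Normal] (g : G) :
    g ∈ (Subgroup.centralizer
      ((Q.map (QuotientGroup.mk' U) : Subgroup (G ⧸ U)) : Set (G ⧸ U))).comap
        (QuotientGroup.mk' U) ↔ ∀ q ∈ Q, ⁅g, q⁆ ∈ U := by
  rw [Subgroup.mem_comap, Subgroup.mem_centralizer_iff]
  have h3 : ∀ q : G, g * q / (q * g) = ⁅g, q⁆ := by
    intro q
    rw [commutatorElement_def, div_eq_mul_inv, mul_inv_rev, ← mul_assoc]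
  constructor
  · intro h q hq
    have h1 := h (QuotientGroup.mk' U q) (Subgroup.mem_map_of_mem _ hq)
    have h2 : ((g * q : G) : G ⧸ U) = ((q * g : G) : G ⧸ U) := by
      rw [QuotientGroup.mk_mul, QuotientGroup.mk_mul]
      exact h1.symm
    rw [QuotientGroup.eq_iff_div_mem, h3] at h2
    exact h2
  · intro h y hy
    rw [SetLike.mem_coe, Subgroup.mem_map] at hy
    obtain ⟨q, hq, rfl⟩ := hy
    show (q : G ⧸ U) * (g : G ⧸ U) = (g : G ⧸ U) * (q : G ⧸ U)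
    rw [← QuotientGroup.mk_mul, ← QuotientGroup.mk_mul, eq_comm, QuotientGroup.eq_iff_div_mem, h3]
    exact h q hq

/-- The centre of `S`, as a subgroup of `G`. -/
def ZS (S : Subgroup G) : Subgroup G := S ⊓ Subgroup.centralizer (S : Set G)

theorem mem_ZS {S : Subgroup G} {x : G} : x ∈ ZS S ↔ x ∈ S ∧ ∀ s ∈ S, s * x = x * s := by
  unfold ZS
  rw [Subgroup.mem_inf, Subgroup.mem_centralizer_iff]
  exact Iff.rfl

/-- elements of exponent `p` in a commutative subgroup -/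
def expSub (Q : Subgroup G) (p : ℕ) (hc : ∀ a ∈ Q, ∀ b ∈ Q, a * b = b * a) : Subgroup G where
  carrier := {x | x ∈ Q ∧ x ^ p = 1}
  mul_mem' := by
    rintro a b ⟨ha, hap⟩ ⟨hb, hbp⟩
    refine ⟨Q.mul_mem ha hb, ?_⟩
    rw [(show Commute a b from hc a ha b hb).mul_pow, hap, hbp, one_mul]
  one_mem' := ⟨Q.one_mem, one_pow _⟩
  inv_mem' := by
    rintro a ⟨ha, hap⟩
    exact ⟨Q.inv_mem ha, by rw [inv_pow, hap, inv_one]⟩

theorem mem_expSub {Q : Subgroup G} {p : ℕ} {hc : ∀ a ∈ Q, ∀ b ∈ Q, a * b = b * a} {x : G} :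
    x ∈ expSub Q p hc ↔ x ∈ Q ∧ x ^ p = 1 := Iff.rfl

theorem expSub_normal (Q : Subgroup G) [hQ : Q.Normal] (p : ℕ)
    (hc : ∀ a ∈ Q, ∀ b ∈ Q, a * b = b * a) : (expSub Q p hc).Normal := by
  refine ⟨fun n hn g => ?_⟩
  rw [mem_expSub] at hn ⊢
  exact ⟨hQ.conj_mem n hn.1 g, by rw [conj_pow, hn.2, mul_one, mul_inv_cancel]⟩

end general

/-- The data of the cyclic case. -/
structure Dat (p : ℕ) (G : Type*) [Group G] where
  S : Subgroup G
  Q : Subgroup G
  w : G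
  hQn : Q.Normal
  hQp : IsPGroup p Q
  hQS : Q ≤ S
  hCQ : Subgroup.centralizer (Q : Set G) ≤ Q
  hmax : ∀ D : Subgroup G, D.Normal → IsPGroup p D → D ≤ Q
  cc : ∀ a ∈ S, ∀ b ∈ S, ⁅a, b⁆ ∈ ZS S
  pc : ∀ a ∈ S, a ^ p ∈ ZS S
  surj : ∀ a ∈ S, a ∉ ZS S → ∀ z ∈ ZS S, ∃ b ∈ S, ⁅a, b⁆ = z
  small : (ZS S).relIndex S = p ^ 2 → p ≠ 3 ∧ (p = 2 → ∀ a ∈ S, a ^ 2 = 1 → a ∈ ZS S)
  hwS : w ∈ S
  hgen : S = Q ⊔ Subgroup.zpowers w
  hwQ : w ∉ Q

namespace Dat

section defs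

variable {p : ℕ} {G : Type*} [Group G] (d : Dat p G)

/-- `Z(S)` -/
abbrev Z : Subgroup G := ZS d.S

/-- the normal closure of `Z(S)` -/
def U : Subgroup G := Subgroup.normalClosure (d.Z : Set G)

instance U_normal : d.U.Normal := Subgroup.normalClosure_normal

theorem Z_le_S : d.Z ≤ d.S := inf_le_left

theorem Z_comm {z : G} (hz : z ∈ d.Z) {s : G} (hs : s ∈ d.S) : s * z = z * s :=
  (mem_ZS.mp hz).2 s hs

theorem Z_le_Q : d.Z ≤ d.Q := by
  intro z hz
  apply d.hCQ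
  rw [Subgroup.mem_centralizer_iff]
  intro q hq
  exact d.Z_comm hz (d.hQS hq)

theorem Z_le_U : d.Z ≤ d.U := Subgroup.le_normalClosure

theorem U_le_Q : d.U ≤ d.Q := by
  have := d.hQn
  exact Subgroup.normalClosure_le_normal (fun z hz => d.Z_le_Q hz)

theorem U_comm {u : G} (hu : u ∈ d.U) {q : G} (hq : q ∈ d.Q) : q * u = u * q := by
  have := d.hQn
  have h : d.U ≤ Subgroup.centralizer (d.Q : Set G) := by
    apply Subgroup.normalClosure_le_normal
    intro z hz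
    rw [SetLike.mem_coe, Subgroup.mem_centralizer_iff]
    intro q hq
    exact d.Z_comm hz (d.hQS hq)
  exact Subgroup.mem_centralizer_iff.mp (h hu) q hq

theorem comm_mul_right {a b c : G} (ha : a ∈ d.S) (hb : b ∈ d.S) (hc : c ∈ d.S) :
    ⁅a, b * c⁆ = ⁅a, b⁆ * ⁅a, c⁆ := by
  have h1 : b * ⁅a, c⁆ = ⁅a, c⁆ * b := d.Z_comm (d.cc a ha c hc) hb
  have h2 : ⁅a, b * c⁆ = ⁅a, b⁆ * (b * ⁅a, c⁆ * b⁻¹) := by
    simp only [commutatorElement_def]
    group
  rw [h2, h1, mul_inv_cancel_right]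

theorem comm_pow_right {a b : G} (ha : a ∈ d.S) (hb : b ∈ d.S) (n : ℕ) :
    ⁅a, b ^ n⁆ = ⁅a, b⁆ ^ n := by
  induction n with
  | zero => simp
  | succ n ih => rw [pow_succ, d.comm_mul_right ha (d.S.pow_mem hb n) hb, ih, pow_succ]

theorem comm_pow_left {a b : G} (ha : a ∈ d.S) (hb : b ∈ d.S) (n : ℕ) :
    ⁅a ^ n, b⁆ = ⁅a, b⁆ ^ n := by
  rw [← commutatorElement_inv b (a ^ n), d.comm_pow_right hb ha n, ← inv_pow,
    commutatorElement_inv]

theorem mem_Z_of_comm {x : G} (hx : x ∈ d.S) (hQ : ∀ q ∈ d.Q, q * x = x * q)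
    (hw : d.w * x = x * d.w) : x ∈ d.Z := by
  rw [mem_ZS]
  refine ⟨hx, ?_⟩
  have h : d.Q ⊔ Subgroup.zpowers d.w ≤ Subgroup.centralizer ({x} : Set G) := by
    apply sup_le
    · intro q hq
      rw [Subgroup.mem_centralizer_iff]
      intro y hy
      rw [Set.mem_singleton_iff] at hy
      rw [hy]
      exact (hQ q hq).symm
    · rw [Subgroup.zpowers_le, Subgroup.mem_centralizer_iff]
      intro y hy
      rw [Set.mem_singleton_iff] at hy
      rw [hy]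
      exact hw.symm
  intro s hs
  have hs' : s ∈ d.Q ⊔ Subgroup.zpowers d.w := by
    rw [← d.hgen]
    exact hs
  have := Subgroup.mem_centralizer_iff.mp (h hs') x (Set.mem_singleton x)
  exact this.symm

end defs

section main

variable {p : ℕ} [hp : Fact p.Prime] {G : Type*} [Group G] [Finite G] (d : Dat p G)

theorem mem_Q_of_centralizes_U {x : G} (hx : x ∈ d.S) (hxU : ∀ u ∈ d.U, u * x = x * u) :
    x ∈ d.Q := by
  have := d.hQn
  haveI hQmap : (d.Q.map (QuotientGroup.mk' d.U)).Normal :=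
    Subgroup.Normal.map d.hQn _ (QuotientGroup.mk'_surjective _)
  obtain ⟨D, hD⟩ : ∃ D : Subgroup G, D = Subgroup.centralizer (d.U : Set G) ⊓
      (Subgroup.centralizer
        ((d.Q.map (QuotientGroup.mk' d.U) : Subgroup (G ⧸ d.U)) : Set (G ⧸ d.U))).comap
          (QuotientGroup.mk' d.U) := ⟨_, rfl⟩
  have hDmem : ∀ g, g ∈ D ↔ (∀ u ∈ (d.U : Set G), u * g = g * u) ∧ ∀ q ∈ d.Q, ⁅g, q⁆ ∈ d.U := by
    intro g
    rw [hD, Subgroup.mem_inf, mem_secKer_iff, Subgroup.mem_centralizer_iff]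
  have hDn : D.Normal := by
    rw [hD]
    infer_instance
  have hDp : IsPGroup p D := by
    apply isPGroup_of_forall_coprime
    intro g hg hcop
    obtain ⟨hgU, hgK⟩ := (hDmem g).mp hg
    have hcomm : ∀ q ∈ d.Q, ⁅g, q⁆ = 1 := by
      intro q hq
      obtain ⟨u, hu⟩ : ∃ u : G, u = ⁅g, q⁆ := ⟨_, rfl⟩
      have huU : u ∈ d.U := by
        rw [hu]
        exact hgK q hq
      have hconj : g * q * g⁻¹ = u * q := by
        rw [hu, commutatorElement_def]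
        group
      have hc : Commute g u := (hgU u huU).symm
      have key : ∀ k : ℕ, g ^ k * q * (g ^ k)⁻¹ = u ^ k * q := by
        intro k
        induction k with
        | zero => simp
        | succ k ih =>
          have e1 : g ^ (k + 1) * q * (g ^ (k + 1))⁻¹ = g * (g ^ k * q * (g ^ k)⁻¹) * g⁻¹ := by
            rw [pow_succ']
            group
          rw [e1, ih]
          have e2 : g * (u ^ k * q) * g⁻¹ = (g * u ^ k * g⁻¹) * (g * q * g⁻¹) := by group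
          rw [e2, hconj, (hc.pow_right k).eq, mul_inv_cancel_right, pow_succ, mul_assoc]
      have h5 := key (orderOf g)
      rw [pow_orderOf_eq_one, one_mul, inv_one, mul_one] at h5
      have h6 : u ^ orderOf g = 1 := by
        have h7 : u ^ orderOf g * q = 1 * q := by
          rw [one_mul]
          exact h5.symm
        exact mul_right_cancel h7
      rw [← hu]
      exact eq_one_of_isPGroup_of_coprime d.hQp (d.U_le_Q huU) hcop h6
    have hgC : g ∈ Subgroup.centralizer (d.Q : Set G) := by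
      rw [Subgroup.mem_centralizer_iff]
      intro q hq
      exact (commutatorElement_eq_one_iff_commute.mp (hcomm q hq)).eq.symm
    exact eq_one_of_isPGroup_of_coprime d.hQp (d.hCQ hgC) hcop (pow_orderOf_eq_one g)
  have hxD : x ∈ D :=
    (hDmem x).mpr ⟨fun u hu => hxU u hu, fun q hq => d.Z_le_U (d.cc x hx q (d.hQS hq))⟩
  exact d.hmax D hDn hDp hxD

theorem exists_u : ∃ u ∈ d.U, u ∉ d.Z := by
  by_contra h
  push Not at h
  exact d.hwQ (d.mem_Q_of_centralizes_U d.hwS (fun u hu => (d.Z_comm (h u hu) d.hwS).symm))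

theorem Z_le_zpowers {u : G} (hu : u ∈ d.U) (huZ : u ∉ d.Z) :
    ∀ z ∈ d.Z, ∃ i : ℕ, ⁅u, d.w⁆ ^ i = z := by
  have := d.hQn
  intro z hz
  have huS : u ∈ d.S := d.hQS (d.U_le_Q hu)
  obtain ⟨b, hb, rfl⟩ := d.surj u huS huZ z hz
  have hb' : b ∈ d.Q ⊔ Subgroup.zpowers d.w := by
    rw [← d.hgen]
    exact hb
  rw [← SetLike.mem_coe, Subgroup.normal_mul] at hb'
  obtain ⟨q, hq, w', hw', rfl⟩ := Set.mem_mul.mp hb'
  rw [SetLike.mem_coe, ← mem_powers_iff_mem_zpowers, Submonoid.mem_powers_iff] at hw'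
  obtain ⟨i, rfl⟩ := hw'
  refine ⟨i, ?_⟩
  have hwi : d.w ^ i ∈ d.S := d.S.pow_mem d.hwS i
  have h1 : ⁅u, q⁆ = 1 := by
    rw [commutatorElement_eq_one_iff_commute]
    exact (d.U_comm hu hq).symm
  rw [d.comm_mul_right huS (d.hQS hq) hwi, d.comm_pow_right huS d.hwS i, h1, one_mul]

theorem c_pow {u : G} (huS : u ∈ d.S) : ⁅u, d.w⁆ ^ p = 1 := by
  rw [← d.comm_pow_right huS d.hwS p, commutatorElement_eq_one_iff_commute]
  exact d.Z_comm (d.pc d.w d.hwS) huS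

theorem c_ne_one {u : G} (hu : u ∈ d.U) (huZ : u ∉ d.Z) : ⁅u, d.w⁆ ≠ 1 := by
  intro h
  rw [commutatorElement_eq_one_iff_commute] at h
  exact huZ (d.mem_Z_of_comm (d.hQS (d.U_le_Q hu)) (fun q hq => d.U_comm hu hq) h.eq.symm)

theorem card_Z {u : G} (hu : u ∈ d.U) (huZ : u ∉ d.Z) : Nat.card d.Z = p := by
  have huS := d.hQS (d.U_le_Q hu)
  have hZ : d.Z = Subgroup.zpowers ⁅u, d.w⁆ := by
    apply le_antisymm
    · intro z hz
      obtain ⟨i, rfl⟩ := d.Z_le_zpowers hu huZ z hz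
      exact Subgroup.pow_mem _ (Subgroup.mem_zpowers _) i
    · rw [Subgroup.zpowers_le]
      exact d.cc u huS d.w d.hwS
  rw [hZ, Nat.card_zpowers]
  exact orderOf_eq_prime (d.c_pow huS) (d.c_ne_one hu huZ)

theorem Q_comm {u : G} (hu : u ∈ d.U) (huZ : u ∉ d.Z) :
    ∀ a ∈ d.Q, ∀ b ∈ d.Q, a * b = b * a := by
  have := d.hQn
  by_contra hne
  push Not at hne
  obtain ⟨a, ha, b, hb, hab⟩ := hne
  have hQ'Z : ⁅d.Q, d.Q⁆ ≤ d.Z := Subgroup.commutator_le.mpr
    (fun g₁ h₁ g₂ h₂ => d.cc g₁ (d.hQS h₁) g₂ (d.hQS h₂))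
  have hcard := d.card_Z hu huZ
  have hdvd : Nat.card (⁅d.Q, d.Q⁆ : Subgroup G) ∣ p := by
    have := Subgroup.card_dvd_of_le hQ'Z
    rw [hcard] at this
    exact this
  rcases (Nat.dvd_prime hp.1).mp hdvd with h1 | h1
  · have hbot := Subgroup.card_eq_one.mp h1
    have hm : ⁅a, b⁆ ∈ ⁅d.Q, d.Q⁆ := Subgroup.commutator_mem_commutator ha hb
    rw [hbot, Subgroup.mem_bot, commutatorElement_eq_one_iff_commute] at hm
    exact hab hm.eq
  · have heq : ⁅d.Q, d.Q⁆ = d.Z :=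
      Subgroup.eq_of_le_of_card_ge hQ'Z (le_of_eq (hcard.trans h1.symm))
    have hUle : d.U ≤ ⁅d.Q, d.Q⁆ :=
      Subgroup.normalClosure_le_normal (fun z hz => by rw [heq]; exact hz)
    exact huZ (hQ'Z (hUle hu))

theorem Q_decomp {u : G} (hu : u ∈ d.U) (huZ : u ∉ d.Z) :
    ∀ q ∈ d.Q, ∃ j : ℕ, ∃ x ∈ d.Z, q = u ^ j * x := by
  intro q hq
  have huQ := d.U_le_Q hu
  have huS := d.hQS huQ
  obtain ⟨j, hj⟩ := d.Z_le_zpowers hu huZ _ (d.cc q (d.hQS hq) d.w d.hwS)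
  rw [← d.comm_pow_left huS d.hwS j] at hj
  refine ⟨j, (u ^ j)⁻¹ * q, ?_, by group⟩
  have hxQ : (u ^ j)⁻¹ * q ∈ d.Q := d.Q.mul_mem (d.Q.inv_mem (d.Q.pow_mem huQ j)) hq
  apply d.mem_Z_of_comm (d.hQS hxQ)
  · intro q' hq'
    exact d.Q_comm hu huZ q' hq' _ hxQ
  · have h1 : u ^ j * d.w * (u ^ j)⁻¹ = q * d.w * q⁻¹ := by
      have h2 : u ^ j * d.w * (u ^ j)⁻¹ = ⁅u ^ j, d.w⁆ * d.w := by
        rw [commutatorElement_def]
        group
      have h3 : q * d.w * q⁻¹ = ⁅q, d.w⁆ * d.w := by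
        rw [commutatorElement_def]
        group
      rw [h2, h3, hj]
    calc d.w * ((u ^ j)⁻¹ * q) = (u ^ j)⁻¹ * (u ^ j * d.w * (u ^ j)⁻¹) * q := by group
      _ = (u ^ j)⁻¹ * (q * d.w * q⁻¹) * q := by rw [h1]
      _ = (u ^ j)⁻¹ * q * d.w := by group

theorem Q_exp {u : G} (hu : u ∈ d.U) (huZ : u ∉ d.Z) : ∀ q ∈ d.Q, q ^ p = 1 := by
  have := d.hQn
  have huQ := d.U_le_Q hu
  have huS := d.hQS huQ
  have hcomm := d.Q_comm hu huZ
  haveI hEn : (expSub d.Q p hcomm).Normal := expSub_normal d.Q p hcomm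
  have hZE : (d.Z : Set G) ⊆ expSub d.Q p hcomm := by
    intro z hz
    rw [SetLike.mem_coe, mem_expSub]
    refine ⟨d.Z_le_Q hz, ?_⟩
    obtain ⟨i, rfl⟩ := d.Z_le_zpowers hu huZ z hz
    rw [← pow_mul, mul_comm, pow_mul, d.c_pow huS, one_pow]
  have hUE : d.U ≤ expSub d.Q p hcomm := Subgroup.normalClosure_le_normal hZE
  intro q hq
  obtain ⟨j, x, hx, rfl⟩ := d.Q_decomp hu huZ q hq
  have hmem : u ^ j * x ∈ d.U := d.U.mul_mem (d.U.pow_mem hu j) (d.Z_le_U hx)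
  exact (mem_expSub.mp (hUE hmem)).2

theorem relIndex_Q_S : d.Q.relIndex d.S = p := by
  have := d.hQn
  exact relIndex_eq_prime_of_sup_zpowers d.Q d.S d.hQS inferInstance d.w d.hwS p
    (le_of_eq d.hgen) (d.Z_le_Q (d.pc d.w d.hwS)) d.hwQ

theorem relIndex_Z_Q {u : G} (hu : u ∈ d.U) (huZ : u ∉ d.Z) : d.Z.relIndex d.Q = p := by
  have huQ := d.U_le_Q hu
  have hnorm : (d.Z.subgroupOf d.Q).Normal := by
    refine ⟨fun n hn g => ?_⟩
    rw [Subgroup.mem_subgroupOf] at hn ⊢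
    have h := d.Z_comm hn (d.hQS g.2)
    have : ((g * n * g⁻¹ : d.Q) : G) = (n : G) := by
      simp only [Subgroup.coe_mul, Subgroup.coe_inv]
      rw [h, mul_inv_cancel_right]
    rw [this]
    exact hn
  refine relIndex_eq_prime_of_sup_zpowers d.Z d.Q d.Z_le_Q hnorm u huQ p ?_ ?_ huZ
  · intro q hq
    obtain ⟨j, x, hx, rfl⟩ := d.Q_decomp hu huZ q hq
    exact Subgroup.mul_mem _
      (Subgroup.mem_sup_right (Subgroup.pow_mem _ (Subgroup.mem_zpowers u) j))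
      (Subgroup.mem_sup_left hx)
  · rw [d.Q_exp hu huZ u huQ]
    exact Subgroup.one_mem _

theorem relIndex_Z_S {u : G} (hu : u ∈ d.U) (huZ : u ∉ d.Z) : d.Z.relIndex d.S = p ^ 2 := by
  rw [← Subgroup.relIndex_mul_relIndex d.Z d.Q d.S d.Z_le_Q d.hQS, d.relIndex_Z_Q hu huZ,
    d.relIndex_Q_S, sq]

theorem false_of_stable
    (hst : p ≠ 2 → p ≠ 3 → IsElementaryAbelian p d.Q → ∀ a : G,
      ⁅⁅d.Q, Subgroup.zpowers a⁆, Subgroup.zpowers a⁆ = ⊥ → a ∈ d.Q) : False := by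
  obtain ⟨u, hu, huZ⟩ := d.exists_u
  obtain ⟨hp3, h2⟩ := d.small (d.relIndex_Z_S hu huZ)
  have huQ := d.U_le_Q hu
  have hexp := d.Q_exp hu huZ
  have hp2 : p ≠ 2 := by
    intro h2'
    apply huZ
    apply h2 h2' u (d.hQS huQ)
    have h := hexp u huQ
    rw [h2'] at h
    exact h
  have hel : IsElementaryAbelian p d.Q :=
    ⟨⟨⟨fun a b => Subtype.ext (d.Q_comm hu huZ a a.2 b b.2)⟩⟩, hexp⟩
  have hwS' : Subgroup.zpowers d.w ≤ d.S := Subgroup.zpowers_le.mpr d.hwS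
  have hquad : ⁅⁅d.Q, Subgroup.zpowers d.w⁆, Subgroup.zpowers d.w⁆ = ⊥ := by
    rw [eq_bot_iff]
    have h1 : ⁅d.Q, Subgroup.zpowers d.w⁆ ≤ d.Z := Subgroup.commutator_le.mpr
      (fun q hq w' hw' => d.cc q (d.hQS hq) w' (hwS' hw'))
    refine le_trans (Subgroup.commutator_mono h1 le_rfl) ?_
    rw [Subgroup.commutator_le]
    intro z hz w' hw'
    rw [Subgroup.mem_bot, commutatorElement_eq_one_iff_commute]
    exact (d.Z_comm hz (hwS' hw')).symm
  exact d.hwQ (hst hp2 hp3 hel d.w hquad)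

end main

end Dat

open Cfsg.Agent.Lib.Helper1 in
/-- **S4394, piece M-c.** -/
theorem mc {G : Type*} [Group G] [Finite G] {R : Type*} [Group R] (p : ℕ) [hp : Fact p.Prime]
    (hR : SSP p R) (hsol : Cfsg.IsPSolvable p G) (hK : Cfsg.pPrimeCore p G = ⊥) (S : Sylow p G)
    (e : ↥(S : Subgroup G) ≃* R) (w : G) (hwS : w ∈ (S : Subgroup G))
    (hgen : (S : Subgroup G) = Cfsg.pCore p G ⊔ Subgroup.zpowers w)
    (hwQ : w ∉ Cfsg.pCore p G) : False := by
  have hS : SSP p ↥(S : Subgroup G) := hR.of_mulEquiv e.symm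
  have hCQ : Subgroup.centralizer (pCore p G : Set G) ≤ pCore p G :=
    Cfsg.Agent.Lib.Helper1.centralizer_pCore_le_of_isPSolvable hK
      (Cfsg.Agent.Lib.Helper1.PSolvSub.isPSolvable_subgroup hsol _)
  have hmemZ : ∀ s : ↥(S : Subgroup G),
      s ∈ Subgroup.center ↥(S : Subgroup G) ↔ (s : G) ∈ ZS (S : Subgroup G) := by
    intro s
    rw [Subgroup.mem_center_iff, mem_ZS]
    constructor
    · intro h
      refine ⟨s.2, fun t ht => ?_⟩
      exact congrArg Subtype.val (h ⟨t, ht⟩)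
    · intro h t
      exact Subtype.ext (h.2 t t.2)
  have hZsub : (ZS (S : Subgroup G)).subgroupOf (S : Subgroup G)
      = Subgroup.center ↥(S : Subgroup G) := by
    ext s
    rw [Subgroup.mem_subgroupOf]
    exact (hmemZ s).symm
  have hst : p ≠ 2 → p ≠ 3 → IsElementaryAbelian p (pCore p G) → ∀ a : G,
      ⁅⁅pCore p G, Subgroup.zpowers a⁆, Subgroup.zpowers a⁆ = ⊥ → a ∈ pCore p G := by
    intro hp2 hp3 hel a hquad
    have hmem := Cfsg.Agent.Lib.Helper1.QuadSL2.isPStableOn_of_pSolvable hp2 hp3 (pCore p G)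
      hel hsol a hquad
    have hCp : IsPGroup p (Subgroup.centralizer (pCore p G : Set G)) :=
      (pCore_isPGroup p G).to_le hCQ
    have hPre : IsPGroup p ((pCore p (G ⧸ Subgroup.centralizer (pCore p G : Set G))).comap
        (QuotientGroup.mk' (Subgroup.centralizer (pCore p G : Set G)))) :=
      IsPGroup.comap_of_ker_isPGroup (pCore_isPGroup p _) _
        (by rw [QuotientGroup.ker_mk']; exact hCp)
    have hle := le_pCore (Subgroup.Normal.comap (pCore_normal p _)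
      (QuotientGroup.mk' (Subgroup.centralizer (pCore p G : Set G)))) hPre
    exact hle (Subgroup.mem_comap.mpr hmem)
  exact Dat.false_of_stable
    { S := S
      Q := pCore p G
      w := w
      hQn := pCore_normal p G
      hQp := pCore_isPGroup p G
      hQS := pCore_le_sylow S
      hCQ := hCQ
      hmax := fun D hDn hDp => le_pCore hDn hDp
      cc := fun a ha b hb => (hmemZ _).mp (hS.comm_central ⟨a, ha⟩ ⟨b, hb⟩)
      pc := fun a ha => (hmemZ _).mp (hS.pow_central ⟨a, ha⟩)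
      surj := fun a ha haZ z hz => by
        obtain ⟨b, hb⟩ := hS.surj ⟨a, ha⟩ (fun h => haZ ((hmemZ _).mp h))
          ⟨z, (mem_ZS.mp hz).1⟩ ((hmemZ _).mpr hz)
        exact ⟨b, b.2, congrArg Subtype.val hb⟩
      small := fun hidx => by
        have h1 : (Subgroup.center ↥(S : Subgroup G)).index = p ^ 2 := by
          rw [← hZsub]
          exact hidx
        obtain ⟨h3, h2⟩ := hS.small h1
        exact ⟨h3, fun hp2 a ha ha2 => (hmemZ ⟨a, ha⟩).mp (h2 hp2 ⟨a, ha⟩ (Subtype.ext ha2))⟩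
      hwS := hwS
      hgen := hgen
      hwQ := hwQ } hst

end Cfsg.Agent.Lib.Helper7.SchSylMc
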