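import Mathlib
import Cfsg.Agent.Lib.Helper6.CenterIndex
import Cfsg.Agent.Lib.Helper6.SecondOrth
import Cfsg.Agent.Lib.Helper6.Regular
import Cfsg.Agent.Lib.Helper6.IrrBasis
import Cfsg.Prelude.Def_KGroupFacts

/-! The square of the exponent of the Schur multiplier divides the group order (S3952). -/
set_option autoImplicit false

namespace Cfsg.Agent.Lib.Helper7.SchurExp

open Cfsg.Agent.Lib.Helper6
open Module
open scoped ComplexConjugate

/-- An irreducible character on the powers of a central commutator element. -/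
theorem key {Γ : Type*} [Group Γ] [Finite Γ] (a : Γ) (ha1 : a ∈ Subgroup.center Γ)
    (ha2 : a ∈ commutator Γ) (θ : Cfsg.IrrCharacter Γ) :
    ∃ (n : ℕ) (ω : ℂ), 0 < n ∧ ω ^ n = 1 ∧
      ∀ j : ℕ, (θ : Γ → ℂ) (a ^ j) = (n : ℂ) * ω ^ j := by
  classical
  haveI := Fintype.ofFinite Γ
  obtain ⟨n, ρ, hirr, hchar⟩ := θ.2
  haveI := hirr
  obtain ⟨ω, hω, -⟩ := exists_scalar_of_mem_center ρ ha1
  have hn : 0 < n := by
    have h := finrank_pos_of_isIrreducible ρ
    simpa using h
  refine ⟨n, ω, hn, ?_, ?_⟩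
  · let f : Γ →* ℂ :=
      (LinearMap.det : ((Fin n → ℂ) →ₗ[ℂ] (Fin n → ℂ)) →* ℂ).comp ρ
    have hker : commutator Γ ≤ f.toHomUnits.ker := Abelianization.commutator_subset_ker _
    have h1 : f.toHomUnits a = 1 := hker ha2
    have h2 : f a = 1 := by
      have h := congrArg Units.val h1
      simpa using h
    have h3 : f a = ω ^ n := by
      show LinearMap.det (ρ a) = ω ^ n
      rw [hω, LinearMap.det_smul, LinearMap.det_id, mul_one]
      simp
    rw [← h3, h2]
  · intro j
    rw [← hchar]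
    show LinearMap.trace ℂ (Fin n → ℂ) (ρ (a ^ j)) = (n : ℂ) * ω ^ j
    rw [map_pow, hω, smul_pow]
    have h1 : (LinearMap.id : Module.End ℂ (Fin n → ℂ)) ^ j = 1 := one_pow j
    rw [h1, map_smul, LinearMap.trace_one]
    simp [mul_comm]

theorem geom {e : ℕ} (η : ℂ) (hη : η ^ e = 1) :
    ∑ j ∈ Finset.range e, η ^ j = if η = 1 then (e : ℂ) else 0 := by
  split_ifs with h
  · rw [h]; simp
  · rw [geom_sum_eq h, hη, sub_self, zero_div]

/-- A central element of the commutator subgroup has the cube of its order dividing the group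
order. -/
theorem cyclic_cube {Γ : Type*} [Group Γ] [Finite Γ] (a : Γ) (ha1 : a ∈ Subgroup.center Γ)
    (ha2 : a ∈ commutator Γ) : orderOf a ^ 3 ∣ Nat.card Γ := by
  classical
  haveI := Fintype.ofFinite Γ
  haveI : Fintype (Cfsg.IrrCharacter Γ) := Fintype.ofFinite _
  obtain ⟨e, he⟩ : ∃ e, e = orderOf a := ⟨_, rfl⟩
  have he0 : 0 < e := he ▸ orderOf_pos a
  choose n ω hn hωn hval using key a ha1 ha2
  have hdeg : ∀ θ : Cfsg.IrrCharacter Γ, (θ : Γ → ℂ) 1 = (n θ : ℂ) := by
    intro θ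
    have h0 := hval θ 0
    rwa [pow_zero, pow_zero, mul_one] at h0
  have hnc : ∀ θ, (n θ : ℂ) ≠ 0 := fun θ => by exact_mod_cast (hn θ).ne'
  have hωe : ∀ θ, ω θ ^ e = 1 := by
    intro θ
    have h1 := hval θ e
    rw [he, pow_orderOf_eq_one, hdeg θ] at h1
    have h2 : (n θ : ℂ) * 1 = (n θ : ℂ) * ω θ ^ orderOf a := by rw [mul_one]; exact h1
    rw [he]
    exact (mul_left_cancel₀ (hnc θ) h2).symm
  obtain ⟨ζ, hζ⟩ : ∃ ζ : ℂ, IsPrimitiveRoot ζ e := ⟨_, Complex.isPrimitiveRoot_exp e he0.ne'⟩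
  have hζ0 : ζ ≠ 0 := hζ.ne_zero he0.ne'
  have hsum : ∀ j ∈ Finset.range e, ∑ θ : Cfsg.IrrCharacter Γ, (n θ : ℂ) * ((n θ : ℂ) * ω θ ^ j) =
      if j = 0 then (Nat.card Γ : ℂ) else 0 := by
    intro j hj
    split_ifs with h0
    · rw [h0]
      rw [← sum_sq_degree (G := Γ)]
      apply Finset.sum_congr rfl
      intro θ _
      rw [hdeg θ, pow_zero, mul_one, sq]
    · have hne : a ^ j ≠ 1 := by
        intro h1
        have h2 : orderOf a ∣ j := orderOf_dvd_of_pow_eq_one h1
        rw [← he] at h2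
        have h3 := Nat.le_of_dvd (Nat.pos_of_ne_zero h0) h2
        have h4 := Finset.mem_range.1 hj
        omega
      have h1 := (sum_irr_mul_conj (a ^ j) (1 : Γ)).2 (by rw [isConj_one_left]; exact hne)
      rw [← h1]
      apply Finset.sum_congr rfl
      intro θ _
      rw [hval θ j, hdeg θ, Complex.conj_natCast]
      ring
  have hmain : (Nat.card Γ : ℂ) =
      ∑ θ : Cfsg.IrrCharacter Γ, (n θ : ℂ) ^ 2 * (if ω θ = ζ then (e : ℂ) else 0) := by
    have h1 : (Nat.card Γ : ℂ) = ∑ j ∈ Finset.range e, (ζ⁻¹) ^ j *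
        ∑ θ : Cfsg.IrrCharacter Γ, (n θ : ℂ) * ((n θ : ℂ) * ω θ ^ j) := by
      rw [Finset.sum_congr rfl (fun j hj => by rw [hsum j hj])]
      rw [Finset.sum_eq_single 0]
      · simp
      · intro j _ hj0
        rw [if_neg hj0, mul_zero]
      · intro h
        exact absurd (Finset.mem_range.2 he0) h
    rw [h1]
    simp_rw [Finset.mul_sum]
    rw [Finset.sum_comm]
    apply Finset.sum_congr rfl
    intro θ _
    have h2 : ∀ j ∈ Finset.range e, (ζ⁻¹) ^ j * ((n θ : ℂ) * ((n θ : ℂ) * ω θ ^ j)) =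
        (n θ : ℂ) ^ 2 * (ω θ * ζ⁻¹) ^ j := by
      intro j _
      rw [mul_pow]; ring
    rw [Finset.sum_congr rfl h2, ← Finset.mul_sum]
    have hη : (ω θ * ζ⁻¹) ^ e = 1 := by
      rw [mul_pow, hωe θ, inv_pow, hζ.pow_eq_one, inv_one, mul_one]
    rw [geom _ hη]
    congr 1
    have hiff : ω θ * ζ⁻¹ = 1 ↔ ω θ = ζ := by
      constructor
      · intro h
        have := congrArg (· * ζ) h
        simpa [mul_assoc, inv_mul_cancel₀ hζ0] using this
      · intro h
        rw [h, mul_inv_cancel₀ hζ0]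
    by_cases h : ω θ = ζ
    · rw [if_pos h, if_pos (hiff.2 h)]
    · rw [if_neg h, if_neg (fun h' => h (hiff.1 h'))]
  have hnat : Nat.card Γ =
      ∑ θ ∈ Finset.univ.filter (fun θ : Cfsg.IrrCharacter Γ => ω θ = ζ), e * n θ ^ 2 := by
    apply Nat.cast_injective (R := ℂ)
    rw [hmain, Finset.sum_filter]
    push_cast
    apply Finset.sum_congr rfl
    intro θ _
    split_ifs <;> ring
  rw [hnat, ← he]
  apply Finset.dvd_sum
  intro θ hθ
  have hθ' : ω θ = ζ := (Finset.mem_filter.1 hθ).2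
  have h1 : ζ ^ n θ = 1 := by rw [← hθ']; exact hωn θ
  obtain ⟨m, hm⟩ := (hζ.pow_eq_one_iff_dvd (n θ)).1 h1
  rw [hm]
  exact ⟨m ^ 2, by ring⟩


/-- A character of a finite abelian group whose image has order the exponent. -/
theorem exists_char (A : Type*) [CommGroup A] [Finite A] :
    ∃ (lam : A →* ℂˣ) (k : A), orderOf (lam k) = Monoid.exponent A ∧
      Nat.card lam.range = Monoid.exponent A := by
  have he0 : Monoid.exponent A ≠ 0 := Monoid.exponent_ne_zero_of_finite
  haveI : NeZero ((Monoid.exponent A : ℕ) : ℂ) := ⟨by exact_mod_cast he0⟩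
  obtain ⟨E⟩ := CommGroup.monoidHom_mulEquiv_of_hasEnoughRootsOfUnity A ℂ
  obtain ⟨b, hb⟩ := Monoid.exists_orderOf_eq_exponent (G := A) Monoid.ExponentExists.of_finite
  obtain ⟨lam, hlamdef⟩ : ∃ lam : A →* ℂˣ, lam = E.symm b := ⟨_, rfl⟩
  have hlam : orderOf lam = Monoid.exponent A := by
    rw [hlamdef, MulEquiv.orderOf_eq]; exact hb
  haveI : Finite lam.range := Finite.of_surjective lam.rangeRestrict lam.rangeRestrict_surjective
  have hcyc : IsCyclic lam.range := inferInstance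
  have hcard : Monoid.exponent lam.range = Nat.card lam.range := IsCyclic.exponent_eq_card
  obtain ⟨r, hr⟩ := Monoid.exists_orderOf_eq_exponent (G := lam.range)
    Monoid.ExponentExists.of_finite
  obtain ⟨k, hk⟩ := r.2
  have hrk : orderOf (lam k) = Monoid.exponent lam.range := by
    rw [← hr, hk, Subgroup.orderOf_coe]
  have h1 : orderOf (lam k) ∣ Monoid.exponent A := by
    apply orderOf_dvd_of_pow_eq_one
    rw [← map_pow, Monoid.pow_exponent_eq_one, map_one]
  have h2 : Monoid.exponent A ∣ orderOf (lam k) := by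
    rw [← hlam]
    apply orderOf_dvd_of_pow_eq_one
    ext x
    have h3 : (⟨lam x, x, rfl⟩ : lam.range) ^ Monoid.exponent lam.range = 1 :=
      Monoid.pow_exponent_eq_one _
    have h4 := congrArg (fun y : lam.range => ((y : ℂˣ) : ℂ)) h3
    rw [hrk]
    simpa using h4
  have h5 : orderOf (lam k) = Monoid.exponent A := Nat.dvd_antisymm h1 h2
  exact ⟨lam, k, h5, by rw [← hcard, ← hrk, h5]⟩

theorem main {Q : Type*} [Group Q] [Finite Q] {A : Type*} [CommGroup A]
    (hA : Cfsg.HasSchurMultiplier Q A) : Monoid.exponent A ^ 2 ∣ Nat.card Q := by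
  obtain ⟨⟨Γ, _, _, σ, hσ, ⟨φ⟩⟩, -⟩ := hA
  obtain ⟨hsurj, hcen, hcomm⟩ := hσ
  haveI : Finite A := Finite.of_equiv σ.ker φ.toEquiv
  obtain ⟨lam, k, hk, hrange⟩ := exists_char A
  obtain ⟨e, he⟩ : ∃ e, e = Monoid.exponent A := ⟨_, rfl⟩
  rw [← he] at hk hrange ⊢
  have he0 : 0 < e := by
    rw [he]; exact Nat.pos_of_ne_zero Monoid.exponent_ne_zero_of_finite
  -- the character of the kernel
  obtain ⟨lam', hlam'⟩ : ∃ lam' : σ.ker →* ℂˣ, lam' = lam.comp φ.toMonoidHom := ⟨_, rfl⟩
  obtain ⟨N, hN⟩ : ∃ N : Subgroup Γ, N = lam'.ker.map σ.ker.subtype := ⟨_, rfl⟩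
  have hNK : N ≤ σ.ker := by
    rw [hN]
    rintro _ ⟨x, -, rfl⟩
    exact x.2
  haveI hNn : N.Normal := by
    constructor
    intro x hx g
    have h1 : x ∈ Subgroup.center Γ := hcen (hNK hx)
    have h2 : g * x = x * g := Subgroup.mem_center_iff.1 h1 g
    have h3 : g * x * g⁻¹ = x := by rw [h2]; group
    rw [h3]; exact hx
  have hmemN : ∀ x : σ.ker, (x : Γ) ∈ N ↔ lam' x = 1 := by
    intro x
    rw [hN]
    constructor
    · rintro ⟨y, hy, hyx⟩
      have : y = x := Subtype.ext hyx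
      rw [← this]; exact hy
    · intro hx
      exact ⟨x, hx, rfl⟩
  -- the element
  obtain ⟨k', hk'⟩ : ∃ k' : σ.ker, k' = φ.symm k := ⟨_, rfl⟩
  have hlamk : lam' k' = lam k := by
    rw [hlam', hk']; simp
  obtain ⟨abar, habar⟩ : ∃ abar : Γ ⧸ N, abar = QuotientGroup.mk (k' : Γ) := ⟨_, rfl⟩
  have hc1 : abar ∈ Subgroup.center (Γ ⧸ N) := by
    rw [Subgroup.mem_center_iff]
    intro x
    induction x using QuotientGroup.induction_on with
    | H g =>
      rw [habar, ← QuotientGroup.mk_mul, ← QuotientGroup.mk_mul,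
        Subgroup.mem_center_iff.1 (hcen k'.2) g]
  have hc2 : abar ∈ commutator (Γ ⧸ N) := by
    have h1 : (k' : Γ) ∈ commutator Γ := hcomm k'.2
    have h2 : (commutator Γ).map (QuotientGroup.mk' N) = commutator (Γ ⧸ N) := by
      rw [commutator_def, commutator_def, Subgroup.map_commutator,
        Subgroup.map_top_of_surjective _ (QuotientGroup.mk'_surjective N)]
    rw [← h2, habar]
    exact Subgroup.mem_map_of_mem _ h1
  have hord : orderOf abar = e := by
    rw [← hk]
    rw [orderOf_eq_orderOf_iff]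
    intro j
    rw [habar, ← QuotientGroup.mk_pow, QuotientGroup.eq_one_iff]
    have h1 := hmemN (k' ^ j)
    rw [Subgroup.coe_pow] at h1
    rw [h1, map_pow, hlamk]
  have hcube := cyclic_cube abar hc1 hc2
  rw [hord] at hcube
  -- cardinalities
  have hcard1 : Nat.card Γ = Nat.card (Γ ⧸ N) * Nat.card N :=
    Subgroup.card_eq_card_quotient_mul_card_subgroup N
  have hcard2 : Nat.card N = Nat.card lam'.ker := by
    rw [hN]
    exact Subgroup.card_map_of_injective σ.ker.subtype_injective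
  have hcard3 : Nat.card σ.ker = Nat.card lam'.range * Nat.card lam'.ker := by
    rw [Subgroup.card_eq_card_quotient_mul_card_subgroup lam'.ker]
    congr 1
    exact Nat.card_congr (QuotientGroup.quotientKerEquivRange lam').toEquiv
  have hrange' : lam'.range = lam.range := by
    rw [hlam']
    ext y
    constructor
    · rintro ⟨x, rfl⟩
      exact ⟨φ x, rfl⟩
    · rintro ⟨x, rfl⟩
      exact ⟨φ.symm x, by simp⟩
  have hcard4 : Nat.card Γ = Nat.card Q * Nat.card σ.ker := by
    rw [Subgroup.card_eq_card_quotient_mul_card_subgroup σ.ker]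
    congr 1
    exact Nat.card_congr (QuotientGroup.quotientKerEquivOfSurjective σ hsurj).toEquiv
  rw [hrange', hrange] at hcard3
  have hNpos : 0 < Nat.card N := Nat.card_pos
  have hfinal : Nat.card (Γ ⧸ N) = Nat.card Q * e := by
    have h1 : Nat.card (Γ ⧸ N) * Nat.card N = Nat.card Q * e * Nat.card N := by
      rw [← hcard1, hcard4, hcard3, hcard2]; ring
    exact Nat.eq_of_mul_eq_mul_right hNpos h1
  rw [hfinal] at hcube
  have h2 : e ^ 2 * e ∣ Nat.card Q * e := by
    have : e ^ 2 * e = e ^ 3 := by ring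
    rw [this]; exact hcube
  exact Nat.dvd_of_mul_dvd_mul_right he0 h2

end Cfsg.Agent.Lib.Helper7.SchurExp
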