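import Cfsg.Agent.Lib.Helper4.Metacyc3

/-! A finite `2`-group of sectional `2`-rank at most two is metacyclic. -/
set_option autoImplicit false
set_option linter.unusedSectionVars false
universe u
open scoped commutatorElement

namespace Cfsg.Agent.Lib.Helper7.SectTwo

open Cfsg.Agent.Lib.Helper1 Cfsg.Agent.Lib.Helper3 Cfsg.Agent.Lib.Helper4.Metacyc

theorem prankLE_of_mulEquiv {p k : ℕ} {Q Q' : Type*} [Group Q] [Group Q'] (e : Q ≃* Q')
    (h : Cfsg.PRankLE p k Q) : Cfsg.PRankLE p k Q' := by
  intro A hA hexp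
  have h1 := h (A.map e.symm.toMonoidHom) inferInstance ?_
  · rwa [Subgroup.card_map_of_injective e.symm.injective] at h1
  · rintro _ ⟨b, hb, rfl⟩
    show (e.symm b) ^ p = 1
    rw [← map_pow, hexp b hb, map_one]

theorem prankLE_of_section {p k : ℕ} {G : Type*} [Group G] (hr : Cfsg.SectionalPRankLE p k G)
    (H : Subgroup G) {Q : Type*} [Group Q] (f : H →* Q) (hf : Function.Surjective f) :
    Cfsg.PRankLE p k Q :=
  prankLE_of_mulEquiv (QuotientGroup.quotientKerEquivOfSurjective f hf) (hr H f.ker)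

theorem sectional_quotient {p k : ℕ} {G : Type*} [Group G] (hr : Cfsg.SectionalPRankLE p k G)
    (M : Subgroup G) [M.Normal] : Cfsg.SectionalPRankLE p k (G ⧸ M) := by
  intro H N hN
  have hg : Function.Surjective ((QuotientGroup.mk' M).subgroupComap H) :=
    MonoidHom.subgroupComap_surjective_of_surjective _ _ (QuotientGroup.mk'_surjective M)
  exact prankLE_of_section hr (H.comap (QuotientGroup.mk' M))
    ((QuotientGroup.mk' N).comp ((QuotientGroup.mk' M).subgroupComap H))
    ((QuotientGroup.mk'_surjective N).comp hg)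

variable {G : Type u} [Group G]

/-- an elementary abelian section `H / (B ⊓ H)` has order at most four. -/
theorem relIndex_le_four (hr : Cfsg.SectionalPRankLE 2 2 G) (B H : Subgroup G)
    (hcomm : ∀ x ∈ H, ∀ y ∈ H, ⁅x, y⁆ ∈ B) (hsq : ∀ x ∈ H, x ^ 2 ∈ B) : B.relIndex H ≤ 4 := by
  haveI hN : (B.subgroupOf H).Normal := by
    constructor
    intro n hn h
    rw [Subgroup.mem_subgroupOf] at hn ⊢
    have h1 : ((h * n * h⁻¹ : H) : G) = ⁅(h : G), (n : G)⁆ * n := by
      rw [commutatorElement_def]
      simp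
    rw [h1]
    exact B.mul_mem (hcomm _ h.2 _ n.2) hn
  have hP := hr H (B.subgroupOf H)
  have hc : ∀ a b : H ⧸ B.subgroupOf H, a * b = b * a := by
    intro a b
    induction a using QuotientGroup.induction_on with
    | H x =>
    induction b using QuotientGroup.induction_on with
    | H y =>
    rw [← QuotientGroup.mk_mul, ← QuotientGroup.mk_mul, QuotientGroup.eq, Subgroup.mem_subgroupOf]
    have h1 : (((x * y)⁻¹ * (y * x) : H) : G) = ⁅(y : G)⁻¹, (x : G)⁻¹⁆ := by
      rw [commutatorElement_def]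
      simp [mul_assoc]
    rw [h1]
    exact hcomm _ (inv_mem y.2) _ (inv_mem x.2)
  have he : ∀ a : H ⧸ B.subgroupOf H, a ^ 2 = 1 := by
    intro a
    induction a using QuotientGroup.induction_on with
    | H x =>
    rw [← QuotientGroup.mk_pow, QuotientGroup.eq_one_iff, Subgroup.mem_subgroupOf]
    have h1 : ((x ^ 2 : H) : G) = (x : G) ^ 2 := by simp
    rw [h1]
    exact hsq _ x.2
  have h2 := hP ⊤ ⟨⟨fun a b => Subtype.ext (hc a b)⟩⟩ (fun a _ => he a)
  rw [Subgroup.card_top] at h2
  have h3 : B.relIndex H = Nat.card (H ⧸ B.subgroupOf H) := Subgroup.index_eq_card _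
  rw [h3]
  exact h2.trans (by norm_num)

/-- pigeonhole on cosets. -/
theorem exists_lt_mem [Finite G] (B H : Subgroup G) (n : ℕ) (h : B.relIndex H ≤ n)
    (f : Fin (n + 1) → G) (hf : ∀ i, f i ∈ H) : ∃ i j, i < j ∧ (f i)⁻¹ * f j ∈ B := by
  by_contra hne
  push Not at hne
  have h3 : B.relIndex H = Nat.card (H ⧸ B.subgroupOf H) := Subgroup.index_eq_card _
  have hinj : Function.Injective
      (fun i : Fin (n + 1) => (QuotientGroup.mk (⟨f i, hf i⟩ : H) : H ⧸ B.subgroupOf H)) := by
    intro i j hij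
    by_contra hne'
    have hij' : (QuotientGroup.mk (⟨f i, hf i⟩ : H) : H ⧸ B.subgroupOf H) =
        QuotientGroup.mk (⟨f j, hf j⟩ : H) := hij
    rcases lt_or_gt_of_ne hne' with hlt | hlt
    · apply hne i j hlt
      have := QuotientGroup.eq.mp hij'
      rw [Subgroup.mem_subgroupOf] at this
      simpa using this
    · apply hne j i hlt
      have := QuotientGroup.eq.mp hij'.symm
      rw [Subgroup.mem_subgroupOf] at this
      simpa using this
  have h4 := Nat.card_le_card_of_injective _ hinj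
  rw [Nat.card_fin, ← h3] at h4
  omega

end Cfsg.Agent.Lib.Helper7.SectTwo
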