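import Cfsg.Agent.Lib.Helper7.SectTwo

/-! The reduced case and the induction for S4397. -/
set_option autoImplicit false
set_option linter.unusedSectionVars false
set_option linter.style.haveILetI false
universe u
open scoped commutatorElement

namespace Cfsg.Agent.Lib.Helper7.SectTwo

open Cfsg.Agent.Lib.Helper1 Cfsg.Agent.Lib.Helper3 Cfsg.Agent.Lib.Helper4.Metacyc

variable {G : Type u} [Group G] [Finite G]

theorem exists3 (B H : Subgroup G) (h : B.relIndex H ≤ 2) (x₀ x₁ x₂ : G)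
    (h₀ : x₀ ∈ H) (h₁ : x₁ ∈ H) (h₂ : x₂ ∈ H) :
    x₀⁻¹ * x₁ ∈ B ∨ x₀⁻¹ * x₂ ∈ B ∨ x₁⁻¹ * x₂ ∈ B := by
  obtain ⟨i, j, hij, hmem⟩ := exists_lt_mem B H 2 h ![x₀, x₁, x₂] (by
    intro i; fin_cases i <;> simp [*])
  fin_cases i <;> fin_cases j <;> simp at hij <;> simp at hmem <;> tauto

theorem exists5 (B H : Subgroup G) (h : B.relIndex H ≤ 4) (x₀ x₁ x₂ x₃ x₄ : G)
    (h₀ : x₀ ∈ H) (h₁ : x₁ ∈ H) (h₂ : x₂ ∈ H) (h₃ : x₃ ∈ H) (h₄ : x₄ ∈ H) :
    x₀⁻¹ * x₁ ∈ B ∨ x₀⁻¹ * x₂ ∈ B ∨ x₀⁻¹ * x₃ ∈ B ∨ x₀⁻¹ * x₄ ∈ B ∨ x₁⁻¹ * x₂ ∈ B ∨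
    x₁⁻¹ * x₃ ∈ B ∨ x₁⁻¹ * x₄ ∈ B ∨ x₂⁻¹ * x₃ ∈ B ∨ x₂⁻¹ * x₄ ∈ B ∨ x₃⁻¹ * x₄ ∈ B := by
  obtain ⟨i, j, hij, hmem⟩ := exists_lt_mem B H 4 h ![x₀, x₁, x₂, x₃, x₄] (by
    intro i; fin_cases i <;> simp [*])
  fin_cases i <;> fin_cases j <;> simp at hij <;> simp at hmem <;> tauto

/-- elements of the Frattini subgroup are squares up to the commutator `c`. -/
theorem frattini_form (c : G) (hcsq : c ^ 2 = 1) (hcC : ∀ g : G, Commute c g)
    (hcom : ∀ x y : G, ⁅x, y⁆ = 1 ∨ ⁅x, y⁆ = c)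
    (hmul2 : ∀ x y : G, (x * y) ^ 2 = x ^ 2 * y ^ 2 * ⁅y, x⁆) :
    ∀ u ∈ frattini G, ∃ h : G, u = h ^ 2 ∨ u = h ^ 2 * c := by
  have cinv : c⁻¹ = c := inv_eq_of_mul_eq_one_left (by rw [← pow_two]; exact hcsq)
  have hmc : ∀ y : G, (∃ h : G, y = h ^ 2 ∨ y = h ^ 2 * c) →
      ∃ h : G, y * c = h ^ 2 ∨ y * c = h ^ 2 * c := by
    rintro y ⟨h, rfl | rfl⟩
    · exact ⟨h, Or.inr rfl⟩
    · exact ⟨h, Or.inl (by rw [mul_assoc, ← pow_two, hcsq, mul_one])⟩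
  have hss : ∀ h₁ h₂ : G, ∃ h : G, h₁ ^ 2 * h₂ ^ 2 = h ^ 2 ∨ h₁ ^ 2 * h₂ ^ 2 = h ^ 2 * c := by
    intro h₁ h₂
    refine ⟨h₁ * h₂, ?_⟩
    rw [hmul2]
    rcases hcom h₂ h₁ with h | h
    · left; rw [h, mul_one]
    · right; rw [h, mul_assoc, ← pow_two, hcsq, mul_one]
  let T : Subgroup G :=
    { carrier := {y | ∃ h : G, y = h ^ 2 ∨ y = h ^ 2 * c}
      one_mem' := ⟨1, Or.inl (one_pow 2).symm⟩
      mul_mem' := by
        rintro y₁ y₂ ⟨h₁, rfl | rfl⟩ ⟨h₂, rfl | rfl⟩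
        · exact hss h₁ h₂
        · have := hmc _ (hss h₁ h₂)
          rw [mul_assoc] at this
          exact this
        · have := hmc _ (hss h₁ h₂)
          have e : h₁ ^ 2 * c * h₂ ^ 2 = h₁ ^ 2 * h₂ ^ 2 * c := by
            rw [mul_assoc, (hcC (h₂ ^ 2)).eq, ← mul_assoc]
          rw [e]
          exact this
        · have e : h₁ ^ 2 * c * (h₂ ^ 2 * c) = h₁ ^ 2 * h₂ ^ 2 := by
            rw [mul_assoc, ← mul_assoc c, (hcC (h₂ ^ 2)).eq, mul_assoc (h₂ ^ 2), ← pow_two, hcsq,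
              mul_one]
          rw [e]
          exact hss h₁ h₂
      inv_mem' := by
        rintro y ⟨h, rfl | rfl⟩
        · exact ⟨h⁻¹, Or.inl (by rw [inv_pow])⟩
        · refine ⟨h⁻¹, Or.inr ?_⟩
          rw [mul_inv_rev, cinv, inv_pow, (hcC _).eq] }
  have hGT : commutator G ≤ T := by
    rw [commutator_def, Subgroup.commutator_le]
    intro x _ y _
    rcases hcom x y with h | h
    · rw [h]; exact T.one_mem
    · rw [h]; exact ⟨1, Or.inr (by rw [one_pow, one_mul])⟩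
  have hsqT : ∀ x : G, x ^ 2 ∈ T := fun x => ⟨x, Or.inl rfl⟩
  intro u hu
  exact frattini_le_of_elementary_quotient 2 T hGT hsqT hu

/-- if `c` is a square then it is a power of an element outside the Frattini subgroup. -/
theorem exists_gen_of_sq (hG : IsPGroup 2 G) (c : G) (hc1 : c ≠ 1) (hcsq : c ^ 2 = 1)
    (hcC : ∀ g : G, Commute c g)
    (hform : ∀ u ∈ frattini G, ∃ h : G, u = h ^ 2 ∨ u = h ^ 2 * c)
    (hsq : ∃ g : G, g ^ 2 = c) : ∃ w : G, w ∉ frattini G ∧ c ∈ Subgroup.zpowers w := by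
  classical
  obtain ⟨n, hn⟩ := IsPGroup.iff_card.mp hG
  have hbound : ∀ t : ℕ, (∃ u : G, u ^ 2 ^ t = c) → t ≤ n := by
    rintro t ⟨u, hu⟩
    by_contra hlt
    push Not at hlt
    apply hc1
    rw [← hu, ← orderOf_dvd_iff_pow_eq_one]
    exact (orderOf_dvd_natCard u).trans (hn ▸ pow_dvd_pow 2 hlt.le)
  have hP1 : ∃ u : G, u ^ 2 ^ 1 = c := by
    obtain ⟨g, hg⟩ := hsq
    exact ⟨g, by rw [pow_one]; exact hg⟩
  obtain ⟨t₀, ht₀⟩ : ∃ t₀, t₀ = Nat.findGreatest (fun t => ∃ u : G, u ^ 2 ^ t = c) n := ⟨_, rfl⟩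
  have hPt : ∃ u : G, u ^ 2 ^ t₀ = c := by
    rw [ht₀]
    exact Nat.findGreatest_spec (P := fun t => ∃ u : G, u ^ 2 ^ t = c) (hbound 1 hP1) hP1
  have h1t : 1 ≤ t₀ := by
    rw [ht₀]
    exact Nat.le_findGreatest (P := fun t => ∃ u : G, u ^ 2 ^ t = c) (hbound 1 hP1) hP1
  have hmax : ¬ ∃ u : G, u ^ 2 ^ (t₀ + 1) = c := by
    intro h
    have h1 := Nat.le_findGreatest (P := fun t => ∃ u : G, u ^ 2 ^ t = c) (hbound _ h) h
    rw [← ht₀] at h1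
    omega
  obtain ⟨u, hu⟩ := hPt
  refine ⟨u, ?_, ?_⟩
  · intro huΦ
    apply hmax
    obtain ⟨h, h' | h'⟩ := hform u huΦ
    · refine ⟨h, ?_⟩
      rw [pow_succ', pow_mul, ← h']
      exact hu
    · refine ⟨h, ?_⟩
      have h2 : c ^ 2 ^ t₀ = 1 := by
        have : 2 ^ t₀ = 2 * 2 ^ (t₀ - 1) := by
          rw [← pow_succ']
          congr 1
          omega
        rw [this, pow_mul, hcsq, one_pow]
      have h3 : u ^ 2 ^ t₀ = (h ^ 2) ^ 2 ^ t₀ := by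
        rw [h', ((hcC (h ^ 2)).symm).mul_pow, h2, mul_one]
      rw [pow_succ', pow_mul, ← h3]
      exact hu
  · rw [← hu]
    exact Subgroup.npow_mem_zpowers u _

/-- the case where `c` is not a square is impossible. -/
theorem no_nonsquare (hr : Cfsg.SectionalPRankLE 2 2 G) (c : G) (hcsq : c ^ 2 = 1)
    (hcC : ∀ g : G, Commute c g)
    (hmul2 : ∀ x y : G, (x * y) ^ 2 = x ^ 2 * y ^ 2 * ⁅y, x⁆)
    (hΦC : ∀ a ∈ frattini G, ∀ g : G, Commute a g)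
    (hsqΦ : ∀ x : G, x ^ 2 ∈ frattini G)
    (hcΦ : c ∈ frattini G)
    (a₀ b₀ : G) (hab : ⁅a₀, b₀⁆ = c) (hc1 : c ≠ 1)
    (hnsq : ∀ g : G, g ^ 2 ≠ c) : False := by
  have cinv : c⁻¹ = c := inv_eq_of_mul_eq_one_left (by rw [← pow_two]; exact hcsq)
  obtain ⟨B, hBdef⟩ : ∃ B, B = Cfsg.powerClosure 2 1 (frattini G) := ⟨_, rfl⟩
  have hB : ∀ y ∈ B, ∃ a ∈ frattini G, y = a ^ 2 := by
    intro y hy
    rw [hBdef] at hy
    unfold Cfsg.powerClosure at hy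
    induction hy using Subgroup.closure_induction with
    | mem y hy =>
      obtain ⟨x, hx, rfl⟩ := hy
      exact ⟨x, hx, by rw [pow_one]⟩
    | one => exact ⟨1, one_mem _, by rw [one_pow]⟩
    | mul y₁ y₂ _ _ h₁ h₂ =>
      obtain ⟨x₁, hx₁, rfl⟩ := h₁
      obtain ⟨x₂, hx₂, rfl⟩ := h₂
      exact ⟨x₁ * x₂, mul_mem hx₁ hx₂, ((hΦC x₁ hx₁ x₂).mul_pow 2).symm⟩
    | inv y _ h =>
      obtain ⟨x, hx, rfl⟩ := h
      exact ⟨x⁻¹, inv_mem hx, by rw [inv_pow]⟩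
  have hBsq : ∀ a ∈ frattini G, a ^ 2 ∈ B := fun a ha =>
    hBdef ▸ Subgroup.subset_closure ⟨a, ha, by rw [pow_one]⟩
  have hBΦ : B ≤ frattini G := by
    intro y hy
    obtain ⟨a, ha, rfl⟩ := hB y hy
    exact pow_mem ha 2
  have hF1 : c ∉ B := by
    intro h
    obtain ⟨a, -, ha⟩ := hB c h
    exact hnsq a ha.symm
  have hF2 : ∀ g : G, c * g ^ 2 ∉ B := by
    intro g hmem
    obtain ⟨a, ha, h⟩ := hB _ hmem
    have hac : Commute g a⁻¹ := ((hΦC a ha g).symm).inv_right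
    apply hnsq (g * a⁻¹)
    rw [hac.mul_pow, inv_pow, ← h, mul_inv_rev, mul_inv_cancel_left, cinv]
  have hba : ⁅b₀, a₀⁆ = c := by rw [← commutatorElement_inv, hab, cinv]
  obtain ⟨x, hx⟩ : ∃ x, x = a₀ ^ 2 := ⟨_, rfl⟩
  obtain ⟨y, hy⟩ : ∃ y, y = b₀ ^ 2 := ⟨_, rfl⟩
  have hxΦ : x ∈ frattini G := hx ▸ hsqΦ a₀
  have hyΦ : y ∈ frattini G := hy ▸ hsqΦ b₀
  have hz : (a₀ * b₀) ^ 2 = x * y * c := by rw [hmul2, hba, hx, hy]
  have hcz : c * (a₀ * b₀) ^ 2 = x * y := by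
    rw [hz, (hcC _).eq, mul_assoc, ← pow_two, hcsq, mul_one]
  have hcxB : c * x ∉ B := by rw [hx]; exact hF2 a₀
  have hcyB : c * y ∉ B := by rw [hy]; exact hF2 b₀
  have hnotΦ : ∀ g h : G, ⁅g, h⁆ = c → g ∉ frattini G := by
    intro g h hgh hg
    apply hc1
    rw [← hgh, commutatorElement_eq_one_iff_commute]
    exact hΦC g hg h
  have hF3 : ∀ g : G, g ∉ frattini G → g ^ 2 ∉ B := by
    intro g hg hgB
    obtain ⟨H, hHdef⟩ : ∃ H, H = Subgroup.zpowers g ⊔ frattini G := ⟨_, rfl⟩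
    have hHform : ∀ x ∈ H, ∃ k : ℤ, ∃ n ∈ frattini G, x = g ^ k * n := by
      intro x hx
      rw [hHdef, Subgroup.mem_sup_of_normal_right] at hx
      obtain ⟨y, hy, n, hn, rfl⟩ := hx
      obtain ⟨k, rfl⟩ := Subgroup.mem_zpowers_iff.mp hy
      exact ⟨k, n, hn, rfl⟩
    have h4 : B.relIndex H ≤ 4 := by
      apply relIndex_le_four hr B H
      · intro x hx y hy
        obtain ⟨k, n, hn, rfl⟩ := hHform x hx
        obtain ⟨l, m, hm, rfl⟩ := hHform y hy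
        have h1 : Commute (g ^ k * n) (g ^ l * m) :=
          Commute.mul_left
            (Commute.mul_right ((Commute.refl g).zpow_zpow k l) (hΦC m hm _).symm)
            (hΦC n hn _)
        rw [commutatorElement_eq_one_iff_commute.mpr h1]
        exact one_mem _
      · intro x hx
        obtain ⟨k, n, hn, rfl⟩ := hHform x hx
        rw [((hΦC n hn _).symm).mul_pow]
        have h1 : (g ^ k) ^ 2 = (g ^ 2) ^ k := by
          rw [pow_two, pow_two, (Commute.refl g).mul_zpow]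
        rw [h1]
        exact mul_mem (zpow_mem hgB k) (hBsq n hn)
    have hΦH : frattini G ≤ H := hHdef ▸ le_sup_right
    have h5 := Subgroup.relIndex_mul_relIndex B (frattini G) H hBΦ hΦH
    have h6 : (frattini G).relIndex H ≠ 1 := by
      rw [Ne, Subgroup.relIndex_eq_one]
      intro hle
      exact hg (hle (hHdef ▸ Subgroup.mem_sup_left (Subgroup.mem_zpowers g)))
    have h6' : (frattini G).relIndex H ≠ 0 := Subgroup.index_ne_zero_of_finite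
    have h7 : B.relIndex (frattini G) ≤ 2 := by
      have : 2 ≤ (frattini G).relIndex H := by omega
      nlinarith
    have h8 : ∀ y ∈ frattini G, y ∈ B ∨ c * y ∈ B := by
      intro y hy
      rcases exists3 B (frattini G) h7 1 c y (one_mem _) hcΦ hy with h | h | h
      · rw [inv_one, one_mul] at h; exact absurd h hF1
      · rw [inv_one, one_mul] at h; exact Or.inl h
      · rw [cinv] at h; exact Or.inr h
    have hxB : x ∈ B := (h8 _ hxΦ).resolve_right hcxB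
    have hyB : y ∈ B := (h8 _ hyΦ).resolve_right hcyB
    apply hF2 (a₀ * b₀)
    rw [hcz]
    exact mul_mem hxB hyB
  have h9 : B.relIndex (frattini G) ≤ 4 := by
    apply relIndex_le_four hr B (frattini G)
    · intro x hx y _
      rw [commutatorElement_eq_one_iff_commute.mpr (hΦC x hx y)]
      exact one_mem _
    · exact hBsq
  have hd : ⁅a₀ * b₀, b₀⁆ = c := by
    rw [← hab, commutatorElement_def, commutatorElement_def]; group
  have hxB : x ∉ B := hx ▸ hF3 a₀ (hnotΦ a₀ b₀ hab)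
  have hyB : y ∉ B := hy ▸ hF3 b₀ (hnotΦ b₀ a₀ hba)
  have hzB : (a₀ * b₀) ^ 2 ∉ B := hF3 _ (hnotΦ _ b₀ hd)
  have hx2 : x ^ 2 ∈ B := hBsq _ hxΦ
  rcases exists5 B (frattini G) h9 1 c x (c * x) y (one_mem _) hcΦ hxΦ (mul_mem hcΦ hxΦ) hyΦ with
    h | h | h | h | h | h | h | h | h | h
  · rw [inv_one, one_mul] at h; exact hF1 h
  · rw [inv_one, one_mul] at h; exact hxB h
  · rw [inv_one, one_mul] at h; exact hcxB h
  · rw [inv_one, one_mul] at h; exact hyB h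
  · rw [cinv] at h; exact hcxB h
  · rw [inv_mul_cancel_left] at h; exact hxB h
  · rw [cinv] at h; exact hcyB h
  · rw [(hcC x).eq, inv_mul_cancel_left] at h; exact hF1 h
  · apply hF2 (a₀ * b₀)
    rw [hcz]
    have e : x * y = x ^ 2 * (x⁻¹ * y) := by rw [pow_two, mul_assoc, mul_inv_cancel_left]
    rw [e]
    exact mul_mem hx2 h
  · apply hzB
    rw [hz]
    have e : x * y * c = x ^ 2 * ((c * x)⁻¹ * y) := by
      rw [mul_inv_rev, cinv, pow_two, mul_assoc x y c, ← (hcC y).eq, mul_assoc x x,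
        mul_assoc x⁻¹ c y, mul_inv_cancel_left]
    rw [e]
    exact mul_mem hx2 h

end Cfsg.Agent.Lib.Helper7.SectTwo
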