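import Cfsg.Agent.Lib.Helper7.SectTwoB
import Cfsg.Agent.Lib.Helper1.ClassTwo

/-! A finite `2`-group of sectional `2`-rank at most two is metacyclic: assembly. -/
set_option autoImplicit false
set_option linter.unusedSectionVars false
set_option linter.style.haveILetI false
universe u
open scoped commutatorElement

namespace Cfsg.Agent.Lib.Helper7.SectTwo

open Cfsg.Agent.Lib.Helper1 Cfsg.Agent.Lib.Helper3 Cfsg.Agent.Lib.Helper4.Metacyc

variable {G : Type u} [Group G] [Finite G]

/-- the reduced case: class at most two with derived subgroup of exponent two. -/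
theorem reduced_two (hG : IsPGroup 2 G) (hN0 : N0 2 G = ⊥)
    (hr : Cfsg.SectionalPRankLE 2 2 G) : Cfsg.IsMetacyclic G := by
  have hcl : ⁅commutator G, (⊤ : Subgroup G)⁆ = ⊥ := by
    rw [eq_bot_iff, ← hN0]; exact le_sup_right
  have hexp0 : Cfsg.powerClosure 2 1 (commutator G) = ⊥ := by
    rw [eq_bot_iff, ← hN0]; exact le_sup_left
  have hexp : ∀ x ∈ commutator G, x ^ 2 = 1 := by
    intro x hx
    have := Reg.pow_eq_one_of_powerClosure_eq_bot 2 1 hexp0 x hx
    rwa [pow_one] at this
  have hcc : CommCentral G := commCentral_of_commutator_commutator_eq_bot hcl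
  have hcomG : ∀ x y : G, ⁅x, y⁆ ∈ commutator G := fun x y => by
    rw [commutator_def]
    exact Subgroup.commutator_mem_commutator (Subgroup.mem_top _) (Subgroup.mem_top _)
  have hc2 : ∀ x y : G, ⁅x, y⁆ ^ 2 = 1 := fun x y => hexp _ (hcomG x y)
  have hsqC : ∀ g h : G, Commute (g ^ 2) h := by
    intro g h
    rw [← commutatorElement_eq_one_iff_commute, hcc.comm_pow_left, hc2]
  have hmul2 : ∀ x y : G, (x * y) ^ 2 = x ^ 2 * y ^ 2 * ⁅y, x⁆ := by
    intro x y
    have := hcc.mul_pow_eq x y 2
    simpa using this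
  have hGΦ : commutator G ≤ frattini G := commutator_le_frattini_of_isPGroup 2 hG
  have hsqΦ : ∀ x : G, x ^ 2 ∈ frattini G := fun x => pow_prime_mem_frattini_of_isPGroup 2 hG x
  have hΦ : Nat.card G ≤ 2 ^ 2 * Nat.card (frattini G) := by
    have h1 := relIndex_le_four hr (frattini G) ⊤ (fun x _ y _ => hGΦ (hcomG x y))
      (fun x _ => hsqΦ x)
    rw [Subgroup.relIndex_top_right] at h1
    rw [← Subgroup.index_mul_card (frattini G)]
    exact Nat.mul_le_mul_right _ (h1.trans (by norm_num))
  -- trivial group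
  by_cases hΦtop : frattini G = ⊤
  · have h1 : (⊥ : Subgroup G) = ⊤ := frattini_nongenerating (by rw [hΦtop, bot_sup_eq])
    apply isMetacyclic_of_gen 1 1
    · intro g
      have : g ∈ (⊥ : Subgroup G) := h1 ▸ Subgroup.mem_top g
      rw [Subgroup.mem_bot] at this
      exact ⟨0, 0, by simp [this]⟩
    · rw [Subgroup.zpowers_one_eq_bot]; infer_instance
  -- find `w`
  have key : ∃ w : G, w ∉ frattini G ∧ commutator G ≤ Subgroup.zpowers w := by
    obtain ⟨a₀, ha₀⟩ : ∃ a₀, a₀ ∉ frattini G := by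
      by_contra h
      push Not at h
      exact hΦtop (eq_top_iff.mpr fun x _ => h x)
    by_cases hab : commutator G = ⊥
    · exact ⟨a₀, ha₀, hab ▸ bot_le⟩
    obtain ⟨b₀, hb₀⟩ := two_gen hG hΦ a₀ ha₀
    obtain ⟨c, hc⟩ : ∃ c, c = ⁅a₀, b₀⁆ := ⟨_, rfl⟩
    have hcG : c ∈ commutator G := hc ▸ hcomG a₀ b₀
    have hcC : ∀ g : G, Commute c g := fun g =>
      Reg.commute_of_mem_of_commutator_eq_bot hcl hcG g
    have hccent : c ∈ Subgroup.center G := by
      rw [Subgroup.mem_center_iff]
      intro g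
      exact (hcC g).symm.eq
    haveI hCn : (Subgroup.zpowers c).Normal :=
      Cfsg.Agent.Lib.Helper2.zpowers_normal_of_mem_center hccent
    have hGC : commutator G ≤ Subgroup.zpowers c := by
      rw [commutator_def, ← hb₀]
      apply commutator_closure_le _ (Subgroup.zpowers c)
      · intro g _ x hx
        exact hCn.conj_mem x hx g
      · intro s hs t ht
        rcases hs with rfl | rfl <;> rcases ht with rfl | rfl
        · rw [commutatorElement_self]; exact one_mem _
        · rw [← hc]; exact Subgroup.mem_zpowers c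
        · rw [← commutatorElement_inv, ← hc]; exact inv_mem (Subgroup.mem_zpowers c)
        · rw [commutatorElement_self]; exact one_mem _
    have hc1 : c ≠ 1 := by
      rintro rfl
      apply hab
      rw [eq_bot_iff]
      refine hGC.trans ?_
      rw [Subgroup.zpowers_one_eq_bot]
    have hcsq : c ^ 2 = 1 := hexp c hcG
    have hcz : ∀ g ∈ Subgroup.zpowers c, g = 1 ∨ g = c := by
      intro g hg
      obtain ⟨k, rfl⟩ := Subgroup.mem_zpowers_iff.mp hg
      have h2 : c ^ (2 : ℤ) = 1 := by
        rw [zpow_two, ← pow_two]; exact hcsq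
      rcases Int.even_or_odd' k with ⟨m, rfl | rfl⟩
      · left
        rw [zpow_mul, h2, one_zpow]
      · right
        rw [zpow_add, zpow_mul, h2, one_zpow, one_mul, zpow_one]
    have hcom : ∀ x y : G, ⁅x, y⁆ = 1 ∨ ⁅x, y⁆ = c := fun x y => hcz _ (hGC (hcomG x y))
    have hform := frattini_form c hcsq hcC hcom hmul2
    have hΦC : ∀ a ∈ frattini G, ∀ g : G, Commute a g := by
      intro a ha g
      obtain ⟨h, rfl | rfl⟩ := hform a ha
      · exact hsqC h g
      · exact Commute.mul_left (hsqC h g) (hcC g)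
    by_cases hsq : ∃ g : G, g ^ 2 = c
    · obtain ⟨w, hw, hcw⟩ := exists_gen_of_sq hG c hc1 hcsq hcC hform hsq
      exact ⟨w, hw, hGC.trans (by rw [Subgroup.zpowers_le]; exact hcw)⟩
    · push Not at hsq
      exact (no_nonsquare hr c hcsq hcC hmul2 hΦC hsqΦ (hGΦ hcG) a₀ b₀ hc.symm hc1 hsq).elim
  obtain ⟨w, hw, hGw⟩ := key
  have hwn : (Subgroup.zpowers w).Normal := normal_of_commutator_le hGw
  obtain ⟨y, hy⟩ := two_gen hG hΦ w hw
  exact isMetacyclic_of_gen w y (gen_of_closure w y hwn hy) hwn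

theorem sect_two_aux : ∀ (m : ℕ) (G : Type u) [Group G] [Finite G], Nat.card G = m →
    IsPGroup 2 G → Cfsg.SectionalPRankLE 2 2 G → Cfsg.IsMetacyclic G := by
  intro m
  induction m using Nat.strong_induction_on with
  | _ m ih =>
  intro G _ _ hcard hG hr
  by_cases hN0 : N0 2 G = ⊥
  · exact reduced_two hG hN0 hr
  obtain ⟨z, hzN, hzc, hzo⟩ :=
    Cfsg.Agent.Lib.Helper2.exists_central_orderOf_eq_prime hG (N0 2 G) hN0
  haveI hZn : (Subgroup.zpowers z).Normal :=
    Cfsg.Agent.Lib.Helper2.zpowers_normal_of_mem_center hzc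
  have hlt : Nat.card (G ⧸ Subgroup.zpowers z) < m := by
    have h1 := Subgroup.card_eq_card_quotient_mul_card_subgroup (Subgroup.zpowers z)
    rw [Nat.card_zpowers, hzo, hcard] at h1
    rw [h1]
    have : 0 < Nat.card (G ⧸ Subgroup.zpowers z) := Nat.card_pos
    nlinarith
  have hQ := ih _ hlt (G ⧸ Subgroup.zpowers z) rfl (hG.to_quotient _)
    (sectional_quotient hr (Subgroup.zpowers z))
  exact core hG z hzc hzo hzN hQ

/-- A finite `2`-group of sectional `2`-rank at most two is metacyclic. -/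
theorem metacyclic_of_sectional {S : Type u} [Group S] [Finite S] (h2 : IsPGroup 2 S)
    (hr : Cfsg.SectionalPRankLE 2 2 S) : Cfsg.IsMetacyclic S :=
  sect_two_aux _ S rfl h2 hr

end Cfsg.Agent.Lib.Helper7.SectTwo
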