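import Mathlib
import Cfsg.Agent.Lib.Helper1.ClassTwo
import Cfsg.Agent.Lib.Helper1.FrattiniP
import Cfsg.Agent.Lib.Helper3.Fitting

set_option autoImplicit false
open scoped commutatorElement

namespace Cfsg.Agent.Lib.Helper7.SelfNorm

open Cfsg.Agent.Lib.Helper1

/-- Miller–Moreno: in a minimal non-abelian `q`-group the derived subgroup is generated by one
element of order dividing `q`. -/
theorem commutator_le_zpowers_of_minNonAb {Q : Type*} [Group Q] [Finite Q] (q : ℕ) [Fact q.Prime]
    (hQ : IsPGroup q Q) (hna : ¬ IsMulCommutative Q)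
    (hmin : ∀ H : Subgroup Q, H ≠ ⊤ → IsMulCommutative H) :
    ∃ c : Q, c ^ q = 1 ∧ commutator Q ≤ Subgroup.zpowers c := by
  classical
  -- noncommuting pair
  obtain ⟨a, b, hab⟩ : ∃ a b : Q, a * b ≠ b * a := by
    by_contra hcon
    push Not at hcon
    exact hna ⟨⟨hcon⟩⟩
  have hgen : Subgroup.closure ({a, b} : Set Q) = ⊤ := by
    by_contra h
    have hc := hmin _ h
    have ha : a ∈ Subgroup.closure ({a, b} : Set Q) := Subgroup.subset_closure (by simp)
    have hb : b ∈ Subgroup.closure ({a, b} : Set Q) := Subgroup.subset_closure (by simp)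
    have := hc.is_comm.comm ⟨a, ha⟩ ⟨b, hb⟩
    exact hab (congrArg Subtype.val this)
  -- Frattini subgroup is central
  have hΦ : frattini Q ≤ Subgroup.center Q := by
    intro g hg
    rw [Subgroup.mem_center_iff]
    intro x
    by_cases hK : Subgroup.zpowers x ⊔ frattini Q = ⊤
    · have hx : Subgroup.zpowers x = ⊤ := frattini_nongenerating hK
      exfalso
      apply hna
      refine ⟨⟨fun u v => ?_⟩⟩
      have hu : u ∈ Subgroup.zpowers x := by rw [hx]; exact Subgroup.mem_top u
      have hv : v ∈ Subgroup.zpowers x := by rw [hx]; exact Subgroup.mem_top v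
      obtain ⟨m, rfl⟩ := Subgroup.mem_zpowers_iff.mp hu
      obtain ⟨n, rfl⟩ := Subgroup.mem_zpowers_iff.mp hv
      exact (Commute.zpow_zpow_self x m n).eq
    · have hc := hmin _ hK
      have hx : x ∈ Subgroup.zpowers x ⊔ frattini Q :=
        (le_sup_left : Subgroup.zpowers x ≤ _) (Subgroup.mem_zpowers x)
      have hg' : g ∈ Subgroup.zpowers x ⊔ frattini Q := (le_sup_right : frattini Q ≤ _) hg
      have := hc.is_comm.comm ⟨x, hx⟩ ⟨g, hg'⟩
      exact congrArg Subtype.val this
  have hcc : CommCentral Q :=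
    commCentral_of_commutator_le_center ((commutator_le_frattini_of_isPGroup q hQ).trans hΦ)
  refine ⟨⁅a, b⁆, ?_, ?_⟩
  · rw [← hcc.comm_pow_left]
    have haq : a ^ q ∈ Subgroup.center Q := hΦ (pow_prime_mem_frattini_of_isPGroup q hQ a)
    rw [commutatorElement_eq_one_iff_mul_comm]
    exact (Subgroup.mem_center_iff.mp haq b).symm
  · -- the quotient by ⟨[a,b]⟩ is abelian
    have hcmem : ⁅a, b⁆ ∈ Subgroup.center Q :=
      ((commutator_le_frattini_of_isPGroup q hQ).trans hΦ) (by
        rw [commutator_def]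
        exact Subgroup.commutator_mem_commutator (Subgroup.mem_top a) (Subgroup.mem_top b))
    have hCle : Subgroup.zpowers ⁅a, b⁆ ≤ Subgroup.center Q := Subgroup.zpowers_le.mpr hcmem
    haveI hCn : (Subgroup.zpowers ⁅a, b⁆).Normal := by
      constructor
      intro n hn g
      have := Subgroup.mem_center_iff.mp (hCle hn) g
      have e : g * n * g⁻¹ = n := by rw [this, mul_inv_cancel_right]
      rw [e]; exact hn
    -- the set of elements commuting with `a` modulo C and with `b` modulo C is everything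
    have key : ∀ x : Q, ⁅x, a⁆ ∈ Subgroup.zpowers ⁅a, b⁆ ∧ ⁅x, b⁆ ∈ Subgroup.zpowers ⁅a, b⁆ := by
      intro x
      have hx : x ∈ Subgroup.closure ({a, b} : Set Q) := by rw [hgen]; exact Subgroup.mem_top x
      induction hx using Subgroup.closure_induction with
      | mem y hy =>
        rcases hy with h | h
        · rw [h]
          refine ⟨?_, Subgroup.mem_zpowers _⟩
          rw [commutatorElement_self]; exact Subgroup.one_mem _
        · have h' : y = b := h
          rw [h']
          refine ⟨?_, ?_⟩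
          · have e0 : ⁅b, a⁆ = (⁅a, b⁆)⁻¹ := (commutatorElement_inv a b).symm
            rw [e0]
            exact Subgroup.inv_mem _ (Subgroup.mem_zpowers _)
          · rw [commutatorElement_self]; exact Subgroup.one_mem _
      | one =>
        rw [CommCentral.comm_one_left, CommCentral.comm_one_left]
        exact ⟨Subgroup.one_mem _, Subgroup.one_mem _⟩
      | mul y z _ _ hy hz =>
        rw [hcc.comm_mul_left, hcc.comm_mul_left]
        exact ⟨Subgroup.mul_mem _ hy.1 hz.1, Subgroup.mul_mem _ hy.2 hz.2⟩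
      | inv y _ hy =>
        have e : ∀ w : Q, ⁅y⁻¹, w⁆ = (⁅y, w⁆)⁻¹ := by
          intro w
          have h1 : ⁅y⁻¹ * y, w⁆ = ⁅y⁻¹, w⁆ * ⁅y, w⁆ := hcc.comm_mul_left _ _ _
          rw [inv_mul_cancel, CommCentral.comm_one_left] at h1
          exact eq_inv_of_mul_eq_one_left h1.symm
        rw [e, e]
        exact ⟨Subgroup.inv_mem _ hy.1, Subgroup.inv_mem _ hy.2⟩
    -- now every commutator lies in C
    rw [commutator_def, Subgroup.commutator_le]
    intro x _ y hytop
    clear hytop
    have hy : y ∈ Subgroup.closure ({a, b} : Set Q) := by rw [hgen]; exact Subgroup.mem_top y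
    induction hy using Subgroup.closure_induction with
    | mem w hw =>
      rcases hw with h | h
      · rw [h]; exact (key x).1
      · have h' : w = b := h
        rw [h']; exact (key x).2
    | one =>
      have : ⁅x, (1 : Q)⁆ = 1 := by simp [commutatorElement_def]
      rw [this]; exact Subgroup.one_mem _
    | mul u v _ _ hu hv =>
      rw [hcc.comm_mul_right]
      exact Subgroup.mul_mem _ hu hv
    | inv u _ hu =>
      have h1 : ⁅x, u⁻¹ * u⁆ = ⁅x, u⁻¹⁆ * ⁅x, u⁆ := hcc.comm_mul_right _ _ _
      have h0 : ⁅x, u⁻¹ * u⁆ = 1 := by simp [commutatorElement_def]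
      rw [h0] at h1
      have : ⁅x, u⁻¹⁆ = (⁅x, u⁆)⁻¹ := eq_inv_of_mul_eq_one_left h1.symm
      rw [this]
      exact Subgroup.inv_mem _ hu

/-- Transfer: in a perfect group, a central element of prime order `q` lying in a Sylow
`q`-subgroup `Q` lies in the derived subgroup of `Q`. -/
theorem central_mem_commutator_sylow {G : Type*} [Group G] [Finite G] (q : ℕ) [Fact q.Prime]
    (hperf : commutator G = ⊤) (Q : Sylow q G) (z : G) (hz : z ∈ Subgroup.center G)
    (hzQ : z ∈ (Q : Subgroup G)) (hzq : z ^ q = 1) :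
    (⟨z, hzQ⟩ : (Q : Subgroup G)) ∈ commutator (Q : Subgroup G) := by
  classical
  have key : ∀ (k : ℕ) (g₀ : G), g₀⁻¹ * z ^ k * g₀ ∈ (Q : Subgroup G) →
      g₀⁻¹ * z ^ k * g₀ = z ^ k := by
    intro k g₀ _
    have hzk : z ^ k ∈ Subgroup.center G := Subgroup.pow_mem _ hz k
    have := Subgroup.mem_center_iff.mp hzk g₀
    rw [mul_assoc, ← this, inv_mul_cancel_left]
  have h1 := MonoidHom.transfer_eq_pow (Abelianization.of : (Q : Subgroup G) →* Abelianization (Q : Subgroup G)) z key
  have h2 : MonoidHom.transfer (Abelianization.of : (Q : Subgroup G) →* Abelianization (Q : Subgroup G)) z = 1 := by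
    have hle := Abelianization.commutator_subset_ker
      (MonoidHom.transfer (Abelianization.of : (Q : Subgroup G) →* Abelianization (Q : Subgroup G)))
    rw [hperf] at hle
    exact MonoidHom.mem_ker.mp (hle (Subgroup.mem_top z))
  rw [h2] at h1
  have h3 : (⟨z ^ (Q : Subgroup G).index, MonoidHom.transfer_eq_pow_aux z key⟩ : (Q : Subgroup G)) ∈
      commutator (Q : Subgroup G) := by
    rw [← Abelianization.ker_of, MonoidHom.mem_ker]
    exact h1.symm
  -- z is a power of z ^ index
  have hcop : ((Q : Subgroup G).index).Coprime (orderOf (⟨z, hzQ⟩ : (Q : Subgroup G))) := by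
    have hdvd : orderOf (⟨z, hzQ⟩ : (Q : Subgroup G)) ∣ q := by
      apply orderOf_dvd_of_pow_eq_one
      apply Subtype.ext
      rw [Subgroup.coe_pow]; exact hzq
    have hq : Nat.Coprime ((Q : Subgroup G).index) q :=
      ((Nat.Prime.coprime_iff_not_dvd (Fact.out : q.Prime)).mpr Q.not_dvd_index).symm
    exact Nat.Coprime.coprime_dvd_right hdvd hq
  apply Cfsg.Agent.Lib.Helper3.mem_of_pow_mem_of_coprime _ _ _ hcop
  have e : (⟨z, hzQ⟩ : (Q : Subgroup G)) ^ (Q : Subgroup G).index =
      ⟨z ^ (Q : Subgroup G).index, MonoidHom.transfer_eq_pow_aux z key⟩ := by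
    apply Subtype.ext
    rw [Subgroup.coe_pow]
  rw [e]
  exact h3

end Cfsg.Agent.Lib.Helper7.SelfNorm
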