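import Mathlib
import Cfsg.Agent.Lib.Helper7.SelfNorm1

set_option autoImplicit false
open scoped commutatorElement

namespace Cfsg.Agent.Lib.Helper7.SelfNorm

variable {G : Type*} [Group G]

/-- Final contradiction: a perfect group with a central element of prime order cannot have all
non-abelian subgroups self-normalizing. -/
theorem false_of_perfect_central [Finite G]
    (hS : ∀ H : Subgroup G, ¬ IsMulCommutative H → Subgroup.normalizer (H : Set G) = H)
    (hperf : commutator G = ⊤) (q : ℕ) [hq : Fact q.Prime] (z : G) (hz : z ∈ Subgroup.center G)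
    (hzq : orderOf z = q) : False := by
  classical
  have hz1 : z ≠ 1 := by
    intro h
    rw [h, orderOf_one] at hzq
    exact hq.out.one_lt.ne hzq
  have hzpow : z ^ q = 1 := by rw [← hzq]; exact pow_orderOf_eq_one z
  -- a Sylow q-subgroup containing z
  have hZp : IsPGroup q (Subgroup.zpowers z) := by
    apply IsPGroup.of_card (n := 1)
    rw [Nat.card_zpowers, hzq, pow_one]
  obtain ⟨Q, hQ⟩ := hZp.exists_le_sylow
  have hzQ : z ∈ (Q : Subgroup G) := hQ (Subgroup.mem_zpowers z)
  have hmem := central_mem_commutator_sylow q hperf Q z hz hzQ hzpow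
  -- Q is not commutative
  have hQna : ¬ IsMulCommutative (Q : Subgroup G) := by
    intro hc
    have hbot : commutator (Q : Subgroup G) = ⊥ := by
      rw [commutator_def, eq_bot_iff, Subgroup.commutator_le]
      intro a _ b _
      rw [Subgroup.mem_bot, commutatorElement_eq_one_iff_mul_comm]
      exact hc.is_comm.comm a b
    rw [hbot, Subgroup.mem_bot] at hmem
    exact hz1 (congrArg Subtype.val hmem)
  have hQself : Subgroup.normalizer ((Q : Subgroup G) : Set G) = (Q : Subgroup G) := hS _ hQna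
  -- every proper subgroup of Q is commutative
  have hmin : ∀ D : Subgroup (Q : Subgroup G), D ≠ ⊤ → IsMulCommutative D := by
    intro D hD
    by_contra hDna
    have hD'na : ¬ IsMulCommutative (D.map (Q : Subgroup G).subtype) := by
      intro hc
      apply hDna
      refine ⟨⟨fun a b => ?_⟩⟩
      have ha : (a : G) ∈ D.map (Q : Subgroup G).subtype := ⟨a, a.2, rfl⟩
      have hb : (b : G) ∈ D.map (Q : Subgroup G).subtype := ⟨b, b.2, rfl⟩
      have := hc.is_comm.comm ⟨_, ha⟩ ⟨_, hb⟩
      have h2 : ((a : (Q : Subgroup G)) : G) * ((b : (Q : Subgroup G)) : G) =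
          ((b : (Q : Subgroup G)) : G) * ((a : (Q : Subgroup G)) : G) := congrArg Subtype.val this
      apply Subtype.ext; apply Subtype.ext
      exact h2
    have hself := hS _ hD'na
    haveI : Group.IsNilpotent (Q : Subgroup G) := Q.isPGroup'.isNilpotent
    have hnc : NormalizerCondition (Q : Subgroup G) := Group.normalizerCondition_of_isNilpotent
    have hlt := hnc D (lt_top_iff_ne_top.mpr hD)
    obtain ⟨x, hxN, hxD⟩ := SetLike.exists_of_lt hlt
    have h1 : (x : G) ∈ Subgroup.normalizer ((D.map (Q : Subgroup G).subtype : Subgroup G) : Set G) :=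
      Subgroup.le_normalizer_map (Q : Subgroup G).subtype ⟨x, hxN, rfl⟩
    rw [hself] at h1
    obtain ⟨d, hd, hdx⟩ := h1
    have : d = x := Subtype.ext hdx
    exact hxD (this ▸ hd)
  obtain ⟨c, hcq, hcle⟩ := commutator_le_zpowers_of_minNonAb q Q.isPGroup' hQna hmin
  -- the derived subgroup of Q is ⟨z⟩
  obtain ⟨ζ, hζ⟩ : ∃ ζ : (Q : Subgroup G), ζ = ⟨z, hzQ⟩ := ⟨_, rfl⟩
  have hζ1 : ζ ≠ 1 := by
    intro h
    apply hz1
    have := congrArg Subtype.val h
    rw [hζ] at this
    exact this
  have hζc : ζ ∈ Subgroup.zpowers c := by rw [hζ]; exact hcle hmem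
  have hζq : orderOf ζ = q := by
    rw [hζ, ← Subgroup.orderOf_coe]; exact hzq
  have hzc : Subgroup.zpowers ζ = Subgroup.zpowers c := by
    apply Subgroup.eq_of_le_of_card_ge (Subgroup.zpowers_le.mpr hζc)
    rw [Nat.card_zpowers, Nat.card_zpowers, hζq]
    exact Nat.le_of_dvd hq.out.pos (orderOf_dvd_of_pow_eq_one hcq)
  have hder : commutator (Q : Subgroup G) ≤ Subgroup.zpowers ζ := by rw [hzc]; exact hcle
  -- quotient by ⟨z⟩
  haveI hZn : (Subgroup.zpowers z).Normal := by
    constructor
    intro n hn g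
    have hnc : n ∈ Subgroup.center G := (Subgroup.zpowers_le.mpr hz) hn
    have := Subgroup.mem_center_iff.mp hnc g
    have e : g * n * g⁻¹ = n := by rw [this, mul_inv_cancel_right]
    rw [e]; exact hn
  have hπs : Function.Surjective (QuotientGroup.mk' (Subgroup.zpowers z)) :=
    QuotientGroup.mk'_surjective _
  obtain ⟨Qh, hQh⟩ : ∃ Qh : Sylow q (G ⧸ Subgroup.zpowers z), Qh = Q.mapSurjective hπs := ⟨_, rfl⟩
  have hQhcoe : (Qh : Subgroup (G ⧸ Subgroup.zpowers z)) =
      (Q : Subgroup G).map (QuotientGroup.mk' (Subgroup.zpowers z)) := by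
    rw [hQh, Sylow.coe_mapSurjective]
  have hker : (QuotientGroup.mk' (Subgroup.zpowers z)).ker ≤ (Q : Subgroup G) := by
    rw [QuotientGroup.ker_mk']; exact hQ
  -- Qh is commutative
  have hQhcomm : ∀ u ∈ (Qh : Subgroup (G ⧸ Subgroup.zpowers z)),
      ∀ v ∈ (Qh : Subgroup (G ⧸ Subgroup.zpowers z)), u * v = v * u := by
    intro u hu v hv
    rw [hQhcoe] at hu hv
    obtain ⟨x, hx, rfl⟩ := hu
    obtain ⟨y, hy, rfl⟩ := hv
    have hcomm : ⁅(⟨x, hx⟩ : (Q : Subgroup G)), ⟨y, hy⟩⁆ ∈ Subgroup.zpowers ζ := by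
      apply hder
      rw [commutator_def]
      exact Subgroup.commutator_mem_commutator (Subgroup.mem_top _) (Subgroup.mem_top _)
    obtain ⟨k, hk⟩ := Subgroup.mem_zpowers_iff.mp hcomm
    have hk' : ⁅x, y⁆ = z ^ k := by
      have := congrArg Subtype.val hk
      rw [hζ] at this
      simpa [commutatorElement_def] using this.symm
    have h1 : (QuotientGroup.mk' (Subgroup.zpowers z)) ⁅x, y⁆ = 1 := by
      rw [hk', QuotientGroup.mk'_apply, QuotientGroup.eq_one_iff]
      exact Subgroup.zpow_mem _ (Subgroup.mem_zpowers z) k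
    rw [map_commutatorElement, commutatorElement_eq_one_iff_mul_comm] at h1
    exact h1
  have hP : Subgroup.normalizer ((Qh : Subgroup (G ⧸ Subgroup.zpowers z)) : Set (G ⧸ Subgroup.zpowers z)) ≤
      Subgroup.centralizer ((Qh : Subgroup (G ⧸ Subgroup.zpowers z)) : Set (G ⧸ Subgroup.zpowers z)) := by
    intro g hg
    obtain ⟨g0, rfl⟩ := hπs g
    have h1 : g0 ∈ Subgroup.comap (QuotientGroup.mk' (Subgroup.zpowers z))
        (Subgroup.normalizer ((Qh : Subgroup (G ⧸ Subgroup.zpowers z)) : Set (G ⧸ Subgroup.zpowers z))) := hg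
    rw [Subgroup.comap_normalizer_eq_of_surjective _ hπs, hQhcoe,
      Subgroup.comap_map_eq_self hker, hQself] at h1
    have h2 : (QuotientGroup.mk' (Subgroup.zpowers z)) g0 ∈ (Qh : Subgroup (G ⧸ Subgroup.zpowers z)) := by
      rw [hQhcoe]; exact ⟨g0, h1, rfl⟩
    rw [Subgroup.mem_centralizer_iff]
    intro v hv
    exact hQhcomm v hv _ h2
  have hcomp := MonoidHom.ker_transferSylow_isComplement' Qh hP
  -- the transfer is trivial since G is perfect
  have hperf' : commutator (G ⧸ Subgroup.zpowers z) = ⊤ := by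
    rw [commutator_def, ← Subgroup.map_top_of_surjective _ hπs, ← Subgroup.map_commutator,
      ← commutator_def, hperf]
  have hkertop : (MonoidHom.transferSylow Qh hP).ker = ⊤ := by
    rw [eq_top_iff, ← hperf', commutator_def, Subgroup.commutator_le]
    intro a _ b _
    rw [MonoidHom.mem_ker, map_commutatorElement, commutatorElement_eq_one_iff_mul_comm]
    apply Subtype.ext
    rw [Subgroup.coe_mul, Subgroup.coe_mul]
    exact hQhcomm _ (Subtype.mem _) _ (Subtype.mem _)
  rw [hkertop, Subgroup.isComplement'_top_left, hQhcoe] at hcomp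
  -- so Q ≤ ⟨z⟩, hence commutative
  have hQle : (Q : Subgroup G) ≤ Subgroup.zpowers z := by
    have := (Subgroup.map_eq_bot_iff _).mp hcomp
    rwa [QuotientGroup.ker_mk'] at this
  apply hQna
  refine ⟨⟨fun a b => ?_⟩⟩
  obtain ⟨m, hm⟩ := Subgroup.mem_zpowers_iff.mp (hQle a.2)
  obtain ⟨n, hn⟩ := Subgroup.mem_zpowers_iff.mp (hQle b.2)
  apply Subtype.ext
  rw [Subgroup.coe_mul, Subgroup.coe_mul, ← hm, ← hn]
  exact (Commute.zpow_zpow_self z m n).eq

end Cfsg.Agent.Lib.Helper7.SelfNorm
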