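import Mathlib
import Cfsg.Agent.Lib.Helper7.SelfNorm2

set_option autoImplicit false
open scoped commutatorElement

namespace Cfsg.Agent.Lib.Helper7.SelfNorm

variable {G : Type*} [Group G]

/-- A maximal proper normal subgroup with non-abelian quotient is central. -/
theorem central_of_maximal_normal [Finite G]
    (hS : ∀ H : Subgroup G, ¬ IsMulCommutative H → Subgroup.normalizer (H : Set G) = H)
    (N : Subgroup G) [hNn : N.Normal] (hNtop : N ≠ ⊤) (hNab : IsMulCommutative N)
    (hmax : ∀ K : Subgroup G, K.Normal → N ≤ K → K = N ∨ K = ⊤)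
    (hq : ¬ ∀ x y : G ⧸ N, x * y = y * x) : N ≤ Subgroup.center G := by
  classical
  have hπs : Function.Surjective (QuotientGroup.mk' N) := QuotientGroup.mk'_surjective _
  have hCn : (Subgroup.centralizer (N : Set G)).Normal := Subgroup.normal_centralizer
  have hNC : N ≤ Subgroup.centralizer (N : Set G) := by
    intro n hn
    rw [Subgroup.mem_centralizer_iff]
    intro m hm
    have := hNab.is_comm.comm ⟨m, hm⟩ ⟨n, hn⟩
    exact congrArg Subtype.val this
  rcases hmax _ hCn hNC with hC | hC
  · exfalso
    -- a prime dividing the index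
    have hidx : N.index ≠ 1 := fun h => hNtop (Subgroup.index_eq_one.mp h)
    obtain ⟨r, hr, hrdvd⟩ := Nat.exists_prime_and_dvd hidx
    haveI : Fact r.Prime := ⟨hr⟩
    have hcard : r ∣ Nat.card (G ⧸ N) := by rw [← Subgroup.index_eq_card]; exact hrdvd
    obtain ⟨P⟩ : Nonempty (Sylow r (G ⧸ N)) := inferInstance
    have hPne : (P : Subgroup (G ⧸ N)) ≠ ⊥ := P.ne_bot_of_dvd_card hcard
    haveI : Nontrivial (P : Subgroup (G ⧸ N)) := (Subgroup.nontrivial_iff_ne_bot _).mpr hPne
    have hPp : IsPGroup r (P : Subgroup (G ⧸ N)) := P.isPGroup'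
    haveI : Nontrivial (Subgroup.center (P : Subgroup (G ⧸ N))) := hPp.center_nontrivial
    have hZp : IsPGroup r (Subgroup.center (P : Subgroup (G ⧸ N))) := hPp.to_subgroup _
    have hdvd : r ∣ Nat.card (Subgroup.center (P : Subgroup (G ⧸ N))) := by
      rcases hZp.card_eq_or_dvd with h | h
      · exact absurd h (Finite.one_lt_card).ne'
      · exact h
    obtain ⟨c, hc⟩ := exists_prime_orderOf_dvd_card' r hdvd
    obtain ⟨hb, hhb⟩ : ∃ hb : G ⧸ N, hb = ((c : (P : Subgroup (G ⧸ N))) : G ⧸ N) := ⟨_, rfl⟩
    have hhbP : hb ∈ (P : Subgroup (G ⧸ N)) := by rw [hhb]; exact (c : (P : Subgroup (G ⧸ N))).2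
    have hord : orderOf hb = r := by
      rw [hhb, Subgroup.orderOf_coe, Subgroup.orderOf_coe]; exact hc
    have hcomm : ∀ x ∈ (P : Subgroup (G ⧸ N)), x * hb = hb * x := by
      intro x hx
      have := Subgroup.mem_center_iff.mp c.2 ⟨x, hx⟩
      have h2 := congrArg Subtype.val this
      rw [hhb]
      exact h2
    -- the subgroup H = N⟨h⟩
    obtain ⟨Zb, hZb⟩ : ∃ Zb : Subgroup (G ⧸ N), Zb = Subgroup.zpowers hb := ⟨_, rfl⟩
    have hZbP : Zb ≤ (P : Subgroup (G ⧸ N)) := by rw [hZb]; exact Subgroup.zpowers_le.mpr hhbP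
    have hZbcomm : ∀ u ∈ Zb, ∀ v ∈ Zb, u * v = v * u := by
      intro u hu v hv
      rw [hZb] at hu hv
      obtain ⟨m, rfl⟩ := Subgroup.mem_zpowers_iff.mp hu
      obtain ⟨n, rfl⟩ := Subgroup.mem_zpowers_iff.mp hv
      exact (Commute.zpow_zpow_self hb m n).eq
    obtain ⟨h, hh⟩ := hπs hb
    by_cases hHab : IsMulCommutative (Zb.comap (QuotientGroup.mk' N))
    · -- then h centralizes N, so h ∈ N
      have hhH : h ∈ Zb.comap (QuotientGroup.mk' N) := by
        rw [Subgroup.mem_comap, hh, hZb]; exact Subgroup.mem_zpowers hb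
      have hNH : N ≤ Zb.comap (QuotientGroup.mk' N) := by
        intro n hn
        rw [Subgroup.mem_comap]
        have : (QuotientGroup.mk' N) n = 1 := by
          rw [QuotientGroup.mk'_apply, QuotientGroup.eq_one_iff]; exact hn
        rw [this]; exact Subgroup.one_mem _
      have hhC : h ∈ Subgroup.centralizer (N : Set G) := by
        rw [Subgroup.mem_centralizer_iff]
        intro n hn
        have := hHab.is_comm.comm ⟨n, hNH hn⟩ ⟨h, hhH⟩
        exact congrArg Subtype.val this
      rw [hC] at hhC
      have h1 : hb = 1 := by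
        rw [← hh, QuotientGroup.mk'_apply, QuotientGroup.eq_one_iff]; exact hhC
      rw [h1, orderOf_one] at hord
      exact hr.one_lt.ne hord
    · -- H is self-normalizing, so Zb is self-normalizing in the quotient
      have hself := hS _ hHab
      rw [← Subgroup.comap_normalizer_eq_of_surjective _ hπs] at hself
      have hZself : Subgroup.normalizer (Zb : Set (G ⧸ N)) = Zb := Subgroup.comap_injective hπs hself
      -- P normalizes (centralizes) Zb, so P = Zb
      have hPZ : (P : Subgroup (G ⧸ N)) ≤ Zb := by
        intro x hx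
        rw [← hZself]
        apply Subgroup.centralizer_le_normalizer
        rw [Subgroup.mem_centralizer_iff]
        intro u hu
        have hu' : u ∈ Subgroup.zpowers hb := by rw [← hZb]; exact hu
        obtain ⟨m, rfl⟩ := Subgroup.mem_zpowers_iff.mp hu'
        have hcm : Commute x hb := hcomm x hx
        exact (hcm.zpow_right m).eq.symm
      have hPeq : (P : Subgroup (G ⧸ N)) = Zb := le_antisymm hPZ hZbP
      have hP : Subgroup.normalizer ((P : Subgroup (G ⧸ N)) : Set (G ⧸ N)) ≤
          Subgroup.centralizer ((P : Subgroup (G ⧸ N)) : Set (G ⧸ N)) := by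
        rw [hPeq, hZself]
        intro u hu
        rw [Subgroup.mem_centralizer_iff]
        intro v hv
        exact hZbcomm v hv u hu
      have hcomp := MonoidHom.ker_transferSylow_isComplement' P hP
      have hKn : ((MonoidHom.transferSylow P hP).ker.comap (QuotientGroup.mk' N)).Normal :=
        Subgroup.Normal.comap inferInstance _
      have hNK : N ≤ (MonoidHom.transferSylow P hP).ker.comap (QuotientGroup.mk' N) := by
        intro n hn
        rw [Subgroup.mem_comap]
        have : (QuotientGroup.mk' N) n = 1 := by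
          rw [QuotientGroup.mk'_apply, QuotientGroup.eq_one_iff]; exact hn
        rw [this]; exact Subgroup.one_mem _
      rcases hmax _ hKn hNK with hK | hK
      · -- kernel trivial: quotient equals P = Zb, commutative
        have hKbot : (MonoidHom.transferSylow P hP).ker = ⊥ := by
          apply Subgroup.comap_injective hπs
          rw [hK, MonoidHom.comap_bot, QuotientGroup.ker_mk']
        rw [hKbot, Subgroup.isComplement'_bot_left] at hcomp
        apply hq
        intro x y
        have hx : x ∈ Zb := by rw [← hPeq, hcomp]; exact Subgroup.mem_top x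
        have hy : y ∈ Zb := by rw [← hPeq, hcomp]; exact Subgroup.mem_top y
        exact hZbcomm x hx y hy
      · have hKtop : (MonoidHom.transferSylow P hP).ker = ⊤ := by
          apply Subgroup.comap_injective hπs
          rw [hK, Subgroup.comap_top]
        rw [hKtop, Subgroup.isComplement'_top_left] at hcomp
        exact hPne hcomp
  · intro n hn
    rw [Subgroup.mem_center_iff]
    intro g
    have hg : g ∈ Subgroup.centralizer (N : Set G) := by rw [hC]; exact Subgroup.mem_top g
    exact (Subgroup.mem_centralizer_iff.mp hg n hn).symm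

theorem solv_of_abelian_ext (K : Subgroup G) [K.Normal] (hKab : IsMulCommutative K)
    (hquot : ∀ x y : G ⧸ K, x * y = y * x) : Group.IsSolvable G := by
  haveI : Group.IsSolvable K := Group.isSolvable_of_comm (fun a b => hKab.is_comm.comm a b)
  haveI : Group.IsSolvable (G ⧸ K) := Group.isSolvable_of_comm hquot
  apply Group.isSolvable_of_ker_le_range K.subtype (QuotientGroup.mk' K)
  rw [QuotientGroup.ker_mk', Subgroup.range_subtype]

theorem main [Finite G]
    (hS : ∀ H : Subgroup G, ¬ IsMulCommutative H → Subgroup.normalizer (H : Set G) = H) :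
    Group.IsSolvable G ∨ IsSimpleGroup G := by
  classical
  by_cases hsimple : IsSimpleGroup G
  · exact Or.inr hsimple
  left
  by_cases hnt : Nontrivial G
  swap
  · haveI : Subsingleton G := not_nontrivial_iff_subsingleton.mp hnt
    exact Group.isSolvable_of_comm (fun a b => Subsingleton.elim _ _)
  -- a proper nontrivial normal subgroup
  have hexM : ∃ M : Subgroup G, M.Normal ∧ M ≠ ⊥ ∧ M ≠ ⊤ := by
    by_contra hcon
    push Not at hcon
    apply hsimple
    exact { exists_pair_ne := hnt.exists_pair_ne
            eq_bot_or_eq_top_of_normal := fun H hH => by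
              by_cases hb : H = ⊥
              · exact Or.inl hb
              · exact Or.inr (hcon H hH hb) }
  obtain ⟨M, hMn, hMbot, hMtop⟩ := hexM
  -- proper normal subgroups are abelian
  have hnab : ∀ K : Subgroup G, K.Normal → K ≠ ⊤ → IsMulCommutative K := by
    intro K hKn hKtop
    by_contra hKna
    have h1 := hS K hKna
    rw [Subgroup.normalizer_eq_top_iff.mpr hKn] at h1
    exact hKtop h1.symm
  -- a maximal proper normal subgroup above M
  have hfin : {K : Subgroup G | K.Normal ∧ K ≠ ⊤}.Finite := Set.toFinite _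
  obtain ⟨N, hMN, hNmax⟩ := hfin.exists_le_maximal (a := M) ⟨hMn, hMtop⟩
  obtain ⟨⟨hNn, hNtop⟩, hNmax'⟩ := hNmax
  haveI := hNn
  have hNbot : N ≠ ⊥ := fun h => hMbot (le_bot_iff.mp (h ▸ hMN))
  have hmax : ∀ K : Subgroup G, K.Normal → N ≤ K → K = N ∨ K = ⊤ := by
    intro K hKn hNK
    by_cases hKtop : K = ⊤
    · exact Or.inr hKtop
    · exact Or.inl (le_antisymm (hNmax' ⟨hKn, hKtop⟩ hNK) hNK)
  have hNab := hnab N hNn hNtop
  by_cases hq : ∀ x y : G ⧸ N, x * y = y * x
  · exact solv_of_abelian_ext N hNab hq
  -- N is central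
  have hNcent := central_of_maximal_normal hS N hNtop hNab hmax hq
  -- perfect or solvable
  by_cases hperf : commutator G = ⊤
  swap
  · have hKn : (commutator G).Normal := inferInstance
    have hKab := hnab _ hKn hperf
    apply solv_of_abelian_ext (commutator G) hKab
    intro x y
    exact mul_comm (G := Abelianization G) x y
  exfalso
  -- an element of prime order in N
  have hcardN : Nat.card N ≠ 1 := fun h => hNbot (Subgroup.card_eq_one.mp h)
  obtain ⟨q, hqp, hqdvd⟩ := Nat.exists_prime_and_dvd hcardN
  haveI : Fact q.Prime := ⟨hqp⟩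
  obtain ⟨z, hz⟩ := exists_prime_orderOf_dvd_card' q hqdvd
  have hzG : orderOf (z : G) = q := by rw [Subgroup.orderOf_coe]; exact hz
  exact false_of_perfect_central hS hperf q (z : G) (hNcent z.2) hzG

end Cfsg.Agent.Lib.Helper7.SelfNorm
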