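import Cfsg.Agent.Lib.Helper7.IndexPKInf2

set_option autoImplicit false

namespace Cfsg.Agent.Lib.Helper7

open Cfsg

universe u

/-- If all Sylow subgroups are self-normalizing and `G` has a normal subgroup of prime index `r`,
then `G` is an `r`-group. -/
theorem isPGroup_of_hasIndexP_of_selfNormalizing {G : Type*} [Group G] [Finite G]
    (h : ∀ q : ℕ, q.Prime → q ∣ Nat.card G → ∀ Q : Sylow q G,
      Subgroup.normalizer ((Q : Subgroup G) : Set G) = Q)
    (r : ℕ) [hr : Fact r.Prime] (hM : HasIndexP r G) : IsPGroup r G := by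
  obtain ⟨M, hMn, hidx⟩ := hM
  haveI := hMn
  by_contra hnot
  have hex : ∃ q : ℕ, q.Prime ∧ q ∣ Nat.card G ∧ q ≠ r := by
    by_contra hcon
    push Not at hcon
    apply hnot
    have := Nat.eq_prime_pow_of_unique_prime_dvd (n := Nat.card G) (p := r) Nat.card_pos.ne'
      (fun {d} hd hdn => hcon d hd hdn)
    exact IsPGroup.of_card this
  obtain ⟨q, hq, hqd, hqr⟩ := hex
  haveI : Fact q.Prime := ⟨hq⟩
  obtain ⟨Q⟩ : Nonempty (Sylow q G) := inferInstance
  have hQM : (Q : Subgroup G) ≤ M := by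
    intro x hx
    have hcard : Nat.card (G ⧸ M) = r := by rw [← Subgroup.index_eq_card, hidx]
    have h1 : ((x : G ⧸ M)) ^ r = 1 := by
      rw [← hcard]; exact pow_card_eq_one'
    obtain ⟨k, hk⟩ := (IsPGroup.iff_orderOf.mp Q.isPGroup') ⟨x, hx⟩
    have hxo : orderOf x = q ^ k := by
      rw [← hk, Subgroup.orderOf_mk]
    have h2 : ((x : G ⧸ M)) ^ (q ^ k) = 1 := by
      rw [← QuotientGroup.mk_pow, ← hxo, pow_orderOf_eq_one]; rfl
    have h3 : orderOf (x : G ⧸ M) ∣ Nat.gcd (q ^ k) r :=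
      Nat.dvd_gcd (orderOf_dvd_of_pow_eq_one h2) (orderOf_dvd_of_pow_eq_one h1)
    have hcop : Nat.Coprime (q ^ k) r :=
      Nat.Coprime.pow_left k ((Nat.coprime_primes hq hr.out).mpr hqr)
    rw [Nat.Coprime.gcd_eq_one hcop, Nat.dvd_one, orderOf_eq_one_iff] at h3
    exact (QuotientGroup.eq_one_iff x).mp h3
  have hfr : Subgroup.normalizer ((Q : Subgroup G) : Set G) ⊔ M = ⊤ :=
    Sylow.normalizer_sup_eq_top' Q hQM
  rw [h q hq hqd Q, sup_eq_right.mpr hQM] at hfr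
  rw [hfr, Subgroup.index_top] at hidx
  exact hr.out.one_lt.ne hidx

/-- A nontrivial finite solvable group has a normal subgroup of prime index. -/
theorem exists_hasIndexP_of_solvable {G : Type u} [Group G] [Finite G] [Nontrivial G]
    [hsolv : Group.IsSolvable G] : ∃ r : ℕ, r.Prime ∧ HasIndexP r G := by
  have hlt : commutator G < ⊤ := Group.IsSolvable.commutator_lt_top_of_nontrivial G
  have hidx1 : (commutator G).index ≠ 1 := fun h1 => hlt.ne (Subgroup.index_eq_one.mp h1)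
  obtain ⟨r, hr, hrd⟩ := Nat.exists_prime_and_dvd hidx1
  haveI : Fact r.Prime := ⟨hr⟩
  refine ⟨r, hr, ?_⟩
  obtain ⟨S⟩ : Nonempty (Sylow r G) := inferInstance
  apply exists_normal_index_prime_of_not_le_commutator (S : Subgroup G) S.isPGroup'
  intro hle
  exact S.not_dvd_index (hrd.trans (Subgroup.index_dvd_of_le hle))

/-- A number all of whose prime divisors are `2` or `3` is of the form `2 ^ a * 3 ^ b`. -/
theorem eq_two_pow_mul_three_pow {n : ℕ} (hn : n ≠ 0)
    (h : ∀ q : ℕ, q.Prime → q ∣ n → q < 5) : ∃ a b : ℕ, n = 2 ^ a * 3 ^ b := by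
  obtain ⟨a, m₁, hm₁, hn₁⟩ := Nat.exists_eq_pow_mul_and_not_dvd hn 2 (by norm_num)
  have hm₁0 : m₁ ≠ 0 := by
    intro h0; rw [h0, mul_zero] at hn₁; exact hn hn₁
  obtain ⟨b, m₂, hm₂, hn₂⟩ := Nat.exists_eq_pow_mul_and_not_dvd hm₁0 3 (by norm_num)
  have hm₂1 : m₂ = 1 := by
    by_contra hne
    obtain ⟨q, hq, hqd⟩ := Nat.exists_prime_and_dvd hne
    have hqm₁ : q ∣ m₁ := hqd.trans (hn₂ ▸ Dvd.intro_left _ rfl)
    have hqn : q ∣ n := hqm₁.trans (hn₁ ▸ Dvd.intro_left _ rfl)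
    have hq5 := h q hq hqn
    have hq2 := hq.two_le
    interval_cases q
    · exact hm₁ hqm₁
    · exact hm₂ hqd
    · exact absurd hq (by norm_num)
  refine ⟨a, b, ?_⟩
  rw [hn₁, hn₂, hm₂1, mul_one]

end Cfsg.Agent.Lib.Helper7
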