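import Mathlib
import Cfsg.Agent.Lib.Helper7.Sharp4

set_option autoImplicit false

namespace Cfsg.Agent.Lib.Helper7.Sharp4b

open MulAction Cfsg.Agent.Lib.Helper7.Sharp4

variable {G : Type*} [Group G] {Ω : Type*} [MulAction G Ω]

theorem conj_of_double_swap (h4 : IsMultiplyPretransitive G Ω 4)
    (hsharp : ∀ x : Fin 4 ↪ Ω, stabilizer G x = ⊥) {u v w x u' v' w' x' : Ω}
    (hD : D4 u v w x) (hD' : D4 u' v' w' x') {g g' : G}
    (h1 : g • u = v) (h2 : g • v = u) (h3 : g • w = x) (h4' : g • x = w)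
    (h1' : g' • u' = v') (h2' : g' • v' = u') (h3' : g' • w' = x') (h4'' : g' • x' = w') :
    ∃ c : G, ∀ z : Ω, g' • (c • z) = c • (g • z) := by
  obtain ⟨c, hc1, hc2, hc3, hc4⟩ := trans4 h4 hD hD'
  have hcg : g' * c = c * g := eq4 hsharp hD
    (by rw [mul_smul, mul_smul, hc1, h1', h1, hc2])
    (by rw [mul_smul, mul_smul, hc2, h2', h2, hc1])
    (by rw [mul_smul, mul_smul, hc3, h3', h3, hc4])
    (by rw [mul_smul, mul_smul, hc4, h4'', h4', hc3])
  exact ⟨c, fun z => by rw [← mul_smul, hcg, mul_smul]⟩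

theorem card_fix_conj [Fintype Ω] [DecidableEq Ω] {g g' c : G}
    (hc : ∀ z : Ω, g' • (c • z) = c • (g • z)) :
    (Finset.univ.filter (fun z : Ω => g' • z = z)).card =
      (Finset.univ.filter (fun z : Ω => g • z = z)).card := by
  have himg : (Finset.univ.filter (fun z : Ω => g • z = z)).image (fun z => c • z) =
      Finset.univ.filter (fun z : Ω => g' • z = z) := by
    ext w
    simp only [Finset.mem_image, Finset.mem_filter, Finset.mem_univ, true_and]
    constructor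
    · rintro ⟨z, hz, rfl⟩
      rw [hc, hz]
    · intro hw
      refine ⟨c⁻¹ • w, ?_, smul_inv_smul c w⟩
      have h1 := hc (c⁻¹ • w)
      rw [smul_inv_smul, hw] at h1
      exact ((congrArg (fun t => c⁻¹ • t) h1).trans (inv_smul_smul c _)).symm
  rw [← himg]
  exact Finset.card_image_of_injective _ (MulAction.injective c)

theorem card_four_of_D4 [DecidableEq Ω] {x y z w : Ω} (h : D4 x y z w) :
    ({x, y, z, w} : Finset Ω).card = 4 := by
  obtain ⟨h1, h2, h3, h4, h5, h6⟩ := h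
  have e3 : ({z, w} : Finset Ω).card = 2 := Finset.card_pair h6
  have e2 : ({y, z, w} : Finset Ω).card = 3 := by
    rw [Finset.card_insert_of_notMem (by
      simp only [Finset.mem_insert, Finset.mem_singleton, not_or]; exact ⟨h4, h5⟩), e3]
  rw [Finset.card_insert_of_notMem (by
    simp only [Finset.mem_insert, Finset.mem_singleton, not_or]; exact ⟨h1, h2, h3⟩), e2]

theorem no79 [Fintype Ω] [DecidableEq Ω] (h4 : IsMultiplyPretransitive G Ω 4)
    (hsharp : ∀ x : Fin 4 ↪ Ω, stabilizer G x = ⊥) (hne : Nonempty (Fin 4 ↪ Ω))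
    (hn : Fintype.card Ω = 7 ∨ Fintype.card Ω = 9) : False := by
  obtain ⟨x₀⟩ := hne
  obtain ⟨p, hp⟩ : ∃ p, p = x₀ 0 := ⟨_, rfl⟩
  obtain ⟨q, hq⟩ : ∃ q, q = x₀ 1 := ⟨_, rfl⟩
  obtain ⟨r, hr⟩ : ∃ r, r = x₀ 2 := ⟨_, rfl⟩
  obtain ⟨s, hs⟩ : ∃ s, s = x₀ 3 := ⟨_, rfl⟩
  have hD : D4 p q r s := by
    subst hp hq hr hs
    refine ⟨?_, ?_, ?_, ?_, ?_, ?_⟩ <;> exact x₀.injective.ne (by decide)
  obtain ⟨a, hap, haq, har, has⟩ := trans4 h4 hD
    (show D4 p q s r from
      ⟨hD.1, hD.2.2.1, hD.2.1, hD.2.2.2.2.1, hD.2.2.2.1, Ne.symm hD.2.2.2.2.2⟩)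
  obtain ⟨b, hbp, hbq, hbr, hbs⟩ := trans4 h4 hD
    (show D4 q p r s from
      ⟨Ne.symm hD.1, hD.2.2.2.1, hD.2.2.2.2.1, hD.2.1, hD.2.2.1, hD.2.2.2.2.2⟩)
  have a2 : a * a = 1 := fix4 hsharp hD (by rw [mul_smul, hap, hap]) (by rw [mul_smul, haq, haq])
    (by rw [mul_smul, har, has]) (by rw [mul_smul, has, har])
  have b2 : b * b = 1 := fix4 hsharp hD (by rw [mul_smul, hbp, hbq]) (by rw [mul_smul, hbq, hbp])
    (by rw [mul_smul, hbr, hbr]) (by rw [mul_smul, hbs, hbs])
  have ab : a * b = b * a := eq4 hsharp hD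
    (by rw [mul_smul, mul_smul, hbp, haq, hap, hbp])
    (by rw [mul_smul, mul_smul, hbq, hap, haq, hbq])
    (by rw [mul_smul, mul_smul, hbr, har, hbs])
    (by rw [mul_smul, mul_smul, hbs, has, hbr])
  have haa : ∀ x : Ω, a • a • x = x := fun x => by rw [← mul_smul, a2, one_smul]
  have hbb : ∀ x : Ω, b • b • x = x := fun x => by rw [← mul_smul, b2, one_smul]
  have hab : ∀ x : Ω, a • b • x = b • a • x := fun x => by rw [← mul_smul, ab, mul_smul]
  -- fixed points of a
  obtain ⟨Fa, hFa⟩ : ∃ Fa : Finset Ω, Fa = Finset.univ.filter (fun z => a • z = z) := ⟨_, rfl⟩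
  have memFa : ∀ z, z ∈ Fa ↔ a • z = z := fun z => by rw [hFa]; simp
  obtain ⟨σ, hσdef⟩ : ∃ σ : Equiv.Perm Ω, σ = MulAction.toPerm a := ⟨_, rfl⟩
  have hσapp : ∀ w : Ω, σ w = a • w := fun w => by rw [hσdef]; rfl
  have hσ : σ ^ 2 ^ 1 = 1 := by
    rw [pow_one, pow_two]
    ext w
    rw [Equiv.Perm.mul_apply, Equiv.Perm.one_apply, hσapp, hσapp, haa]
  haveI : Fact (Nat.Prime 2) := ⟨Nat.prime_two⟩
  have hmod := Equiv.Perm.card_compl_support_modEq (p := 2) (n := 1) hσ
  have hsuppFa : σ.supportᶜ = Fa := by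
    ext w
    rw [memFa]
    simp only [Finset.mem_compl, Equiv.Perm.mem_support, not_not]
    rw [hσapp]
  rw [hsuppFa] at hmod
  have hFaodd : Fa.card % 2 = 1 := by
    unfold Nat.ModEq at hmod
    rcases hn with h | h <;> rw [h] at hmod <;> omega
  have hex : ∃ z₀, a • z₀ = z₀ ∧ z₀ ≠ p ∧ z₀ ≠ q := by
    by_contra hcon
    push Not at hcon
    have hsub : Fa ⊆ {p, q} := by
      intro z hz
      rw [memFa] at hz
      simp only [Finset.mem_insert, Finset.mem_singleton]
      by_cases hzp : z = p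
      · exact Or.inl hzp
      · exact Or.inr (hcon z hz hzp)
    have hsup : ({p, q} : Finset Ω) ⊆ Fa := by
      intro z hz
      simp only [Finset.mem_insert, Finset.mem_singleton] at hz
      rcases hz with h | h
      · rw [h]; exact (memFa p).2 hap
      · rw [h]; exact (memFa q).2 haq
    have : Fa = {p, q} := Finset.Subset.antisymm hsub hsup
    rw [this, Finset.card_pair hD.1] at hFaodd
    omega
  obtain ⟨z₀, hz₀a, hz₀p, hz₀q⟩ := hex
  have hz₀b : b • z₀ = z₀ :=
    fixA_imp_fixB hsharp hD hap haq har hbp hbq hbb hab hz₀a hz₀p hz₀q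
  have huniq : ∀ z, a • z = z → b • z = z → z = z₀ := fun z h1 h2 =>
    fixAB_unique hsharp hD hap haq har hbp hbq h1 h2 hz₀a hz₀b
  have hz₀r : z₀ ≠ r := fun h => hD.2.2.2.2.2 (by
    have := hz₀a; rw [h, har] at this; exact this.symm)
  have hz₀s : z₀ ≠ s := fun h => hD.2.2.2.2.2 (by
    have := hz₀a; rw [h, has] at this; exact this)
  have hFa3 : Fa = {p, q, z₀} := by
    ext w
    rw [memFa]
    simp only [Finset.mem_insert, Finset.mem_singleton]
    constructor
    · intro hw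
      by_contra hcon
      push Not at hcon
      exact no_fix4 hsharp har hD.2.2.2.2.2
        (⟨hD.1, Ne.symm hz₀p, Ne.symm hcon.1, Ne.symm hz₀q, Ne.symm hcon.2.1,
          Ne.symm hcon.2.2⟩ : D4 p q z₀ w) hap haq hz₀a hw
    · rintro (h | h | h)
      · rw [h]; exact hap
      · rw [h]; exact haq
      · rw [h]; exact hz₀a
  have hFacard : Fa.card = 3 := by
    rw [hFa3]
    exact Finset.card_eq_three.mpr ⟨p, q, z₀, hD.1, Ne.symm hz₀p, Ne.symm hz₀q, rfl⟩
  -- a point y outside {p,q,r,s,z₀}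
  have hy : ∃ y : Ω, y ≠ p ∧ y ≠ q ∧ y ≠ r ∧ y ≠ s ∧ y ≠ z₀ := by
    by_contra hcon
    push Not at hcon
    have hsub : (Finset.univ : Finset Ω) ⊆ {p, q, r, s, z₀} := by
      intro z _
      simp only [Finset.mem_insert, Finset.mem_singleton]
      by_cases h1 : z = p
      · exact Or.inl h1
      by_cases h2 : z = q
      · exact Or.inr (Or.inl h2)
      by_cases h3 : z = r
      · exact Or.inr (Or.inr (Or.inl h3))
      by_cases h4 : z = s
      · exact Or.inr (Or.inr (Or.inr (Or.inl h4)))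
      exact Or.inr (Or.inr (Or.inr (Or.inr (hcon z h1 h2 h3 h4))))
    have := (Finset.card_le_card hsub).trans Finset.card_le_five
    rw [Finset.card_univ] at this
    rcases hn with h | h <;> omega
  obtain ⟨y, hyp, hyq, hyr, hys, hyz⟩ := hy
  have hay : a • y ≠ y := by
    intro h
    have : y ∈ Fa := (memFa y).2 h
    rw [hFa3] at this
    simp only [Finset.mem_insert, Finset.mem_singleton] at this
    rcases this with h | h | h
    · exact hyp h
    · exact hyq h
    · exact hyz h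
  have hDy : D4 r s y (a • y) := by
    refine ⟨hD.2.2.2.2.2, Ne.symm hyr, ?_, Ne.symm hys, ?_, Ne.symm hay⟩
    · intro h
      exact hys ((haa y).symm.trans (by rw [← h]; exact har))
    · intro h
      exact hyr ((haa y).symm.trans (by rw [← h]; exact has))
  obtain ⟨c, hc⟩ := conj_of_double_swap h4 hsharp hD hDy (g := a * b) (g' := a)
    (by rw [mul_smul, hbp, haq]) (by rw [mul_smul, hbq, hap])
    (by rw [mul_smul, hbr, har]) (by rw [mul_smul, hbs, has])
    har has rfl (haa y)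
  obtain ⟨Fab, hFab⟩ : ∃ Fab : Finset Ω, Fab = Finset.univ.filter (fun z => (a * b) • z = z) :=
    ⟨_, rfl⟩
  have memFab : ∀ z, z ∈ Fab ↔ a • b • z = z := fun z => by rw [hFab]; simp [mul_smul]
  have hFabcard : Fab.card = 3 := by
    rw [← hFacard, hFa, hFab]
    exact (card_fix_conj hc).symm
  have hz₀Fab : z₀ ∈ Fab := (memFab z₀).2 (by rw [hz₀b, hz₀a])
  obtain ⟨y₁, hy₁Fab, hy₁z⟩ :=
    Finset.exists_mem_ne (by rw [hFabcard]; norm_num : 1 < Fab.card) z₀
  have hy₁ : a • b • y₁ = y₁ := (memFab y₁).1 hy₁Fab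
  have hby₁ : b • y₁ = a • y₁ := by
    calc b • y₁ = a • a • b • y₁ := (haa _).symm
      _ = a • y₁ := by rw [hy₁]
  have hay₁ : a • y₁ ≠ y₁ := by
    intro h
    apply hy₁z
    apply huniq y₁ h
    rw [hby₁, h]
  have hby₁' : b • y₁ ≠ y₁ := by rw [hby₁]; exact hay₁
  -- the pieces
  obtain ⟨N1, hN1⟩ : ∃ N1 : Finset Ω, N1 = Finset.univ.filter (fun z => ¬ a • z = z) := ⟨_, rfl⟩
  obtain ⟨S2, hS2⟩ : ∃ S2 : Finset Ω, S2 = N1.filter (fun z => b • z = z) := ⟨_, rfl⟩
  obtain ⟨N2, hN2⟩ : ∃ N2 : Finset Ω, N2 = N1.filter (fun z => ¬ b • z = z) := ⟨_, rfl⟩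
  obtain ⟨S3, hS3⟩ : ∃ S3 : Finset Ω, S3 = N2.filter (fun z => a • b • z = z) := ⟨_, rfl⟩
  obtain ⟨R, hR⟩ : ∃ R : Finset Ω, R = N2.filter (fun z => ¬ a • b • z = z) := ⟨_, rfl⟩
  have c1 : Fa.card + N1.card = Fintype.card Ω := by
    rw [hFa, hN1, ← Finset.card_univ]
    exact Finset.card_filter_add_card_filter_not _
  have c2 : S2.card + N2.card = N1.card := by
    rw [hS2, hN2]
    exact Finset.card_filter_add_card_filter_not _
  have c3 : S3.card + R.card = N2.card := by
    rw [hS3, hR]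
    exact Finset.card_filter_add_card_filter_not _
  have memN1 : ∀ z, z ∈ N1 ↔ ¬ a • z = z := fun z => by rw [hN1]; simp
  have memS2 : ∀ z, z ∈ S2 ↔ (¬ a • z = z ∧ b • z = z) := fun z => by
    rw [hS2, Finset.mem_filter, memN1]
  have memN2 : ∀ z, z ∈ N2 ↔ (¬ a • z = z ∧ ¬ b • z = z) := fun z => by
    rw [hN2, Finset.mem_filter, memN1]
  have memS3 : ∀ z, z ∈ S3 ↔ ((¬ a • z = z ∧ ¬ b • z = z) ∧ a • b • z = z) := fun z => by
    rw [hS3, Finset.mem_filter, memN2]
  have memR : ∀ z, z ∈ R ↔ ((¬ a • z = z ∧ ¬ b • z = z) ∧ ¬ a • b • z = z) := fun z => by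
    rw [hR, Finset.mem_filter, memN2]
  have hS2eq : S2 = {r, s} := by
    ext z
    rw [memS2]
    simp only [Finset.mem_insert, Finset.mem_singleton]
    constructor
    · rintro ⟨h1, h2⟩
      by_contra hcon
      push Not at hcon
      exact h1 (fixB_imp_fixA hsharp hD hbr hbs hbp har has haa hab h2 hcon.1 hcon.2)
    · rintro (h | h)
      · rw [h]; exact ⟨by rw [har]; exact Ne.symm hD.2.2.2.2.2, hbr⟩
      · rw [h]; exact ⟨by rw [has]; exact hD.2.2.2.2.2, hbs⟩
  have hS2card : S2.card = 2 := by rw [hS2eq]; exact Finset.card_pair hD.2.2.2.2.2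
  have hS3eq : S3 = {y₁, a • y₁} := by
    ext z
    rw [memS3]
    simp only [Finset.mem_insert, Finset.mem_singleton]
    constructor
    · rintro ⟨⟨h1, _⟩, h3⟩
      exact fixAB_moved hsharp hD.1 hbp haq haa hab hy₁ hay₁ h3 h1
    · rintro (h | h)
      · rw [h]; exact ⟨⟨hay₁, hby₁'⟩, hy₁⟩
      · rw [h]
        refine ⟨⟨?_, ?_⟩, ?_⟩
        · rw [haa]; exact Ne.symm hay₁
        · intro hb
          rw [← hab, hy₁] at hb
          exact hay₁ hb.symm
        · rw [← hab, haa, hby₁]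
  have hS3card : S3.card = 2 := by rw [hS3eq]; exact Finset.card_pair (Ne.symm hay₁)
  have hRcard : 7 + R.card = Fintype.card Ω := by omega
  rcases hn with hn7 | hn9
  · -- degree 7
    have hR0 : R.card = 0 := by omega
    have hRempty : ∀ z : Ω, ¬ ((¬ a • z = z ∧ ¬ b • z = z) ∧ ¬ a • b • z = z) := by
      intro z hz
      have : z ∈ R := (memR z).2 hz
      rw [Finset.card_eq_zero.mp hR0] at this
      exact absurd this (Finset.notMem_empty z)
    have hpy₁ : p ≠ y₁ := fun h => hay₁ (by rw [← h]; exact hap)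
    have hqy₁ : q ≠ y₁ := fun h => hay₁ (by rw [← h]; exact haq)
    have hry₁ : r ≠ y₁ := fun h => hby₁' (by rw [← h]; exact hbr)
    have hDd : D4 p q r y₁ := ⟨hD.1, hD.2.1, hpy₁, hD.2.2.2.1, hqy₁, hry₁⟩
    obtain ⟨d, hdp, hdq, hdr, hdy⟩ := trans4 h4 hDd
      (show D4 q p y₁ r from
        ⟨Ne.symm hD.1, hqy₁, hD.2.2.2.1, hpy₁, hD.2.1, Ne.symm hry₁⟩)
    obtain ⟨c', hc'⟩ := conj_of_double_swap h4 hsharp hD hDd (g := a * b) (g' := d)
      (by rw [mul_smul, hbp, haq]) (by rw [mul_smul, hbq, hap])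
      (by rw [mul_smul, hbr, har]) (by rw [mul_smul, hbs, has])
      hdp hdq hdr hdy
    obtain ⟨Fd, hFd⟩ : ∃ Fd : Finset Ω, Fd = Finset.univ.filter (fun z => d • z = z) := ⟨_, rfl⟩
    have memFd : ∀ z, z ∈ Fd ↔ d • z = z := fun z => by rw [hFd]; simp
    have hFdcard : Fd.card = 3 := by
      rw [← hFabcard, hFd, hFab]
      exact card_fix_conj hc'
    have hsub : Fd ⊆ {s, z₀, a • y₁} := by
      intro z hz
      rw [memFd] at hz
      simp only [Finset.mem_insert, Finset.mem_singleton]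
      by_cases h1 : a • z = z
      · have hzFa : z ∈ Fa := (memFa z).2 h1
        rw [hFa3] at hzFa
        simp only [Finset.mem_insert, Finset.mem_singleton] at hzFa
        rcases hzFa with h | h | h
        · exfalso; rw [h, hdp] at hz; exact hD.1 hz.symm
        · exfalso; rw [h, hdq] at hz; exact hD.1 hz
        · exact Or.inr (Or.inl h)
      · by_cases h2 : b • z = z
        · have hzS : z ∈ S2 := (memS2 z).2 ⟨h1, h2⟩
          rw [hS2eq] at hzS
          simp only [Finset.mem_insert, Finset.mem_singleton] at hzS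
          rcases hzS with h | h
          · exfalso; rw [h, hdr] at hz; exact hry₁ hz.symm
          · exact Or.inl h
        · by_cases h3 : a • b • z = z
          · have hzS : z ∈ S3 := (memS3 z).2 ⟨⟨h1, h2⟩, h3⟩
            rw [hS3eq] at hzS
            simp only [Finset.mem_insert, Finset.mem_singleton] at hzS
            rcases hzS with h | h
            · exfalso; rw [h, hdy] at hz; exact hry₁ hz
            · exact Or.inr (Or.inr h)
          · exact absurd ⟨⟨h1, h2⟩, h3⟩ (hRempty z)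
    have hle : ({s, z₀, a • y₁} : Finset Ω).card ≤ Fd.card := by
      rw [hFdcard]; exact Finset.card_le_three
    have hFdeq := Finset.eq_of_subset_of_card_le hsub hle
    have hds : d • s = s := (memFd s).1 (by rw [hFdeq]; simp)
    have hdz : d • z₀ = z₀ := (memFd z₀).1 (by rw [hFdeq]; simp)
    have hdb : d = b := eq4 hsharp
      (show D4 p q s z₀ from
        ⟨hD.1, hD.2.2.1, Ne.symm hz₀p, hD.2.2.2.2.1, Ne.symm hz₀q, Ne.symm hz₀s⟩)
      (hdp.trans hbp.symm) (hdq.trans hbq.symm) (hds.trans hbs.symm) (hdz.trans hz₀b.symm)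
    rw [hdb, hbr] at hdr
    exact hry₁ hdr
  · -- degree 9
    have hR2 : R.card = 2 := by omega
    obtain ⟨x, hxR⟩ : ∃ x, x ∈ R := Finset.card_pos.mp (by omega)
    obtain ⟨⟨hx1, hx2⟩, hx3⟩ := (memR x).1 hxR
    have hDx := regD4 haa hab hx1 hx2 hx3
    have hsubR : ({x, a • x, b • x, a • b • x} : Finset Ω) ⊆ R := by
      intro z hz
      simp only [Finset.mem_insert, Finset.mem_singleton] at hz
      rcases hz with rfl | rfl | rfl | rfl
      · exact hxR
      · rw [memR]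
        refine ⟨⟨?_, ?_⟩, ?_⟩
        · rw [haa]; exact fun h => hx1 h.symm
        · intro h
          rw [← hab] at h
          exact hx2 (smul_left_cancel a h)
        · intro h
          rw [← hab, haa] at h
          exact hDx.2.2.2.1 h.symm
      · rw [memR]
        refine ⟨⟨?_, ?_⟩, ?_⟩
        · exact fun h => hDx.2.2.2.2.2 h.symm
        · rw [hbb]; exact fun h => hx2 h.symm
        · rw [hbb]; exact hDx.2.2.2.1
      · rw [memR]
        refine ⟨⟨?_, ?_⟩, ?_⟩
        · rw [haa]; exact hDx.2.2.2.2.2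
        · rw [← hab, hbb]; exact hDx.2.2.2.2.1
        · rw [← hab, haa, hbb]; exact fun h => hx3 h.symm
    have := Finset.card_le_card hsubR
    rw [card_four_of_D4 hDx] at this
    omega

theorem card_cases (h4 : IsMultiplyPretransitive G Ω 4)
    (hsharp : ∀ x : Fin 4 ↪ Ω, stabilizer G x = ⊥) (hne : Nonempty (Fin 4 ↪ Ω)) :
    Nat.card Ω = 4 ∨ Nat.card Ω = 5 ∨ Nat.card Ω = 6 ∨ Nat.card Ω = 11 := by
  obtain ⟨hfin, h11, hev⟩ := main h4 hsharp hne
  haveI := hfin
  classical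
  haveI := Fintype.ofFinite Ω
  have h4le : 4 ≤ Nat.card Ω := by
    obtain ⟨x₀⟩ := hne
    have := Finite.card_le_of_embedding x₀
    simpa using this
  by_contra hcon
  push Not at hcon
  have h8 : Nat.card Ω ≠ 8 := fun h => by
    have := hev (by rw [h]; decide)
    omega
  have h10 : Nat.card Ω ≠ 10 := fun h => by
    have := hev (by rw [h]; decide)
    omega
  have h79 : Fintype.card Ω = 7 ∨ Fintype.card Ω = 9 := by
    rw [← Nat.card_eq_fintype_card]
    omega
  exact no79 h4 hsharp hne h79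

end Cfsg.Agent.Lib.Helper7.Sharp4b
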