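import Mathlib
import Cfsg.Agent.Lib.Helper7.Sharp4b

set_option autoImplicit false

namespace Cfsg.Agent.Lib.Helper7.Sharp5

open MulAction

/-- Sharpness descends to a point stabilizer. -/
theorem sharp_stab {G : Type*} [Group G] {Ω : Type*} [MulAction G Ω] {n : ℕ} (o : Ω)
    (hsharp : ∀ x : Fin (n + 1) ↪ Ω, stabilizer G x = ⊥) :
    ∀ y : Fin n ↪ SubMulAction.ofStabilizer G o, stabilizer (stabilizer G o) y = ⊥ := by
  intro y
  rw [Subgroup.eq_bot_iff_forall]
  rintro ⟨g, hg⟩ hgy
  have hmem : g ∈ stabilizer G (SubMulAction.ofStabilizer.snoc y) := by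
    rw [mem_stabilizer_iff]
    ext i
    rw [Function.Embedding.smul_apply]
    rcases Fin.eq_castSucc_or_eq_last i with ⟨j, rfl⟩ | rfl
    · rw [SubMulAction.ofStabilizer.snoc_castSucc]
      have h1 : (⟨g, hg⟩ : stabilizer G o) • y = y := hgy
      have h2 := congrArg (fun e : Fin n ↪ SubMulAction.ofStabilizer G o =>
        ((e j : SubMulAction.ofStabilizer G o) : Ω)) h1
      simpa using h2
    · rw [SubMulAction.ofStabilizer.snoc_last]; exact hg
  rw [hsharp, Subgroup.mem_bot] at hmem
  exact Subtype.ext hmem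

/-- Jordan: degrees of sharply 5-transitive groups. -/
theorem card_cases5 {G : Type*} [Group G] {Ω : Type*} [MulAction G Ω] [Finite Ω]
    (h5 : IsMultiplyPretransitive G Ω 5)
    (hsharp : ∀ x : Fin 5 ↪ Ω, stabilizer G x = ⊥) (hcard : 5 ≤ Nat.card Ω) :
    Nat.card Ω = 5 ∨ Nat.card Ω = 6 ∨ Nat.card Ω = 7 ∨ Nat.card Ω = 12 := by
  classical
  have hpos : 0 < Nat.card Ω := by omega
  obtain ⟨o⟩ : Nonempty Ω := (Nat.card_pos_iff.mp hpos).1
  haveI h1 : IsMultiplyPretransitive G Ω 1 :=
    isMultiplyPretransitive_of_le (n := 5) (by norm_num) hcard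
  haveI hpre : IsPretransitive G Ω := is_one_pretransitive_iff.mp h1
  have h4 : IsMultiplyPretransitive (stabilizer G o) (SubMulAction.ofStabilizer G o) 4 :=
    SubMulAction.ofStabilizer.isMultiplyPretransitive.mp
      (h5 : IsMultiplyPretransitive G Ω (Nat.succ 4))
  have hs := sharp_stab (G := G) (n := 4) o hsharp
  have hc := SubMulAction.nat_card_ofStabilizer_add_one_eq G o
  have hne : Nonempty (Fin 4 ↪ SubMulAction.ofStabilizer G o) := by
    haveI := Fintype.ofFinite (SubMulAction.ofStabilizer G o)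
    apply Function.Embedding.nonempty_of_card_le
    rw [Fintype.card_fin, ← Nat.card_eq_fintype_card]
    omega
  have := Sharp4b.card_cases h4 hs hne
  omega

end Cfsg.Agent.Lib.Helper7.Sharp5
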