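import Mathlib
import Cfsg.Agent.Lib.Helper7.Sharp5

set_option autoImplicit false

namespace Cfsg.Agent.Lib.Helper7.Sharp6

open MulAction

/-- Sylow-13 counting: no group of order `13*12*11*10*9*8` has all subgroups of order 13
self-centralizing. -/
theorem no_group (G : Type*) [Group G] (hA : Nat.card G = 1235520)
    (hB : ∀ H : Subgroup G, Nat.card H = 13 → Subgroup.centralizer (H : Set G) ≤ H) : False := by
  haveI : Finite G := Nat.finite_of_card_ne_zero (by rw [hA]; norm_num)
  haveI : Fact (Nat.Prime 13) := ⟨by norm_num⟩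
  obtain ⟨P⟩ : Nonempty (Sylow 13 G) := inferInstance
  obtain ⟨k, hk⟩ := P.2.exists_card_eq
  have h13 : 13 ∣ Nat.card P := P.dvd_card_of_dvd_card (by rw [hA]; norm_num)
  have hPdvd : Nat.card P ∣ Nat.card G := Subgroup.card_subgroup_dvd_card _
  have hk1 : k = 1 := by
    rcases k with _ | _ | k
    · rw [hk] at h13; norm_num at h13
    · rfl
    · exfalso
      rw [hk, hA] at hPdvd
      have h2 : 13 ^ 2 ∣ 1235520 := (pow_dvd_pow 13 (by omega)).trans hPdvd
      norm_num at h2
  have hP : Nat.card P = 13 := by rw [hk, hk1, pow_one]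
  have hCP : Subgroup.centralizer (P : Set G) ≤ (P : Subgroup G) := hB P hP
  have hPN : (P : Subgroup G) ≤ Subgroup.normalizer (P : Set G) := Subgroup.le_normalizer
  have hCN : Subgroup.centralizer (P : Set G) ≤ Subgroup.normalizer (P : Set G) := hCP.trans hPN
  have key := Subgroup.card_dvd_of_injective _
    (QuotientGroup.kerLift_injective (P : Subgroup G).normalizerMonoidHom)
  rw [Subgroup.normalizerMonoidHom_ker, ← Subgroup.index, ← Subgroup.relIndex] at key
  haveI hcyc : IsCyclic (P : Subgroup G) := isCyclic_of_prime_card hP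
  rw [IsCyclic.card_mulAut, hP, Nat.totient_prime (by norm_num)] at key
  have hmulC := Subgroup.relIndex_mul_relIndex ⊥ _ _
    (bot_le : ⊥ ≤ Subgroup.centralizer (P : Set G)) hCN
  rw [Subgroup.relIndex_bot_left, Subgroup.relIndex_bot_left] at hmulC
  have hCdvd : Nat.card (Subgroup.centralizer (P : Set G)) ∣ 13 := by
    have := Subgroup.card_dvd_of_le hCP
    rwa [hP] at this
  have hPNdvd : 13 ∣ Nat.card (Subgroup.normalizer (P : Set G)) := by
    have := Subgroup.card_dvd_of_le hPN
    rwa [hP] at this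
  have hidx := Subgroup.card_mul_index (Subgroup.normalizer (P : Set G))
  have hmod := card_sylow_modEq_one 13 G
  rw [Sylow.card_eq_index_normalizer P] at hmod
  rw [hA] at hidx
  obtain ⟨c, hc⟩ : ∃ c, c = Nat.card (Subgroup.centralizer (P : Set G)) := ⟨_, rfl⟩
  obtain ⟨r, hr⟩ : ∃ r, r = (Subgroup.centralizer (P : Set G)).relIndex
    (Subgroup.normalizer (P : Set G)) := ⟨_, rfl⟩
  obtain ⟨m, hm⟩ : ∃ m, m = Nat.card (Subgroup.normalizer (P : Set G)) := ⟨_, rfl⟩
  obtain ⟨i, hi⟩ : ∃ i, i = (Subgroup.normalizer (P : Set G)).index := ⟨_, rfl⟩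
  rw [← hc, ← hr, ← hm] at hmulC
  have key' : r ∣ 13 - 1 := by rw [hr]; exact key
  clear key
  rw [← hc] at hCdvd
  rw [← hm] at hPNdvd
  rw [← hm, ← hi] at hidx
  rw [← hi] at hmod
  have hc' : c = 1 ∨ c = 13 := (Nat.dvd_prime (by norm_num)).mp hCdvd
  have hr12 : r ≤ 12 := Nat.le_of_dvd (by norm_num) key'
  have hr0 : 0 < r := Nat.pos_of_dvd_of_pos key' (by norm_num)
  unfold Nat.ModEq at hmod
  clear hc hr hm hi hCdvd
  rcases hc' with rfl | rfl
  · interval_cases r <;> subst hmulC <;> omega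
  · interval_cases r <;> subst hmulC <;> omega

/-- No sharply 6-transitive group of degree 13. -/
theorem no13 {G : Type*} [Group G] {Ω : Type*} [MulAction G Ω] [Finite Ω]
    (h6 : IsMultiplyPretransitive G Ω 6) (hsharp : ∀ x : Fin 6 ↪ Ω, stabilizer G x = ⊥)
    (hcard : Nat.card Ω = 13) : False := by
  classical
  haveI := Fintype.ofFinite Ω
  have hne : Nonempty (Fin 6 ↪ Ω) := Function.Embedding.nonempty_of_card_le (by
    rw [Fintype.card_fin, ← Nat.card_eq_fintype_card, hcard]; norm_num)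
  obtain ⟨x₀⟩ := hne
  have hfaith : ∀ g : G, (∀ z : Ω, g • z = z) → g = 1 := by
    intro g hg
    have : g ∈ stabilizer G x₀ := by
      rw [mem_stabilizer_iff]
      ext i
      rw [Function.Embedding.smul_apply]
      exact hg _
    rwa [hsharp, Subgroup.mem_bot] at this
  have hbij : Function.Bijective (fun g : G => g • x₀) := by
    constructor
    · intro g h hgh
      have hgh' : g • x₀ = h • x₀ := hgh
      have : h⁻¹ * g ∈ stabilizer G x₀ := by
        rw [mem_stabilizer_iff, mul_smul, hgh', inv_smul_smul]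
      rw [hsharp, Subgroup.mem_bot] at this
      exact (inv_mul_eq_one.mp this).symm
    · intro y
      exact h6.exists_smul_eq x₀ y
  have hA : Nat.card G = 1235520 := by
    rw [Nat.card_congr (Equiv.ofBijective _ hbij), Nat.card_eq_fintype_card,
      Fintype.card_embedding_eq, Fintype.card_fin, ← Nat.card_eq_fintype_card, hcard]
    rfl
  apply no_group G hA
  intro H hH g hg
  haveI : Fact (Nat.Prime 13) := ⟨by norm_num⟩
  haveI hcyc : IsCyclic H := isCyclic_of_prime_card hH
  have hcomm : ∀ a b : H, a * b = b * a := isMulCommutative_iff.mp inferInstance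
  obtain ⟨h, hhH, hh1⟩ : ∃ h ∈ H, h ≠ 1 := by
    by_contra hcon
    push Not at hcon
    have : H = ⊥ := (Subgroup.eq_bot_iff_forall H).mpr hcon
    rw [this, Subgroup.card_bot] at hH
    norm_num at hH
  obtain ⟨x, hx⟩ : ∃ x : Ω, h • x ≠ x := by
    by_contra hcon
    push Not at hcon
    exact hh1 (hfaith h hcon)
  have hdvd : (orbit H x).ncard ∣ 13 := by
    rw [← MulAction.index_stabilizer, ← hH]
    exact Subgroup.index_dvd_card _
  have horb : orbit H x = Set.univ := by
    rcases (Nat.dvd_prime (by norm_num)).mp hdvd with h1 | h13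
    · exfalso
      obtain ⟨a, ha⟩ := Set.ncard_eq_one.mp h1
      have hxa : x ∈ orbit H x := mem_orbit_self x
      have hhxa : h • x ∈ orbit H x := ⟨⟨h, hhH⟩, rfl⟩
      rw [ha, Set.mem_singleton_iff] at hxa hhxa
      exact hx (hhxa.trans hxa.symm)
    · apply Set.eq_of_subset_of_ncard_le (Set.subset_univ _)
      · rw [Set.ncard_univ, hcard, h13]
  have hall : ∀ y : Ω, ∃ h' : H, (h' : G) • x = y := by
    intro y
    have : y ∈ orbit H x := by rw [horb]; exact Set.mem_univ y
    obtain ⟨h', hh'⟩ := this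
    exact ⟨h', hh'⟩
  obtain ⟨h₀, hh₀⟩ := hall (g • x)
  have hfix : ∀ y : Ω, ((h₀ : G)⁻¹ * g) • y = y := by
    intro y
    obtain ⟨h', rfl⟩ := hall y
    have hgc : (h' : G) * g = g * h' := (Subgroup.mem_centralizer_iff.mp hg) h' h'.2
    have hc2 : (h' : G) * h₀ = h₀ * h' := by
      have := hcomm h' h₀
      exact congrArg Subtype.val this
    calc ((h₀ : G)⁻¹ * g) • ((h' : G) • x) = ((h₀ : G)⁻¹ * (g * h')) • x := by
          rw [← mul_smul, mul_assoc]
      _ = ((h₀ : G)⁻¹ * ((h' : G) * g)) • x := by rw [hgc]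
      _ = ((h₀ : G)⁻¹ * (h' : G)) • (g • x) := by rw [← mul_assoc, mul_smul]
      _ = ((h₀ : G)⁻¹ * (h' : G)) • ((h₀ : G) • x) := by rw [hh₀]
      _ = ((h₀ : G)⁻¹ * ((h' : G) * h₀)) • x := by rw [← mul_smul, mul_assoc]
      _ = ((h₀ : G)⁻¹ * ((h₀ : G) * h')) • x := by rw [hc2]
      _ = (h' : G) • x := by rw [inv_mul_cancel_left]
  have h1 := hfaith _ hfix
  have : g = h₀ := (inv_mul_eq_one.mp h1).symm
  rw [this]
  exact h₀.2

/-- Sharpness and transitivity descend to a point stabilizer. -/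
theorem descend {G : Type*} [Group G] {Ω : Type*} [MulAction G Ω] [Finite Ω] {k : ℕ}
    (h : IsMultiplyPretransitive G Ω (k + 1))
    (hsharp : ∀ x : Fin (k + 1) ↪ Ω, stabilizer G x = ⊥)
    (hcard : k + 1 ≤ Nat.card Ω) :
    ∃ o : Ω, IsMultiplyPretransitive (stabilizer G o) (SubMulAction.ofStabilizer G o) k ∧
      (∀ y : Fin k ↪ SubMulAction.ofStabilizer G o, stabilizer (stabilizer G o) y = ⊥) ∧
      Nat.card (SubMulAction.ofStabilizer G o) + 1 = Nat.card Ω := by
  have hpos : 0 < Nat.card Ω := by omega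
  obtain ⟨o⟩ : Nonempty Ω := (Nat.card_pos_iff.mp hpos).1
  haveI h1 : IsMultiplyPretransitive G Ω 1 :=
    isMultiplyPretransitive_of_le (n := k + 1) (by omega) hcard
  haveI hpre : IsPretransitive G Ω := is_one_pretransitive_iff.mp h1
  exact ⟨o, SubMulAction.ofStabilizer.isMultiplyPretransitive.mp h,
    Sharp5.sharp_stab o hsharp, SubMulAction.nat_card_ofStabilizer_add_one_eq G o⟩

universe u v

/-- Jordan: for `k ≥ 6` a sharply `k`-transitive group has degree `k`, `k+1` or `k+2`. -/
theorem large_k (k : ℕ) (hk : 6 ≤ k) :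
    ∀ (G : Type u) [Group G] (Ω : Type v) [MulAction G Ω] [Finite Ω],
      IsMultiplyPretransitive G Ω k → (∀ x : Fin k ↪ Ω, stabilizer G x = ⊥) →
      k ≤ Nat.card Ω →
      Nat.card Ω = k ∨ Nat.card Ω = k + 1 ∨ Nat.card Ω = k + 2 := by
  induction k, hk using Nat.le_induction with
  | base =>
    intro G _ Ω _ _ h hsharp hcard
    obtain ⟨o, h5, hs5, hc⟩ := descend (k := 5) h hsharp hcard
    have h512 := Sharp5.card_cases5 h5 hs5 (by omega)
    rcases h512 with h' | h' | h' | h'
    · omega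
    · omega
    · omega
    · exfalso
      exact no13 h hsharp (by omega)
  | succ k hk ih =>
    intro G _ Ω _ _ h hsharp hcard
    obtain ⟨o, h5, hs5, hc⟩ := descend (k := k) h hsharp hcard
    have := ih (stabilizer G o) (SubMulAction.ofStabilizer G o) h5 hs5 (by omega)
    omega

end Cfsg.Agent.Lib.Helper7.Sharp6
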