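import Mathlib
import Cfsg.Prelude.Def_JComponents
import Cfsg.Agent.Lib.Helper7.Am19
import Cfsg.Agent.Lib.Helper1.ThompsonRelative

/-! # Sims' theorem in local form: general lemmas

* `dihedral_inv`: in the dihedral group of order `2q`, `q` odd, an involution inverts every element
  of order dividing `q`;
* `offender`: Thompson's replacement count: an elementary abelian `2`-subgroup `A` of largest
  order of `S` acts on `V = Ω₁Z(Q)` (`Q` of index two in `S`) with `|V : C_V(a)| ≤ 2`;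
* `centralizes`: if `a` acts on `V` with `|V : C_V(a)| ≤ 2`, inverts `r` modulo `C(V)`, and `r`
  has prime order `q ≥ 5`, then `r` centralizes `V`. -/

set_option autoImplicit false
open scoped commutatorElement
open Cfsg
open Cfsg.Agent.Lib.Helper3.JC
open Cfsg.Agent.Lib.Helper7.Am

namespace Cfsg.Agent.Lib.Helper7.Sims

universe u
variable {H : Type u} [Group H]

theorem dihedral_inv {q : ℕ} (hq : Odd q) (u w : DihedralGroup q) (hu1 : u ≠ 1) (hu2 : u * u = 1)
    (hw : w ^ q = 1) : u * w * u⁻¹ = w⁻¹ := by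
  have hcop : Nat.Coprime 2 q := Nat.coprime_two_left.mpr hq
  cases u with
  | r i =>
    exfalso
    rw [DihedralGroup.r_mul_r, DihedralGroup.one_def] at hu2
    have h2 : i + i = 0 := DihedralGroup.r.inj hu2
    have h3 : ((2 : ℕ) : ZMod q) * i = 0 := by
      rw [Nat.cast_ofNat, two_mul]; exact h2
    have hunit : IsUnit ((2 : ℕ) : ZMod q) := by
      have := (ZMod.unitOfCoprime 2 hcop).isUnit
      rwa [ZMod.coe_unitOfCoprime] at this
    have hi : i = 0 := (hunit.mul_right_eq_zero).mp h3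
    apply hu1
    rw [hi, DihedralGroup.r_zero]
  | sr i =>
    cases w with
    | sr j =>
      exfalso
      have h1 : orderOf (DihedralGroup.sr j) ∣ q := orderOf_dvd_of_pow_eq_one hw
      rw [DihedralGroup.orderOf_sr] at h1
      exact (Nat.not_even_iff_odd.mpr hq) (even_iff_two_dvd.mpr h1)
    | r j =>
      rw [DihedralGroup.inv_sr, DihedralGroup.sr_mul_r, DihedralGroup.sr_mul_sr,
        DihedralGroup.inv_r]
      congr 1
      ring

theorem two_pow_mul_eq {q n a : ℕ} (hq : q.Prime) (hmul : 2 ^ n * a = 2 * q) (hodd : ¬ 2 ∣ a) :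
    (q = 2 ∧ a = 1) ∨ (q ≠ 2 ∧ n = 1 ∧ a = q) := by
  have hcop : Nat.Coprime a 2 := ((Nat.Prime.coprime_iff_not_dvd Nat.prime_two).mpr hodd).symm
  have ha : a ∣ q := by
    have h1 : a ∣ 2 * q := Dvd.intro_left _ hmul
    exact hcop.dvd_of_dvd_mul_left h1
  rcases (Nat.dvd_prime hq).mp ha with h1 | h1
  · left
    rw [h1, mul_one] at hmul
    refine ⟨?_, h1⟩
    cases n with
    | zero =>
      rw [pow_zero] at hmul
      omega
    | succ k =>
      rw [pow_succ] at hmul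
      have h2 : 2 ^ k * 2 = q * 2 := by rw [hmul, mul_comm]
      have h3 : 2 ^ k = q := Nat.eq_of_mul_eq_mul_right (by norm_num) h2
      have hk : k ≠ 0 := by
        rintro rfl
        rw [pow_zero] at h3
        exact hq.one_lt.ne h3
      have h4 : 2 ∣ q := by rw [← h3]; exact dvd_pow_self 2 hk
      exact ((Nat.prime_dvd_prime_iff_eq Nat.prime_two hq).mp h4).symm
  · right
    have hq2 : q ≠ 2 := by
      rintro rfl
      exact hodd (by rw [h1])
    refine ⟨hq2, ?_, h1⟩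
    rw [h1] at hmul
    have h2 : 2 ^ n = 2 := Nat.eq_of_mul_eq_mul_right hq.pos hmul
    have h3 : 2 ^ n = 2 ^ 1 := by rw [h2, pow_one]
    exact Nat.pow_right_injective (le_refl 2) h3

/-- Thompson's replacement count -/
theorem offender [Finite H] {S Q A : Subgroup H} (hQS : Q ≤ S) (hidx : Q.relIndex S = 2)
    (hA : A ∈ Cfsg.Agent.Lib.Helper1.maxElAbIn 2 S) {a : H} (ha : a ∈ A) :
    (omegaCenterOf Q ⊓ Subgroup.centralizer ({a} : Set H)).relIndex (omegaCenterOf Q) ≤ 2 := by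
  obtain ⟨hAS, hAel, hAmax⟩ := hA
  have hVQ : omegaCenterOf Q ≤ Q := (omegaCenterOf_le Q).trans inf_le_left
  have hVel : IsElementaryAbelian 2 (omegaCenterOf Q) :=
    Cfsg.Agent.Lib.Helper1.isElementaryAbelian_omegaOne_center 2 Q
  obtain ⟨B, hB⟩ : ∃ B : Subgroup H, B = (A ⊓ Q) ⊔ omegaCenterOf Q := ⟨_, rfl⟩
  have hBS : B ≤ S := by
    rw [hB]; exact sup_le (inf_le_right.trans hQS) (hVQ.trans hQS)
  have hBel : IsElementaryAbelian 2 B := by
    have h1 : B = Subgroup.closure (((A ⊓ Q : Subgroup H) : Set H) ∪ (omegaCenterOf Q : Set H)) := by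
      rw [hB, Subgroup.closure_union, Subgroup.closure_eq, Subgroup.closure_eq]
    rw [h1]
    apply Cfsg.Agent.Lib.Helper1.isElementaryAbelian_closure
    · intro x hx y hy
      rcases hx with hx | hx <;> rcases hy with hy | hy
      · have hx' := Subgroup.mem_inf.mp (SetLike.mem_coe.mp hx)
        have hy' := Subgroup.mem_inf.mp (SetLike.mem_coe.mp hy)
        have := hAel.1.is_comm.comm (⟨x, hx'.1⟩ : ↥A) ⟨y, hy'.1⟩
        exact congrArg Subtype.val this
      · have hx' := Subgroup.mem_inf.mp (SetLike.mem_coe.mp hx)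
        have hy' := Subgroup.mem_inf.mp (omegaCenterOf_le Q (SetLike.mem_coe.mp hy))
        exact Subgroup.mem_centralizer_iff.mp hy'.2 x hx'.2
      · have hx' := Subgroup.mem_inf.mp (omegaCenterOf_le Q (SetLike.mem_coe.mp hx))
        have hy' := Subgroup.mem_inf.mp (SetLike.mem_coe.mp hy)
        exact (Subgroup.mem_centralizer_iff.mp hx'.2 y hy'.2).symm
      · have := hVel.1.is_comm.comm (⟨x, SetLike.mem_coe.mp hx⟩ : ↥(omegaCenterOf Q))
          ⟨y, SetLike.mem_coe.mp hy⟩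
        exact congrArg Subtype.val this
    · intro x hx
      rcases hx with hx | hx
      · exact hAel.2 x (Subgroup.mem_inf.mp (SetLike.mem_coe.mp hx)).1
      · exact hVel.2 x (SetLike.mem_coe.mp hx)
  have hcard : Nat.card ↥B ≤ Nat.card ↥A := hAmax B hBS hBel
  have hAQB : A ⊓ Q ≤ B := by rw [hB]; exact le_sup_left
  have hVB : omegaCenterOf Q ≤ B := by rw [hB]; exact le_sup_right
  have c1 := relIndex_mul_card hAQB
  have c2 := relIndex_mul_card (inf_le_left : A ⊓ Q ≤ A)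
  have hpos : 0 < Nat.card ↥(A ⊓ Q) := Nat.card_pos
  have h1 : (A ⊓ Q).relIndex B ≤ (A ⊓ Q).relIndex A := by
    have : Nat.card ↥(A ⊓ Q) * (A ⊓ Q).relIndex B ≤ Nat.card ↥(A ⊓ Q) * (A ⊓ Q).relIndex A := by
      rw [c1, c2]; exact hcard
    exact Nat.le_of_mul_le_mul_left this hpos
  have h2 : (A ⊓ Q).relIndex A ≤ 2 := by
    rw [Subgroup.inf_relIndex_left, ← hidx]
    exact Subgroup.relIndex_le_of_le_right hAS (relIndex_ne_zero_of_finite _ _)
  have h3 : (A ⊓ Q).relIndex (omegaCenterOf Q) ≤ (A ⊓ Q).relIndex B :=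
    Subgroup.relIndex_le_of_le_right hVB (relIndex_ne_zero_of_finite _ _)
  have h4 : (A ⊓ Q ⊓ omegaCenterOf Q).relIndex (omegaCenterOf Q) =
      (A ⊓ Q).relIndex (omegaCenterOf Q) := Subgroup.inf_relIndex_right _ _
  have h5 : A ⊓ Q ⊓ omegaCenterOf Q ≤
      omegaCenterOf Q ⊓ Subgroup.centralizer ({a} : Set H) := by
    intro x hx
    obtain ⟨hx1, hxV⟩ := Subgroup.mem_inf.mp hx
    obtain ⟨hxA, -⟩ := Subgroup.mem_inf.mp hx1
    refine Subgroup.mem_inf.mpr ⟨hxV, ?_⟩
    rw [Subgroup.mem_centralizer_iff]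
    intro h hh
    rw [Set.mem_singleton_iff] at hh
    rw [hh]
    have := hAel.1.is_comm.comm (⟨a, ha⟩ : ↥A) ⟨x, hxA⟩
    exact congrArg Subtype.val this
  have h6 : (omegaCenterOf Q ⊓ Subgroup.centralizer ({a} : Set H)).relIndex (omegaCenterOf Q) ≤
      (A ⊓ Q ⊓ omegaCenterOf Q).relIndex (omegaCenterOf Q) :=
    Subgroup.relIndex_le_of_le_left h5 (relIndex_ne_zero_of_finite _ _)
  omega

/-- the transvection argument -/
theorem centralizes [Finite H] {G Q V : Subgroup H} (hNV : Nz G V) (hV2 : ∀ v ∈ V, v * v = 1)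
    (hQV : Q ≤ Subgroup.centralizer (V : Set H)) {a r : H} (hr : r ∈ G)
    (hinv : a * r * a⁻¹ * r ∈ Q) {q : ℕ} (hq : q.Prime) (hq5 : 5 ≤ q) (hrq : orderOf r = q)
    (hidx : (V ⊓ Subgroup.centralizer ({a} : Set H)).relIndex V ≤ 2) :
    r ∈ Subgroup.centralizer (V : Set H) := by
  obtain ⟨C, hC⟩ : ∃ C : Subgroup H, C = V ⊓ Subgroup.centralizer ({a} : Set H) := ⟨_, rfl⟩
  rw [← hC] at hidx
  obtain ⟨W, hW⟩ : ∃ W : Subgroup H, W = C ⊓ cj r C := ⟨_, rfl⟩
  have hcjV : cj r V = V := cj_eq_self_of_nz hNV hr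
  have h1 : (cj r C).relIndex V = C.relIndex V := by
    have := cj_relIndex r C V
    rwa [hcjV] at this
  have hW4 : W.relIndex V ≤ 4 := by
    have := Subgroup.relIndex_inf_le (H := C) (K := cj r C) (L := V)
    rw [← hW, h1] at this
    have h2 : C.relIndex V * C.relIndex V ≤ 2 * 2 := Nat.mul_le_mul hidx hidx
    omega
  have hWV : W ≤ V := by
    rw [hW, hC]; exact inf_le_left.trans inf_le_left
  have hrpow : r ^ q = 1 := by rw [← hrq]; exact pow_orderOf_eq_one r
  -- `W` is centralized by `r`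
  have hWr : ∀ w ∈ W, Commute w r := by
    intro w hw
    rw [hW] at hw
    obtain ⟨hw1, hw2⟩ := Subgroup.mem_inf.mp hw
    rw [hC] at hw1
    obtain ⟨hwV, hwa⟩ := Subgroup.mem_inf.mp hw1
    have e1 : a * w = w * a :=
      Subgroup.mem_centralizer_iff.mp hwa a (Set.mem_singleton a)
    have hw3 := mem_cj.mp hw2
    rw [hC] at hw3
    have e2 : a * (r⁻¹ * w * r) = (r⁻¹ * w * r) * a :=
      Subgroup.mem_centralizer_iff.mp (Subgroup.mem_inf.mp hw3).2 a (Set.mem_singleton a)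
    have e3 : w * (a * r * a⁻¹ * r) = (a * r * a⁻¹ * r) * w :=
      Subgroup.mem_centralizer_iff.mp (hQV hinv) w hwV
    have c1 : Commute w a := e1.symm
    have c2 : Commute w (r * a * r⁻¹) := by
      show w * (r * a * r⁻¹) = (r * a * r⁻¹) * w
      calc w * (r * a * r⁻¹) = r * ((r⁻¹ * w * r) * a) * r⁻¹ := by group
        _ = r * (a * (r⁻¹ * w * r)) * r⁻¹ := by rw [e2]
        _ = (r * a * r⁻¹) * w := by group
    have c3 : Commute w (a * r * a⁻¹ * r) := e3
    have c4 : Commute w ((r * a * r⁻¹) * a⁻¹ * (a * r * a⁻¹ * r)) :=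
      (c2.mul_right c1.inv_right).mul_right c3
    have e4 : (r * a * r⁻¹) * a⁻¹ * (a * r * a⁻¹ * r) = r * r := by group
    rw [e4] at c4
    have hodd : Odd q := hq.odd_of_ne_two (by omega)
    obtain ⟨k, hk⟩ := hodd
    have c5 : Commute w ((r * r) ^ (k + 1)) := c4.pow_right (k + 1)
    have e5 : (r * r) ^ (k + 1) = r := by
      rw [← pow_two, ← pow_mul]
      have : 2 * (k + 1) = q + 1 := by omega
      rw [this, pow_succ, hrpow, one_mul]
    rwa [e5] at c5
  -- the key step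
  have key : ∀ v ∈ V, ∀ i k : ℕ, 1 ≤ k → k ≤ 4 →
      (r ^ i * v * (r ^ i)⁻¹)⁻¹ * (r ^ (i + k) * v * (r ^ (i + k))⁻¹) ∈ W → Commute r v := by
    intro v hv i k hk1 hk4 hw
    obtain ⟨w, hw'⟩ : ∃ w : H, w = (r ^ i * v * (r ^ i)⁻¹)⁻¹ * (r ^ (i + k) * v * (r ^ (i + k))⁻¹) :=
      ⟨_, rfl⟩
    rw [← hw'] at hw
    have cw : Commute w r := hWr w hw
    have cwi : Commute w (r ^ i) := cw.pow_right i
    have cwk : Commute w (r ^ k) := cw.pow_right k
    -- `w = v⁻¹ r^k v r^{-k}`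
    have e1 : w = v⁻¹ * (r ^ k * v * (r ^ k)⁻¹) := by
      have h2 : (r ^ i)⁻¹ * w * r ^ i = w := by
        have := cwi.eq
        calc (r ^ i)⁻¹ * w * r ^ i = (r ^ i)⁻¹ * (w * r ^ i) := by group
          _ = (r ^ i)⁻¹ * (r ^ i * w) := by rw [this]
          _ = w := by group
      rw [← h2, hw', pow_add]
      group
    have e2 : r ^ k * v * (r ^ k)⁻¹ = v * w := by rw [e1]; group
    have hww : w * w = 1 := hV2 w (hWV hw)
    have e3 : (r ^ k * r ^ k) * v * (r ^ k * r ^ k)⁻¹ = v := by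
      calc (r ^ k * r ^ k) * v * (r ^ k * r ^ k)⁻¹
          = r ^ k * (r ^ k * v * (r ^ k)⁻¹) * (r ^ k)⁻¹ := by group
        _ = r ^ k * (v * w) * (r ^ k)⁻¹ := by rw [e2]
        _ = (r ^ k * v * (r ^ k)⁻¹) * (r ^ k * w * (r ^ k)⁻¹) := by group
        _ = (v * w) * (r ^ k * w * (r ^ k)⁻¹) := by rw [e2]
        _ = (v * w) * (w * r ^ k * (r ^ k)⁻¹) := by rw [cwk.eq]
        _ = v * (w * w) := by group
        _ = v := by rw [hww, mul_one]
    have c1 : Commute (r ^ (2 * k)) v := by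
      show r ^ (2 * k) * v = v * r ^ (2 * k)
      have e4 : r ^ (2 * k) = r ^ k * r ^ k := by rw [two_mul, pow_add]
      rw [e4]
      calc (r ^ k * r ^ k) * v = ((r ^ k * r ^ k) * v * (r ^ k * r ^ k)⁻¹) * (r ^ k * r ^ k) := by
            group
        _ = v * (r ^ k * r ^ k) := by rw [e3]
    have hcop : Nat.Coprime (2 * k) (orderOf r) := by
      rw [hrq]
      apply Nat.Coprime.symm
      rw [Nat.Prime.coprime_iff_not_dvd hq]
      intro hd
      rcases (Nat.Prime.dvd_mul hq).mp hd with h2 | h2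
      · have := Nat.le_of_dvd (by norm_num) h2
        omega
      · have := Nat.le_of_dvd (by omega) h2
        omega
    obtain ⟨m, hm⟩ := exists_pow_eq_self_of_coprime hcop
    have := c1.pow_left m
    rwa [hm] at this
  rw [Subgroup.mem_centralizer_iff]
  intro v hv
  -- pigeonhole
  letI : Fintype (↥V ⧸ W.subgroupOf V) := Fintype.ofFinite _
  have hmem : ∀ i : ℕ, r ^ i * v * (r ^ i)⁻¹ ∈ V := fun i => hNV _ (pow_mem hr i) _ hv
  obtain ⟨f, hf⟩ : ∃ f : Fin 5 → ↥V ⧸ W.subgroupOf V, f = fun i : Fin 5 =>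
      (QuotientGroup.mk (⟨r ^ (i : ℕ) * v * (r ^ (i : ℕ))⁻¹, hmem i⟩ : ↥V) :
        ↥V ⧸ W.subgroupOf V) := ⟨_, rfl⟩
  have hcard : Fintype.card (↥V ⧸ W.subgroupOf V) < Fintype.card (Fin 5) := by
    rw [← Nat.card_eq_fintype_card, Fintype.card_fin]
    have : Nat.card (↥V ⧸ W.subgroupOf V) = W.relIndex V := (Subgroup.index_eq_card _).symm
    omega
  obtain ⟨i, j, hij, hfij⟩ := Fintype.exists_ne_map_eq_of_card_lt f hcard
  rw [hf] at hfij
  have hq1 : ∀ i j : Fin 5, (QuotientGroup.mk (⟨r ^ (i : ℕ) * v * (r ^ (i : ℕ))⁻¹, hmem i⟩ : ↥V) :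
      ↥V ⧸ W.subgroupOf V) = QuotientGroup.mk (⟨r ^ (j : ℕ) * v * (r ^ (j : ℕ))⁻¹, hmem j⟩ : ↥V) →
      (r ^ (i : ℕ) * v * (r ^ (i : ℕ))⁻¹)⁻¹ * (r ^ (j : ℕ) * v * (r ^ (j : ℕ))⁻¹) ∈ W := by
    intro i j h
    have := QuotientGroup.eq.mp h
    rw [Subgroup.mem_subgroupOf] at this
    simpa using this
  have main : Commute r v := by
    rcases lt_or_gt_of_ne hij with hlt | hlt
    · have hw := hq1 i j hfij
      have hi4 : (j : ℕ) ≤ 4 := by have := j.2; omega
      have hlt' : (i : ℕ) < (j : ℕ) := hlt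
      have e : (j : ℕ) = (i : ℕ) + ((j : ℕ) - (i : ℕ)) := by omega
      rw [e] at hw
      exact key v hv i ((j : ℕ) - (i : ℕ)) (by omega) (by omega) hw
    · have hw := hq1 j i hfij.symm
      have hi4 : (i : ℕ) ≤ 4 := by have := i.2; omega
      have hlt' : (j : ℕ) < (i : ℕ) := hlt
      have e : (i : ℕ) = (j : ℕ) + ((i : ℕ) - (j : ℕ)) := by omega
      rw [e] at hw
      exact key v hv j ((i : ℕ) - (j : ℕ)) (by omega) (by omega) hw
  exact main.eq.symm

end Cfsg.Agent.Lib.Helper7.Sims
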