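import Mathlib
import Cfsg.Agent.Lib.Helper7.Sims1

/-! # Sims' theorem in local form

`G` a maximal subgroup of the finite simple group `H` with `C_G(O₂(G)) ≤ O₂(G)`,
`G / O₂(G)` dihedral of order `2q` (`q` prime), and `N_H(S) ≰ G` for `S ∈ Syl₂(G)`.
Then `q = 3` (Thompson's replacement argument kills `q ≥ 5`) and the pair `G`, `x G x⁻¹`
(`x ∈ N_H(S) ∖ G`) satisfies the hypotheses of the `(S₃, S₃)`-amalgam theorem. -/

set_option autoImplicit false
open scoped commutatorElement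
open Cfsg
open Cfsg.Agent.Lib.Helper3.JC
open Cfsg.Agent.Lib.Helper7.Am

namespace Cfsg.Agent.Lib.Helper7.Sims

universe u
variable {H : Type u} [Group H]

/-- the situation of Sims' theorem, inside the ambient group -/
structure Sit (G S : Subgroup H) (q : ℕ) : Prop where
  simple : IsSimpleGroup H
  coatom : IsCoatom G
  cent : G ⊓ Subgroup.centralizer (pCoreOf 2 G : Set H) ≤ pCoreOf 2 G
  QS : pCoreOf 2 G ≤ S
  SG : S ≤ G
  pg : IsPGroup 2 ↥S
  idxQ : (pCoreOf 2 G).relIndex S = 2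
  idxS : S.relIndex G = q
  hq : q.Prime

namespace Sit

variable {G S : Subgroup H} {q : ℕ}

theorem normal_bot (h : Sit G S q) {N : Subgroup H} (hNG : N ≤ G)
    (hG : G ≤ Subgroup.normalizer (N : Set H)) {y : H}
    (hy : y ∈ Subgroup.normalizer (N : Set H)) (hyG : y ∉ G) : N = ⊥ := by
  haveI := h.simple
  have hlt : G < Subgroup.normalizer (N : Set H) :=
    SetLike.lt_iff_le_and_exists.mpr ⟨hG, y, hy, hyG⟩
  have htop : Subgroup.normalizer (N : Set H) = ⊤ := h.coatom.2 _ hlt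
  have hn : N.Normal := Subgroup.normalizer_eq_top_iff.mp htop
  rcases hn.eq_bot_or_eq_top with h1 | h1
  · exact h1
  · exfalso
    apply h.coatom.1
    rw [eq_top_iff, ← h1]; exact hNG

theorem S_ne_bot (h : Sit G S q) : S ≠ ⊥ := by
  intro hS
  have := h.idxQ
  rw [hS, Subgroup.relIndex_bot_right] at this
  omega

theorem Z_ne_bot [Finite H] (h : Sit G S q) : omegaCenterOf S ≠ ⊥ := by
  haveI : Fact (Nat.Prime 2) := ⟨Nat.prime_two⟩
  haveI : Nontrivial ↥S := (Subgroup.nontrivial_iff_ne_bot S).mpr h.S_ne_bot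
  haveI : Nontrivial ↥(Subgroup.center ↥S) := h.pg.center_nontrivial
  have hcp : IsPGroup 2 ↥(Subgroup.center ↥S) := h.pg.to_subgroup _
  have hdvd : 2 ∣ Nat.card ↥(Subgroup.center ↥S) := by
    rcases hcp.card_eq_or_dvd with h1 | h1
    · exfalso
      have := Finite.one_lt_card (α := ↥(Subgroup.center ↥S))
      omega
    · exact h1
  obtain ⟨z, hz⟩ := exists_prime_orderOf_dvd_card' 2 hdvd
  have hz2 : z ^ 2 = 1 := by rw [← hz]; exact pow_orderOf_eq_one z
  have hz1 : z ≠ 1 := by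
    intro h1
    rw [h1, orderOf_one] at hz
    omega
  have hmem : ((z : ↥S) : H) ∈ omegaCenterOf S := by
    apply mem_omegaCenterOf (z : ↥S).2
    · intro y hy
      have := Subgroup.mem_center_iff.mp z.2 ⟨y, hy⟩
      exact congrArg Subtype.val this
    · have h3 : ((z : ↥S) : H) ^ 2 = 1 := by
        have h4 := congrArg (fun t : ↥(Subgroup.center ↥S) => ((t : ↥S) : H)) hz2
        simpa using h4
      rwa [pow_two] at h3
  intro hbot
  rw [hbot, Subgroup.mem_bot] at hmem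
  apply hz1
  have h5 : (z : ↥S) = 1 := Subtype.ext hmem
  exact Subtype.ext h5

theorem act [Finite H] (h : Sit G S q) {x : H} (hx : x ∈ Subgroup.normalizer (S : Set H))
    (hxG : x ∉ G) : ¬ G ≤ Subgroup.centralizer (omegaCenterOf S : Set H) := by
  intro hc
  apply h.Z_ne_bot
  have hZS : omegaCenterOf S ≤ S := (omegaCenterOf_le S).trans inf_le_left
  apply h.normal_bot (hZS.trans h.SG) (hc.trans (Subgroup.centralizer_le_normalizer _)) ?_ hxG
  apply mem_normalizer_of_cj_eq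
  rw [cj_omegaCenterOf, cj_eq_self hx]

theorem mem_of_mem_normalizer (h : Sit G S q) {y : H}
    (hy : y ∈ Subgroup.normalizer (G : Set H)) : y ∈ G := by
  by_contra hyG
  have hG : G = ⊥ := h.normal_bot le_rfl Subgroup.le_normalizer hy hyG
  apply h.S_ne_bot
  rw [eq_bot_iff, ← hG]; exact h.SG

theorem inf_eq [Finite H] (h : Sit G S q) {x : H} (hx : x ∈ Subgroup.normalizer (S : Set H))
    (hxG : x ∉ G) : G ⊓ cj x G = S := by
  have hS1 : S ≤ G ⊓ cj x G := by
    refine le_inf h.SG ?_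
    have := cj_mono (g := x) h.SG
    rwa [cj_eq_self hx] at this
  have hm := Subgroup.relIndex_mul_relIndex S (G ⊓ cj x G) G hS1 inf_le_left
  rw [h.idxS] at hm
  have hd : S.relIndex (G ⊓ cj x G) ∣ q := Dvd.intro _ hm
  rcases (Nat.dvd_prime h.hq).mp hd with h1 | h1
  · exact le_antisymm (Subgroup.relIndex_eq_one.mp h1) hS1
  · exfalso
    rw [h1] at hm
    have h2 : (G ⊓ cj x G).relIndex G = 1 :=
      Nat.eq_of_mul_eq_mul_left h.hq.pos (by rw [hm, mul_one])
    have h3 : G ≤ cj x G := (Subgroup.relIndex_eq_one.mp h2).trans inf_le_right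
    have h4 : G = cj x G := Subgroup.eq_of_le_of_card_ge h3 (le_of_eq (card_cj x G))
    exact hxG (h.mem_of_mem_normalizer (mem_normalizer_of_cj_eq h4.symm))

theorem Z_le_V (h : Sit G S q) : omegaCenterOf S ≤ omegaCenterOf (pCoreOf 2 G) := by
  unfold omegaCenterOf omegaOne
  apply Subgroup.closure_mono
  rintro y ⟨⟨hyS, hyC⟩, hy2⟩
  have hyCQ : y ∈ Subgroup.centralizer (pCoreOf 2 G : Set H) :=
    Subgroup.centralizer_le (SetLike.coe_subset_coe.mpr h.QS) hyC
  exact ⟨⟨h.cent ⟨h.SG hyS, hyCQ⟩, hyCQ⟩, hy2⟩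

theorem loc3 [Finite H] (h : Sit G S 3) {x : H} (hx : x ∈ Subgroup.normalizer (S : Set H))
    (hxG : x ∉ G) : Loc G (cj x G) where
  fin := inferInstance
  cent := h.cent
  pg := by rw [h.inf_eq hx hxG]; exact h.pg
  idxT := by rw [h.inf_eq hx hxG]; exact h.idxS
  QK := by
    have := h.inf_eq hx hxG
    exact h.QS.trans (by rw [← this]; exact inf_le_right)
  idxQ := by rw [h.inf_eq hx hxG]; exact h.idxQ
  act := by rw [h.inf_eq hx hxG]; exact h.act hx hxG

theorem ctx [Finite H] (h : Sit G S 3) {x : H} (hx : x ∈ Subgroup.normalizer (S : Set H))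
    (hxG : x ∉ G) : Ctx (fun i : Bool => cond i G (cj x G)) := by
  have hx' : x⁻¹ ∈ Subgroup.normalizer (S : Set H) := inv_mem hx
  have hxG' : x⁻¹ ∉ G := fun h1 => hxG (by simpa using inv_mem h1)
  refine ⟨fun i => ?_, fun N hN h1 h2 => ?_⟩
  · cases i
    · have := (h.loc3 hx' hxG').conj x
      rw [cj_cj_inv] at this
      exact this
    · exact h.loc3 hx hxG
  · have hNG : N ≤ G := hN.trans inf_le_left
    have hnot : ¬ cj x G ≤ G := by
      intro hle
      have h4 : cj x G = G := Subgroup.eq_of_le_of_card_ge hle (le_of_eq (card_cj x G).symm)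
      exact hxG (h.mem_of_mem_normalizer (mem_normalizer_of_cj_eq h4))
    obtain ⟨y, hy, hyG⟩ := SetLike.not_le_iff_exists.mp hnot
    exact h.normal_bot hNG h1.le_normalizer (h2.le_normalizer hy) hyG

theorem q_eq_three [Finite H] (h : Sit G S q) {x : H}
    (hx : x ∈ Subgroup.normalizer (S : Set H)) (hxG : x ∉ G) (hq2 : q ≠ 2)
    (e : ↥G ⧸ pCore 2 ↥G ≃* DihedralGroup q) : q = 3 := by
  by_contra hq3
  have hq5 : 5 ≤ q := by
    have h2 := h.hq.two_le
    have h4 : q ≠ 4 := by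
      rintro rfl
      exact absurd h.hq (by decide)
    omega
  haveI : Fact (Nat.Prime 2) := ⟨Nat.prime_two⟩
  -- the Thompson subgroup of `S` is not inside `O₂(G)`
  have hJ : ¬ thompsonSubgroupOf 2 S ≤ pCoreOf 2 G := by
    intro hJQ
    have h1 : G ≤ Subgroup.normalizer (thompsonSubgroupOf 2 S : Set H) :=
      (nz_self_pCoreOf G).le_normalizer.trans
        (Cfsg.Agent.Lib.Helper1.normalizer_le_normalizer_thompsonSubgroupOf (p := 2) hJQ h.QS)
    have h2 : x ∈ Subgroup.normalizer (thompsonSubgroupOf 2 S : Set H) :=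
      Cfsg.Agent.Lib.Helper1.normalizer_le_normalizer_thompsonSubgroupOf (p := 2)
        (Cfsg.Agent.Lib.Helper1.thompsonSubgroupOf_le_self 2 S) le_rfl hx
    have h3 : thompsonSubgroupOf 2 S = ⊥ :=
      h.normal_bot ((Cfsg.Agent.Lib.Helper1.thompsonSubgroupOf_le_self 2 S).trans h.SG) h1 h2 hxG
    have hcard := relIndex_mul_card h.QS
    rw [h.idxQ] at hcard
    have hdvd : 2 ∣ Nat.card ↥S := Dvd.intro_left _ hcard
    have h4 : thompsonSubgroup 2 ↥S ≠ ⊥ := Cfsg.Agent.Lib.Helper1.thompsonSubgroup_ne_bot hdvd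
    apply h4
    unfold thompsonSubgroupOf at h3
    exact (Subgroup.map_eq_bot_iff_of_injective _ S.subtype_injective).mp h3
  obtain ⟨A, hA, hAQ⟩ : ∃ A ∈ Cfsg.Agent.Lib.Helper1.maxElAbIn 2 S, ¬ A ≤ pCoreOf 2 G := by
    by_contra hcon
    push Not at hcon
    apply hJ
    rw [Cfsg.Agent.Lib.Helper1.thompsonSubgroupOf_eq_sSup]
    exact sSup_le hcon
  obtain ⟨a, haA, haQ⟩ := SetLike.not_le_iff_exists.mp hAQ
  have haS : a ∈ S := hA.1 haA
  have haG : a ∈ G := h.SG haS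
  have ha2 : a * a = 1 := by
    have := hA.2.1.2 a haA
    rwa [pow_two] at this
  have hoff := offender h.QS h.idxQ hA haA
  -- an element of order `q`
  have hcardG : q ∣ Nat.card ↥G := by
    have h1 := relIndex_mul_card h.SG
    rw [h.idxS] at h1
    exact Dvd.intro_left _ h1
  haveI : Fact q.Prime := ⟨h.hq⟩
  obtain ⟨r₀, hr₀⟩ := exists_prime_orderOf_dvd_card' q hcardG
  have hr₀q : r₀ ^ q = 1 := by
    have := pow_orderOf_eq_one r₀
    rwa [hr₀] at this
  -- `a` inverts `r₀` modulo `O₂(G)`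
  have hinv : a * (r₀ : H) * a⁻¹ * (r₀ : H) ∈ pCoreOf 2 G := by
    obtain ⟨a₀, ha₀⟩ : ∃ a₀ : ↥G, a₀ = ⟨a, haG⟩ := ⟨_, rfl⟩
    have hodd : Odd q := h.hq.odd_of_ne_two hq2
    have hu1 : e (QuotientGroup.mk a₀) ≠ 1 := by
      intro h1
      have h2 : (QuotientGroup.mk a₀ : ↥G ⧸ pCore 2 ↥G) = 1 := by
        have := congrArg e.symm h1
        simpa using this
      rw [QuotientGroup.eq_one_iff] at h2
      apply haQ
      show a ∈ (pCore 2 ↥G).map G.subtype
      exact Subgroup.mem_map.mpr ⟨a₀, h2, by rw [ha₀]; rfl⟩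
    have hu2 : e (QuotientGroup.mk a₀) * e (QuotientGroup.mk a₀) = 1 := by
      rw [← map_mul, ← QuotientGroup.mk_mul]
      have : a₀ * a₀ = 1 := by rw [ha₀]; exact Subtype.ext ha2
      rw [this, QuotientGroup.mk_one, map_one]
    have hw : e (QuotientGroup.mk r₀) ^ q = 1 := by
      rw [← map_pow, ← QuotientGroup.mk_pow, hr₀q, QuotientGroup.mk_one, map_one]
    have hdi := dihedral_inv hodd _ _ hu1 hu2 hw
    have h3 : e (QuotientGroup.mk (a₀ * r₀ * a₀⁻¹ * r₀)) = 1 := by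
      rw [QuotientGroup.mk_mul, QuotientGroup.mk_mul, QuotientGroup.mk_mul, QuotientGroup.mk_inv,
        map_mul, map_mul, map_mul, map_inv, hdi, inv_mul_cancel]
    have h4 : (QuotientGroup.mk (a₀ * r₀ * a₀⁻¹ * r₀) : ↥G ⧸ pCore 2 ↥G) = 1 := by
      have := congrArg e.symm h3
      simpa using this
    rw [QuotientGroup.eq_one_iff] at h4
    show a * (r₀ : H) * a⁻¹ * (r₀ : H) ∈ (pCore 2 ↥G).map G.subtype
    refine Subgroup.mem_map.mpr ⟨a₀ * r₀ * a₀⁻¹ * r₀, h4, ?_⟩
    rw [ha₀]; rfl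
  have hr₀G : (r₀ : H) ∈ G := r₀.2
  have hord : orderOf (r₀ : H) = q := by rw [Subgroup.orderOf_coe, hr₀]
  have hNV : Nz G (omegaCenterOf (pCoreOf 2 G)) := nz_omegaCenterOf (nz_self_pCoreOf G)
  have hQV : pCoreOf 2 G ≤ Subgroup.centralizer (omegaCenterOf (pCoreOf 2 G) : Set H) :=
    le_cent_symm ((omegaCenterOf_le _).trans inf_le_right)
  have hcen := centralizes hNV (omegaCenterOf_sq _) hQV hr₀G hinv h.hq hq5 hord hoff
  -- `r₀ ∉ S`
  have hrS : (r₀ : H) ∉ S := by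
    intro hrS
    obtain ⟨k, hk⟩ := h.pg ⟨(r₀ : H), hrS⟩
    have hk' : (r₀ : H) ^ 2 ^ k = 1 := by
      have := congrArg Subtype.val hk
      simpa using this
    have hd : q ∣ 2 ^ k := by rw [← hord]; exact orderOf_dvd_of_pow_eq_one hk'
    have hd2 : q ∣ 2 := h.hq.dvd_of_dvd_pow hd
    have := Nat.le_of_dvd (by norm_num) hd2
    omega
  -- `S ⊔ ⟨r₀⟩ = G`
  have hgen : G ≤ S ⊔ Subgroup.zpowers (r₀ : H) := by
    have hle1 : S ≤ S ⊔ Subgroup.zpowers (r₀ : H) := le_sup_left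
    have hle2 : S ⊔ Subgroup.zpowers (r₀ : H) ≤ G := sup_le h.SG (Subgroup.zpowers_le.mpr hr₀G)
    have hm := Subgroup.relIndex_mul_relIndex S _ G hle1 hle2
    rw [h.idxS] at hm
    have hd : S.relIndex (S ⊔ Subgroup.zpowers (r₀ : H)) ∣ q := Dvd.intro _ hm
    rcases (Nat.dvd_prime h.hq).mp hd with h1 | h1
    · exfalso
      apply hrS
      have h5 : (r₀ : H) ∈ S ⊔ Subgroup.zpowers (r₀ : H) :=
        (le_sup_right : Subgroup.zpowers (r₀ : H) ≤ S ⊔ Subgroup.zpowers (r₀ : H))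
          (Subgroup.mem_zpowers _)
      exact (Subgroup.relIndex_eq_one.mp h1) h5
    · rw [h1] at hm
      have h2 : (S ⊔ Subgroup.zpowers (r₀ : H)).relIndex G = 1 :=
        Nat.eq_of_mul_eq_mul_left h.hq.pos (by rw [hm, mul_one])
      exact Subgroup.relIndex_eq_one.mp h2
  apply h.act hx hxG
  refine hgen.trans (sup_le ?_ ?_)
  · exact le_cent_symm ((omegaCenterOf_le S).trans inf_le_right)
  · rw [Subgroup.zpowers_le]
    exact Subgroup.centralizer_le (SetLike.coe_subset_coe.mpr h.Z_le_V) hcen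

end Sit

/-- **Sims' theorem in local form** -/
theorem sims [Finite H] [IsSimpleGroup H] (G : Subgroup H) (hG : IsCoatom G)
    (hchar : Subgroup.centralizer (Cfsg.pCore 2 ↥G : Set ↥G) ≤ Cfsg.pCore 2 ↥G) (S : Sylow 2 ↥G)
    (hN : ¬ Subgroup.normalizer (((S : Subgroup ↥G).map G.subtype : Subgroup H) : Set H) ≤ G)
    (q : ℕ) (hq : q.Prime) (hD : Nonempty (↥G ⧸ Cfsg.pCore 2 ↥G ≃* DihedralGroup q)) :
    Nonempty (↥G ≃* Equiv.Perm (Fin 4)) ∨
      Nonempty (↥G ≃* Equiv.Perm (Fin 4) × Multiplicative (ZMod 2)) := by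
  haveI : Fact (Nat.Prime 2) := ⟨Nat.prime_two⟩
  obtain ⟨e⟩ := hD
  have h2q : (pCore 2 ↥G).index = 2 * q := by
    rw [Subgroup.index_eq_card, Nat.card_congr e.toEquiv, DihedralGroup.nat_card]
  have hle : pCore 2 ↥G ≤ (S : Subgroup ↥G) := Cfsg.Agent.Lib.Helper7.pCore_le_sylow S
  have hmul := Subgroup.relIndex_mul_index hle
  rw [h2q] at hmul
  have hodd : ¬ 2 ∣ (S : Subgroup ↥G).index := S.not_dvd_index
  obtain ⟨n, hn⟩ : ∃ n : ℕ, (pCore 2 ↥G).relIndex (S : Subgroup ↥G) = 2 ^ n :=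
    (S.isPGroup').index ((pCore 2 ↥G).subgroupOf (S : Subgroup ↥G))
  rw [hn] at hmul
  rcases two_pow_mul_eq hq hmul hodd with ⟨-, h1⟩ | ⟨hq2, hn1, hSq⟩
  · exfalso
    have hStop : (S : Subgroup ↥G) = ⊤ := Subgroup.index_eq_one.mp h1
    have hp : IsPGroup 2 ↥(⊤ : Subgroup ↥G) := by rw [← hStop]; exact S.isPGroup'
    have h3 : (⊤ : Subgroup ↥G) ≤ pCore 2 ↥G :=
      Cfsg.Agent.Lib.Helper7.le_pCore inferInstance hp
    have h4 : (pCore 2 ↥G).index = 1 := Subgroup.index_eq_one.mpr (top_le_iff.mp h3)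
    have := hq.two_le
    omega
  · rw [hn1, pow_one] at hn
    obtain ⟨S', hS'⟩ : ∃ S' : Subgroup H, S' = (S : Subgroup ↥G).map G.subtype := ⟨_, rfl⟩
    rw [← hS'] at hN
    have hsit : Sit G S' q := by
      refine ⟨inferInstance, hG, ?_, ?_, ?_, ?_, ?_, ?_, hq⟩
      · intro y hy
        obtain ⟨hyG, hyC⟩ := Subgroup.mem_inf.mp hy
        have h1 : (⟨y, hyG⟩ : ↥G) ∈ pCore 2 ↥G := by
          apply hchar
          rw [Subgroup.mem_centralizer_iff]
          intro k hk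
          apply Subtype.ext
          have hkQ : (k : H) ∈ pCoreOf 2 G := Subgroup.mem_map_of_mem G.subtype hk
          exact Subgroup.mem_centralizer_iff.mp hyC (k : H) hkQ
        exact Subgroup.mem_map.mpr ⟨⟨y, hyG⟩, h1, rfl⟩
      · rw [hS']; exact Subgroup.map_mono hle
      · rw [hS']; exact Subgroup.map_subtype_le _
      · rw [hS']; exact S.isPGroup'.map _
      · rw [hS']
        show ((pCore 2 ↥G).map G.subtype).relIndex _ = 2
        rw [Subgroup.relIndex_map_map_of_injective _ _ G.subtype_injective]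
        exact hn
      · rw [hS']
        show (((S : Subgroup ↥G).map G.subtype).subgroupOf G).index = q
        have : ((S : Subgroup ↥G).map G.subtype).subgroupOf G = (S : Subgroup ↥G) :=
          Subgroup.comap_map_eq_self_of_injective G.subtype_injective _
        rw [this]; exact hSq
    obtain ⟨x, hxN, hxG⟩ := SetLike.not_le_iff_exists.mp hN
    have hq3 : q = 3 := hsit.q_eq_three hxN hxG hq2 e
    subst hq3
    have hC := hsit.ctx hxN hxG
    rcases amalgam_ctx hC with ⟨⟨f⟩, -⟩ | ⟨⟨f⟩, -⟩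
    · exact Or.inl ⟨f⟩
    · exact Or.inr ⟨f.trans MulEquiv.prodComm⟩

end Cfsg.Agent.Lib.Helper7.Sims
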