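import Mathlib
import Cfsg.Prelude.Def_GeometricClasses
import Cfsg.Agent.Lib.Helper7.SingF

set_option linter.style.haveILetI false
set_option linter.unusedSectionVars false
set_option linter.unusedVariables false

universe u v w

namespace Cfsg.Agent.Lib.Helper7.Sing

open Matrix Polynomial

section conv

variable {F : Type u} [Field F] [Fintype F] {p : ℕ} [Fact p.Prime] [CharP F p]

/-- The converse direction of `main5970`, valid for every prime `n ≥ 3`, `n ≠ p`: if `q` has order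
`n - 1` modulo `n`, elements of order `n` modulo scalars are conjugate into the normaliser. -/
theorem conj_of_ord (n : ℕ) (hnprime : n.Prime) (h3 : 3 ≤ n) (hnp : n ≠ p)
    (K : Subalgebra F (Matrix (Fin n) (Fin n) F)) (hK : Cfsg.Geo.IsFieldSubalgebra n K)
    (hord : orderOf ((Fintype.card F : ℕ) : ZMod n) = n - 1)
    (x : Matrix.SpecialLinearGroup (Fin n) F)
    (hx : ∃ z : F, ((x ^ n : Matrix.SpecialLinearGroup (Fin n) F) : Matrix (Fin n) (Fin n) F) =
        z • (1 : Matrix (Fin n) (Fin n) F))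
    (hns : ∀ z : F, (x : Matrix (Fin n) (Fin n) F) ≠ z • (1 : Matrix (Fin n) (Fin n) F)) :
    ∃ P : Matrix.SpecialLinearGroup (Fin n) F, P⁻¹ * x * P ∈
        ((Cfsg.Geo.subalgebraNormalizer K).comap
          (Matrix.SpecialLinearGroup.toGL : Matrix.SpecialLinearGroup (Fin n) F →* GL (Fin n) F)) := by
  haveI : Fact n.Prime := ⟨hnprime⟩
  haveI : Nonempty (Fin n) := ⟨⟨0, by omega⟩⟩
  obtain ⟨L, instL, instA, φ, hφ, hfin⟩ := exists_model n K hK
  have hcard : Fintype.card (Fin n) = n := Fintype.card_fin n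
  have hdim : Module.finrank F L = Fintype.card (Fin n) := by rw [hfin, hcard]
  haveI : FiniteDimensional F L := Module.finite_of_finrank_pos (by rw [hfin]; omega)
  obtain ⟨z, hz⟩ := hx
  obtain ⟨Xm, hXdef⟩ : ∃ Xm : Matrix (Fin n) (Fin n) F, Xm = (x : Matrix (Fin n) (Fin n) F) :=
    ⟨_, rfl⟩
  have hXdet : Xm.det = 1 := by rw [hXdef]; exact x.2
  rw [Matrix.SpecialLinearGroup.coe_pow, ← hXdef] at hz
  -- the scalar is one
  have hzn : z ^ n = 1 := by
    have := congrArg Matrix.det hz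
    rw [det_pow, hXdet, one_pow, det_smul, det_one, mul_one, hcard] at this
    exact this.symm
  have hz0 : z ≠ 0 := by
    intro h
    rw [h, zero_pow (by omega)] at hzn
    exact zero_ne_one hzn
  have hndvd : ¬ n ∣ Fintype.card F - 1 := by
    intro hd
    have hq1 : 1 ≤ Fintype.card F := Fintype.card_pos
    have h1 : ((Fintype.card F : ℕ) : ZMod n) = 1 := by
      have : ((Fintype.card F - 1 : ℕ) : ZMod n) = 0 := (ZMod.natCast_eq_zero_iff _ _).mpr hd
      have h2 : Fintype.card F = (Fintype.card F - 1) + 1 := by omega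
      rw [h2]
      push_cast
      rw [this, zero_add]
    rw [h1, orderOf_one] at hord
    omega
  have hz1 : z = 1 := by
    have hd1 : orderOf z ∣ n := orderOf_dvd_of_pow_eq_one hzn
    have hd2 : orderOf z ∣ Fintype.card F - 1 :=
      orderOf_dvd_of_pow_eq_one (FiniteField.pow_card_sub_one_eq_one z hz0)
    rcases (Nat.dvd_prime hnprime).mp hd1 with h | h
    · exact orderOf_eq_one_iff.mp h
    · rw [h] at hd2
      exact absurd hd2 hndvd
  rw [hz1, one_smul] at hz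
  have hX1 : Xm ≠ 1 := by
    intro h
    apply hns 1
    rw [← hXdef, h, one_smul]
  -- the Frobenius element
  obtain ⟨Y, Y', hYY', hY'Y, hYn, hY1, hYφ⟩ := exists_frob φ hdim (by rw [hcard]; omega)
  rw [hcard] at hYn
  -- cyclic vectors
  obtain ⟨u, hu⟩ := exists_cyclic (F := F) n hcard hnp h3 hord hz hX1
  obtain ⟨w, hw⟩ := exists_cyclic (F := F) n hcard hnp h3 hord hYn hY1
  have hmonic : (Polynomial.X ^ n - 1 : F[X]).Monic := by
    have := monic_X_pow_sub_C (1 : F) (by omega : n ≠ 0)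
    rwa [map_one] at this
  have hdeg : (Polynomial.X ^ n - 1 : F[X]).natDegree = Fintype.card (Fin n) := by
    have := natDegree_X_pow_sub_C (R := F) (n := n) (r := 1)
    rw [map_one] at this
    rw [this, hcard]
  have hliu := li_of_ann hu hmonic hdeg
  have hliw := li_of_ann hw hmonic hdeg
  obtain ⟨P₀, P₀', h1, h2, hconj⟩ := conj_of_cyclic (by rw [hcard]; omega)
    (by rw [hcard]; exact hz) (by rw [hcard]; exact hYn) hliu hliw
  have hcop : (Fintype.card F - 1).Coprime n :=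
    ((Nat.Prime.coprime_iff_not_dvd hnprime).mpr hndvd).symm
  obtain ⟨P, hP⟩ := exists_sl_conj (by omega) hcop x Y P₀ P₀' h1 h2 (by rw [← hXdef]; exact hconj)
  refine ⟨P, ?_⟩
  rw [Subgroup.mem_comap]
  apply mem_normalizer_of_forall
  intro k hk
  rw [← hφ, AlgHom.mem_range] at hk
  obtain ⟨m, rfl⟩ := hk
  have hgv : ((Matrix.SpecialLinearGroup.toGL (P⁻¹ * x * P) : GL (Fin n) F) :
      Matrix (Fin n) (Fin n) F) = Y := by
    rw [Matrix.SpecialLinearGroup.coe_GL_coe_matrix, hP]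
  have hgi : (((Matrix.SpecialLinearGroup.toGL (P⁻¹ * x * P))⁻¹ : GL (Fin n) F) :
      Matrix (Fin n) (Fin n) F) = Y' := by
    apply gl_inv_eq
    rw [hgv, hYY']
  rw [hgv, hgi, hYφ m, ← hφ]
  exact AlgHom.mem_range_self φ _

/-- Elements with a two-dimensional eigenspace are not conjugate into the normaliser. -/
theorem not_conj_of_eigen (n : ℕ) (hnprime : n.Prime)
    (K : Subalgebra F (Matrix (Fin n) (Fin n) F)) (hK : Cfsg.Geo.IsFieldSubalgebra n K)
    (x : Matrix.SpecialLinearGroup (Fin n) F) (μ : F) (hμ : μ ≠ 0) (a b : Fin n → F) (ha0 : a ≠ 0)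
    (hab : ¬ ∃ c : F, b = c • a)
    (hxa : (x : Matrix (Fin n) (Fin n) F) *ᵥ a = μ • a)
    (hxb : (x : Matrix (Fin n) (Fin n) F) *ᵥ b = μ • b)
    (hns : ∀ z : F, (x : Matrix (Fin n) (Fin n) F) ≠ z • (1 : Matrix (Fin n) (Fin n) F)) :
    ¬ ∃ P : Matrix.SpecialLinearGroup (Fin n) F, P⁻¹ * x * P ∈
        ((Cfsg.Geo.subalgebraNormalizer K).comap
          (Matrix.SpecialLinearGroup.toGL : Matrix.SpecialLinearGroup (Fin n) F →* GL (Fin n) F)) := by
  rintro ⟨P, hP⟩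
  have hn2 : 2 ≤ n := hnprime.two_le
  haveI : Nonempty (Fin n) := ⟨⟨0, by omega⟩⟩
  obtain ⟨L, instL, instA, φ, hφ, hfin⟩ := exists_model n K hK
  have hcard : Fintype.card (Fin n) = n := Fintype.card_fin n
  have hdim : Module.finrank F L = Fintype.card (Fin n) := by rw [hfin, hcard]
  haveI : FiniteDimensional F L := Module.finite_of_finrank_pos (by rw [hfin]; omega)
  have hprime' : (Fintype.card (Fin n)).Prime := by rw [hcard]; exact hnprime
  obtain ⟨Xm, hXdef⟩ : ∃ Xm : Matrix (Fin n) (Fin n) F, Xm = (x : Matrix (Fin n) (Fin n) F) :=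
    ⟨_, rfl⟩
  rw [← hXdef] at hxa hxb hns
  rw [Subgroup.mem_comap] at hP
  obtain ⟨g, hg⟩ : ∃ g : GL (Fin n) F,
      g = Matrix.SpecialLinearGroup.toGL (P⁻¹ * x * P) := ⟨_, rfl⟩
  rw [← hg] at hP
  obtain ⟨Pm, hPm⟩ : ∃ Pm : Matrix (Fin n) (Fin n) F, Pm = (P : Matrix (Fin n) (Fin n) F) :=
    ⟨_, rfl⟩
  obtain ⟨Pi', hPi⟩ : ∃ Pi' : Matrix (Fin n) (Fin n) F,
      Pi' = ((P⁻¹ : Matrix.SpecialLinearGroup (Fin n) F) : Matrix (Fin n) (Fin n) F) := ⟨_, rfl⟩
  have hPiPm : Pi' * Pm = 1 := by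
    rw [hPi, hPm, ← Matrix.SpecialLinearGroup.coe_mul, inv_mul_cancel,
      Matrix.SpecialLinearGroup.coe_one]
  have hPmPi : Pm * Pi' = 1 := by
    rw [hPi, hPm, ← Matrix.SpecialLinearGroup.coe_mul, mul_inv_cancel,
      Matrix.SpecialLinearGroup.coe_one]
  have hgval : (g : Matrix (Fin n) (Fin n) F) = Pi' * Xm * Pm := by
    rw [hg, Matrix.SpecialLinearGroup.coe_GL_coe_matrix, Matrix.SpecialLinearGroup.coe_mul,
      Matrix.SpecialLinearGroup.coe_mul, hPi, hPm, hXdef]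
  obtain ⟨G', hG'⟩ : ∃ G' : Matrix (Fin n) (Fin n) F,
      G' = ((g⁻¹ : GL (Fin n) F) : Matrix (Fin n) (Fin n) F) := ⟨_, rfl⟩
  have hGG' : (g : Matrix (Fin n) (Fin n) F) * G' = 1 := by
    rw [hG', ← Units.val_mul, mul_inv_cancel, Units.val_one]
  have hG'G : G' * (g : Matrix (Fin n) (Fin n) F) = 1 := by
    rw [hG', ← Units.val_mul, inv_mul_cancel, Units.val_one]
  -- rescale
  obtain ⟨G₁, hG₁⟩ : ∃ G₁ : Matrix (Fin n) (Fin n) F, G₁ = μ⁻¹ • (g : Matrix (Fin n) (Fin n) F) :=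
    ⟨_, rfl⟩
  obtain ⟨G₁', hG₁'⟩ : ∃ G₁' : Matrix (Fin n) (Fin n) F, G₁' = μ • G' := ⟨_, rfl⟩
  have h11 : G₁ * G₁' = 1 := by
    rw [hG₁, hG₁', Matrix.smul_mul, Matrix.mul_smul, smul_smul, inv_mul_cancel₀ hμ, one_smul, hGG']
  have h12 : G₁' * G₁ = 1 := by
    rw [hG₁, hG₁', Matrix.smul_mul, Matrix.mul_smul, smul_smul, mul_inv_cancel₀ hμ, one_smul, hG'G]
  have hnorm : ∀ m : L, ∃ m' : L, G₁ * φ m * G₁' = φ m' := by
    intro m
    have hm : φ m ∈ K := by rw [← hφ]; exact AlgHom.mem_range_self φ m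
    have := normalizer_conj K g hP hm
    rw [← hG', ← hφ, AlgHom.mem_range] at this
    obtain ⟨m', hm'⟩ := this
    refine ⟨m', ?_⟩
    rw [hG₁, hG₁', Matrix.smul_mul, Matrix.smul_mul, Matrix.mul_smul, smul_smul, inv_mul_cancel₀ hμ,
      one_smul, hm']
  have hfix : ∀ v : Fin n → F, Xm *ᵥ v = μ • v → G₁ *ᵥ (Pi' *ᵥ v) = Pi' *ᵥ v := by
    intro v hv
    rw [hG₁, hgval, smul_mulVec, mulVec_mulVec, mul_assoc, mul_assoc, hPmPi, mul_one,
      ← mulVec_mulVec, hv, mulVec_smul, smul_smul, inv_mul_cancel₀ hμ, one_smul]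
  have hback : ∀ v : Fin n → F, Pm *ᵥ (Pi' *ᵥ v) = v := by
    intro v
    rw [mulVec_mulVec, hPmPi, one_mulVec]
  have ha1 : Pi' *ᵥ a ≠ 0 := by
    intro h
    apply ha0
    rw [← hback a, h, mulVec_zero]
  rcases fixed_dependent φ hdim hprime' G₁ G₁' h11 h12 hnorm ha1 (hfix a hxa) (hfix b hxb)
    with h | ⟨c, hc⟩
  · apply hns μ
    have hgμ : (g : Matrix (Fin n) (Fin n) F) = μ • (1 : Matrix (Fin n) (Fin n) F) := by
      have : μ • G₁ = μ • (1 : Matrix (Fin n) (Fin n) F) := by rw [h]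
      rwa [hG₁, smul_smul, mul_inv_cancel₀ hμ, one_smul] at this
    have : Xm = Pm * (Pi' * Xm * Pm) * Pi' := by
      rw [mul_assoc, mul_assoc, mul_assoc, hPmPi, mul_one, ← mul_assoc, hPmPi, one_mul]
    rw [this, ← hgval, hgμ, Matrix.mul_smul, Matrix.smul_mul, mul_one, hPmPi]
  · apply hab
    refine ⟨c, ?_⟩
    rw [← hback b, hc, mulVec_smul, hback a]

end conv

end Cfsg.Agent.Lib.Helper7.Sing
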