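import Mathlib
import Cfsg.Prelude.Def_GeometricClasses
import Cfsg.Agent.Lib.Helper7.SingG

set_option linter.style.haveILetI false
set_option linter.unusedSectionVars false
set_option linter.unusedVariables false

universe u v w

namespace Cfsg.Agent.Lib.Helper7.Sing

open Matrix Polynomial

section bad

variable {F : Type u} [Field F] [Fintype F]

/-- An element of `SL₃` of order 3 modulo scalars with a two-dimensional eigenspace. -/
def Bad (x : Matrix.SpecialLinearGroup (Fin 3) F) : Prop :=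
  (∃ z : F, ((x ^ 3 : Matrix.SpecialLinearGroup (Fin 3) F) : Matrix (Fin 3) (Fin 3) F) =
      z • (1 : Matrix (Fin 3) (Fin 3) F)) ∧
  (∀ z : F, (x : Matrix (Fin 3) (Fin 3) F) ≠ z • (1 : Matrix (Fin 3) (Fin 3) F)) ∧
  ∃ μ : F, μ ≠ 0 ∧ ∃ a b : Fin 3 → F, a ≠ 0 ∧ (¬ ∃ c : F, b = c • a) ∧
    (x : Matrix (Fin 3) (Fin 3) F) *ᵥ a = μ • a ∧ (x : Matrix (Fin 3) (Fin 3) F) *ᵥ b = μ • b

theorem exists_bad_char3 [CharP F 3] : ∃ x : Matrix.SpecialLinearGroup (Fin 3) F, Bad x := by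
  have h01 : (0 : Fin 3) ≠ 1 := by decide
  obtain ⟨T, hT⟩ : ∃ T : Matrix (Fin 3) (Fin 3) F, T = Matrix.transvection (0 : Fin 3) 1 (1 : F) :=
    ⟨_, rfl⟩
  have hdet : T.det = 1 := by rw [hT]; exact det_transvection_of_ne 0 1 h01 1
  have h3 : (1 + (1 + 1) : F) = 0 := by
    have : ((3 : ℕ) : F) = 0 := CharP.cast_eq_zero F 3
    have h : ((3 : ℕ) : F) = 1 + (1 + 1) := by push_cast; ring
    rw [← h, this]
  have hT3 : T ^ 3 = 1 := by
    rw [pow_succ, pow_succ, pow_one, hT, transvection_mul_transvection_same 0 1 h01,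
      transvection_mul_transvection_same 0 1 h01, add_assoc, h3, transvection_zero]
  obtain ⟨xs, hxs⟩ : ∃ xs : Matrix.SpecialLinearGroup (Fin 3) F,
      (xs : Matrix (Fin 3) (Fin 3) F) = T := ⟨⟨T, hdet⟩, rfl⟩
  refine ⟨xs, ⟨1, ?_⟩, ?_, 1, one_ne_zero, Pi.single 0 1, Pi.single 2 1, ?_, ?_, ?_, ?_⟩
  · rw [Matrix.SpecialLinearGroup.coe_pow, hxs, hT3, one_smul]
  · intro z hz
    rw [hxs, hT] at hz
    have := congrFun (congrFun hz 0) 1
    simp [Matrix.transvection, Matrix.single] at this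
  · intro h
    have := congrFun h 0
    simp at this
  · rintro ⟨c, hc⟩
    have := congrFun hc 2
    simp at this
  · rw [hxs, hT, mulVec_single_one, one_smul]
    funext i
    fin_cases i <;> simp [Matrix.transvection, Matrix.single, Matrix.col_apply]
  · rw [hxs, hT, mulVec_single_one, one_smul]
    funext i
    fin_cases i <;> simp [Matrix.transvection, Matrix.single, Matrix.col_apply]

theorem exists_bad_nine (h9 : 9 ∣ Fintype.card F - 1) :
    ∃ x : Matrix.SpecialLinearGroup (Fin 3) F, Bad x := by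
  classical
  -- an element of order 9
  obtain ⟨g, hg⟩ := IsCyclic.exists_ofOrder_eq_natCard (α := Fˣ)
  rw [Nat.card_eq_fintype_card, Fintype.card_units] at hg
  obtain ⟨k, hk⟩ := h9
  have hq2 : 2 ≤ Fintype.card F := Fintype.one_lt_card
  have hk0 : k ≠ 0 := by
    rintro rfl
    omega
  have hη : orderOf (g ^ k) = 9 := by
    rw [orderOf_pow_of_dvd hk0 (by rw [hg, hk]; exact dvd_mul_left _ _), hg, hk]
    exact Nat.mul_div_cancel _ (Nat.pos_of_ne_zero hk0)
  obtain ⟨η, hηdef⟩ : ∃ η : F, η = ((g ^ k : Fˣ) : F) := ⟨_, rfl⟩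
  have hη0 : η ≠ 0 := by rw [hηdef]; exact Units.ne_zero _
  have hη9 : η ^ 9 = 1 := by
    rw [hηdef, ← Units.val_pow_eq_pow_val, ← hη, pow_orderOf_eq_one, Units.val_one]
  have hη3 : η ^ 3 ≠ 1 := by
    intro h
    have h' : (g ^ k) ^ 3 = 1 := by
      apply Units.ext
      rw [Units.val_pow_eq_pow_val, ← hηdef, h, Units.val_one]
    have := orderOf_dvd_of_pow_eq_one h'
    rw [hη] at this
    omega
  obtain ⟨θ, hθ⟩ : ∃ θ : F, η ^ 2 * θ = 1 := ⟨(η ^ 2)⁻¹, mul_inv_cancel₀ (pow_ne_zero _ hη0)⟩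
  have hθ3 : θ ^ 3 = η ^ 3 := by
    calc θ ^ 3 = θ ^ 3 * η ^ 9 := by rw [hη9, mul_one]
      _ = (η ^ 2 * θ) ^ 3 * η ^ 3 := by ring
      _ = η ^ 3 := by rw [hθ, one_pow, one_mul]
  obtain ⟨D, hD⟩ : ∃ D : Matrix (Fin 3) (Fin 3) F, D = diagonal ![η, η, θ] := ⟨_, rfl⟩
  have hdet : D.det = 1 := by
    rw [hD, det_diagonal, Fin.prod_univ_three]
    show η * η * θ = 1
    rw [← hθ]
    ring
  have hD3 : D ^ 3 = (η ^ 3) • (1 : Matrix (Fin 3) (Fin 3) F) := by
    rw [hD, diagonal_pow, smul_one_eq_diagonal]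
    congr 1
    funext i
    fin_cases i
    · rfl
    · rfl
    · exact hθ3
  obtain ⟨xs, hxs⟩ : ∃ xs : Matrix.SpecialLinearGroup (Fin 3) F,
      (xs : Matrix (Fin 3) (Fin 3) F) = D := ⟨⟨D, hdet⟩, rfl⟩
  refine ⟨xs, ⟨η ^ 3, ?_⟩, ?_, η, hη0, Pi.single 0 1, Pi.single 1 1, ?_, ?_, ?_, ?_⟩
  · rw [Matrix.SpecialLinearGroup.coe_pow, hxs, hD3]
  · intro z hz
    rw [hxs, hD] at hz
    have e0 : η = z := by
      have := congrFun (congrFun hz 0) 0
      simpa using this
    have e2 : θ = z := by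
      have := congrFun (congrFun hz 2) 2
      simpa using this
    apply hη3
    have hθη : θ = η := by rw [e2, e0]
    rw [pow_succ]
    rw [hθη] at hθ
    exact hθ
  · intro h
    have := congrFun h 0
    simp at this
  · rintro ⟨c, hc⟩
    have := congrFun hc 1
    simp at this
  · rw [hxs, hD, diagonal_mulVec_single]
    funext i
    fin_cases i <;> simp
  · rw [hxs, hD, diagonal_mulVec_single]
    funext i
    fin_cases i <;> simp

end bad

end Cfsg.Agent.Lib.Helper7.Sing
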