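import Mathlib
import Cfsg.Prelude.Def_GeometricClasses
import Cfsg.Agent.Lib.Helper7.SingG

set_option linter.style.haveILetI false
set_option linter.unusedSectionVars false
set_option linter.unusedVariables false

universe u v w

namespace Cfsg.Agent.Lib.Helper7.Sing

open Matrix Polynomial

section index

variable {F : Type u} [Field F] [Fintype F]

theorem nine_not_dvd_card_GL3 (hq : Fintype.card F % 9 = 2 ∨ Fintype.card F % 9 = 5) :
    ¬ 9 ∣ Nat.card (GL (Fin 3) F) := by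
  rw [Matrix.card_GL_field, Fin.prod_univ_three]
  obtain ⟨q, hqdef⟩ : ∃ q : ℕ, q = Fintype.card F := ⟨_, rfl⟩
  rw [← hqdef] at hq ⊢
  have hq1 : 1 ≤ q := by rw [hqdef]; exact Fintype.card_pos
  intro h
  have h0 : (((q ^ 3 - q ^ ((0 : Fin 3) : ℕ)) * (q ^ 3 - q ^ ((1 : Fin 3) : ℕ)) *
      (q ^ 3 - q ^ ((2 : Fin 3) : ℕ)) : ℕ) : ZMod 9) = 0 := (ZMod.natCast_eq_zero_iff _ 9).mpr h
  have e0 : q ^ ((0 : Fin 3) : ℕ) ≤ q ^ 3 := Nat.pow_le_pow_right hq1 (by decide)
  have e1 : q ^ ((1 : Fin 3) : ℕ) ≤ q ^ 3 := Nat.pow_le_pow_right hq1 (by decide)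
  have e2 : q ^ ((2 : Fin 3) : ℕ) ≤ q ^ 3 := Nat.pow_le_pow_right hq1 (by decide)
  rw [Nat.cast_mul, Nat.cast_mul, Nat.cast_sub e0, Nat.cast_sub e1, Nat.cast_sub e2] at h0
  simp only [Nat.cast_pow] at h0
  have hqz : (q : ZMod 9) = ((q % 9 : ℕ) : ZMod 9) := (ZMod.natCast_mod q 9).symm
  rcases hq with hq | hq
  · rw [hq] at hqz
    rw [hqz] at h0
    revert h0
    decide
  · rw [hq] at hqz
    rw [hqz] at h0
    revert h0
    decide

variable {p : ℕ} [Fact p.Prime] [CharP F p]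

/-- For `q ≡ 2, 5 (mod 9)` the index of the Singer normaliser in `SL₃(q)` is prime to 3. -/
theorem not_three_dvd_index (K : Subalgebra F (Matrix (Fin 3) (Fin 3) F))
    (hK : Cfsg.Geo.IsFieldSubalgebra 3 K)
    (hq : Fintype.card F % 9 = 2 ∨ Fintype.card F % 9 = 5) :
    ¬ 3 ∣ ((Cfsg.Geo.subalgebraNormalizer K).comap
      (Matrix.SpecialLinearGroup.toGL :
        Matrix.SpecialLinearGroup (Fin 3) F →* GL (Fin 3) F)).index := by
  intro h3
  haveI : Nonempty (Fin 3) := ⟨0⟩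
  obtain ⟨L, instL, instA, φ, hφ, hfin⟩ := exists_model 3 K hK
  have hcard : Fintype.card (Fin 3) = 3 := Fintype.card_fin 3
  have hdim : Module.finrank F L = Fintype.card (Fin 3) := by rw [hfin, hcard]
  haveI : FiniteDimensional F L := Module.finite_of_finrank_pos (by rw [hfin]; omega)
  obtain ⟨Y, Y', hYY', hY'Y, hYn, hY1, hYφ⟩ := exists_frob φ hdim (by rw [hcard]; omega)
  rw [hcard] at hYn
  -- det Y = 1
  have hdet3 : Y.det ^ 3 = 1 := by rw [← det_pow, hYn, det_one]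
  have hdet0 : Y.det ≠ 0 := by
    intro h
    rw [h, zero_pow (by omega)] at hdet3
    exact zero_ne_one hdet3
  have hdet : Y.det = 1 := by
    have hd1 : orderOf Y.det ∣ 3 := orderOf_dvd_of_pow_eq_one hdet3
    have hd2 : orderOf Y.det ∣ Fintype.card F - 1 :=
      orderOf_dvd_of_pow_eq_one (FiniteField.pow_card_sub_one_eq_one _ hdet0)
    rcases (Nat.dvd_prime Nat.prime_three).mp hd1 with h | h
    · exact orderOf_eq_one_iff.mp h
    · rw [h] at hd2
      exfalso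
      have hq1 : 1 ≤ Fintype.card F := Fintype.card_pos
      omega
  obtain ⟨ys, hys⟩ : ∃ ys : Matrix.SpecialLinearGroup (Fin 3) F,
      (ys : Matrix (Fin 3) (Fin 3) F) = Y := ⟨⟨Y, hdet⟩, rfl⟩
  obtain ⟨H, hH⟩ : ∃ H : Subgroup (Matrix.SpecialLinearGroup (Fin 3) F),
      H = (Cfsg.Geo.subalgebraNormalizer K).comap
      (Matrix.SpecialLinearGroup.toGL :
        Matrix.SpecialLinearGroup (Fin 3) F →* GL (Fin 3) F) := ⟨_, rfl⟩
  rw [← hH] at h3
  have hmem : ys ∈ H := by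
    rw [hH, Subgroup.mem_comap]
    apply mem_normalizer_of_forall
    intro k hk
    rw [← hφ, AlgHom.mem_range] at hk
    obtain ⟨m, rfl⟩ := hk
    have hgv : ((Matrix.SpecialLinearGroup.toGL ys : GL (Fin 3) F) :
        Matrix (Fin 3) (Fin 3) F) = Y := by
      rw [Matrix.SpecialLinearGroup.coe_GL_coe_matrix, hys]
    have hgi : (((Matrix.SpecialLinearGroup.toGL ys)⁻¹ : GL (Fin 3) F) :
        Matrix (Fin 3) (Fin 3) F) = Y' := by
      apply gl_inv_eq
      rw [hgv, hYY']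
    rw [hgv, hgi, hYφ m, ← hφ]
    exact AlgHom.mem_range_self φ _
  have hys3 : ys ^ 3 = 1 := by
    apply Subtype.ext
    rw [Matrix.SpecialLinearGroup.coe_pow, hys, hYn, Matrix.SpecialLinearGroup.coe_one]
  have hys1 : ys ≠ 1 := by
    intro h
    apply hY1
    rw [← hys, h, Matrix.SpecialLinearGroup.coe_one]
  haveI : Fact (Nat.Prime 3) := ⟨Nat.prime_three⟩
  have hord : orderOf ys = 3 := orderOf_eq_prime hys3 hys1
  have h3H : 3 ∣ Nat.card H := by
    have := orderOf_dvd_natCard (⟨ys, hmem⟩ : H)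
    rwa [Subgroup.orderOf_mk, hord] at this
  have h9 : 9 ∣ Nat.card (Matrix.SpecialLinearGroup (Fin 3) F) := by
    rw [← Subgroup.index_mul_card H]
    exact Nat.mul_dvd_mul h3 h3H
  have hdvd : Nat.card (Matrix.SpecialLinearGroup (Fin 3) F) ∣ Nat.card (GL (Fin 3) F) :=
    Subgroup.card_dvd_of_injective _ Matrix.SpecialLinearGroup.toGL_injective
  exact nine_not_dvd_card_GL3 hq (dvd_trans h9 hdvd)

end index

end Cfsg.Agent.Lib.Helper7.Sing
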