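import Mathlib
import Cfsg.Prelude.Def_GeometricClasses
import Cfsg.Agent.Lib.Helper7.SingH
import Cfsg.Agent.Lib.Helper7.SingI
import Cfsg.Agent.Lib.Helper7.SingK

set_option linter.style.haveILetI false
set_option linter.unusedSectionVars false
set_option linter.unusedVariables false

universe u v w

namespace Cfsg.Agent.Lib.Helper7.Sing

open Matrix Polynomial

section main3

variable {F : Type u} [Field F] [Fintype F]

/-- The case `q ≡ 4, 7 (mod 9)`. -/
theorem conj_case47 (h3 : 3 ∣ Fintype.card F - 1) (h9 : ¬ 9 ∣ Fintype.card F - 1)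
    (K : Subalgebra F (Matrix (Fin 3) (Fin 3) F)) (hK : Cfsg.Geo.IsFieldSubalgebra 3 K)
    (x : Matrix.SpecialLinearGroup (Fin 3) F)
    (hx : ∃ z : F, ((x ^ 3 : Matrix.SpecialLinearGroup (Fin 3) F) : Matrix (Fin 3) (Fin 3) F) =
        z • (1 : Matrix (Fin 3) (Fin 3) F))
    (hns : ∀ z : F, (x : Matrix (Fin 3) (Fin 3) F) ≠ z • (1 : Matrix (Fin 3) (Fin 3) F)) :
    ∃ P : Matrix.SpecialLinearGroup (Fin 3) F, P⁻¹ * x * P ∈
        ((Cfsg.Geo.subalgebraNormalizer K).comap
          (Matrix.SpecialLinearGroup.toGL : Matrix.SpecialLinearGroup (Fin 3) F →* GL (Fin 3) F)) := by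
  classical
  haveI : Nonempty (Fin 3) := ⟨0⟩
  obtain ⟨L, instL, instA, φ, hφ, hfin⟩ := exists_model 3 K hK
  have hcard : Fintype.card (Fin 3) = 3 := Fintype.card_fin 3
  have hdim : Module.finrank F L = Fintype.card (Fin 3) := by rw [hfin, hcard]
  haveI : FiniteDimensional F L := Module.finite_of_finrank_pos (by rw [hfin]; omega)
  haveI : Finite L := Module.finite_of_finite F
  -- a primitive cube root of unity
  haveI : Fact (Nat.Prime 3) := ⟨Nat.prime_three⟩
  have h3' : 3 ∣ Nat.card Fˣ := by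
    rw [Nat.card_eq_fintype_card, Fintype.card_units]
    exact h3
  obtain ⟨g, hg⟩ := exists_prime_orderOf_dvd_card' 3 h3'
  obtain ⟨ω, hωdef⟩ : ∃ ω : F, ω = (g : F) := ⟨_, rfl⟩
  have hω3 : ω ^ 3 = 1 := by
    rw [hωdef, ← Units.val_pow_eq_pow_val, ← hg, pow_orderOf_eq_one, Units.val_one]
  have hω1 : ω ≠ 1 := by
    intro h
    have : g = 1 := by
      apply Units.ext
      rw [← hωdef, h, Units.val_one]
    rw [this, orderOf_one] at hg
    omega
  have hω : ω ^ 2 + ω + 1 = 0 := by
    have : (ω - 1) * (ω ^ 2 + ω + 1) = 0 := by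
      have : (ω - 1) * (ω ^ 2 + ω + 1) = ω ^ 3 - 1 := by ring
      rw [this, hω3, sub_self]
    rcases mul_eq_zero.mp this with h | h
    · exact absurd (sub_eq_zero.mp h) hω1
    · exact h
  have hω2 : ω ^ 2 ≠ 1 := by
    intro h
    apply hω1
    have : ω ^ 3 = ω := by rw [pow_succ, h, one_mul]
    rw [← this, hω3]
  have hω12 : ω ≠ ω ^ 2 := by
    intro h
    have hω0 : ω ≠ 0 := by
      intro h0
      rw [h0, zero_pow (by norm_num)] at hω3
      exact zero_ne_one hω3
    have h3 : ω * 1 = ω * ω := by rw [mul_one, ← pow_two]; exact h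
    exact hω1 (mul_left_cancel₀ hω0 h3).symm
  -- the matrix of x
  obtain ⟨z, hz⟩ := hx
  obtain ⟨Xm, hXdef⟩ : ∃ Xm : Matrix (Fin 3) (Fin 3) F, Xm = (x : Matrix (Fin 3) (Fin 3) F) :=
    ⟨_, rfl⟩
  have hXdet : Xm.det = 1 := by rw [hXdef]; exact x.2
  rw [Matrix.SpecialLinearGroup.coe_pow, ← hXdef] at hz
  have hz1 : z = 1 := scalar_eq_one h9 Xm hXdet z hz
  rw [hz1, one_smul] at hz
  have hns' : ∀ z : F, Xm ≠ z • (1 : Matrix (Fin 3) (Fin 3) F) := by
    intro z
    rw [hXdef]
    exact hns z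
  -- eigenvalues
  obtain ⟨lam, hlamdef⟩ : ∃ lam : Fin 3 → F, lam = ![1, ω, ω ^ 2] := ⟨_, rfl⟩
  have hlam3 : ∀ j, lam j ^ 3 = 1 := by
    intro j
    rw [hlamdef]
    fin_cases j
    · simp
    · simpa using hω3
    · show (ω ^ 2) ^ 3 = 1
      rw [← pow_mul, mul_comm, pow_mul, hω3, one_pow]
  have hlam : Function.Injective lam := by
    rw [hlamdef]
    intro i j hij
    fin_cases i <;> fin_cases j
    · rfl
    · exact absurd hij.symm hω1
    · exact absurd hij.symm hω2
    · exact absurd hij hω1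
    · rfl
    · exact absurd hij hω12
    · exact absurd hij hω2
    · exact absurd hij.symm hω12
    · rfl
  choose e he0 hxe using fun j => eigen_of_sl hω hω1 Xm hXdet hz hns' (hlam3 j)
  -- the Frobenius element
  obtain ⟨Y, Y', hYY', hY'Y, hYn, hY1, hYφ⟩ := exists_frob φ hdim (by rw [hcard]; omega)
  rw [hcard] at hYn
  have hnorm : ∀ m : L, ∃ m' : L, Y * φ m * Y' = φ m' := fun m => ⟨_, hYφ m⟩
  have hYns : ∀ z : F, Y ≠ z • (1 : Matrix (Fin 3) (Fin 3) F) := by
    intro z hzY
    have hfix : ∀ m : L, m ^ Fintype.card F = m := by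
      intro m
      have h1 := hYφ m
      have hcomm : Y * φ m = φ m * Y := by
        rw [hzY, Matrix.smul_mul, Matrix.mul_smul, one_mul, mul_one]
      have h2 : Y * φ m * Y' = φ m := by
        rw [hcomm, mul_assoc, hYY', mul_one]
      rw [h2] at h1
      exact ((φ : L →+* Matrix (Fin 3) (Fin 3) F).injective h1).symm
    have hσ : FiniteField.frobeniusAlgHom F L = 1 := by
      apply AlgHom.ext
      intro m
      rw [AlgHom.one_apply]
      exact hfix m
    have hord := FiniteField.orderOf_frobeniusAlgHom F L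
    rw [hσ, orderOf_one, hfin] at hord
    omega
  choose f hf0 hYf using fun j =>
    eigen_of_normalizer φ hdim hω hω1 Y Y' hYY' hY'Y hYn hYns hnorm (hlam3 j)
  obtain ⟨P, hP⟩ := conj_diag x Y lam hlam e f he0 hf0 (by rw [← hXdef]; exact hxe) hYf
  refine ⟨P, ?_⟩
  rw [Subgroup.mem_comap]
  apply mem_normalizer_of_forall
  intro k hk
  rw [← hφ, AlgHom.mem_range] at hk
  obtain ⟨m, rfl⟩ := hk
  have hgv : ((Matrix.SpecialLinearGroup.toGL (P⁻¹ * x * P) : GL (Fin 3) F) :
      Matrix (Fin 3) (Fin 3) F) = Y := by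
    rw [Matrix.SpecialLinearGroup.coe_GL_coe_matrix, hP]
  have hgi : (((Matrix.SpecialLinearGroup.toGL (P⁻¹ * x * P))⁻¹ : GL (Fin 3) F) :
      Matrix (Fin 3) (Fin 3) F) = Y' := by
    apply gl_inv_eq
    rw [hgv, hYY']
  rw [hgv, hgi, hYφ m, ← hφ]
  exact AlgHom.mem_range_self φ _

theorem main5971 (p : ℕ) [Fact p.Prime] [CharP F p] (K : Subalgebra F (Matrix (Fin 3) (Fin 3) F))
    (hK : Cfsg.Geo.IsFieldSubalgebra 3 K)
    (hΩ : 3 ∣ ((Cfsg.Geo.subalgebraNormalizer K).comap
      (Matrix.SpecialLinearGroup.toGL :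
        Matrix.SpecialLinearGroup (Fin 3) F →* GL (Fin 3) F)).index) :
    (∀ x : Matrix.SpecialLinearGroup (Fin 3) F,
      (∃ z : F, ((x ^ 3 : Matrix.SpecialLinearGroup (Fin 3) F) : Matrix (Fin 3) (Fin 3) F) =
        z • (1 : Matrix (Fin 3) (Fin 3) F)) →
      (∀ z : F, (x : Matrix (Fin 3) (Fin 3) F) ≠ z • (1 : Matrix (Fin 3) (Fin 3) F)) →
      ∃ P : Matrix.SpecialLinearGroup (Fin 3) F, P⁻¹ * x * P ∈
        ((Cfsg.Geo.subalgebraNormalizer K).comap
          (Matrix.SpecialLinearGroup.toGL : Matrix.SpecialLinearGroup (Fin 3) F →* GL (Fin 3) F))) ↔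
    (Fintype.card F % 9 = 4 ∨ Fintype.card F % 9 = 7 ∨ Fintype.card F % 9 = 8) := by
  have hp : p.Prime := Fact.out
  obtain ⟨f, hpf, hcardF⟩ := FiniteField.card F p
  have hq1 : 1 ≤ Fintype.card F := Fintype.card_pos
  have hbad : (∃ x : Matrix.SpecialLinearGroup (Fin 3) F, Bad x) →
      ¬ (∀ x : Matrix.SpecialLinearGroup (Fin 3) F,
      (∃ z : F, ((x ^ 3 : Matrix.SpecialLinearGroup (Fin 3) F) : Matrix (Fin 3) (Fin 3) F) =
        z • (1 : Matrix (Fin 3) (Fin 3) F)) →
      (∀ z : F, (x : Matrix (Fin 3) (Fin 3) F) ≠ z • (1 : Matrix (Fin 3) (Fin 3) F)) →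
      ∃ P : Matrix.SpecialLinearGroup (Fin 3) F, P⁻¹ * x * P ∈
        ((Cfsg.Geo.subalgebraNormalizer K).comap
          (Matrix.SpecialLinearGroup.toGL : Matrix.SpecialLinearGroup (Fin 3) F →* GL (Fin 3) F))) := by
    rintro ⟨x, hx3, hns, μ, hμ, a, b, ha0, hab, hxa, hxb⟩ hall
    exact not_conj_of_eigen 3 Nat.prime_three K hK x μ hμ a b ha0 hab hxa hxb hns (hall x hx3 hns)
  by_cases hp3 : p = 3
  · subst hp3
    have hdvd : 3 ∣ Fintype.card F := by
      rw [hcardF]
      exact dvd_pow_self 3 f.ne_zero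
    constructor
    · intro hall
      exact absurd hall (hbad exists_bad_char3)
    · intro hr
      exfalso
      omega
  · have hndvd : ¬ 3 ∣ Fintype.card F := by
      intro h
      rw [hcardF] at h
      have := Nat.prime_three.dvd_of_dvd_pow h
      exact hp3 ((Nat.prime_dvd_prime_iff_eq Nat.prime_three hp).mp this).symm
    obtain ⟨r, hr⟩ : ∃ r : ℕ, r = Fintype.card F % 9 := ⟨_, rfl⟩
    have hr9 : r < 9 := by rw [hr]; exact Nat.mod_lt _ (by norm_num)
    rw [← hr]
    interval_cases r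
    · exfalso; omega
    · -- q ≡ 1 mod 9
      have h9 : 9 ∣ Fintype.card F - 1 := by omega
      constructor
      · intro hall
        exact absurd hall (hbad (exists_bad_nine h9))
      · intro h
        exfalso
        omega
    · exfalso
      exact not_three_dvd_index K hK (Or.inl hr.symm) hΩ
    · exfalso; omega
    · -- q ≡ 4
      constructor
      · intro _
        exact Or.inl rfl
      · intro _ x hx hns
        exact conj_case47 (by omega) (by omega) K hK x hx hns
    · exfalso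
      exact not_three_dvd_index K hK (Or.inr hr.symm) hΩ
    · exfalso; omega
    · -- q ≡ 7
      constructor
      · intro _
        exact Or.inr (Or.inl rfl)
      · intro _ x hx hns
        exact conj_case47 (by omega) (by omega) K hK x hx hns
    · -- q ≡ 8
      constructor
      · intro _
        exact Or.inr (Or.inr rfl)
      · intro _ x hx hns
        have hord : orderOf ((Fintype.card F : ℕ) : ZMod 3) = 3 - 1 := by
          have h2 : ((Fintype.card F : ℕ) : ZMod 3) = ((2 : ℕ) : ZMod 3) := by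
            rw [ZMod.natCast_eq_natCast_iff]
            show Fintype.card F % 3 = 2 % 3
            omega
          rw [h2]
          haveI : Fact (Nat.Prime 2) := ⟨Nat.prime_two⟩
          exact orderOf_eq_prime (by decide) (by decide)
        exact conj_of_ord 3 Nat.prime_three le_rfl (fun h => hp3 h.symm) K hK hord x hx hns

end main3

end Cfsg.Agent.Lib.Helper7.Sing
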