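import Mathlib

/-!
# A commutative transitive group of additive automorphisms generates a field

If a commutative set `T` of endomorphisms of a finite abelian group `V` is transitive on the
non-zero elements, its centralizer is a field `K` of the same cardinality as `V`.  If moreover a
unit `u` of prime order `ℓ` normalises `T` and has exactly two fixed points, then Artin's theorem
gives `|V| = 2 ^ ℓ`.
-/

set_option autoImplicit false

namespace Cfsg.Agent.Lib.Helper7.Singer

open Function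

/-- A type synonym for a subring that is a field, carrying only the field structure. -/
def FieldOf {R : Type*} [Ring R] (S : Subring R) (_h : IsField S) : Type _ := S

noncomputable instance instFieldFieldOf {R : Type*} [Ring R] (S : Subring R) (h : IsField S) :
    Field (FieldOf S h) := IsField.toField (R := ↥S) h

namespace FieldOf

variable {R : Type*} [Ring R] {S : Subring R} {h : IsField S}

/-- the underlying ring element -/
def val (x : FieldOf S h) : R := (show ↥S from x).1

/-- constructor -/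
def mk (r : R) (hr : r ∈ S) : FieldOf S h := (⟨r, hr⟩ : ↥S)

theorem val_mk (r : R) (hr : r ∈ S) : (mk r hr : FieldOf S h).val = r := rfl

theorem val_mem (x : FieldOf S h) : x.val ∈ S := (show ↥S from x).2

theorem val_injective : Injective (val : FieldOf S h → R) := by
  intro x y hxy
  exact Subtype.ext (a1 := (show ↥S from x)) (a2 := (show ↥S from y)) hxy

theorem val_mul (x y : FieldOf S h) : (x * y).val = x.val * y.val := rfl

theorem val_add (x y : FieldOf S h) : (x + y).val = x.val + y.val := rfl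

theorem val_one : (1 : FieldOf S h).val = 1 := rfl

theorem val_zero : (0 : FieldOf S h).val = 0 := rfl

end FieldOf

/-- A finite field with an automorphism of prime order `ℓ` whose only fixed points are `0`
and `1` has `2 ^ ℓ` elements. -/
theorem field_card_eq_two_pow (K : Type*) [Field K] [Finite K] (σ : K ≃+* K)
    (ℓ : ℕ) (hℓ : ℓ.Prime) (hσℓ : σ ^ ℓ = 1) (hσ1 : σ ≠ 1)
    (hL : ∀ x : K, σ x = x → x = 0 ∨ x = 1) : Nat.card K = 2 ^ ℓ := by
  classical
  haveI : Fact ℓ.Prime := ⟨hℓ⟩
  have hord : orderOf σ = ℓ := orderOf_eq_prime hσℓ hσ1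
  let Γ : Subgroup (RingAut K) := Subgroup.zpowers σ
  have hΓcard : Nat.card Γ = ℓ := by
    rw [Nat.card_zpowers, hord]
  haveI : Finite Γ := Nat.finite_of_card_ne_zero (by rw [hΓcard]; exact hℓ.ne_zero)
  haveI : Fintype Γ := Fintype.ofFinite _
  haveI : FaithfulSMul Γ K := by
    constructor
    intro g h hgh
    apply Subtype.ext
    apply RingEquiv.ext
    intro x
    exact hgh x
  have hrank := FixedPoints.finrank_eq_card Γ K
  rw [← Nat.card_eq_fintype_card, hΓcard] at hrank
  have hLcard : Nat.card (FixedPoints.subfield Γ K) = 2 := by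
    rw [Nat.card_eq_two_iff]
    refine ⟨0, 1, ?_, ?_⟩
    · exact zero_ne_one
    · ext x
      simp only [Set.mem_insert_iff, Set.mem_singleton_iff, Set.mem_univ, iff_true]
      have h1 : σ x.1 = x.1 := x.2 ⟨σ, Subgroup.mem_zpowers σ⟩
      rcases hL x.1 h1 with h | h
      · left
        exact Subtype.ext h
      · right
        exact Subtype.ext h
  have h1 := Module.natCard_eq_pow_finrank (K := ↥(FixedPoints.subfield Γ K)) (V := K)
  rw [h1, hLcard, hrank]

theorem card_eq_two_pow {V : Type*} [AddCommGroup V] [Finite V]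
    (T : Set (AddMonoid.End V))
    (hcomm : ∀ f ∈ T, ∀ g ∈ T, f * g = g * f)
    (htrans : ∀ x y : V, x ≠ 0 → y ≠ 0 → ∃ f ∈ T, f x = y)
    (u : (AddMonoid.End V)ˣ)
    (hu : ∀ f ∈ T, (u : AddMonoid.End V) * f * ((u⁻¹ : (AddMonoid.End V)ˣ) : AddMonoid.End V) ∈ T)
    (hu' : ∀ f ∈ T, ((u⁻¹ : (AddMonoid.End V)ˣ) : AddMonoid.End V) * f * (u : AddMonoid.End V) ∈ T)
    (ℓ : ℕ) (hℓ : ℓ.Prime) (huℓ : u ^ ℓ = 1) (hu1 : u ≠ 1)
    (v₀ : V) (hv₀ : v₀ ≠ 0) (hfix : (u : AddMonoid.End V) v₀ = v₀)
    (hfix' : ∀ x : V, (u : AddMonoid.End V) x = x → x = 0 ∨ x = v₀) :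
    Nat.card V = 2 ^ ℓ := by
  classical
  let F : Subring (AddMonoid.End V) := Subring.centralizer T
  have hmemF : ∀ f : AddMonoid.End V, f ∈ F ↔ ∀ g ∈ T, g * f = f * g :=
    fun f => Subring.mem_centralizer_iff
  have hTF : ∀ t ∈ T, t ∈ F := fun t ht => (hmemF t).2 (fun g hg => hcomm g hg t ht)
  -- evaluation at `v₀` is injective on `F`
  have hev0 : ∀ f ∈ F, f v₀ = 0 → f = 0 := by
    intro f hf h0
    refine AddMonoidHom.ext (fun x => ?_)
    show f x = 0
    by_cases hx : x = 0
    · rw [hx]; exact map_zero f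
    · obtain ⟨t, ht, htx⟩ := htrans v₀ x hv₀ hx
      have h1 : f x = (f * t) v₀ := by rw [← htx]; rfl
      rw [h1, ← (hmemF f).1 hf t ht]
      show t (f v₀) = 0
      rw [h0]; exact map_zero t
  have hev : ∀ f ∈ F, ∀ g ∈ F, f v₀ = g v₀ → f = g := by
    intro f hf g hg h
    have h1 : (f - g) v₀ = 0 := by
      show f v₀ - g v₀ = 0
      rw [h, sub_self]
    exact sub_eq_zero.mp (hev0 (f - g) (F.sub_mem hf hg) h1)
  have hFT : ∀ f ∈ F, f ≠ 0 → f ∈ T := by
    intro f hf hf0
    have h1 : f v₀ ≠ 0 := fun h => hf0 (hev0 f hf h)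
    obtain ⟨t, ht, htx⟩ := htrans v₀ (f v₀) hv₀ h1
    rw [hev f hf t (hTF t ht) htx.symm]
    exact ht
  have hFcomm : ∀ f ∈ F, ∀ g ∈ F, f * g = g * f := by
    intro f hf g hg
    by_cases hg0 : g = 0
    · rw [hg0, mul_zero, zero_mul]
    · exact ((hmemF f).1 hf g (hFT g hg hg0)).symm
  have hFinv : ∀ f ∈ F, f ≠ 0 → ∃ g ∈ F, f * g = 1 := by
    intro f hf hf0
    have h1 : f v₀ ≠ 0 := fun h => hf0 (hev0 f hf h)
    obtain ⟨t, ht, htx⟩ := htrans (f v₀) v₀ h1 hv₀
    refine ⟨t, hTF t ht, ?_⟩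
    rw [hFcomm f hf t (hTF t ht)]
    apply hev _ (F.mul_mem (hTF t ht) hf) _ F.one_mem
    show t (f v₀) = v₀
    exact htx
  have h01 : (0 : AddMonoid.End V) ≠ 1 := by
    intro h
    have h2 : (0 : AddMonoid.End V) v₀ = (1 : AddMonoid.End V) v₀ := by rw [h]
    exact hv₀ h2.symm
  have hIsField : IsField F :=
    { exists_pair_ne := ⟨0, 1, fun h => h01 (congrArg Subtype.val h)⟩
      mul_comm := fun a b => Subtype.ext (hFcomm a.1 a.2 b.1 b.2)
      mul_inv_cancel := by
        intro a ha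
        have ha0 : a.1 ≠ 0 := fun h => ha (Subtype.ext h)
        obtain ⟨g, hg, hag⟩ := hFinv a.1 a.2 ha0
        exact ⟨⟨g, hg⟩, Subtype.ext hag⟩ }
  -- conjugation by `u` preserves `F`
  have hconjF : ∀ f ∈ F, (u : AddMonoid.End V) * f *
      ((u⁻¹ : (AddMonoid.End V)ˣ) : AddMonoid.End V) ∈ F := by
    intro f hf
    rw [hmemF]
    intro g hg
    have h2 := (hmemF f).1 hf _ (hu' g hg)
    calc g * (↑u * f * ↑u⁻¹) = ↑u * ((↑u⁻¹ * g * ↑u) * f) * ↑u⁻¹ := by simp [mul_assoc]
      _ = ↑u * (f * (↑u⁻¹ * g * ↑u)) * ↑u⁻¹ := by rw [h2]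
      _ = (↑u * f * ↑u⁻¹) * g := by simp [mul_assoc]
  have hconjF' : ∀ f ∈ F, ((u⁻¹ : (AddMonoid.End V)ˣ) : AddMonoid.End V) * f *
      (u : AddMonoid.End V) ∈ F := by
    intro f hf
    rw [hmemF]
    intro g hg
    have h2 := (hmemF f).1 hf _ (hu g hg)
    calc g * (↑u⁻¹ * f * ↑u) = ↑u⁻¹ * ((↑u * g * ↑u⁻¹) * f) * ↑u := by simp [mul_assoc]
      _ = ↑u⁻¹ * (f * (↑u * g * ↑u⁻¹)) * ↑u := by rw [h2]
      _ = (↑u⁻¹ * f * ↑u) * g := by simp [mul_assoc]
  -- the field
  obtain ⟨K, hKdef⟩ : ∃ K : Type _, K = FieldOf F hIsField := ⟨_, rfl⟩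
  subst hKdef
  haveI : Finite (AddMonoid.End V) :=
    Finite.of_injective (fun f : AddMonoid.End V => (f : V → V)) DFunLike.coe_injective
  haveI : Finite ↥F := inferInstance
  haveI : Finite (FieldOf F hIsField) := inferInstanceAs (Finite ↥F)
  -- the automorphism
  let σ : FieldOf F hIsField ≃+* FieldOf F hIsField :=
    { toFun := fun x => FieldOf.mk (↑u * x.val * ↑u⁻¹) (hconjF _ x.val_mem)
      invFun := fun x => FieldOf.mk (↑u⁻¹ * x.val * ↑u) (hconjF' _ x.val_mem)
      left_inv := fun x => FieldOf.val_injective (by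
        simp only [FieldOf.val_mk]
        simp [mul_assoc])
      right_inv := fun x => FieldOf.val_injective (by
        simp only [FieldOf.val_mk]
        simp [mul_assoc])
      map_mul' := fun x y => FieldOf.val_injective (by
        show (u : AddMonoid.End V) * (x * y).val * ((u⁻¹ : (AddMonoid.End V)ˣ) : AddMonoid.End V)
          = ((u : AddMonoid.End V) * x.val * ((u⁻¹ : (AddMonoid.End V)ˣ) : AddMonoid.End V)) *
            ((u : AddMonoid.End V) * y.val * ((u⁻¹ : (AddMonoid.End V)ˣ) : AddMonoid.End V))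
        rw [FieldOf.val_mul]
        simp [mul_assoc])
      map_add' := fun x y => FieldOf.val_injective (by
        show (u : AddMonoid.End V) * (x + y).val * ((u⁻¹ : (AddMonoid.End V)ˣ) : AddMonoid.End V)
          = ((u : AddMonoid.End V) * x.val * ((u⁻¹ : (AddMonoid.End V)ˣ) : AddMonoid.End V)) +
            ((u : AddMonoid.End V) * y.val * ((u⁻¹ : (AddMonoid.End V)ˣ) : AddMonoid.End V))
        rw [FieldOf.val_add]
        simp [mul_add, add_mul]) }
  have hσval : ∀ x : FieldOf F hIsField, (σ x).val = ↑u * x.val * ↑u⁻¹ := fun x => rfl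
  have hσpow : ∀ (n : ℕ) (x : FieldOf F hIsField),
      ((σ ^ n) x).val = ((u ^ n : (AddMonoid.End V)ˣ) : AddMonoid.End V) * x.val *
        (((u ^ n)⁻¹ : (AddMonoid.End V)ˣ) : AddMonoid.End V) := by
    intro n
    induction n with
    | zero =>
      intro x
      simp
    | succ n ih =>
      intro x
      rw [pow_succ, RingAut.mul_apply, ih, hσval, pow_succ, mul_inv_rev]
      simp [mul_assoc]
  have hσℓ : σ ^ ℓ = 1 := by
    apply RingEquiv.ext
    intro x
    apply FieldOf.val_injective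
    rw [hσpow, huℓ]
    simp
  have hσ1 : σ ≠ 1 := by
    intro h
    apply hu1
    apply Units.ext
    apply AddMonoidHom.ext
    intro x
    show (u : AddMonoid.End V) x = x
    by_cases hx : x = 0
    · rw [hx, map_zero]
    · obtain ⟨t, ht, htx⟩ := htrans v₀ x hv₀ hx
      have h1 : (σ (FieldOf.mk t (hTF t ht))).val = t := by rw [h]; rfl
      rw [hσval, FieldOf.val_mk] at h1
      have h2 : (u : AddMonoid.End V) * t = t * u := by
        calc (u : AddMonoid.End V) * t = (↑u * t * ↑u⁻¹) * ↑u := by simp [mul_assoc]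
          _ = t * ↑u := by rw [h1]
      rw [← htx]
      show ((u : AddMonoid.End V) * t) v₀ = t v₀
      rw [h2]
      show t ((u : AddMonoid.End V) v₀) = t v₀
      rw [hfix]
  have hL : ∀ x : FieldOf F hIsField, σ x = x → x = 0 ∨ x = 1 := by
    intro x h1
    have h2 : (u : AddMonoid.End V) * x.val = x.val * u := by
      have h3 : ↑u * x.val * ↑u⁻¹ = x.val := by rw [← hσval, h1]
      calc (u : AddMonoid.End V) * x.val = (↑u * x.val * ↑u⁻¹) * ↑u := by simp [mul_assoc]
        _ = x.val * ↑u := by rw [h3]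
    have h4 : (u : AddMonoid.End V) (x.val v₀) = x.val v₀ := by
      show ((u : AddMonoid.End V) * x.val) v₀ = x.val v₀
      rw [h2]
      show x.val ((u : AddMonoid.End V) v₀) = x.val v₀
      rw [hfix]
    rcases hfix' _ h4 with h5 | h5
    · left
      apply FieldOf.val_injective
      rw [FieldOf.val_zero]
      exact hev0 _ x.val_mem h5
    · right
      apply FieldOf.val_injective
      rw [FieldOf.val_one]
      exact hev _ x.val_mem _ F.one_mem h5
  have hKcard : Nat.card (FieldOf F hIsField) = 2 ^ ℓ :=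
    field_card_eq_two_pow (FieldOf F hIsField) σ ℓ hℓ hσℓ hσ1 hL
  -- `V` and the field have the same cardinality
  rw [← hKcard]
  symm
  apply Nat.card_eq_of_bijective (fun x : FieldOf F hIsField => x.val v₀)
  constructor
  · intro x y hxy
    exact FieldOf.val_injective (hev _ x.val_mem _ y.val_mem hxy)
  · intro y
    by_cases hy : y = 0
    · exact ⟨0, by rw [hy]; rfl⟩
    · obtain ⟨t, ht, hty⟩ := htrans v₀ y hv₀ hy
      exact ⟨FieldOf.mk t (hTF t ht), hty⟩

end Cfsg.Agent.Lib.Helper7.Singer
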