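import Mathlib
import Cfsg.Agent.Lib.Helper7.Singer1
import Cfsg.Agent.Lib.Lead.UniqueP
import Cfsg.Agent.Lib.Helper1.FpfCyclic
import Cfsg.Agent.Lib.Helper7.UniqueOrderP

/-!
# Multiplicative form of the Singer-cycle counting lemma, and Sylow subgroups of
fixed-point-free groups of automorphisms
-/

set_option autoImplicit false

namespace Cfsg.Agent.Lib.Helper7.Singer

open Function
open Cfsg.Agent.Lib.Lead.UniqueP

/-- multiplicative automorphisms of a commutative group as endomorphisms of the additive group -/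
def toEnd (N : Type*) [CommGroup N] : MulAut N →* AddMonoid.End (Additive N) where
  toFun φ := (MulEquiv.toAdditive φ).toAddMonoidHom
  map_one' := rfl
  map_mul' _ _ := rfl

theorem toEnd_apply {N : Type*} [CommGroup N] (φ : MulAut N) (v : Additive N) :
    toEnd N φ v = Additive.ofMul (φ (Additive.toMul v)) := rfl

theorem mulAut_card_eq_two_pow_comm {N : Type*} [CommGroup N] [Finite N]
    (T : Set (MulAut N))
    (hcomm : ∀ f ∈ T, ∀ g ∈ T, f * g = g * f)
    (htrans : ∀ x y : N, x ≠ 1 → y ≠ 1 → ∃ f ∈ T, f x = y)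
    (u : MulAut N)
    (hu : ∀ f ∈ T, u * f * u⁻¹ ∈ T) (hu' : ∀ f ∈ T, u⁻¹ * f * u ∈ T)
    (ℓ : ℕ) (hℓ : ℓ.Prime) (huℓ : u ^ ℓ = 1) (hu1 : u ≠ 1)
    (x₀ : N) (hx₀ : x₀ ≠ 1) (hfix : u x₀ = x₀) (hfix' : ∀ x : N, u x = x → x = 1 ∨ x = x₀) :
    Nat.card N = 2 ^ ℓ := by
  haveI : Finite (Additive N) := ‹Finite N›
  show Nat.card (Additive N) = 2 ^ ℓ
  refine card_eq_two_pow (V := Additive N) (toEnd N '' T) ?_ ?_
    (Units.map (toEnd N) (toUnits u)) ?_ ?_ ℓ hℓ ?_ ?_ (Additive.ofMul x₀) ?_ ?_ ?_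
  · rintro _ ⟨f, hf, rfl⟩ _ ⟨g, hg, rfl⟩
    rw [← map_mul, ← map_mul, hcomm f hf g hg]
  · intro x y hx hy
    obtain ⟨f, hf, hfx⟩ := htrans (Additive.toMul x) (Additive.toMul y) (fun h => hx h)
      (fun h => hy h)
    refine ⟨toEnd N f, ⟨f, hf, rfl⟩, ?_⟩
    rw [toEnd_apply, hfx]
    rfl
  · rintro _ ⟨f, hf, rfl⟩
    refine ⟨u * f * u⁻¹, hu f hf, ?_⟩
    rw [map_mul, map_mul]
    rfl
  · rintro _ ⟨f, hf, rfl⟩
    refine ⟨u⁻¹ * f * u, hu' f hf, ?_⟩
    rw [map_mul, map_mul]
    rfl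
  · apply Units.ext
    rw [Units.val_pow_eq_pow_val, Units.val_one]
    show (toEnd N u) ^ ℓ = 1
    rw [← map_pow, huℓ, map_one]
  · intro h
    apply hu1
    ext x
    have h2 : ((Units.map (toEnd N) (toUnits u) : (AddMonoid.End (Additive N))ˣ) :
        AddMonoid.End (Additive N)) = 1 := by rw [h]; rfl
    have h3 : toEnd N u = 1 := h2
    have h1 : toEnd N u (Additive.ofMul x) = Additive.ofMul x := by
      rw [h3]; rfl
    exact h1
  · exact fun h => hx₀ h
  · show Additive.ofMul (u x₀) = Additive.ofMul x₀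
    rw [hfix]
  · intro x hx
    rcases hfix' (Additive.toMul x) hx with h | h
    · left; exact h
    · right; exact h

theorem mulAut_card_eq_two_pow {N : Type*} [Group N] [Finite N] (hc : ∀ a b : N, a * b = b * a)
    (T : Set (MulAut N))
    (hcomm : ∀ f ∈ T, ∀ g ∈ T, f * g = g * f)
    (htrans : ∀ x y : N, x ≠ 1 → y ≠ 1 → ∃ f ∈ T, f x = y)
    (u : MulAut N)
    (hu : ∀ f ∈ T, u * f * u⁻¹ ∈ T) (hu' : ∀ f ∈ T, u⁻¹ * f * u ∈ T)
    (ℓ : ℕ) (hℓ : ℓ.Prime) (huℓ : u ^ ℓ = 1) (hu1 : u ≠ 1)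
    (x₀ : N) (hx₀ : x₀ ≠ 1) (hfix : u x₀ = x₀) (hfix' : ∀ x : N, u x = x → x = 1 ∨ x = x₀) :
    Nat.card N = 2 ^ ℓ := by
  letI iC : CommGroup N := { (inferInstance : Group N) with mul_comm := hc }
  exact mulAut_card_eq_two_pow_comm T hcomm htrans u hu hu' ℓ hℓ huℓ hu1 x₀ hx₀ hfix hfix'

/-- A `p`-group acting faithfully and fixed-point-freely on a nontrivial normal subgroup is cyclic
or generalised quaternion. -/
theorem fpf_pgroup_cyclic_or_quaternion {G : Type*} [Group G] [Finite G] {A : Type*} [Group A]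
    (ι : A →* G) (hι : Function.Injective ι) (K : Subgroup G) [K.Normal] (hK : K ≠ ⊥)
    (hfpf : ∀ a : A, a ≠ 1 → K ⊓ Subgroup.centralizer {ι a} = ⊥)
    (p : ℕ) [Fact p.Prime] (hA : IsPGroup p A) :
    IsCyclic A ∨ (p = 2 ∧ ∃ n : ℕ, Nonempty (A ≃* QuaternionGroup (2 ^ n))) := by
  classical
  have hp : p.Prime := Fact.out
  haveI : Finite A := Finite.of_injective ι hι
  have key : ∀ u v : A, u * v = v * u → u ^ p = 1 → v ^ p = 1 → u ≠ 1 →
      v ∈ Subgroup.zpowers u := by
    intro u v huv hu hv hu1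
    have hcomm : ∀ x ∈ ({ι u, ι v} : Set G), ∀ y ∈ ({ι u, ι v} : Set G), x * y = y * x := by
      have e : ι u * ι v = ι v * ι u := by rw [← map_mul, huv, map_mul]
      rintro x (rfl | rfl) y (rfl | rfl)
      · rfl
      · exact e
      · exact e.symm
      · rfl
    haveI : IsMulCommutative (Subgroup.closure ({ι u, ι v} : Set G)) :=
      Subgroup.isMulCommutative_closure hcomm
    have hAr : Subgroup.closure ({ι u, ι v} : Set G) ≤ ι.range := by
      rw [Subgroup.closure_le]
      rintro x (rfl | rfl)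
      · exact ⟨u, rfl⟩
      · exact ⟨v, rfl⟩
    have hcyc : IsCyclic (Subgroup.closure ({ι u, ι v} : Set G)) :=
      Cfsg.Agent.Lib.Helper1.isCyclic_of_fpf_of_abelian _ K hK
        (by rw [Subgroup.normalizer_eq_top]; exact le_top)
        (fun a ha ha1 => by
          obtain ⟨a', rfl⟩ := hAr ha
          exact hfpf a' (fun h => ha1 (by rw [h, map_one])))
    have hUA := Cfsg.Agent.Lib.Helper7.uniqueOrderP_of_isCyclic
      (P := Subgroup.closure ({ι u, ι v} : Set G)) p
    have hmem := hUA ⟨ι u, Subgroup.subset_closure (by simp)⟩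
      ⟨ι v, Subgroup.subset_closure (by simp)⟩
      (by apply Subtype.ext; simp only [Subgroup.coe_pow, Subgroup.coe_one]
          rw [← map_pow, hu, map_one])
      (by apply Subtype.ext; simp only [Subgroup.coe_pow, Subgroup.coe_one]
          rw [← map_pow, hv, map_one])
      (by
        intro h
        apply hu1
        apply hι
        rw [map_one]
        exact congrArg Subtype.val h)
    obtain ⟨k, hk⟩ := Subgroup.mem_zpowers_iff.mp hmem
    rw [Subgroup.mem_zpowers_iff]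
    refine ⟨k, hι ?_⟩
    rw [map_zpow]
    have := congrArg Subtype.val hk
    simpa using this
  have hu : UOP p A := by
    intro x y hx hy hx1
    haveI : Nontrivial A := ⟨⟨x, 1, hx1⟩⟩
    haveI := hA.center_nontrivial
    have hdvd : p ∣ Nat.card (Subgroup.center A) := by
      obtain ⟨n, hn⟩ := (hA.to_subgroup (Subgroup.center A)).exists_card_eq
      have hn0 : n ≠ 0 := by
        intro h0
        rw [h0, pow_zero] at hn
        have := Finite.one_lt_card_iff_nontrivial.mpr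
          (inferInstance : Nontrivial (Subgroup.center A))
        omega
      rw [hn]; exact dvd_pow_self p hn0
    obtain ⟨⟨z, hzc⟩, hz⟩ :=
      exists_prime_orderOf_dvd_card' (G := Subgroup.center A) p hdvd
    have hzo : orderOf z = p := (Subgroup.orderOf_mk z hzc).symm.trans hz
    have hzp : z ^ p = 1 := by
      have := pow_orderOf_eq_one z
      rwa [hzo] at this
    have hz1 : z ≠ 1 := by
      intro h
      have h1 : orderOf z = 1 := orderOf_eq_one_iff.mpr h
      have := hzo.symm.trans h1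
      exact hp.one_lt.ne' this
    have hzcomm : ∀ w : A, w * z = z * w := fun w =>
      (Subgroup.mem_center_iff.mp hzc w)
    have h1 := key x z (hzcomm x) hx hzp hx1
    have h2 := key z y (hzcomm y).symm hzp hy hz1
    obtain ⟨i, hi⟩ := Subgroup.mem_zpowers_iff.mp h1
    obtain ⟨j, hj⟩ := Subgroup.mem_zpowers_iff.mp h2
    rw [Subgroup.mem_zpowers_iff]
    exact ⟨i * j, by rw [zpow_mul, hi, hj]⟩
  exact cyclic_or_quaternion p hA hu

end Cfsg.Agent.Lib.Helper7.Singer
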