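import Mathlib
import Cfsg.Agent.Lib.Helper7.Singer2
import Cfsg.Agent.S4252
import Cfsg.Agent.S0035
import Cfsg.Agent.S0042

/-!
# Doubly transitive groups with a regular normal subgroup in which only the identity fixes three
points but some non-identity element fixes two: the degree is `2 ^ p` with `p` prime.
-/

set_option autoImplicit false

namespace Cfsg.Agent.Lib.Helper7.Singer

open Function

section

variable {G Ω : Type*} [Group G] [MulAction G Ω]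

theorem reg_eq_one (N : Subgroup G) (hNr : ∀ a : Ω, MulAction.stabilizer N a = ⊥) :
    ∀ x ∈ N, ∀ c : Ω, x • c = c → x = 1 := by
  intro x hx c hxc
  have h1 : (⟨x, hx⟩ : N) ∈ MulAction.stabilizer N c := by
    rw [MulAction.mem_stabilizer_iff]; exact hxc
  rw [hNr c, Subgroup.mem_bot] at h1
  exact congrArg Subtype.val h1

theorem reg_inj (N : Subgroup G) (hNr : ∀ a : Ω, MulAction.stabilizer N a = ⊥) (a : Ω) :
    ∀ x ∈ N, ∀ y ∈ N, x • a = y • a → x = y := by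
  intro x hx y hy hxy
  have h1 : (y⁻¹ * x) • a = a := by rw [mul_smul, hxy, inv_smul_smul]
  have h2 := reg_eq_one N hNr _ (N.mul_mem (N.inv_mem hy) hx) a h1
  exact (inv_mul_eq_one.mp h2).symm

theorem exponent_two
    (h2' : ∀ {a b c d : Ω}, a ≠ b → c ≠ d → ∃ g : G, g • a = c ∧ g • b = d)
    (h3 : ∀ g : G, ∀ a b c : Ω, a ≠ b → b ≠ c → a ≠ c → g • a = a → g • b = b → g • c = c → g = 1)
    (N : Subgroup G) [hNn : N.Normal] (hNr : ∀ a : Ω, MulAction.stabilizer N a = ⊥)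
    (g₀ : G) (hg₀ : g₀ ≠ 1) (a b : Ω) (hab : a ≠ b) (hg₀a : g₀ • a = a) (hg₀b : g₀ • b = b) :
    ∀ x ∈ N, x * x = 1 := by
  have hN1 := reg_eq_one N hNr
  have hreg := reg_inj N hNr a
  intro x hx
  by_contra hxx
  have hx1 : x ≠ 1 := by
    rintro rfl
    exact hxx (mul_one 1)
  have hxa : x • a ≠ a := fun h => hx1 (hN1 x hx a h)
  obtain ⟨g, hga, hgb⟩ := h2' hab (Ne.symm hxa)
  obtain ⟨k, hk⟩ : ∃ k : G, k = g * g₀ * g⁻¹ := ⟨_, rfl⟩
  have hk1 : k ≠ 1 := by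
    intro h
    apply hg₀
    have h1 : g₀ = g⁻¹ * k * g := by rw [hk]; group
    rw [h1, h]; group
  have hga' : g⁻¹ • a = a := by rw [inv_smul_eq_iff, hga]
  have hka : k • a = a := by
    rw [hk, mul_smul, mul_smul, hga', hg₀a, hga]
  have hkb : k • (x • a) = x • a := by
    rw [hk, mul_smul, mul_smul, ← hgb, inv_smul_smul, hg₀b]
  have hka' : k⁻¹ • a = a := by rw [inv_smul_eq_iff, hka]
  have hy : k * x * k⁻¹ ∈ N := hNn.conj_mem x hx k
  have hya : (k * x * k⁻¹) • a = x • a := by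
    rw [mul_smul, mul_smul, hka', hkb]
  have hyx : k * x * k⁻¹ = x := hreg _ hy _ hx hya
  have hkx : k * x = x * k := by
    calc k * x = (k * x * k⁻¹) * k := by group
      _ = x * k := by rw [hyx]
  have hkxx : k * (x * x) = (x * x) * k := by
    calc k * (x * x) = (k * x) * x := by group
      _ = (x * k) * x := by rw [hkx]
      _ = x * (k * x) := by group
      _ = x * (x * k) := by rw [hkx]
      _ = (x * x) * k := by group
  have hkc : k • ((x * x) • a) = (x * x) • a := by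
    calc k • ((x * x) • a) = (k * (x * x)) • a := (mul_smul _ _ _).symm
      _ = ((x * x) * k) • a := by rw [hkxx]
      _ = (x * x) • (k • a) := mul_smul _ _ _
      _ = (x * x) • a := by rw [hka]
  have hxxa : (x * x) • a ≠ a := fun h => hxx (hN1 _ (N.mul_mem hx hx) a h)
  have hxxa' : x • a ≠ (x * x) • a := by
    intro h
    rw [mul_smul] at h
    exact hxa (smul_left_cancel x h).symm
  exact hk1 (h3 k a (x • a) ((x * x) • a) (Ne.symm hxa) hxxa' (Ne.symm hxxa) hka hkb hkc)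

theorem frob_data [Finite Ω] [Finite G]
    (h2' : ∀ {a b c d : Ω}, a ≠ b → c ≠ d → ∃ g : G, g • a = c ∧ g • b = d)
    (h3 : ∀ g : G, ∀ a b c : Ω, a ≠ b → b ≠ c → a ≠ c → g • a = a → g • b = b → g • c = c → g = 1)
    (g₀ : G) (hg₀ : g₀ ≠ 1) (a b : Ω) (hab : a ≠ b) (hg₀a : g₀ • a = a) (hg₀b : g₀ • b = b)
    (c : Ω) (hca : c ≠ a) (hcb : c ≠ b) :
    ∃ M₀ : Subgroup (MulAction.stabilizer G a), M₀.Normal ∧ Group.IsNilpotent M₀ ∧
      (∀ m : MulAction.stabilizer G a, m ∈ M₀ ↔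
        (m = 1 ∨ ∀ ω : SubMulAction.ofStabilizer G a, m • ω ≠ ω)) ∧
      (∀ α β : SubMulAction.ofStabilizer G a, ∃ m ∈ M₀, m • α = β) := by
  classical
  haveI : Fintype (SubMulAction.ofStabilizer G a) := Fintype.ofFinite _
  have hmem : ∀ {x : Ω}, x ≠ a → x ∈ SubMulAction.ofStabilizer G a := fun h =>
    (SubMulAction.mem_ofStabilizer_iff G a).mpr h
  have hne : ∀ ω : SubMulAction.ofStabilizer G a, (ω : Ω) ≠ a := fun ω =>
    (SubMulAction.mem_ofStabilizer_iff G a).mp ω.2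
  have hΩ' : 1 < Fintype.card (SubMulAction.ofStabilizer G a) := by
    rw [Fintype.one_lt_card_iff]
    exact ⟨⟨b, hmem hab.symm⟩, ⟨c, hmem hca⟩, fun h => hcb (congrArg Subtype.val h).symm⟩
  have htrans' : ∀ α β : SubMulAction.ofStabilizer G a,
      ∃ g : MulAction.stabilizer G a, g • α = β := by
    intro α β
    obtain ⟨g, hga, hgα⟩ := h2' (Ne.symm (hne α)) (Ne.symm (hne β))
    exact ⟨⟨g, MulAction.mem_stabilizer_iff.mpr hga⟩, Subtype.ext hgα⟩
  have hnreg' : ∃ g : MulAction.stabilizer G a, g ≠ 1 ∧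
      ∃ α : SubMulAction.ofStabilizer G a, g • α = α := by
    refine ⟨⟨g₀, MulAction.mem_stabilizer_iff.mpr hg₀a⟩, ?_, ⟨b, hmem hab.symm⟩,
      Subtype.ext hg₀b⟩
    intro h
    exact hg₀ (congrArg Subtype.val h)
  have hfix' : ∀ g : MulAction.stabilizer G a, g ≠ 1 →
      ∀ α β : SubMulAction.ofStabilizer G a, g • α = α → g • β = β → α = β := by
    intro g hg α β hα hβ
    by_contra hne'
    apply hg
    apply Subtype.ext
    exact h3 g.1 a α.1 β.1 (Ne.symm (hne α)) (fun h => hne' (Subtype.ext h)) (Ne.symm (hne β))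
      (MulAction.mem_stabilizer_iff.mp g.2) (congrArg Subtype.val hα) (congrArg Subtype.val hβ)
  obtain ⟨hFC, hFK⟩ := Cfsg.Agent.S4252.result hΩ' htrans' hnreg' hfix' ⟨b, hmem hab.symm⟩
  obtain ⟨M₀, hM₀K, hM₀n, hM₀nil⟩ := Cfsg.Agent.S0042.result _ hFC
  obtain ⟨M₁, hM₁K, _, hM₁c⟩ := Cfsg.Agent.S0035.result _ hFC
  have hM10 : M₁ = M₀ := SetLike.coe_injective (hM₁K.trans hM₀K.symm)
  rw [hM10] at hM₁c
  refine ⟨M₀, hM₀n, hM₀nil, ?_, ?_⟩
  · intro m
    rw [← SetLike.mem_coe, hM₀K, hFK]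
    rfl
  · have hMb : ∀ α : SubMulAction.ofStabilizer G a, ∃ m ∈ M₀,
        m • (⟨b, hmem hab.symm⟩ : SubMulAction.ofStabilizer G a) = α := by
      intro α
      obtain ⟨h, hh⟩ := htrans' ⟨b, hmem hab.symm⟩ α
      obtain ⟨⟨m, s⟩, hms⟩ := hM₁c.2 h
      have hms' : (m : MulAction.stabilizer G a) * (s : MulAction.stabilizer G a) = h := hms
      have hs : (s : MulAction.stabilizer G a) •
          (⟨b, hmem hab.symm⟩ : SubMulAction.ofStabilizer G a) = ⟨b, hmem hab.symm⟩ := s.2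
      refine ⟨m.1, m.2, ?_⟩
      rw [← hh, ← hms', mul_smul, hs]
    intro α β
    obtain ⟨m₁, hm₁, h1⟩ := hMb α
    obtain ⟨m₂, hm₂, h2⟩ := hMb β
    refine ⟨m₂ * m₁⁻¹, M₀.mul_mem hm₂ (M₀.inv_mem hm₁), ?_⟩
    rw [mul_smul, ← h1, inv_smul_smul, h2]

end

theorem main {G Ω : Type*} [Group G] [MulAction G Ω] [Fintype Ω] [FaithfulSMul G Ω]
    (h2 : MulAction.IsMultiplyPretransitive G Ω 2)
    (h3 : ∀ g : G, ∀ a b c : Ω, a ≠ b → b ≠ c → a ≠ c → g • a = a → g • b = b → g • c = c → g = 1)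
    (hfix : ∃ g : G, g ≠ 1 ∧ ∃ a b : Ω, a ≠ b ∧ g • a = a ∧ g • b = b)
    (N : Subgroup G) [hNn : N.Normal] (hNt : MulAction.IsPretransitive N Ω)
    (hNr : ∀ a : Ω, MulAction.stabilizer N a = ⊥) :
    ∃ p : ℕ, p.Prime ∧ Fintype.card Ω = 2 ^ p := by
  classical
  haveI : Finite G := Finite.of_injective (MulAction.toPermHom G Ω) MulAction.toPerm_injective
  have h2' : ∀ {a b c d : Ω}, a ≠ b → c ≠ d → ∃ g : G, g • a = c ∧ g • b = d :=
    MulAction.is_two_pretransitive_iff.mp h2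
  obtain ⟨g₀, hg₀, a, b, hab, hg₀a, hg₀b⟩ := hfix
  have hN1 := reg_eq_one N hNr
  have hreg := reg_inj N hNr a
  have hNex : ∀ c : Ω, ∃ x ∈ N, x • a = c := by
    intro c
    obtain ⟨x, hx⟩ := hNt.exists_smul_eq a c
    exact ⟨x.1, x.2, hx⟩
  have hsq := exponent_two h2' h3 N hNr g₀ hg₀ a b hab hg₀a hg₀b
  have hinv : ∀ x ∈ N, x⁻¹ = x := fun x hx => inv_eq_of_mul_eq_one_right (hsq x hx)
  have hNcomm : ∀ x ∈ N, ∀ y ∈ N, x * y = y * x := by
    intro x hx y hy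
    calc x * y = (x * y)⁻¹ := (hinv _ (N.mul_mem hx hy)).symm
      _ = y⁻¹ * x⁻¹ := mul_inv_rev x y
      _ = y * x := by rw [hinv x hx, hinv y hy]
  obtain ⟨c, hca, hcb⟩ : ∃ c : Ω, c ≠ a ∧ c ≠ b := by
    by_contra hcon
    push Not at hcon
    apply hg₀
    apply FaithfulSMul.eq_of_smul_eq_smul (α := Ω)
    intro c
    rw [one_smul]
    by_cases hc : c = a
    · rw [hc]; exact hg₀a
    · rw [hcon c hc]; exact hg₀b
  obtain ⟨M₀, hM₀n, hM₀nil, hM₀mem, hMtrans⟩ :=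
    frob_data h2' h3 g₀ hg₀ a b hab hg₀a hg₀b c hca hcb
  have hmem : ∀ {x : Ω}, x ≠ a → x ∈ SubMulAction.ofStabilizer G a := fun h =>
    (SubMulAction.mem_ofStabilizer_iff G a).mpr h
  -- an element of prime order fixing `a` and `b`
  have hord0 : orderOf g₀ ≠ 0 := (orderOf_pos g₀).ne'
  have hord1 : orderOf g₀ ≠ 1 := fun h => hg₀ (orderOf_eq_one_iff.mp h)
  obtain ⟨ℓ, hℓ, hℓdvd⟩ : ∃ ℓ : ℕ, ℓ.Prime ∧ ℓ ∣ orderOf g₀ :=
    ⟨_, Nat.minFac_prime hord1, Nat.minFac_dvd _⟩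
  obtain ⟨k, hkdef⟩ : ∃ k : G, k = g₀ ^ (orderOf g₀ / ℓ) := ⟨_, rfl⟩
  have hkord : orderOf k = ℓ := by
    rw [hkdef]; exact orderOf_pow_orderOf_div hord0 hℓdvd
  have hk1 : k ≠ 1 := by
    intro h
    rw [h, orderOf_one] at hkord
    exact hℓ.ne_one hkord.symm
  have hkℓ : k ^ ℓ = 1 := by
    rw [← hkord]; exact pow_orderOf_eq_one k
  have hka : k • a = a := by
    have h1 : g₀ ∈ MulAction.stabilizer G a := MulAction.mem_stabilizer_iff.mpr hg₀a
    rw [hkdef]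
    exact MulAction.mem_stabilizer_iff.mp (Subgroup.pow_mem _ h1 _)
  have hkb : k • b = b := by
    have h1 : g₀ ∈ MulAction.stabilizer G b := MulAction.mem_stabilizer_iff.mpr hg₀b
    rw [hkdef]
    exact MulAction.mem_stabilizer_iff.mp (Subgroup.pow_mem _ h1 _)
  obtain ⟨x₀, hx₀N, hx₀b⟩ := hNex b
  have hx₀1 : x₀ ≠ 1 := by
    rintro rfl
    rw [one_smul] at hx₀b
    exact hab hx₀b
  have hNbot : N ≠ ⊥ := by
    intro h
    rw [h, Subgroup.mem_bot] at hx₀N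
    exact hx₀1 hx₀N
  -- conjugation versus action
  have hfixpt : ∀ (g : G) (x : G), g • a = a → g * x * g⁻¹ = x → g • (x • a) = x • a := by
    intro g x hga hgx
    have h1 : g * x = x * g := by
      calc g * x = (g * x * g⁻¹) * g := by group
        _ = x * g := by rw [hgx]
    calc g • (x • a) = (g * x) • a := (mul_smul _ _ _).symm
      _ = (x * g) • a := by rw [h1]
      _ = x • (g • a) := mul_smul _ _ _
      _ = x • a := by rw [hga]
  have hconjpt : ∀ (g : G) (x : G), g • a = a → x ∈ N → g • (x • a) = x • a →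
      g * x * g⁻¹ = x := by
    intro g x hga hx h
    have hga' : g⁻¹ • a = a := by rw [inv_smul_eq_iff, hga]
    apply hreg _ (hNn.conj_mem x hx g) _ hx
    rw [mul_smul, mul_smul, hga', h]
  have F1 : ∀ m : MulAction.stabilizer G a, m ∈ M₀ → m ≠ 1 → ∀ x ∈ N, x ≠ 1 →
      (m : G) * x * (m : G)⁻¹ ≠ x := by
    intro m hm hm1 x hx hx1 hmx
    have hxa : x • a ≠ a := fun h => hx1 (hN1 x hx a h)
    have hma : (m : G) • a = a := MulAction.mem_stabilizer_iff.mp m.2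
    have h1 : (m : G) • (x • a) = x • a := hfixpt _ x hma hmx
    rcases (hM₀mem m).mp hm with h | h
    · exact hm1 h
    · exact h ⟨x • a, hmem hxa⟩ (Subtype.ext h1)
  have F2 : ∀ x ∈ N, x ≠ 1 → ∀ y ∈ N, y ≠ 1 →
      ∃ m : MulAction.stabilizer G a, m ∈ M₀ ∧ (m : G) * x * (m : G)⁻¹ = y := by
    intro x hx hx1 y hy hy1
    have hxa : x • a ≠ a := fun h => hx1 (hN1 x hx a h)
    have hya : y • a ≠ a := fun h => hy1 (hN1 y hy a h)
    obtain ⟨m, hm, hmxy⟩ := hMtrans ⟨x • a, hmem hxa⟩ ⟨y • a, hmem hya⟩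
    refine ⟨m, hm, ?_⟩
    have hma : (m : G) • a = a := MulAction.mem_stabilizer_iff.mp m.2
    have hma' : (m : G)⁻¹ • a = a := by rw [inv_smul_eq_iff, hma]
    have h1 : (m : G) • (x • a) = y • a := congrArg Subtype.val hmxy
    apply hreg _ (hNn.conj_mem x hx (m : G)) _ hy
    rw [mul_smul, mul_smul, hma', h1]
  have hfpfM : ∀ m : MulAction.stabilizer G a, m ∈ M₀ → m ≠ 1 →
      N ⊓ Subgroup.centralizer {(m : G)} = ⊥ := by
    intro m hm hm1
    rw [eq_bot_iff]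
    intro x hx
    rw [Subgroup.mem_bot]
    by_contra hx1
    obtain ⟨hxN, hxc⟩ := Subgroup.mem_inf.mp hx
    rw [Subgroup.mem_centralizer_singleton_iff] at hxc
    apply F1 m hm hm1 x hxN hx1
    rw [← hxc]; group
  have hnoinv : ∀ m : MulAction.stabilizer G a, m ∈ M₀ → m ≠ 1 → (m : G) * (m : G) ≠ 1 := by
    intro m hm hm1 hmm
    obtain ⟨t, ht⟩ : ∃ t : G, t = (m : G) := ⟨_, rfl⟩
    rw [← ht] at hmm
    have F1' : ∀ x ∈ N, x ≠ 1 → t * x * t⁻¹ ≠ x := by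
      intro x hx hx1
      rw [ht]
      exact F1 m hm hm1 x hx hx1
    have hy : t * x₀ * t⁻¹ ∈ N := hNn.conj_mem x₀ hx₀N t
    by_cases hz : x₀ * (t * x₀ * t⁻¹) = 1
    · have h1 : t * x₀ * t⁻¹ = x₀ := by
        have h2 : x₀⁻¹ = t * x₀ * t⁻¹ := inv_eq_of_mul_eq_one_right hz
        rw [← h2, hinv x₀ hx₀N]
      exact F1' x₀ hx₀N hx₀1 h1
    · apply F1' _ (N.mul_mem hx₀N hy) hz
      calc t * (x₀ * (t * x₀ * t⁻¹)) * t⁻¹
          = (t * x₀ * t⁻¹) * ((t * t) * x₀ * (t * t)⁻¹) := by group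
        _ = (t * x₀ * t⁻¹) * x₀ := by rw [hmm]; group
        _ = x₀ * (t * x₀ * t⁻¹) := hNcomm _ hy _ hx₀N
  -- the kernel is a Z-group
  haveI : IsZGroup M₀ := by
    constructor
    intro p hp P
    haveI : Fact p.Prime := ⟨hp⟩
    let ι : (P : Subgroup M₀) →* G :=
      (MulAction.stabilizer G a).subtype.comp (M₀.subtype.comp (P : Subgroup M₀).subtype)
    have hι : Function.Injective ι :=
      (Subgroup.subtype_injective _).comp
        ((Subgroup.subtype_injective _).comp (Subgroup.subtype_injective _))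
    have hfpfP : ∀ t : (P : Subgroup M₀), t ≠ 1 → N ⊓ Subgroup.centralizer {ι t} = ⊥ := by
      intro t ht
      exact hfpfM t.1.1 t.1.2 (fun h => ht (Subtype.ext (Subtype.ext h)))
    rcases fpf_pgroup_cyclic_or_quaternion ι hι N hNbot hfpfP p P.2 with h | ⟨rfl, n, ⟨e⟩⟩
    · exact h
    · exfalso
      have hdvd : 2 ∣ Nat.card (P : Subgroup M₀) := by
        rw [Nat.card_congr e.toEquiv, Nat.card_eq_fintype_card, QuaternionGroup.card]
        exact ⟨2 * 2 ^ n, by ring⟩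
      obtain ⟨t, ht⟩ := exists_prime_orderOf_dvd_card' 2 hdvd
      have ht1 : t ≠ 1 := by
        intro h
        rw [h, orderOf_one] at ht
        omega
      have htt : t * t = 1 := by
        have h := pow_orderOf_eq_one t
        rw [ht, pow_two] at h
        exact h
      have h2 : ι (t * t) = 1 := by rw [htt, map_one]
      rw [map_mul] at h2
      exact hnoinv t.1.1 t.1.2 (fun h => ht1 (Subtype.ext (Subtype.ext h))) h2
  haveI : Group.IsNilpotent M₀ := hM₀nil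
  haveI : IsCyclic M₀ := inferInstance
  have hMcomm : ∀ m₁ m₂ : M₀, m₁ * m₂ = m₂ * m₁ := fun m₁ m₂ => mul_comm' m₁ m₂
  have hcardΩ : Fintype.card Ω = Nat.card N := by
    rw [← Nat.card_eq_fintype_card]
    symm
    apply Nat.card_eq_of_bijective (fun x : N => (x : G) • a)
    constructor
    · intro x y hxy
      exact Subtype.ext (hreg x.1 x.2 y.1 y.2 hxy)
    · intro c
      obtain ⟨x, hx, hxc⟩ := hNex c
      exact ⟨⟨x, hx⟩, hxc⟩
  refine ⟨ℓ, hℓ, ?_⟩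
  rw [hcardΩ]
  have hconj : ∀ (g : G) (x : N), ((MulAut.conjNormal g x : N) : G) = g * x * g⁻¹ :=
    fun g x => MulAut.conjNormal_apply g x
  let φ : M₀ →* MulAut N :=
    (MulAut.conjNormal).comp ((MulAction.stabilizer G a).subtype.comp M₀.subtype)
  have hφ : ∀ (m : M₀) (x : N), ((φ m x : N) : G) = (m.1 : G) * x * (m.1 : G)⁻¹ :=
    fun m x => MulAut.conjNormal_apply _ _
  refine mulAut_card_eq_two_pow (N := ↥N) (fun x y => Subtype.ext (hNcomm x.1 x.2 y.1 y.2))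
    (Set.range φ) ?_ ?_ (MulAut.conjNormal k) ?_ ?_ ℓ hℓ ?_ ?_ ⟨x₀, hx₀N⟩ ?_ ?_ ?_
  · rintro _ ⟨m₁, rfl⟩ _ ⟨m₂, rfl⟩
    rw [← map_mul, ← map_mul, hMcomm m₁ m₂]
  · intro x y hx hy
    obtain ⟨m, hm, hmxy⟩ := F2 x.1 x.2 (fun h => hx (Subtype.ext h)) y.1 y.2
      (fun h => hy (Subtype.ext h))
    refine ⟨φ ⟨m, hm⟩, ⟨⟨m, hm⟩, rfl⟩, ?_⟩
    apply Subtype.ext
    rw [hφ]
    exact hmxy
  · rintro _ ⟨m, rfl⟩
    refine ⟨⟨⟨k, MulAction.mem_stabilizer_iff.mpr hka⟩ * m.1 *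
      ⟨k, MulAction.mem_stabilizer_iff.mpr hka⟩⁻¹, hM₀n.conj_mem m.1 m.2 _⟩, ?_⟩
    have h1 : MulAut.conjNormal (H := N) (k * (m.1 : G) * k⁻¹) =
        MulAut.conjNormal k * MulAut.conjNormal (m.1 : G) * (MulAut.conjNormal k)⁻¹ := by
      rw [map_mul, map_mul, map_inv]
    exact h1
  · rintro _ ⟨m, rfl⟩
    have h0 := hM₀n.conj_mem m.1 m.2 (⟨k, MulAction.mem_stabilizer_iff.mpr hka⟩⁻¹)
    rw [inv_inv] at h0
    refine ⟨⟨_, h0⟩, ?_⟩
    have h1 : MulAut.conjNormal (H := N) (k⁻¹ * (m.1 : G) * k) =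
        (MulAut.conjNormal k)⁻¹ * MulAut.conjNormal (m.1 : G) * MulAut.conjNormal k := by
      rw [map_mul, map_mul, map_inv]
    exact h1
  · rw [← map_pow, hkℓ, map_one]
  · intro h
    apply hk1
    obtain ⟨xc, hxcN, hxc⟩ := hNex c
    have h1 : ((MulAut.conjNormal k (⟨xc, hxcN⟩ : N) : N) : G) = xc := by rw [h]; rfl
    rw [hconj] at h1
    have h2 : k • c = c := by
      rw [← hxc]; exact hfixpt k xc hka h1
    exact h3 k a b c hab (Ne.symm hcb) (Ne.symm hca) hka hkb h2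
  · exact fun h => hx₀1 (congrArg Subtype.val h)
  · apply Subtype.ext
    rw [hconj]
    exact hconjpt k x₀ hka hx₀N (by rw [hx₀b]; exact hkb)
  · intro x hx
    have h1 : k * (x : G) * k⁻¹ = x := by rw [← hconj, hx]
    have h2 := hfixpt k x.1 hka h1
    by_contra hcon
    push Not at hcon
    have hxa : (x : G) • a ≠ a := fun h => hcon.1 (Subtype.ext (hN1 x.1 x.2 a h))
    have hxb : (x : G) • a ≠ b := by
      intro h
      apply hcon.2
      apply Subtype.ext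
      exact hreg x.1 x.2 x₀ hx₀N (h.trans hx₀b.symm)
    exact hk1 (h3 k a b ((x : G) • a) hab (Ne.symm hxb) (Ne.symm hxa) hka hkb h2)

end Cfsg.Agent.Lib.Helper7.Singer
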