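import Mathlib

/-!
# S2316 farm, helper lemma for G1: Fitting decomposition of an operator with an adjoint of the
form `g ∘ f` is orthogonal for an alternating form
-/

set_option autoImplicit false

namespace Cfsg.Agent.Lib.Helper7.SpUFit

variable {F : Type*} [Field F] {V : Type*} [AddCommGroup V] [Module F V]

/-- some power gives a Fitting decomposition -/
theorem exists_isCompl [FiniteDimensional F V] (f : Module.End F V) :
    ∃ N : ℕ, 1 ≤ N ∧ IsCompl (LinearMap.ker (f ^ N)) (LinearMap.range (f ^ N)) := by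
  have h := (LinearMap.eventually_isCompl_ker_pow_range_pow f).and (Filter.eventually_ge_atTop 1)
  obtain ⟨N, h1, h2⟩ := h.exists
  exact ⟨N, h2, h1⟩

/-- iterated adjoint identity -/
theorem adj_pow (B : LinearMap.BilinForm F V) (f g : Module.End F V) (hcomm : Commute g f)
    (hadj : ∀ y z, B (f y) z = B y (g (f z))) (j : ℕ) (y z : V) :
    B ((f ^ j) y) z = B y ((g ^ j) ((f ^ j) z)) := by
  induction j generalizing y z with
  | zero => simp
  | succ j ih =>
    have h1 : (f ^ (j + 1)) y = (f ^ j) (f y) := by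
      rw [pow_succ, Module.End.mul_apply]
    rw [h1, ih, hadj]
    have h2 : g * f * (g ^ j * f ^ j) = g ^ (j + 1) * f ^ (j + 1) := by
      have hc : Commute f (g ^ j) := (hcomm.pow_left j).symm
      calc g * f * (g ^ j * f ^ j) = g * (f * g ^ j) * f ^ j := by simp only [mul_assoc]
        _ = g * (g ^ j * f) * f ^ j := by rw [hc.eq]
        _ = (g * g ^ j) * (f * f ^ j) := by simp only [mul_assoc]
        _ = g ^ (j + 1) * f ^ (j + 1) := by rw [← pow_succ', ← pow_succ']
    have h3 := congrArg (fun φ : Module.End F V => φ z) h2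
    simp only [Module.End.mul_apply] at h3
    rw [h3]

/-- the generalized kernel is orthogonal to the generalized image -/
theorem orth_right (B : LinearMap.BilinForm F V) (f g : Module.End F V) (hcomm : Commute g f)
    (hadj : ∀ y z, B (f y) z = B y (g (f z))) (N : ℕ) (u w : V)
    (hu : u ∈ LinearMap.ker (f ^ N)) (hw : w ∈ LinearMap.range (f ^ N)) : B w u = 0 := by
  obtain ⟨w0, rfl⟩ := hw
  rw [adj_pow B f g hcomm hadj, LinearMap.mem_ker.1 hu, map_zero, map_zero]

theorem orth_left (B : LinearMap.BilinForm F V) (hA : B.IsAlt) (f g : Module.End F V)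
    (hcomm : Commute g f)
    (hadj : ∀ y z, B (f y) z = B y (g (f z))) (N : ℕ) (u w : V)
    (hu : u ∈ LinearMap.ker (f ^ N)) (hw : w ∈ LinearMap.range (f ^ N)) : B u w = 0 := by
  rw [← hA.neg_eq, orth_right B f g hcomm hadj N u w hu hw, neg_zero]

/-- restriction of a nondegenerate alternating form to one of two orthogonal complementary
subspaces is nondegenerate -/
theorem restrict_nondegenerate_of_isCompl (B : LinearMap.BilinForm F V) (hA : B.IsAlt)
    (hB : B.Nondegenerate) (U U' : Submodule F V) (hc : IsCompl U U')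
    (horth : ∀ u ∈ U, ∀ w ∈ U', B u w = 0) : (B.restrict U).Nondegenerate := by
  have hsep : ∀ x : U, (∀ y : U, B (x : V) (y : V) = 0) → x = 0 := by
    intro x hx
    have : (x : V) = 0 := by
      apply hB.1
      intro v
      have hv : v ∈ U ⊔ U' := by rw [hc.sup_eq_top]; trivial
      obtain ⟨a, ha, b, hb, rfl⟩ := Submodule.mem_sup.1 hv
      rw [map_add, hx ⟨a, ha⟩, horth _ x.2 _ hb, add_zero]
    exact Subtype.ext this
  refine ⟨fun x hx => hsep x hx, fun y hy => hsep y ?_⟩
  intro x
  have h1 : B (x : V) (y : V) = 0 := hy x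
  rw [← hA.neg_eq, h1, neg_zero]

theorem restrict_isAlt (B : LinearMap.BilinForm F V) (hA : B.IsAlt) (U : Submodule F V) :
    (B.restrict U).IsAlt := fun x => hA (x : V)

/-- `f` maps the generalized kernel into itself -/
theorem map_mem_ker (f : Module.End F V) (N : ℕ) (u : V) (hu : u ∈ LinearMap.ker (f ^ N)) :
    f u ∈ LinearMap.ker (f ^ N) := by
  rw [LinearMap.mem_ker] at hu ⊢
  have : (f ^ N) (f u) = f ((f ^ N) u) := by
    rw [← Module.End.mul_apply, ← Module.End.mul_apply, ← pow_succ, ← pow_succ']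
  rw [this, hu, map_zero]

/-- `f` maps the generalized image into itself -/
theorem map_mem_range (f : Module.End F V) (N : ℕ) (w : V) (hw : w ∈ LinearMap.range (f ^ N)) :
    f w ∈ LinearMap.range (f ^ N) := by
  obtain ⟨w0, rfl⟩ := hw
  refine ⟨f w0, ?_⟩
  rw [← Module.End.mul_apply, ← Module.End.mul_apply, ← pow_succ, ← pow_succ']

/-- `f` is injective on the generalized image -/
theorem eq_zero_of_map_eq_zero (f : Module.End F V) (N : ℕ) (hN : 1 ≤ N)
    (hc : IsCompl (LinearMap.ker (f ^ N)) (LinearMap.range (f ^ N))) (w : V)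
    (hw : w ∈ LinearMap.range (f ^ N)) (h0 : f w = 0) : w = 0 := by
  have hk : w ∈ LinearMap.ker (f ^ N) := by
    rw [LinearMap.mem_ker]
    obtain ⟨k, rfl⟩ : ∃ k, N = k + 1 := ⟨N - 1, by omega⟩
    rw [pow_succ, Module.End.mul_apply, h0, map_zero]
  have : w ∈ LinearMap.ker (f ^ N) ⊓ LinearMap.range (f ^ N) := ⟨hk, hw⟩
  rw [hc.inf_eq_bot] at this
  exact (Submodule.mem_bot F).1 this

/-- the full package -/
theorem fitting_package [FiniteDimensional F V] (B : LinearMap.BilinForm F V) (hA : B.IsAlt)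
    (hB : B.Nondegenerate) (f g : Module.End F V) (hcomm : Commute g f)
    (hadj : ∀ y z, B (f y) z = B y (g (f z))) :
    ∃ (N : ℕ) (U U' : Submodule F V), 1 ≤ N ∧ U = LinearMap.ker (f ^ N) ∧
      U' = LinearMap.range (f ^ N) ∧ IsCompl U U' ∧
      (∀ u ∈ U, ∀ w ∈ U', B u w = 0 ∧ B w u = 0) ∧
      (B.restrict U).Nondegenerate ∧ (B.restrict U').Nondegenerate ∧
      (B.restrict U).IsAlt ∧ (B.restrict U').IsAlt ∧
      (∀ u ∈ U, f u ∈ U) ∧ (∀ w ∈ U', f w ∈ U') ∧
      (∀ u ∈ U, (f ^ N) u = 0) ∧ (∀ w ∈ U', f w = 0 → w = 0) := by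
  obtain ⟨N, hN, hc⟩ := exists_isCompl f
  refine ⟨N, _, _, hN, rfl, rfl, hc, ?_, ?_, ?_, restrict_isAlt B hA _, restrict_isAlt B hA _,
    map_mem_ker f N, map_mem_range f N, fun u hu => LinearMap.mem_ker.1 hu,
    eq_zero_of_map_eq_zero f N hN hc⟩
  · intro u hu w hw
    exact ⟨orth_left B hA f g hcomm hadj N u w hu hw, orth_right B f g hcomm hadj N u w hu hw⟩
  · exact restrict_nondegenerate_of_isCompl B hA hB _ _ hc
      (fun u hu w hw => orth_left B hA f g hcomm hadj N u w hu hw)
  · exact restrict_nondegenerate_of_isCompl B hA hB _ _ hc.symm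
      (fun w hw u hu => orth_right B f g hcomm hadj N u w hu hw)

end Cfsg.Agent.Lib.Helper7.SpUFit
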