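import Mathlib
import Cfsg.Prelude.Def_ClassicalGeometry
import Cfsg.Agent.Lib.Helper2.SpUDefs

/-!
# S2316 farm, piece P5: the affine space `Aff F m = {B | J B + Bᵀ J = J}` has `q^(2m²+m)` elements
-/

set_option autoImplicit false

namespace Cfsg.Agent.Lib.Helper7.SpUP5

open Matrix Cfsg.Agent.Lib.Helper2.SpU

variable {F : Type*} [Field F]

theorem fromBlocks_mem_Aff_iff (m : ℕ) (a b c d : Matrix (Fin m) (Fin m) F) :
    (Matrix.fromBlocks a b c d : Mat F m) ∈ Aff F m ↔ bᵀ = b ∧ cᵀ = c ∧ d = 1 - aᵀ := by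
  unfold Aff
  rw [Set.mem_ofPred_eq]
  unfold Matrix.J
  rw [Matrix.fromBlocks_transpose, Matrix.fromBlocks_multiply, Matrix.fromBlocks_multiply,
    Matrix.fromBlocks_add, Matrix.fromBlocks_inj]
  simp only [Matrix.zero_mul, Matrix.mul_zero, Matrix.one_mul, Matrix.mul_one, zero_add, add_zero,
    Matrix.neg_mul, Matrix.mul_neg]
  constructor
  · rintro ⟨h1, h2, h3, h4⟩
    refine ⟨?_, ?_, ?_⟩
    · have : b - bᵀ = 0 := by rw [sub_eq_add_neg]; exact h4
      exact (sub_eq_zero.1 this).symm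
    · have : cᵀ - c = 0 := by rw [sub_eq_add_neg, add_comm]; exact h1
      exact sub_eq_zero.1 this
    · have h2' : d + aᵀ = 1 := by
        have := congrArg Neg.neg h2
        simpa [neg_add, add_comm] using this
      exact eq_sub_of_add_eq h2'
  · rintro ⟨h1, h2, h3⟩
    subst h3
    refine ⟨?_, ?_, ?_, ?_⟩
    · rw [h2]; simp
    · abel
    · rw [Matrix.transpose_sub, Matrix.transpose_one, Matrix.transpose_transpose]; abel
    · rw [h1]; simp

/-- symmetric matrices -/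
abbrev SymM (F : Type*) (m : ℕ) := {b : Matrix (Fin m) (Fin m) F // bᵀ = b}

noncomputable def affEquiv (m : ℕ) :
    ↥(Aff F m) ≃ Matrix (Fin m) (Fin m) F × SymM F m × SymM F m where
  toFun B :=
    have h := (fromBlocks_mem_Aff_iff m (B.1.toBlocks₁₁) (B.1.toBlocks₁₂) (B.1.toBlocks₂₁)
      (B.1.toBlocks₂₂)).1 (by rw [Matrix.fromBlocks_toBlocks]; exact B.2)
    (B.1.toBlocks₁₁, ⟨B.1.toBlocks₁₂, h.1⟩, ⟨B.1.toBlocks₂₁, h.2.1⟩)
  invFun p := ⟨Matrix.fromBlocks p.1 p.2.1.1 p.2.2.1 (1 - p.1ᵀ),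
    (fromBlocks_mem_Aff_iff m _ _ _ _).2 ⟨p.2.1.2, p.2.2.2, rfl⟩⟩
  left_inv B := by
    have h := (fromBlocks_mem_Aff_iff m (B.1.toBlocks₁₁) (B.1.toBlocks₁₂) (B.1.toBlocks₂₁)
      (B.1.toBlocks₂₂)).1 (by rw [Matrix.fromBlocks_toBlocks]; exact B.2)
    apply Subtype.ext
    show Matrix.fromBlocks B.1.toBlocks₁₁ B.1.toBlocks₁₂ B.1.toBlocks₂₁ (1 - (B.1.toBlocks₁₁)ᵀ) = B.1
    rw [← h.2.2, Matrix.fromBlocks_toBlocks]
  right_inv p := by
    obtain ⟨a, ⟨b, hb⟩, ⟨c, hc⟩⟩ := p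
    simp only [Matrix.toBlocks_fromBlocks₁₁, Matrix.toBlocks_fromBlocks₁₂,
      Matrix.toBlocks_fromBlocks₂₁]

noncomputable def symEquiv (m : ℕ) : SymM F m ≃ (Sym2 (Fin m) → F) :=
  (Equiv.subtypeEquivRight (p := fun b : Fin m → Fin m → F => (Matrix.transpose b) = b)
    (q := fun b : Fin m → Fin m → F => ∀ a₁ a₂, b a₁ a₂ = b a₂ a₁) (by
      intro b
      constructor
      · intro h i j
        exact congrFun (congrFun h j) i
      · intro h
        funext i j
        exact h j i)).trans Sym2.lift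

theorem two_mul_choose (m : ℕ) : 2 * (m + 1).choose 2 = m * (m + 1) := by
  induction m with
  | zero => simp
  | succ k ih =>
    rw [Nat.choose_succ_succ' (k + 1) 1, Nat.choose_one_right, mul_add, ih]
    ring

omit [Field F] in
theorem card_SymM [Fintype F] (m : ℕ) :
    Nat.card (SymM F m) = Fintype.card F ^ ((m + 1).choose 2) := by
  rw [Nat.card_congr (symEquiv m), Nat.card_fun, Nat.card_eq_fintype_card,
    Nat.card_eq_fintype_card, Sym2.card, Fintype.card_fin]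

omit [Field F] in
theorem card_Mat [Fintype F] (m : ℕ) :
    Nat.card (Matrix (Fin m) (Fin m) F) = Fintype.card F ^ (m * m) := by
  have e : Matrix (Fin m) (Fin m) F ≃ (Fin m × Fin m → F) :=
    (Equiv.curry (Fin m) (Fin m) F).symm
  rw [Nat.card_congr e, Nat.card_fun, Nat.card_eq_fintype_card, Nat.card_eq_fintype_card,
    Fintype.card_prod, Fintype.card_fin]

/-- P5 -/
theorem card_Aff [Fintype F] (m : ℕ) :
    Nat.card (Aff F m) = Fintype.card F ^ (2 * m ^ 2 + m) := by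
  rw [Nat.card_congr (affEquiv m), Nat.card_prod, Nat.card_prod, card_SymM, card_Mat,
    ← pow_add, ← pow_add]
  congr 1
  have := two_mul_choose m
  nlinarith [this]

end Cfsg.Agent.Lib.Helper7.SpUP5
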