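import Mathlib
import Cfsg.Agent.Lib.Helper7.PCompl

set_option autoImplicit false

namespace Cfsg.Agent.Lib.Helper7.SpanOrbit

open Cfsg

variable {k V H : Type*} [Field k] [AddCommGroup V] [Module k V] [Group H] [Finite H]

theorem core (ρ : Representation k H V) (a : V) (K : Subgroup H)
    (hK : ((Nat.card K : ℕ) : k) ≠ 0)
    (htrans : ∀ h : H, ∃ x ∈ K, ρ x a = ρ h a)
    (hspan : Submodule.span k {u : V | ∃ h : H, ρ h a = u} = ⊤) :
    ∃ τ : V, (∀ v : V, (∀ x ∈ K, ρ x v = v) → v ∈ Submodule.span k {τ}) ∧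
      (((Nat.card {u : V | ∃ h : H, ρ h a = u} : ℕ) : k) ≠ 0 → ∀ h : H, ρ h τ = τ) := by
  classical
  haveI := Fintype.ofFinite H
  haveI := Fintype.ofFinite ↥K
  obtain ⟨τ, hτ⟩ : ∃ τ : V, τ = ∑ x : ↥K, ρ (x : H) a := ⟨_, rfl⟩
  have hA : ∀ x₀ ∈ K, ∑ x : ↥K, ρ (x : H) (ρ x₀ a) = τ := by
    intro x₀ hx₀
    rw [hτ]
    apply Fintype.sum_equiv (Equiv.mulRight (⟨x₀, hx₀⟩ : ↥K))
    intro x
    simp only [Equiv.coe_mulRight, Subgroup.coe_mul, map_mul, Module.End.mul_apply]
  have hAO : ∀ h : H, ∑ x : ↥K, ρ (x : H) (ρ h a) = τ := by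
    intro h
    obtain ⟨x₀, hx₀, hx₀a⟩ := htrans h
    rw [← hx₀a]; exact hA x₀ hx₀
  have hAV : ∀ v : V, ∑ x : ↥K, ρ (x : H) v ∈ Submodule.span k {τ} := by
    intro v
    have hv : v ∈ Submodule.span k {u : V | ∃ h : H, ρ h a = u} := by rw [hspan]; trivial
    induction hv using Submodule.span_induction with
    | mem u hu =>
      obtain ⟨h, rfl⟩ := hu
      rw [hAO h]; exact Submodule.mem_span_singleton_self τ
    | zero => simp
    | add u w _ _ hu hw =>
      simp only [map_add, Finset.sum_add_distrib]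
      exact Submodule.add_mem _ hu hw
    | smul c u _ hu =>
      simp only [map_smul, ← Finset.smul_sum]
      exact Submodule.smul_mem _ c hu
  refine ⟨τ, ?_, ?_⟩
  · intro v hv
    have h1 : ∑ x : ↥K, ρ (x : H) v = (Nat.card K : k) • v := by
      rw [Finset.sum_congr rfl (fun (x : ↥K) _ => hv (x : H) x.2), Finset.sum_const, Finset.card_univ,
        ← Nat.card_eq_fintype_card, Nat.cast_smul_eq_nsmul k]
    have h2 := hAV v
    rw [h1] at h2
    have h3 := Submodule.smul_mem _ ((Nat.card K : k)⁻¹) h2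
    rwa [smul_smul, inv_mul_cancel₀ hK, one_smul] at h3
  · intro hN h
    obtain ⟨O, hO⟩ : ∃ O : Finset V, O = Finset.univ.image (fun g : H => ρ g a) := ⟨_, rfl⟩
    have hmemO : ∀ y, y ∈ O ↔ ∃ g : H, ρ g a = y := by intro y; rw [hO]; simp
    obtain ⟨σ, hσ⟩ : ∃ σ : V, σ = ∑ y ∈ O, y := ⟨_, rfl⟩
    have hσinv : ∀ g : H, ρ g σ = σ := by
      intro g
      rw [hσ, map_sum]
      apply Finset.sum_nbij' (fun y => ρ g y) (fun y => ρ g⁻¹ y)
      · intro y hy
        obtain ⟨g', rfl⟩ := (hmemO y).mp hy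
        exact (hmemO _).mpr ⟨g * g', by rw [map_mul]; rfl⟩
      · intro y hy
        obtain ⟨g', rfl⟩ := (hmemO y).mp hy
        exact (hmemO _).mpr ⟨g⁻¹ * g', by rw [map_mul]; rfl⟩
      · intro y _
        show ρ g⁻¹ (ρ g y) = y
        rw [← Module.End.mul_apply, ← map_mul, inv_mul_cancel, map_one]; rfl
      · intro y _
        show ρ g (ρ g⁻¹ y) = y
        rw [← Module.End.mul_apply, ← map_mul, mul_inv_cancel, map_one]; rfl
      · intro y _; rfl
    have e1 : ∑ x : ↥K, ρ (x : H) σ = (Nat.card K : k) • σ := by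
      rw [Finset.sum_congr rfl (fun (x : ↥K) _ => hσinv (x : H)), Finset.sum_const, Finset.card_univ,
        ← Nat.card_eq_fintype_card, Nat.cast_smul_eq_nsmul k]
    have e2 : ∑ x : ↥K, ρ (x : H) σ = (O.card : k) • τ := by
      rw [hσ]
      simp only [map_sum]
      rw [Finset.sum_comm]
      have : ∀ y ∈ O, ∑ x : ↥K, ρ (x : H) y = τ := by
        intro y hy
        obtain ⟨g, rfl⟩ := (hmemO y).mp hy
        exact hAO g
      rw [Finset.sum_congr rfl this, Finset.sum_const, Nat.cast_smul_eq_nsmul k]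
    have hcardO : Nat.card {u : V | ∃ h : H, ρ h a = u} = O.card := by
      rw [Nat.card_coe_set_eq, ← Set.ncard_coe_finset]
      congr 1
      ext u
      simp [hmemO]
    rw [hcardO] at hN
    have e3 : τ = ((O.card : k)⁻¹ * (Nat.card K : k)) • σ := by
      rw [← smul_smul, ← e1, e2, smul_smul, inv_mul_cancel₀ hN, one_smul]
    rw [e3, map_smul, hσinv]

theorem main (p : ℕ) [hp : Fact p.Prime] [CharP k p] (hsol : Cfsg.IsPSolvable p H)
    (ρ : Representation k H V) (a : V)
    (hfix : ∃ P : Sylow p H, ∀ x : H, x ∈ (P : Subgroup H) → ρ x a = a)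
    (hspan : Submodule.span k {u : V | ∃ h : H, ρ h a = u} = ⊤) :
    Module.finrank k ρ.invariants ≤ 1 ∧
    ∀ b : V, (Nat.card {u : V | ∃ h : H, ρ h a = u}).Coprime
      (Nat.card {u : V | ∃ h : H, ρ h b = u}) → ∀ h : H, ρ h b = b := by
  letI : MulAction H V := MulAction.compHom V ρ
  have hsmul : ∀ (h : H) (v : V), h • v = ρ h v := fun _ _ => rfl
  have horb : ∀ v : V, {u : V | ∃ h : H, ρ h v = u} = MulAction.orbit H v := by
    intro v; ext u; rw [MulAction.mem_orbit_iff]; rfl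
  obtain ⟨P, hP⟩ := hfix
  have hPS : (P : Subgroup H) ≤ MulAction.stabilizer H a := by
    intro x hx; rw [MulAction.mem_stabilizer_iff, hsmul]; exact hP x hx
  have hNcard : Nat.card {u : V | ∃ h : H, ρ h a = u} = (MulAction.orbit H a).ncard := by
    rw [horb a, Nat.card_coe_set_eq]
  have hpN : ¬ p ∣ (MulAction.orbit H a).ncard := by
    rw [← MulAction.index_stabilizer H a]
    intro h
    exact P.not_dvd_index (dvd_trans h (Subgroup.index_dvd_of_le hPS))
  have hNk : ((Nat.card {u : V | ∃ h : H, ρ h a = u} : ℕ) : k) ≠ 0 := by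
    rw [hNcard, Ne, CharP.cast_eq_zero_iff k p]; exact hpN
  have hcopN : ∀ m : ℕ, Nat.Coprime (p ^ m) (MulAction.orbit H a).ncard :=
    fun m => Nat.Coprime.pow_left m ((Nat.Prime.coprime_iff_not_dvd hp.out).mpr hpN)
  constructor
  · obtain ⟨K, hKp, m, hKm⟩ := PCompl.exists_pComplement p hsol
    have horbK : MulAction.orbit ↥K a = MulAction.orbit H a :=
      PCompl.orbit_subgroup_eq a K (by rw [hKm]; exact hcopN m)
    have htrans : ∀ h : H, ∃ x ∈ K, ρ x a = ρ h a := by
      intro h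
      have : ρ h a ∈ MulAction.orbit ↥K a := by rw [horbK]; exact ⟨h, rfl⟩
      obtain ⟨x, hx⟩ := this
      exact ⟨(x : H), x.2, hx⟩
    have hKk : ((Nat.card K : ℕ) : k) ≠ 0 := by
      rw [Ne, CharP.cast_eq_zero_iff k p]; exact hKp
    obtain ⟨τ, hτ, -⟩ := core ρ a K hKk htrans hspan
    have hle : ρ.invariants ≤ Submodule.span k {τ} := by
      intro v hv
      exact hτ v (fun x _ => (Representation.mem_invariants ρ v).mp hv x)
    calc Module.finrank k ρ.invariants ≤ Module.finrank k (Submodule.span k {τ}) :=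
          Submodule.finrank_mono hle
      _ ≤ 1 := (finrank_span_le_card ({τ} : Set V)).trans (by simp)
  · intro b hcop h
    obtain ⟨T, hT⟩ : ∃ T, T = MulAction.stabilizer H b := ⟨_, rfl⟩
    have hTidx : T.index = (MulAction.orbit H b).ncard := by
      rw [hT]; exact MulAction.index_stabilizer H b
    have hMcard : Nat.card {u : V | ∃ h : H, ρ h b = u} = (MulAction.orbit H b).ncard := by
      rw [horb b, Nat.card_coe_set_eq]
    rw [hNcard, hMcard] at hcop
    have horbT : MulAction.orbit ↥T a = MulAction.orbit H a :=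
      PCompl.orbit_subgroup_eq a T (by rw [hTidx]; exact hcop.symm)
    have hsolT : IsPSolvable p ↥T :=
      Cfsg.Agent.Lib.Helper1.PSolvSub.isPSolvable_subgroup hsol T
    obtain ⟨KT, hKTp, m, hKTm⟩ := PCompl.exists_pComplement p hsolT
    have horbKT : MulAction.orbit ↥KT a = MulAction.orbit ↥T a :=
      PCompl.orbit_subgroup_eq a KT (by rw [hKTm, horbT]; exact hcopN m)
    obtain ⟨K', hK'⟩ : ∃ K' : Subgroup H, K' = KT.map T.subtype := ⟨_, rfl⟩
    have hK'card : Nat.card K' = Nat.card KT := by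
      rw [hK']; exact Subgroup.card_map_of_injective T.subtype_injective
    have hK'k : ((Nat.card K' : ℕ) : k) ≠ 0 := by
      rw [hK'card, Ne, CharP.cast_eq_zero_iff k p]; exact hKTp
    have htrans : ∀ h : H, ∃ x ∈ K', ρ x a = ρ h a := by
      intro h
      have : ρ h a ∈ MulAction.orbit ↥KT a := by rw [horbKT, horbT]; exact ⟨h, rfl⟩
      obtain ⟨x, hx⟩ := this
      refine ⟨((x : ↥T) : H), ?_, hx⟩
      rw [hK']; exact ⟨(x : ↥T), x.2, rfl⟩
    obtain ⟨τ, hτ, hτinv⟩ := core ρ a K' hK'k htrans hspan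
    have hbfix : ∀ x ∈ K', ρ x b = b := by
      intro x hx
      rw [hK'] at hx
      obtain ⟨t, -, rfl⟩ := Subgroup.mem_map.mp hx
      have h1 := hT.le t.2
      rw [MulAction.mem_stabilizer_iff] at h1
      exact h1
    obtain ⟨c, rfl⟩ := Submodule.mem_span_singleton.mp (hτ b hbfix)
    rw [map_smul, hτinv hNk h]

end Cfsg.Agent.Lib.Helper7.SpanOrbit
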