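import Cfsg.Prelude.Def_PLocal
import Mathlib

set_option autoImplicit false

namespace Cfsg.Agent.Lib.Helper7

open Cfsg
open scoped commutatorElement

variable {G : Type*} [Group G]

/-- `C_G(B/A)` for a normal subgroup `A`: the elements `z` with `[b, z] ∈ A` for all `b ∈ B`. -/
def centralizerMod (A B : Subgroup G) [hA : A.Normal] : Subgroup G where
  carrier := {z | ∀ b ∈ B, ⁅b, z⁆ ∈ A}
  one_mem' := by
    intro b _
    rw [commutatorElement_one_right]
    exact A.one_mem
  mul_mem' := by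
    intro z w hz hw b hb
    have e : ⁅b, z * w⁆ = ⁅b, z⁆ * (z * ⁅b, w⁆ * z⁻¹) := by
      simp only [commutatorElement_def]; group
    rw [e]
    exact A.mul_mem (hz b hb) (hA.conj_mem _ (hw b hb) z)
  inv_mem' := by
    intro z hz b hb
    have e : ⁅b, z⁻¹⁆ = z⁻¹ * ⁅b, z⁆⁻¹ * z⁻¹⁻¹ := by
      simp only [commutatorElement_def]; group
    rw [e]
    exact hA.conj_mem _ (A.inv_mem (hz b hb)) z⁻¹

theorem mem_centralizerMod {A B : Subgroup G} [A.Normal] {z : G} :
    z ∈ centralizerMod A B ↔ ∀ b ∈ B, ⁅b, z⁆ ∈ A := Iff.rfl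

theorem le_centralizerMod_iff {A B L : Subgroup G} [A.Normal] :
    L ≤ centralizerMod A B ↔ ⁅B, L⁆ ≤ A := by
  rw [Subgroup.commutator_le]
  constructor
  · intro h b hb z hz
    exact h hz b hb
  · intro h z hz b hb
    exact h b hb z hz

theorem commutator_centralizerMod_le (A B : Subgroup G) [A.Normal] :
    ⁅B, centralizerMod A B⁆ ≤ A :=
  le_centralizerMod_iff.mp le_rfl

instance centralizerMod_normal (A B : Subgroup G) [hA : A.Normal] [hB : B.Normal] :
    (centralizerMod A B).Normal := by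
  constructor
  intro z hz g b hb
  have e : ⁅b, g * z * g⁻¹⁆ = g * ⁅g⁻¹ * b * g⁻¹⁻¹, z⁆ * g⁻¹ := by
    simp only [commutatorElement_def]; group
  rw [e]
  exact hA.conj_mem _ (hz _ (hB.conj_mem b hb g⁻¹)) g

theorem iterCommutator_mono {R S A L : Subgroup G} (hRS : R ≤ S) (hAL : A ≤ L) (n : ℕ) :
    iterCommutator R A n ≤ iterCommutator S L n := by
  induction n with
  | zero => exact hRS
  | succ n ih =>
    show ⁅iterCommutator R A n, A⁆ ≤ ⁅iterCommutator S L n, L⁆
    exact Subgroup.commutator_mono ih hAL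

theorem iterCommutator_succ' (R A : Subgroup G) (n : ℕ) :
    iterCommutator R A (n + 1) = iterCommutator ⁅R, A⁆ A n := by
  induction n with
  | zero => rfl
  | succ n ih =>
    show ⁅iterCommutator R A (n + 1), A⁆ = ⁅iterCommutator ⁅R, A⁆ A n, A⁆
    rw [ih]

theorem iterCommutator_bot (A : Subgroup G) (n : ℕ) :
    iterCommutator (⊥ : Subgroup G) A n = ⊥ := by
  induction n with
  | zero => rfl
  | succ n ih =>
    show ⁅iterCommutator ⊥ A n, A⁆ = ⊥
    rw [ih]
    exact Subgroup.commutator_bot_left _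

/-- A subgroup stabilizing a chain `⊥ = A 0 ≤ ... ≤ A n` acts nilpotently on the top term. -/
theorem iterCommutator_eq_bot_of_chain (N : Subgroup G) (n : ℕ) (A : Fin (n + 1) → Subgroup G)
    (h0 : A 0 = ⊥) (hcent : ∀ i : Fin n, ⁅A i.succ, N⁆ ≤ A i.castSucc) :
    iterCommutator (A (Fin.last n)) N n = ⊥ := by
  have key : ∀ j : ℕ, ∀ hj : j < n + 1, iterCommutator (A ⟨j, hj⟩) N j = ⊥ := by
    intro j
    induction j with
    | zero =>
      intro hj
      exact h0
    | succ j ih =>
      intro hj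
      rw [iterCommutator_succ']
      have h1 := hcent ⟨j, by omega⟩
      have h2 := iterCommutator_mono (A := N) (L := N) h1 le_rfl j
      rw [Fin.castSucc_mk, ih] at h2
      exact le_bot_iff.mp h2
  exact key n (Nat.lt_succ_self n)

end Cfsg.Agent.Lib.Helper7
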