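import Mathlib
import Cfsg.Prelude.Def_Local
import Cfsg.Agent.Lib.Helper2.Components2
import Cfsg.Agent.Lib.Helper2.Components3

set_option autoImplicit false
set_option linter.style.haveILetI false
set_option linter.unusedSectionVars false

/-! An abstract criterion for `E(C_G(t))` to be a standard subgroup. -/

namespace Cfsg.Agent.Lib.Helper7.Std

open Cfsg

variable {G : Type*} [Group G]

/-- The normalizer of a subgroup normalizes its centralizer. -/
theorem normalizer_le_normalizer_centralizer (H : Subgroup G) :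
    Subgroup.normalizer (H : Set G) ≤
      Subgroup.normalizer ((Subgroup.centralizer (H : Set G) : Subgroup G) : Set G) := by
  have key : ∀ g : G, g ∈ Subgroup.normalizer (H : Set G) →
      ∀ z : G, z ∈ Subgroup.centralizer (H : Set G) →
        g * z * g⁻¹ ∈ Subgroup.centralizer (H : Set G) := by
    intro g hg z hz
    rw [Subgroup.mem_normalizer_iff] at hg
    rw [Subgroup.mem_centralizer_iff] at hz ⊢
    intro y hy
    have hy' : g⁻¹ * y * g ∈ H := by
      rw [hg (g⁻¹ * y * g)]
      have : g * (g⁻¹ * y * g) * g⁻¹ = y := by group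
      rw [this]; exact hy
    have h1 := hz _ hy'
    calc y * (g * z * g⁻¹) = g * ((g⁻¹ * y * g) * z) * g⁻¹ := by group
      _ = g * (z * (g⁻¹ * y * g)) * g⁻¹ := by rw [h1]
      _ = g * z * g⁻¹ * y := by group
  intro g hg
  rw [Subgroup.mem_normalizer_iff]
  intro z
  constructor
  · exact key g hg z
  · intro hz
    have hg' : g⁻¹ ∈ Subgroup.normalizer (H : Set G) := inv_mem hg
    have := key g⁻¹ hg' _ hz
    have e : g⁻¹ * (g * z * g⁻¹) * g⁻¹⁻¹ = z := by group
    rwa [e] at this

theorem standard_of_data [Finite G] (t : G) (C : Subgroup G)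
    (hCdef : C = Subgroup.centralizer ({t} : Set G))
    (N : Subgroup ↥C) [hNn : N.Normal]
    (hN : IsQuasisimple ↥N)
    (hcomm : ∀ a ∈ Subgroup.centralizer ((N.map C.subtype : Subgroup G) : Set G),
      ∀ b ∈ Subgroup.centralizer ((N.map C.subtype : Subgroup G) : Set G), a * b = b * a)
    (ht1 : t ≠ 1) (ht2 : t * t = 1)
    (hinv : ∀ x ∈ Subgroup.centralizer ((N.map C.subtype : Subgroup G) : Set G),
      x * x = 1 → x = 1 ∨ x = t) :
    IsStandardSubgroup ((layer ↥C).map C.subtype) := by
  classical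
  set L0 : Subgroup G := N.map C.subtype with hL0
  set K0 : Subgroup G := Subgroup.centralizer (L0 : Set G) with hK0
  have hcompN : IsComponent N := ⟨Subgroup.Normal.isSubnormal hNn, hN⟩
  have hNnc : ⁅N, N⁆ ≠ ⊥ := Cfsg.Agent.Lib.Helper2.isComponent_not_commutative hcompN
  have hL0C : L0 ≤ C := Subgroup.map_subtype_le N
  have hmemL0 : ∀ n : ↥C, n ∈ N → (n : G) ∈ L0 := fun n hn => ⟨n, hn, rfl⟩
  -- t lies in K0
  have htK : t ∈ K0 := by
    rw [hK0, Subgroup.mem_centralizer_iff]
    intro y hy
    have := hL0C hy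
    rw [hCdef, Subgroup.mem_centralizer_singleton_iff] at this
    exact this
  -- the layer of C is N
  have hlayer : layer ↥C = N := by
    apply le_antisymm
    · unfold layer
      apply sSup_le
      intro K' hK'
      rcases Cfsg.Agent.Lib.Helper2.isComponent_eq_or_commutator_eq_bot hK' hcompN with h | h
      · rw [h]
      · exfalso
        apply Cfsg.Agent.Lib.Helper2.isComponent_not_commutative hK'
        rw [Subgroup.commutator_eq_bot_iff_le_centralizer] at h ⊢
        have hK'K0 : ∀ a ∈ K', (a : G) ∈ K0 := by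
          intro a ha
          rw [hK0, Subgroup.mem_centralizer_iff]
          rintro y ⟨n, hn, rfl⟩
          have h1 := h ha
          rw [Subgroup.mem_centralizer_iff] at h1
          exact congrArg Subtype.val (h1 n hn)
        intro a ha
        rw [Subgroup.mem_centralizer_iff]
        intro b hb
        exact Subtype.ext (hcomm _ (hK'K0 b hb) _ (hK'K0 a ha))
    · exact Cfsg.Agent.Lib.Helper2.le_layer hcompN
  rw [hlayer]
  change IsStandardSubgroup L0
  -- C normalizes L0
  have hCnorm : C ≤ Subgroup.normalizer (L0 : Set G) := by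
    have key : ∀ c : G, c ∈ C → ∀ x : G, x ∈ L0 → c * x * c⁻¹ ∈ L0 := by
      rintro c hc x ⟨n, hn, rfl⟩
      have h1 : (⟨c, hc⟩ : ↥C) * n * (⟨c, hc⟩ : ↥C)⁻¹ ∈ N := hNn.conj_mem n hn ⟨c, hc⟩
      exact hmemL0 _ h1
    intro c hc
    rw [Subgroup.mem_normalizer_iff]
    intro x
    constructor
    · exact key c hc x
    · intro hx
      have := key c⁻¹ (inv_mem hc) _ hx
      have e : c⁻¹ * (c * x * c⁻¹) * c⁻¹⁻¹ = x := by group
      rwa [e] at this
  -- involutions of K0
  have hinvK : ∀ x ∈ K0, x * x = 1 → x ≠ 1 → x = t := by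
    intro x hx h2 h1
    rcases hinv x hx h2 with h | h
    · exact absurd h h1
    · exact h
  -- N(K0) = C
  have hNK : Subgroup.normalizer (K0 : Set G) = C := by
    apply le_antisymm
    · intro g hg
      rw [Subgroup.mem_normalizer_iff] at hg
      have h1 : g * t * g⁻¹ ∈ K0 := (hg t).1 htK
      have h2 : g * t * g⁻¹ * (g * t * g⁻¹) = 1 := by
        calc g * t * g⁻¹ * (g * t * g⁻¹) = g * (t * t) * g⁻¹ := by group
          _ = 1 := by rw [ht2]; group
      have h3 : g * t * g⁻¹ ≠ 1 := by
        intro h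
        apply ht1
        have : t = g⁻¹ * (g * t * g⁻¹) * g := by group
        rw [this, h]; group
      have h4 := hinvK _ h1 h2 h3
      rw [hCdef, Subgroup.mem_centralizer_singleton_iff]
      calc g * t = g * t * g⁻¹ * g := by group
        _ = t * g := by rw [h4]
    · exact hCnorm.trans (normalizer_le_normalizer_centralizer L0)
  have hNL : Subgroup.normalizer (L0 : Set G) = C := by
    apply le_antisymm
    · calc Subgroup.normalizer (L0 : Set G) ≤ Subgroup.normalizer (K0 : Set G) :=
          normalizer_le_normalizer_centralizer L0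
        _ = C := hNK
    · exact hCnorm
  -- L0 is not commutative
  have hL0nc : ¬ ∀ a ∈ L0, ∀ b ∈ L0, a * b = b * a := by
    intro h
    apply hNnc
    rw [Subgroup.commutator_eq_bot_iff_le_centralizer]
    intro a ha
    rw [Subgroup.mem_centralizer_iff]
    intro b hb
    exact Subtype.ext (h _ (hmemL0 b hb) _ (hmemL0 a ha))
  have hqs : IsQuasisimple ↥L0 :=
    Cfsg.Agent.Lib.Helper2.isQuasisimple_of_mulEquiv
      (Subgroup.equivMapOfInjective N C.subtype (Subgroup.subtype_injective C)).symm hN
  haveI : Fact (Nat.Prime 2) := ⟨Nat.prime_two⟩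
  refine ⟨hqs, ⟨?_, ?_⟩, ?_, ?_⟩
  · -- even order
    have ho : orderOf (⟨t, htK⟩ : ↥K0) = 2 := by
      rw [Subgroup.orderOf_mk]
      exact orderOf_eq_prime (by rw [pow_two]; exact ht2) ht1
    have := orderOf_dvd_natCard (⟨t, htK⟩ : ↥K0)
    rw [ho] at this
    exact even_iff_two_dvd.2 this
  · intro g hg
    rw [← Nat.not_even_iff_odd]
    intro hev
    have h2 : 2 ∣ Nat.card ↥(K0 ⊓ K0.map (MulAut.conj g).toMonoidHom) := even_iff_two_dvd.1 hev
    obtain ⟨x, hx⟩ := exists_prime_orderOf_dvd_card' 2 h2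
    have hx1 : (x : G) ≠ 1 := by
      intro h
      have : x = 1 := Subtype.ext h
      rw [this, orderOf_one] at hx
      omega
    have hx2 : (x : G) * (x : G) = 1 := by
      have : x ^ 2 = 1 := by rw [← hx]; exact pow_orderOf_eq_one x
      rw [pow_two] at this
      exact congrArg Subtype.val this
    have hxm := x.2
    rw [Subgroup.mem_inf] at hxm
    obtain ⟨hxa, y, hy, hyx⟩ := hxm
    have hxt : (x : G) = t := hinvK _ hxa hx2 hx1
    have hyx' : g * y * g⁻¹ = (x : G) := by
      rw [← hyx]; rfl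
    have hy1 : y ≠ 1 := by
      intro h
      apply hx1
      rw [← hyx', h]; group
    have hy2 : y * y = 1 := by
      have : y = g⁻¹ * (x : G) * g := by rw [← hyx']; group
      calc y * y = g⁻¹ * ((x : G) * (x : G)) * g := by rw [this]; group
        _ = 1 := by rw [hx2]; group
    have hyt : y = t := hinvK _ hy hy2 hy1
    apply hg
    rw [hNK, hCdef, Subgroup.mem_centralizer_singleton_iff]
    rw [hyt, hxt] at hyx'
    calc g * t = g * t * g⁻¹ * g := by group
      _ = t * g := by rw [hyx']
  · intro g _ hbot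
    apply hL0nc
    rw [Subgroup.commutator_comm, Subgroup.commutator_eq_bot_iff_le_centralizer] at hbot
    intro a ha b hb
    have h1 : g * a * g⁻¹ ∈ K0 := hbot ⟨a, ha, rfl⟩
    have h2 : g * b * g⁻¹ ∈ K0 := hbot ⟨b, hb, rfl⟩
    have h3 := hcomm _ h1 _ h2
    calc a * b = g⁻¹ * ((g * a * g⁻¹) * (g * b * g⁻¹)) * g := by group
      _ = g⁻¹ * ((g * b * g⁻¹) * (g * a * g⁻¹)) * g := by rw [h3]
      _ = b * a := by group
  · rw [hNL, hNK]

end Cfsg.Agent.Lib.Helper7.Std
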