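import Mathlib

set_option autoImplicit false
set_option linter.unusedSectionVars false

/-! Block matrices `diag(A, 1)` in `Fin (m+1)`, the involution `diag(-1,…,-1,1)`, and centralizers of
transvections. -/

namespace Cfsg.Agent.Lib.Helper7.Std

open Matrix

variable {F : Type*} [Field F] {m : ℕ}

/-- Block form `diag(A, d)`: last row and last column vanish off the corner. -/
def IsBlk (g : Matrix (Fin (m + 1)) (Fin (m + 1)) F) : Prop :=
  (∀ j : Fin m, g (Fin.last m) j.castSucc = 0) ∧ (∀ i : Fin m, g i.castSucc (Fin.last m) = 0)

/-- The diagonal of `diag(-1,…,-1,1)`. -/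
def tvec (F : Type*) [Field F] (m : ℕ) : Fin (m + 1) → F :=
  fun i => if i = Fin.last m then 1 else -1

@[simp] theorem tvec_last : tvec F m (Fin.last m) = 1 := by simp [tvec]

@[simp] theorem tvec_castSucc (i : Fin m) : tvec F m i.castSucc = -1 := by
  simp [tvec, Fin.castSucc_ne_last]

theorem comm_tvec_iff (h2 : (2 : F) ≠ 0) (g : Matrix (Fin (m + 1)) (Fin (m + 1)) F) :
    g * diagonal (tvec F m) = diagonal (tvec F m) * g ↔ IsBlk g := by
  constructor
  · intro h
    have key : ∀ i j, g i j * tvec F m j = tvec F m i * g i j := by
      intro i j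
      have := congrFun (congrFun h i) j
      rwa [mul_diagonal, diagonal_mul] at this
    constructor
    · intro j
      have h1 := key (Fin.last m) j.castSucc
      rw [tvec_last, tvec_castSucc] at h1
      have h3 : (2 : F) * g (Fin.last m) j.castSucc = 0 := by linear_combination (-1 : F) * h1
      exact (mul_eq_zero.1 h3).resolve_left h2
    · intro i
      have h1 := key i.castSucc (Fin.last m)
      rw [tvec_last, tvec_castSucc] at h1
      have h3 : (2 : F) * g i.castSucc (Fin.last m) = 0 := by linear_combination h1
      exact (mul_eq_zero.1 h3).resolve_left h2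
  · rintro ⟨h1, h2'⟩
    ext i j
    rw [mul_diagonal, diagonal_mul]
    induction i using Fin.lastCases with
    | last =>
      induction j using Fin.lastCases with
      | last => rw [tvec_last]; ring
      | cast j => rw [h1 j]; ring
    | cast i =>
      induction j using Fin.lastCases with
      | last => rw [h2' i]; ring
      | cast j => rw [tvec_castSucc, tvec_castSucc]; ring

theorem det_of_last_row (M : Matrix (Fin (m + 1)) (Fin (m + 1)) F)
    (h : ∀ j : Fin m, M (Fin.last m) j.castSucc = 0) :
    M.det = M (Fin.last m) (Fin.last m) * (M.submatrix Fin.castSucc Fin.castSucc).det := by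
  rw [Matrix.det_succ_row M (Fin.last m), Fin.sum_univ_castSucc]
  have h0 : ∑ j : Fin m, (-1 : F) ^ ((Fin.last m : ℕ) + (j.castSucc : ℕ)) *
      M (Fin.last m) j.castSucc *
      (M.submatrix (Fin.last m).succAbove j.castSucc.succAbove).det = 0 := by
    apply Finset.sum_eq_zero
    intro j _
    rw [h j]; ring
  rw [h0, zero_add, Fin.succAbove_last]
  have : (-1 : F) ^ ((Fin.last m : ℕ) + (Fin.last m : ℕ)) = 1 := by
    rw [← two_mul, pow_mul]; simp
  rw [this, one_mul]

theorem mul_last_last (g h : Matrix (Fin (m + 1)) (Fin (m + 1)) F) (hg : IsBlk g) :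
    (g * h) (Fin.last m) (Fin.last m) =
      g (Fin.last m) (Fin.last m) * h (Fin.last m) (Fin.last m) := by
  rw [Matrix.mul_apply, Fin.sum_univ_castSucc]
  have : ∑ k : Fin m, g (Fin.last m) k.castSucc * h k.castSucc (Fin.last m) = 0 := by
    apply Finset.sum_eq_zero
    intro k _
    rw [hg.1 k, zero_mul]
  rw [this, zero_add]

/-- The block matrix `diag(A, 1)`. -/
def blk (A : Matrix (Fin m) (Fin m) F) : Matrix (Fin (m + 1)) (Fin (m + 1)) F :=
  fun i j => Fin.lastCases (Fin.lastCases (1 : F) (fun _ => 0) j)
    (fun i' => Fin.lastCases (0 : F) (fun j' => A i' j') j) i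

@[simp] theorem blk_last_last (A : Matrix (Fin m) (Fin m) F) :
    blk A (Fin.last m) (Fin.last m) = 1 := by simp [blk]

@[simp] theorem blk_last_castSucc (A : Matrix (Fin m) (Fin m) F) (j : Fin m) :
    blk A (Fin.last m) j.castSucc = 0 := by simp [blk]

@[simp] theorem blk_castSucc_last (A : Matrix (Fin m) (Fin m) F) (i : Fin m) :
    blk A i.castSucc (Fin.last m) = 0 := by simp [blk]

@[simp] theorem blk_castSucc_castSucc (A : Matrix (Fin m) (Fin m) F) (i j : Fin m) :
    blk A i.castSucc j.castSucc = A i j := by simp [blk]

theorem blk_mul (A B : Matrix (Fin m) (Fin m) F) : blk (A * B) = blk A * blk B := by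
  ext i j
  rw [Matrix.mul_apply, Fin.sum_univ_castSucc]
  induction i using Fin.lastCases with
  | last =>
    induction j using Fin.lastCases with
    | last => simp
    | cast j => simp
  | cast i =>
    induction j using Fin.lastCases with
    | last => simp
    | cast j => simp [Matrix.mul_apply]

theorem blk_one : blk (1 : Matrix (Fin m) (Fin m) F) = 1 := by
  ext i j
  induction i using Fin.lastCases with
  | last =>
    induction j using Fin.lastCases with
    | last => simp
    | cast j =>
      rw [blk_last_castSucc, Matrix.one_apply_ne (Fin.castSucc_ne_last j).symm]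
  | cast i =>
    induction j using Fin.lastCases with
    | last =>
      rw [blk_castSucc_last, Matrix.one_apply_ne (Fin.castSucc_ne_last i)]
    | cast j =>
      rw [blk_castSucc_castSucc, Matrix.one_apply, Matrix.one_apply]
      simp only [Fin.castSucc_inj]

theorem submatrix_blk (A : Matrix (Fin m) (Fin m) F) :
    (blk A).submatrix Fin.castSucc Fin.castSucc = A := by
  ext i j
  simp

theorem det_blk (A : Matrix (Fin m) (Fin m) F) : (blk A).det = A.det := by
  rw [det_of_last_row _ (blk_last_castSucc A), blk_last_last, one_mul, submatrix_blk]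

theorem isBlk_blk (A : Matrix (Fin m) (Fin m) F) : IsBlk (blk A) :=
  ⟨blk_last_castSucc A, blk_castSucc_last A⟩

theorem blk_submatrix (g : Matrix (Fin (m + 1)) (Fin (m + 1)) F) (hg : IsBlk g)
    (h1 : g (Fin.last m) (Fin.last m) = 1) :
    blk (g.submatrix Fin.castSucc Fin.castSucc) = g := by
  ext i j
  induction i using Fin.lastCases with
  | last =>
    induction j using Fin.lastCases with
    | last => rw [blk_last_last, h1]
    | cast j => rw [blk_last_castSucc, hg.1 j]
  | cast i =>
    induction j using Fin.lastCases with
    | last => rw [blk_castSucc_last, hg.2 i]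
    | cast j => rw [blk_castSucc_castSucc]; rfl

theorem blk_injective {A B : Matrix (Fin m) (Fin m) F} (h : blk A = blk B) : A = B := by
  rw [← submatrix_blk A, h, submatrix_blk]

/-- A matrix commuting with all transvections `1 + E_{ij}` (`i ≠ j < m`) is `diag(a,…,a,d)`. -/
theorem diag_of_comm_transvections (hm : 2 ≤ m) (g : Matrix (Fin (m + 1)) (Fin (m + 1)) F)
    (h : ∀ i j : Fin m, i ≠ j →
      g * transvection i.castSucc j.castSucc (1 : F) =
        transvection i.castSucc j.castSucc (1 : F) * g) :
    ∃ a d : F, g = diagonal (fun k => if k = Fin.last m then d else a) := by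
  have : Nontrivial (Fin m) := Fin.nontrivial_iff_two_le.2 hm
  have hE : ∀ i j : Fin m, i ≠ j →
      g * single i.castSucc j.castSucc (1 : F) = single i.castSucc j.castSucc (1 : F) * g := by
    intro i j hij
    have := h i j hij
    rw [transvection, mul_add, add_mul, mul_one, one_mul] at this
    exact add_left_cancel this
  have hcol : ∀ i : Fin m, ∀ k : Fin (m + 1), k ≠ i.castSucc → g k i.castSucc = 0 := by
    intro i k hk
    obtain ⟨j, hj⟩ := exists_ne i
    have h1 := congrFun (congrFun (hE i j hj.symm) k) j.castSucc
    rw [mul_single_apply_same, single_mul_apply_of_ne _ _ _ _ _ hk, mul_one] at h1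
    exact h1
  have hrow : ∀ j : Fin m, ∀ l : Fin (m + 1), l ≠ j.castSucc → g j.castSucc l = 0 := by
    intro j l hl
    obtain ⟨i, hi⟩ := exists_ne j
    have h1 := congrFun (congrFun (hE i j hi) i.castSucc) l
    rw [mul_single_apply_of_ne _ _ _ _ _ hl, single_mul_apply_same, one_mul] at h1
    exact h1.symm
  have hdiag : ∀ i j : Fin m, i ≠ j → g i.castSucc i.castSucc = g j.castSucc j.castSucc := by
    intro i j hij
    have h1 := congrFun (congrFun (hE i j hij) i.castSucc) j.castSucc
    rw [mul_single_apply_same, single_mul_apply_same, mul_one, one_mul] at h1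
    exact h1
  obtain ⟨i0⟩ : Nonempty (Fin m) := inferInstance
  refine ⟨g i0.castSucc i0.castSucc, g (Fin.last m) (Fin.last m), ?_⟩
  ext k l
  rw [diagonal_apply]
  by_cases hkl : k = l
  · subst hkl
    rw [if_pos rfl]
    induction k using Fin.lastCases with
    | last => rw [if_pos rfl]
    | cast i =>
      rw [if_neg (Fin.castSucc_ne_last i)]
      by_cases hi : i = i0
      · rw [hi]
      · exact hdiag i i0 hi
  · rw [if_neg hkl]
    induction k using Fin.lastCases with
    | last =>
      induction l using Fin.lastCases with
      | last => exact absurd rfl hkl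
      | cast j => exact hcol j _ (Fin.castSucc_ne_last j).symm
    | cast i => exact hrow i l (fun h' => hkl h'.symm)

end Cfsg.Agent.Lib.Helper7.Std
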