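import Mathlib
import Cfsg.Agent.Lib.Helper7.StdA
import Cfsg.Agent.Lib.Helper7.StdB
import Cfsg.Agent.S0249

set_option autoImplicit false
set_option linter.style.haveILetI false
set_option linter.unusedSectionVars false
set_option maxHeartbeats 1000000

/-! `E(C(t))` is standard in `SL_{m+1}(F)`, `t = diag(-1,…,-1,1)`, `m ≥ 6` even, `F` finite of odd
order. -/

namespace Cfsg.Agent.Lib.Helper7.Std

open Cfsg Matrix

variable {F : Type*} [Field F] [Fintype F] [DecidableEq F] {m : ℕ}

theorem two_ne_zero_of_odd_card (hF : Odd (Fintype.card F)) : (2 : F) ≠ 0 := by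
  intro h2
  haveI : CharP F 2 := CharTwo.of_one_ne_zero_of_two_eq_zero one_ne_zero h2
  have h := FiniteField.even_card_of_char_two (ringChar.eq F 2)
  rcases hF with ⟨k, hk⟩
  omega

theorem isQuasisimple_SL (hm : 3 ≤ m) : IsQuasisimple (Matrix.SpecialLinearGroup (Fin m) F) := by
  have h3 : 3 ≤ Fintype.card (Fin m) := by simpa using hm
  exact ⟨⟨Cfsg.Agent.Lib.Helper4.SL_commutator_eq_top h3⟩, Cfsg.Agent.S0249.psl_simple h3⟩

/-- The block embedding `A ↦ diag(A, 1)` of `SL_m` into `SL_{m+1}`. -/
def emb (F : Type*) [Field F] (m : ℕ) :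
    Matrix.SpecialLinearGroup (Fin m) F →* Matrix.SpecialLinearGroup (Fin (m + 1)) F where
  toFun A := ⟨blk (A : Matrix (Fin m) (Fin m) F), by rw [det_blk]; exact A.2⟩
  map_one' := Subtype.ext (by
    change blk ((1 : Matrix.SpecialLinearGroup (Fin m) F) : Matrix (Fin m) (Fin m) F) = _
    rw [Matrix.SpecialLinearGroup.coe_one, blk_one]; rfl)
  map_mul' A B := Subtype.ext (by
    change blk ((A * B : Matrix.SpecialLinearGroup (Fin m) F) : Matrix (Fin m) (Fin m) F) = _
    rw [Matrix.SpecialLinearGroup.coe_mul, blk_mul]; rfl)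

theorem emb_coe (A : Matrix.SpecialLinearGroup (Fin m) F) :
    ((emb F m A : Matrix.SpecialLinearGroup (Fin (m + 1)) F) :
      Matrix (Fin (m + 1)) (Fin (m + 1)) F) = blk (A : Matrix (Fin m) (Fin m) F) := rfl

theorem standard_SL (hF : Odd (Fintype.card F)) (hm : 6 ≤ m) (hme : Even m)
    (t : Matrix.SpecialLinearGroup (Fin (m + 1)) F)
    (ht : (t : Matrix (Fin (m + 1)) (Fin (m + 1)) F) = Matrix.diagonal (tvec F m)) :
    IsStandardSubgroup
      ((layer ↥(Subgroup.centralizer ({t} : Set (Matrix.SpecialLinearGroup (Fin (m + 1)) F)))).map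
        (Subgroup.centralizer ({t} : Set (Matrix.SpecialLinearGroup (Fin (m + 1)) F))).subtype) := by
  classical
  have h2 : (2 : F) ≠ 0 := two_ne_zero_of_odd_card hF
  obtain ⟨C, hCdef⟩ : ∃ C : Subgroup (Matrix.SpecialLinearGroup (Fin (m + 1)) F),
      C = Subgroup.centralizer ({t} : Set (Matrix.SpecialLinearGroup (Fin (m + 1)) F)) := ⟨_, rfl⟩
  rw [← hCdef]
  have hmemC : ∀ g : Matrix.SpecialLinearGroup (Fin (m + 1)) F,
      g ∈ C ↔ IsBlk (g : Matrix (Fin (m + 1)) (Fin (m + 1)) F) := by
    intro g
    rw [hCdef, Subgroup.mem_centralizer_singleton_iff, ← comm_tvec_iff h2, ← ht]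
    constructor
    · intro h
      have := congrArg (fun x : Matrix.SpecialLinearGroup (Fin (m + 1)) F =>
        (x : Matrix (Fin (m + 1)) (Fin (m + 1)) F)) h
      simpa only [Matrix.SpecialLinearGroup.coe_mul] using this
    · intro h
      apply Subtype.ext
      rw [Matrix.SpecialLinearGroup.coe_mul, Matrix.SpecialLinearGroup.coe_mul]
      exact h
  -- the corner homomorphism
  let corner : ↥C →* F :=
    { toFun := fun c => ((c : Matrix.SpecialLinearGroup (Fin (m + 1)) F) :
        Matrix (Fin (m + 1)) (Fin (m + 1)) F) (Fin.last m) (Fin.last m)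
      map_one' := by
        change ((1 : Matrix.SpecialLinearGroup (Fin (m + 1)) F) :
          Matrix (Fin (m + 1)) (Fin (m + 1)) F) (Fin.last m) (Fin.last m) = 1
        rw [Matrix.SpecialLinearGroup.coe_one, Matrix.one_apply_eq]
      map_mul' := fun a b => by
        change (((a : Matrix.SpecialLinearGroup (Fin (m + 1)) F) * (b : _) :
          Matrix.SpecialLinearGroup (Fin (m + 1)) F) :
          Matrix (Fin (m + 1)) (Fin (m + 1)) F) (Fin.last m) (Fin.last m) = _
        rw [Matrix.SpecialLinearGroup.coe_mul]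
        exact mul_last_last _ _ ((hmemC a.1).1 a.2) }
  have hcorner : ∀ c : ↥C, corner c = ((c : Matrix.SpecialLinearGroup (Fin (m + 1)) F) :
        Matrix (Fin (m + 1)) (Fin (m + 1)) F) (Fin.last m) (Fin.last m) := fun _ => rfl
  obtain ⟨N, hNdef⟩ : ∃ N : Subgroup ↥C, N = corner.ker := ⟨_, rfl⟩
  haveI hNn : N.Normal := by rw [hNdef]; exact MonoidHom.normal_ker corner
  have hmemN : ∀ c : ↥C, c ∈ N ↔ ((c : Matrix.SpecialLinearGroup (Fin (m + 1)) F) :
        Matrix (Fin (m + 1)) (Fin (m + 1)) F) (Fin.last m) (Fin.last m) = 1 := by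
    intro c
    rw [hNdef, MonoidHom.mem_ker, hcorner]
  -- the isomorphism SL_m ≃ N
  let embC : Matrix.SpecialLinearGroup (Fin m) F →* ↥C :=
    (emb F m).codRestrict C (fun A => (hmemC _).2 (by rw [emb_coe]; exact isBlk_blk _))
  let embN : Matrix.SpecialLinearGroup (Fin m) F →* ↥N :=
    embC.codRestrict N (fun A => (hmemN _).2 (by
      change ((emb F m A : Matrix.SpecialLinearGroup (Fin (m + 1)) F) :
        Matrix (Fin (m + 1)) (Fin (m + 1)) F) (Fin.last m) (Fin.last m) = 1
      rw [emb_coe, blk_last_last]))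
  have hembN : ∀ A, (((embN A : ↥N) : ↥C) : Matrix.SpecialLinearGroup (Fin (m + 1)) F) =
      emb F m A := fun _ => rfl
  have hinj : Function.Injective embN := by
    intro A B hAB
    have h1 : emb F m A = emb F m B := by rw [← hembN A, ← hembN B, hAB]
    have h3 : blk (A : Matrix (Fin m) (Fin m) F) = blk (B : Matrix (Fin m) (Fin m) F) := by
      rw [← emb_coe, ← emb_coe, h1]
    exact Subtype.ext (blk_injective h3)
  have hsurj : Function.Surjective embN := by
    intro x
    have hg : IsBlk (((x : ↥C) : Matrix.SpecialLinearGroup (Fin (m + 1)) F) :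
        Matrix (Fin (m + 1)) (Fin (m + 1)) F) := (hmemC _).1 (x : ↥C).2
    have h1 := (hmemN (x : ↥C)).1 x.2
    have hdet : ((((x : ↥C) : Matrix.SpecialLinearGroup (Fin (m + 1)) F) :
        Matrix (Fin (m + 1)) (Fin (m + 1)) F).submatrix Fin.castSucc Fin.castSucc).det = 1 := by
      have h3 := det_of_last_row (((x : ↥C) : Matrix.SpecialLinearGroup (Fin (m + 1)) F) :
        Matrix (Fin (m + 1)) (Fin (m + 1)) F) hg.1
      rw [Matrix.SpecialLinearGroup.det_coe, h1, one_mul] at h3
      exact h3.symm
    refine ⟨⟨_, hdet⟩, ?_⟩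
    apply Subtype.ext
    apply Subtype.ext
    apply Matrix.SpecialLinearGroup.ext
    intro i j
    exact congrFun (congrFun (blk_submatrix _ hg h1) i) j
  let e : Matrix.SpecialLinearGroup (Fin m) F ≃* ↥N := MulEquiv.ofBijective embN ⟨hinj, hsurj⟩
  have hN : IsQuasisimple ↥N :=
    Cfsg.Agent.Lib.Helper2.isQuasisimple_of_mulEquiv e.symm (isQuasisimple_SL (by omega))
  -- shape of the centralizer of L0
  obtain ⟨K0, hK0⟩ : ∃ K0 : Subgroup (Matrix.SpecialLinearGroup (Fin (m + 1)) F),
      K0 = Subgroup.centralizer ((N.map C.subtype :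
        Subgroup (Matrix.SpecialLinearGroup (Fin (m + 1)) F)) :
        Set (Matrix.SpecialLinearGroup (Fin (m + 1)) F)) := ⟨_, rfl⟩
  have hshape : ∀ x ∈ K0,
      ∃ a d : F, (x : Matrix (Fin (m + 1)) (Fin (m + 1)) F) =
        diagonal (fun k => if k = Fin.last m then d else a) := by
    intro x hx
    apply diag_of_comm_transvections (by omega)
    intro i j hij
    have hne : i.castSucc ≠ j.castSucc := fun h => hij (Fin.castSucc_inj.1 h)
    have hTcoe : ((Matrix.SpecialLinearGroup.transvection hne (1 : F) :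
        Matrix.SpecialLinearGroup (Fin (m + 1)) F) : Matrix (Fin (m + 1)) (Fin (m + 1)) F) =
        Matrix.transvection i.castSucc j.castSucc (1 : F) := by
      rw [Matrix.SpecialLinearGroup.transvection_coe]; rfl
    have hTC : Matrix.SpecialLinearGroup.transvection hne (1 : F) ∈ C := by
      rw [hmemC, Matrix.SpecialLinearGroup.transvection_coe]
      constructor
      · intro k
        rw [Matrix.add_apply, Matrix.one_apply_ne (Fin.castSucc_ne_last k).symm, single_apply,
          if_neg (fun h => Fin.castSucc_ne_last i h.1), add_zero]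
      · intro k
        rw [Matrix.add_apply, Matrix.one_apply_ne (Fin.castSucc_ne_last k), single_apply,
          if_neg (fun h => Fin.castSucc_ne_last j h.2), add_zero]
    have hTN : (⟨_, hTC⟩ : ↥C) ∈ N := by
      rw [hmemN]
      change ((Matrix.SpecialLinearGroup.transvection hne (1 : F) :
        Matrix.SpecialLinearGroup (Fin (m + 1)) F) : Matrix (Fin (m + 1)) (Fin (m + 1)) F)
          (Fin.last m) (Fin.last m) = 1
      rw [Matrix.SpecialLinearGroup.transvection_coe, Matrix.add_apply, Matrix.one_apply_eq,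
        single_apply, if_neg (fun h => Fin.castSucc_ne_last i h.1), add_zero]
    have hTL : Matrix.SpecialLinearGroup.transvection hne (1 : F) ∈
        (N.map C.subtype : Subgroup (Matrix.SpecialLinearGroup (Fin (m + 1)) F)) :=
      ⟨⟨_, hTC⟩, hTN, rfl⟩
    rw [hK0, Subgroup.mem_centralizer_iff] at hx
    have h1 := hx _ hTL
    have h3 := congrArg (fun y : Matrix.SpecialLinearGroup (Fin (m + 1)) F =>
        (y : Matrix (Fin (m + 1)) (Fin (m + 1)) F)) h1
    simp only [Matrix.SpecialLinearGroup.coe_mul] at h3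
    rw [hTcoe] at h3
    exact h3.symm
  have hcomm : ∀ a ∈ K0, ∀ b ∈ K0, a * b = b * a := by
    intro a ha b hb
    obtain ⟨a1, d1, h1⟩ := hshape a ha
    obtain ⟨a2, d2, h3⟩ := hshape b hb
    apply Subtype.ext
    rw [Matrix.SpecialLinearGroup.coe_mul, Matrix.SpecialLinearGroup.coe_mul, h1, h3,
      diagonal_mul_diagonal, diagonal_mul_diagonal]
    congr 1
    funext k
    exact mul_comm _ _
  obtain ⟨i0⟩ : Nonempty (Fin m) := ⟨⟨0, by omega⟩⟩
  have ht1 : t ≠ 1 := by
    intro h
    have h1 : (t : Matrix (Fin (m + 1)) (Fin (m + 1)) F) i0.castSucc i0.castSucc = -1 := by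
      rw [ht, diagonal_apply_eq, tvec_castSucc]
    rw [h, Matrix.SpecialLinearGroup.coe_one, Matrix.one_apply_eq] at h1
    apply h2
    linear_combination h1
  have ht2 : t * t = 1 := by
    apply Subtype.ext
    rw [Matrix.SpecialLinearGroup.coe_mul, ht, diagonal_mul_diagonal,
      Matrix.SpecialLinearGroup.coe_one, ← diagonal_one]
    congr 1
    funext k
    induction k using Fin.lastCases with
    | last => rw [tvec_last, one_mul]
    | cast i => rw [tvec_castSucc]; ring
  have hinv : ∀ x ∈ K0, x * x = 1 → x = 1 ∨ x = t := by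
    intro x hx hxx
    obtain ⟨a, d, h1⟩ := hshape x hx
    have h3 := congrArg (fun y : Matrix.SpecialLinearGroup (Fin (m + 1)) F =>
        (y : Matrix (Fin (m + 1)) (Fin (m + 1)) F)) hxx
    simp only [Matrix.SpecialLinearGroup.coe_mul, Matrix.SpecialLinearGroup.coe_one] at h3
    rw [h1, diagonal_mul_diagonal] at h3
    have haa : a * a = 1 := by
      have := congrFun (congrFun h3 i0.castSucc) i0.castSucc
      rw [diagonal_apply_eq, Matrix.one_apply_eq, if_neg (Fin.castSucc_ne_last i0)] at this
      exact this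
    have hdet : a ^ m * d = 1 := by
      have h4 := Matrix.SpecialLinearGroup.det_coe x
      rw [h1, det_diagonal, Fin.prod_univ_castSucc, if_pos rfl] at h4
      have h5 : ∏ i : Fin m, (if i.castSucc = Fin.last m then d else a) = a ^ m := by
        have : ∀ i : Fin m, (if i.castSucc = Fin.last m then d else a) = a :=
          fun i => if_neg (Fin.castSucc_ne_last i)
        simp only [this, Finset.prod_const, Finset.card_univ, Fintype.card_fin]
      rw [h5] at h4
      exact h4
    rcases mul_self_eq_one_iff.1 haa with ha | ha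
    · left
      rw [ha, one_pow, one_mul] at hdet
      apply Subtype.ext
      rw [h1, ha, hdet, Matrix.SpecialLinearGroup.coe_one, ← diagonal_one]
      congr 1
      funext k
      split_ifs <;> rfl
    · right
      rw [ha, hme.neg_one_pow, one_mul] at hdet
      apply Subtype.ext
      rw [h1, ha, hdet, ht]
      rfl
  haveI : Finite (Matrix.SpecialLinearGroup (Fin (m + 1)) F) := inferInstance
  subst hK0
  exact standard_of_data t C hCdef N hN hcomm ht1 ht2 hinv

end Cfsg.Agent.Lib.Helper7.Std
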