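import Cfsg.Agent.Lib.Helper7.SylowGraph
import Cfsg.Agent.Lib.Helper7.AmbientCores
import Cfsg.Agent.S3058

set_option autoImplicit false

namespace Cfsg.Agent.Lib.Helper7

open Cfsg

section TypeLevel

variable {L : Type*} [Group L] [Finite L] {p : ℕ} [Fact p.Prime]

/-- Type-level: a proper subgroup `M ≥ K` containing the normalizers of all `p`-subgroups `A` with
`K < A ≤ M`, and with `p ∣ |M/K|`, gives a strongly `p`-embedded subgroup of `L/K`. -/
theorem not_chainConnected_quotient_of_local (K M : Subgroup L) [K.Normal] (hKp : IsPGroup p ↥K)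
    (hKM : K ≤ M) (hne : M ≠ ⊤)
    (ht : ∃ t ∈ M, t ∉ K ∧ ∃ k : ℕ, t ^ p ^ k = 1)
    (hloc : ∀ A : Subgroup L, K ≤ A → A ≤ M → IsPGroup p ↥A → A ≠ K →
      Subgroup.normalizer (A : Set L) ≤ M) :
    ¬ IsSylowChainConnected p (L ⧸ K) := by
  have hp : p.Prime := Fact.out
  have hπs : Function.Surjective (QuotientGroup.mk' K) := QuotientGroup.mk'_surjective K
  have hker : (QuotientGroup.mk' K).ker = K := QuotientGroup.ker_mk' K
  have hcm : (M.map (QuotientGroup.mk' K)).comap (QuotientGroup.mk' K) = M :=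
    Subgroup.comap_map_eq_self (by rw [hker]; exact hKM)
  have hne' : M.map (QuotientGroup.mk' K) ≠ ⊤ := by
    intro h
    apply hne
    rw [← hcm, h, Subgroup.comap_top]
  have hdiv : p ∣ Nat.card ↥(M.map (QuotientGroup.mk' K)) := by
    obtain ⟨t, htM, htK, k, hk⟩ := ht
    have h1 : (QuotientGroup.mk' K) t ∈ M.map (QuotientGroup.mk' K) :=
      Subgroup.mem_map_of_mem _ htM
    have h2 : (QuotientGroup.mk' K) t ≠ 1 := by
      intro h
      apply htK
      have : t ∈ (QuotientGroup.mk' K).ker := MonoidHom.mem_ker.mpr h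
      rwa [hker] at this
    have h3 : ((QuotientGroup.mk' K) t) ^ p ^ k = 1 := by rw [← map_pow, hk, map_one]
    obtain ⟨j, _, hj⟩ := (Nat.dvd_prime_pow hp).mp (orderOf_dvd_of_pow_eq_one h3)
    have hj0 : j ≠ 0 := by
      intro h0
      rw [h0, pow_zero, orderOf_eq_one_iff] at hj
      exact h2 hj
    have h4 : orderOf ((QuotientGroup.mk' K) t) ∣ Nat.card ↥(M.map (QuotientGroup.mk' K)) :=
      Subgroup.orderOf_dvd_natCard _ h1
    rw [hj] at h4
    exact (dvd_pow_self p hj0).trans h4
  have hloc' : NormalizersOfPSubgroupsLE p (M.map (QuotientGroup.mk' K)) := by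
    intro Ab hAbM hAbp hAbne
    have hKA : K ≤ Ab.comap (QuotientGroup.mk' K) :=
      hker.ge.trans (MonoidHom.ker_le_comap _ Ab)
    have hAM : Ab.comap (QuotientGroup.mk' K) ≤ M := by
      rw [← hcm]; exact Subgroup.comap_mono hAbM
    have hAp : IsPGroup p ↥(Ab.comap (QuotientGroup.mk' K)) :=
      hAbp.comap_of_ker_isPGroup (QuotientGroup.mk' K) (by rw [hker]; exact hKp)
    have hAne : Ab.comap (QuotientGroup.mk' K) ≠ K := by
      intro h
      apply hAbne
      rw [← Subgroup.map_comap_eq_self_of_surjective hπs Ab, h]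
      exact QuotientGroup.map_mk'_self K
    have hN := hloc _ hKA hAM hAp hAne
    intro nb hnb
    obtain ⟨n, rfl⟩ := hπs nb
    have h1 : n ∈ (Subgroup.normalizer (Ab : Set (L ⧸ K))).comap (QuotientGroup.mk' K) := hnb
    have h2 : n ∈ Subgroup.normalizer ((Ab.comap (QuotientGroup.mk' K) : Subgroup L) : Set L) :=
      Subgroup.le_normalizer_comap (QuotientGroup.mk' K) h1
    exact Subgroup.mem_map_of_mem _ (hN h2)
  rw [not_chainConnected_iff_classical]
  exact ⟨M.map (QuotientGroup.mk' K), hne', hdiv, fun g hg => classical_of_local hloc' hdiv g hg⟩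

/-- Type-level: if `L/K` has disconnected Sylow graph and `p ∣ |L/K|`, there is a smallest normal
subgroup `X ≥ K` of `L` with `p ∣ |X/K|`. -/
theorem exists_min_normal_quotient (K : Subgroup L) [K.Normal]
    (hcc : ¬ IsSylowChainConnected p (L ⧸ K)) (hpK : p ∣ K.index) :
    ∃ X : Subgroup L, K ≤ X ∧ X.Normal ∧ p ∣ K.relIndex X ∧
      ∀ Y : Subgroup L, K ≤ Y → Y.Normal → p ∣ K.relIndex Y → X ≤ Y := by
  have hπs : Function.Surjective (QuotientGroup.mk' K) := QuotientGroup.mk'_surjective K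
  have hker : (QuotientGroup.mk' K).ker = K := QuotientGroup.ker_mk' K
  have hcard : ∀ Y : Subgroup L, Nat.card ↥(Y.map (QuotientGroup.mk' K)) = K.relIndex Y := by
    intro Y
    rw [← Subgroup.relIndex_ker Y (QuotientGroup.mk' K), hker]
  have hpair : ∀ Y₁ Y₂ : Subgroup L, K ≤ Y₁ → Y₁.Normal → p ∣ K.relIndex Y₁ →
      K ≤ Y₂ → Y₂.Normal → p ∣ K.relIndex Y₂ → p ∣ K.relIndex (Y₁ ⊓ Y₂) := by
    intro Y₁ Y₂ hK1 hn1 hp1 hK2 hn2 hp2
    haveI : (Y₁.map (QuotientGroup.mk' K)).Normal := hn1.map _ hπs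
    haveI : (Y₂.map (QuotientGroup.mk' K)).Normal := hn2.map _ hπs
    have h := Cfsg.Agent.S3058.result p hcc (Y₁.map (QuotientGroup.mk' K))
      (Y₂.map (QuotientGroup.mk' K)) (by rw [hcard]; exact hp1) (by rw [hcard]; exact hp2)
    have hle : Y₁.map (QuotientGroup.mk' K) ⊓ Y₂.map (QuotientGroup.mk' K) ≤
        (Y₁ ⊓ Y₂).map (QuotientGroup.mk' K) := by
      intro z hz
      obtain ⟨hz1, hz2⟩ := Subgroup.mem_inf.mp hz
      obtain ⟨a, ha, rfl⟩ := hz1
      obtain ⟨b, hb, hab⟩ := hz2
      have h1 : a⁻¹ * b ∈ K := by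
        rw [← hker, MonoidHom.mem_ker, map_mul, map_inv, hab, inv_mul_cancel]
      have h2 : b ∈ Y₁ := by
        have e : b = a * (a⁻¹ * b) := by group
        rw [e]
        exact Y₁.mul_mem ha (hK1 h1)
      exact ⟨b, Subgroup.mem_inf.mpr ⟨h2, hb⟩, hab⟩
    rw [← hcard]
    exact h.trans (Subgroup.card_dvd_of_le hle)
  have htop : (⊤ : Subgroup L) ∈ {Y : Subgroup L | K ≤ Y ∧ Y.Normal ∧ p ∣ K.relIndex Y} :=
    ⟨le_top, inferInstance, by rw [Subgroup.relIndex_top_right]; exact hpK⟩
  obtain ⟨X, hX, hmin⟩ := Set.exists_min_image {Y : Subgroup L | K ≤ Y ∧ Y.Normal ∧ p ∣ K.relIndex Y}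
    (fun Y => Nat.card ↥Y) (Set.toFinite _) ⟨⊤, htop⟩
  obtain ⟨hKX, hXn, hpX⟩ := hX
  refine ⟨X, hKX, hXn, hpX, ?_⟩
  intro Y hKY hYn hpY
  have hn : (X ⊓ Y).Normal := by
    haveI := hXn
    haveI := hYn
    infer_instance
  have h2 : Nat.card ↥X ≤ Nat.card ↥(X ⊓ Y : Subgroup L) :=
    hmin (X ⊓ Y) ⟨le_inf hKX hKY, hn, hpair X Y hKX hXn hpX hKY hYn hpY⟩
  have h3 : X ⊓ Y = X := Subgroup.eq_of_le_of_card_ge inf_le_left h2
  exact inf_eq_left.mp h3

end TypeLevel

section Ambient

variable {G : Type*} [Group G] [Finite G] {p : ℕ} [Fact p.Prime]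

/-- Ambient form: a proper subgroup `M` of `N_G(H)` with the local property over `H` shows that
`N_G(H)/H` has disconnected Sylow graph. -/
theorem not_chainConnected_normalizer_quotient {H M : Subgroup G} (hHp : IsPGroup p ↥H)
    (hHM : H ≤ M) (hMN : M ≤ Subgroup.normalizer (H : Set G))
    (hne : M ≠ Subgroup.normalizer (H : Set G))
    (ht : ∃ t ∈ M, t ∉ H ∧ ∃ k : ℕ, t ^ p ^ k = 1)
    (hloc : ∀ A : Subgroup G, H ≤ A → A ≤ M → IsPGroup p ↥A → A ≠ H →
      Subgroup.normalizer (H : Set G) ⊓ Subgroup.normalizer (A : Set G) ≤ M) :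
    ¬ IsSylowChainConnected p (↥(Subgroup.normalizer (H : Set G)) ⧸
      H.subgroupOf (Subgroup.normalizer (H : Set G))) := by
  have hHN : H ≤ Subgroup.normalizer (H : Set G) := Subgroup.le_normalizer
  apply not_chainConnected_quotient_of_local (H.subgroupOf (Subgroup.normalizer (H : Set G)))
    (M.subgroupOf (Subgroup.normalizer (H : Set G)))
  · exact hHp.comap_of_injective _ (Subgroup.subtype_injective _)
  · exact Subgroup.comap_mono hHM
  · intro h
    apply hne
    exact le_antisymm hMN (Subgroup.subgroupOf_eq_top.mp h)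
  · obtain ⟨t, htM, htH, k, hk⟩ := ht
    refine ⟨⟨t, hMN htM⟩, Subgroup.mem_subgroupOf.mpr htM,
      fun h => htH (Subgroup.mem_subgroupOf.mp h), k, ?_⟩
    apply Subtype.ext
    simp [hk]
  · intro A' hKA hAM hAp hAne
    have h1 : H ≤ A'.map (Subgroup.normalizer (H : Set G)).subtype := by
      have := Subgroup.map_mono (f := (Subgroup.normalizer (H : Set G)).subtype) hKA
      rwa [Subgroup.subgroupOf_map_subtype, inf_of_le_left hHN] at this
    have h2 : A'.map (Subgroup.normalizer (H : Set G)).subtype ≤ M := by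
      have := Subgroup.map_mono (f := (Subgroup.normalizer (H : Set G)).subtype) hAM
      rw [Subgroup.subgroupOf_map_subtype] at this
      exact this.trans inf_le_left
    have h3 : IsPGroup p ↥(A'.map (Subgroup.normalizer (H : Set G)).subtype) := hAp.map _
    have h4 : A'.map (Subgroup.normalizer (H : Set G)).subtype ≠ H := by
      intro h
      apply hAne
      apply Subgroup.map_injective (Subgroup.subtype_injective (Subgroup.normalizer (H : Set G)))
      rw [Subgroup.subgroupOf_map_subtype, inf_of_le_left hHN]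
      exact h
    have h5 := hloc _ h1 h2 h3 h4
    intro n hn
    rw [Subgroup.mem_subgroupOf]
    apply h5
    refine Subgroup.mem_inf.mpr ⟨n.2, ?_⟩
    exact Subgroup.le_normalizer_map (Subgroup.normalizer (H : Set G)).subtype ⟨n, hn, rfl⟩

/-- Ambient form: the smallest normal subgroup of `N_G(H)` over `H` of index divisible by `p`. -/
theorem exists_min_normal_over {H : Subgroup G}
    (hcc : ¬ IsSylowChainConnected p (↥(Subgroup.normalizer (H : Set G)) ⧸
      H.subgroupOf (Subgroup.normalizer (H : Set G))))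
    (hpH : p ∣ H.relIndex (Subgroup.normalizer (H : Set G))) :
    ∃ X : Subgroup G, H ≤ X ∧ X ≤ Subgroup.normalizer (H : Set G) ∧
      Subgroup.normalizer (H : Set G) ≤ Subgroup.normalizer (X : Set G) ∧ p ∣ H.relIndex X ∧
      ∀ Y : Subgroup G, H ≤ Y → Y ≤ Subgroup.normalizer (H : Set G) →
        Subgroup.normalizer (H : Set G) ≤ Subgroup.normalizer (Y : Set G) → p ∣ H.relIndex Y →
        X ≤ Y := by
  have hHN : H ≤ Subgroup.normalizer (H : Set G) := Subgroup.le_normalizer
  obtain ⟨X', hKX, hXn, hpX, hmin⟩ := exists_min_normal_quotient (p := p)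
    (H.subgroupOf (Subgroup.normalizer (H : Set G))) hcc hpH
  haveI := hXn
  refine ⟨X'.map (Subgroup.normalizer (H : Set G)).subtype, ?_, Subgroup.map_subtype_le _,
    le_normalizer_map_subtype_of_normal X', ?_, ?_⟩
  · have := Subgroup.map_mono (f := (Subgroup.normalizer (H : Set G)).subtype) hKX
    rwa [Subgroup.subgroupOf_map_subtype, inf_of_le_left hHN] at this
  · have e : (X'.map (Subgroup.normalizer (H : Set G)).subtype).subgroupOf
        (Subgroup.normalizer (H : Set G)) = X' :=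
      Subgroup.comap_map_eq_self_of_injective (Subgroup.subtype_injective _) X'
    rw [← Subgroup.relIndex_subgroupOf (Subgroup.map_subtype_le X'), e]
    exact hpX
  · intro Y hHY hYN hNY hpY
    have h1 : X' ≤ Y.subgroupOf (Subgroup.normalizer (H : Set G)) := by
      apply hmin
      · exact Subgroup.comap_mono hHY
      · exact (Subgroup.normal_subgroupOf_iff_le_normalizer hYN).mpr hNY
      · rw [Subgroup.relIndex_subgroupOf hYN]; exact hpY
    have := Subgroup.map_mono (f := (Subgroup.normalizer (H : Set G)).subtype) h1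
    rw [Subgroup.subgroupOf_map_subtype] at this
    exact this.trans inf_le_left

end Ambient

end Cfsg.Agent.Lib.Helper7
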