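import Cfsg.Agent.Lib.Helper7.AGRefined
import Cfsg.Agent.Lib.Helper7.PRedSub
import Cfsg.Agent.Lib.Helper3.UpperPSeries

set_option autoImplicit false

namespace Cfsg.Agent.Lib.Helper7

open Cfsg

variable {G : Type*} [Group G]

local notation:max Q "⋏" g:max => Subgroup.map (MulEquiv.toMonoidHom (MulAut.conj g)) Q

/-- `O_{p',p}` is carried into `O_{p',p}` by an isomorphism. -/
theorem pPrimePCore_map_equiv_le {A B : Type*} [Group A] [Group B] (p : ℕ) (e : A ≃* B) :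
    (pPrimePCore p A).map e.toMonoidHom ≤ pPrimePCore p B := by
  have hO : (pPrimeCore p A).map e.toMonoidHom = pPrimeCore p B :=
    Cfsg.Agent.Lib.Helper3.pPrimeCore_map_equiv p e
  have hc := Cfsg.Agent.Lib.Helper3.pCore_map_equiv p
    (QuotientGroup.congr (pPrimeCore p A) (pPrimeCore p B) e hO)
  rintro _ ⟨a, ha, rfl⟩
  show QuotientGroup.mk' (pPrimeCore p B) (e.toMonoidHom a) ∈ pCore p (B ⧸ pPrimeCore p B)
  rw [← hc]
  exact ⟨QuotientGroup.mk' (pPrimeCore p A) a, ha, QuotientGroup.congr_mk _ _ e hO a⟩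

theorem KIn_map_equiv_le (p : ℕ) (φ : G ≃* G) (N : Subgroup G) :
    (KIn p N).map φ.toMonoidHom ≤ KIn p (N.map φ.toMonoidHom) := by
  unfold KIn
  have h := pPrimePCore_map_equiv_le p (φ.subgroupMap N)
  rintro _ ⟨_, ⟨a, ha, rfl⟩, rfl⟩
  exact ⟨φ.subgroupMap N a, h ⟨a, ha, rfl⟩, rfl⟩

/-- `O_{p',p}` of a conjugate subgroup. -/
theorem KIn_map_conj (p : ℕ) (N : Subgroup G) (y : G) : KIn p (N⋏y) = (KIn p N)⋏y := by
  apply le_antisymm
  · have h := KIn_map_equiv_le p (MulAut.conj y⁻¹) (N⋏y)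
    rw [map_conj_inv_map_conj] at h
    have h2 := Subgroup.map_mono (f := (MulAut.conj y).toMonoidHom) h
    rwa [map_conj_map_conj_inv] at h2
  · exact KIn_map_equiv_le p (MulAut.conj y) N

theorem conj_mem_pResidualIn_map_conj (p : ℕ) {X : Subgroup G} {x : G}
    (hx : x ∈ pResidualIn p X) (y : G) : y * x * y⁻¹ ∈ pResidualIn p (X⋏y) := by
  rw [pResidualIn_eq_closure] at hx ⊢
  have h1 : y * x * y⁻¹ ∈ (Subgroup.closure {g : G | g ∈ X ∧ (orderOf g).Coprime p})⋏y :=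
    ⟨x, hx, by simp [MulAut.conj_apply]⟩
  rw [MonoidHom.map_closure] at h1
  refine Subgroup.closure_mono ?_ h1
  rintro _ ⟨g, ⟨hgX, hg⟩, rfl⟩
  refine ⟨⟨g, hgX, rfl⟩, ?_⟩
  show (orderOf (y * g * y⁻¹)).Coprime p
  rwa [orderOf_conj_eq]

/-- The data of a strong Alperin–Goldschmidt step, in ambient form: `H` is fully normalized and
centric in `P`, `O_{p',p}(N(H)) = H C(H)`, `M` witnesses a strongly `p`-embedded subgroup of
`N(H)/H`, and `X/H` is the smallest normal subgroup of `N(H)/H` of order divisible by `p`. -/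
def StrongData (p : ℕ) (P H X M : Subgroup G) : Prop :=
  H ≤ P ∧
  ¬ p ∣ (P ⊓ Subgroup.normalizer (H : Set G)).relIndex (Subgroup.normalizer (H : Set G)) ∧
  P ⊓ Subgroup.centralizer (H : Set G) ≤ H ∧
  KIn p (Subgroup.normalizer (H : Set G)) = H ⊔ Subgroup.centralizer (H : Set G) ∧
  (H ≤ M ∧ M ≤ Subgroup.normalizer (H : Set G) ∧ M ≠ Subgroup.normalizer (H : Set G) ∧
    (∃ t ∈ P ⊓ M, t ∉ H) ∧
    ∀ A : Subgroup G, H ≤ A → A ≤ M → IsPGroup p ↥A → A ≠ H →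
      Subgroup.normalizer (H : Set G) ⊓ Subgroup.normalizer (A : Set G) ≤ M) ∧
  (H ≤ X ∧ X ≤ Subgroup.normalizer (H : Set G) ∧
    Subgroup.normalizer (H : Set G) ≤ Subgroup.normalizer (X : Set G) ∧ p ∣ H.relIndex X ∧
    ∀ Y : Subgroup G, H ≤ Y → Y ≤ Subgroup.normalizer (H : Set G) →
      Subgroup.normalizer (H : Set G) ≤ Subgroup.normalizer (Y : Set G) → p ∣ H.relIndex Y →
      X ≤ Y)

theorem StrongData.conj {p : ℕ} {P H X M : Subgroup G} (h : StrongData p P H X M) {y : G}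
    (hy : P⋏y = P) : StrongData p P (H⋏y) (X⋏y) (M⋏y) := by
  obtain ⟨h1, h2, h3, h4, ⟨m1, m2, m3, ⟨t, ht, htH⟩, m5⟩, ⟨x1, x2, x3, x4, x5⟩⟩ := h
  have hinj : Function.Injective (MulAut.conj y).toMonoidHom := (MulAut.conj y).injective
  have hsurj : ∀ A' : Subgroup G, ∃ A : Subgroup G, A' = A⋏y :=
    fun A' => ⟨A'⋏y⁻¹, (map_conj_map_conj_inv A' y).symm⟩
  have hle : ∀ {Q R : Subgroup G}, Q⋏y ≤ R⋏y ↔ Q ≤ R :=
    Subgroup.map_le_map_iff_of_injective hinj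
  have hNy : ∀ Q : Subgroup G, Subgroup.normalizer ((Q⋏y : Subgroup G) : Set G) =
      (Subgroup.normalizer (Q : Set G))⋏y := fun Q => normalizer_map_conj Q y
  have hPinf : ∀ Q : Subgroup G, P ⊓ Q⋏y = (P ⊓ Q)⋏y := by
    intro Q
    rw [Subgroup.map_inf _ _ _ hinj, hy]
  refine ⟨?_, ?_, ?_, ?_, ⟨?_, ?_, ?_, ?_, ?_⟩, ⟨?_, ?_, ?_, ?_, ?_⟩⟩
  · rw [← hy]; exact Subgroup.map_mono h1
  · rw [hNy, hPinf, Subgroup.relIndex_map_map_of_injective _ _ hinj]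
    exact h2
  · rw [centralizer_map_conj, hPinf]
    exact Subgroup.map_mono h3
  · rw [hNy, KIn_map_conj, h4, Subgroup.map_sup, centralizer_map_conj]
  · exact Subgroup.map_mono m1
  · rw [hNy]; exact Subgroup.map_mono m2
  · rw [hNy]
    intro he
    exact m3 (Subgroup.map_injective hinj he)
  · refine ⟨y * t * y⁻¹, ?_, ?_⟩
    · rw [hPinf]
      exact ⟨t, ht, by simp [MulAut.conj_apply]⟩
    · intro hc
      apply htH
      rw [mem_map_conj_iff] at hc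
      simpa [mul_assoc] using hc
  · intro A' hHA hAM hAp hAne
    obtain ⟨A, rfl⟩ := hsurj A'
    rw [hNy, hNy, ← Subgroup.map_inf _ _ _ hinj]
    apply Subgroup.map_mono
    apply m5 A (hle.mp hHA) (hle.mp hAM)
    · have := hAp.map (MulAut.conj y⁻¹).toMonoidHom
      rwa [map_conj_inv_map_conj] at this
    · intro he
      exact hAne (by rw [he])
  · exact Subgroup.map_mono x1
  · rw [hNy]; exact Subgroup.map_mono x2
  · rw [hNy, hNy]; exact Subgroup.map_mono x3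
  · rw [Subgroup.relIndex_map_map_of_injective _ _ hinj]; exact x4
  · intro Y' hHY hYN hNY hpY
    obtain ⟨Y, rfl⟩ := hsurj Y'
    rw [hNy] at hYN
    rw [hNy, hNy] at hNY
    rw [Subgroup.relIndex_map_map_of_injective _ _ hinj] at hpY
    exact Subgroup.map_mono (x5 Y (hle.mp hHY) (hle.mp hYN) (hle.mp hNY) hpY)

/-- A single strong step: conjugation by an element of `O^p(X)` inside `H`. -/
def StrongStep (p : ℕ) (P : Subgroup G) (A : Set G) (x : G) : Prop :=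
  ∃ H X M : Subgroup G, StrongData p P H X M ∧ x ∈ pResidualIn p X ∧ A ⊆ (H : Set G)

theorem StrongStep.mono {p : ℕ} {P : Subgroup G} (A A' : Set G) (x : G) (hA : A' ⊆ A)
    (h : StrongStep p P A x) : StrongStep p P A' x := by
  obtain ⟨H, X, M, hd, hx, hAH⟩ := h
  exact ⟨H, X, M, hd, hx, hA.trans hAH⟩

theorem StrongStep.inv {p : ℕ} {P : Subgroup G} (A : Set G) (x : G)
    (h : StrongStep p P A x) : StrongStep p P (cr x A) x⁻¹ := by
  obtain ⟨H, X, M, hd, hx, hAH⟩ := h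
  have hxN : x ∈ Subgroup.normalizer (H : Set G) := hd.2.2.2.2.2.2.1 (pResidualIn_le p X hx)
  exact ⟨H, X, M, hd, Subgroup.inv_mem _ hx, cr_subset_of_mem_normalizer hxN hAH⟩

theorem StrongStep.conj {p : ℕ} {P : Subgroup G} {A : Set G} {x : G}
    (h : StrongStep p P A x) {y : G} (hy : P⋏y = P) :
    StrongStep p P (cr y⁻¹ A) (y * x * y⁻¹) := by
  obtain ⟨H, X, M, hd, hx, hAH⟩ := h
  refine ⟨H⋏y, X⋏y, M⋏y, hd.conj hy, conj_mem_pResidualIn_map_conj p hx y, ?_⟩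
  intro b hb
  have h1 := hAH (mem_cr_iff.mp hb)
  rw [inv_inv] at h1
  exact (mem_map_conj_iff H y b).mpr h1

theorem SChain.conj_strong {p : ℕ} {P : Subgroup G} {y : G} (hy : P⋏y = P) {B : Set G} {k : G}
    (h : SChain (StrongStep p P) B k) :
    SChain (StrongStep p P) (cr y⁻¹ B) (y * k * y⁻¹) := by
  induction h with
  | nil B =>
    rw [mul_one, mul_inv_cancel]
    exact SChain.nil _
  | cons B x g hx _ ih =>
    have e : y * (x * g) * y⁻¹ = (y * x * y⁻¹) * (y * g * y⁻¹) := by group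
    rw [e]
    refine SChain.cons _ _ _ (hx.conj hy) ?_
    have e2 : cr (y * x * y⁻¹) (cr y⁻¹ B) = cr y⁻¹ (cr x B) := by
      rw [← cr_mul, ← cr_mul]
      congr 1
      group
    rw [e2]
    exact ih

/-- `g` acts on `A` as a product of strong steps followed by an element of `N_G(P)`. -/
def SRel (p : ℕ) (P : Subgroup G) (A : Set G) (g : G) : Prop :=
  ∃ g' y : G, SChain (StrongStep p P) A g' ∧ y ∈ Subgroup.normalizer (P : Set G) ∧
    ∀ a ∈ A, (g' * y)⁻¹ * a * (g' * y) = g⁻¹ * a * g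

theorem srel_of_mem_normalizer {p : ℕ} {P : Subgroup G} (A : Set G) {y : G}
    (hy : y ∈ Subgroup.normalizer (P : Set G)) : SRel p P A y :=
  ⟨1, y, SChain.nil A, hy, fun a _ => by rw [one_mul]⟩

theorem srel_of_strongStep {p : ℕ} {P : Subgroup G} {A : Set G} {x : G}
    (h : StrongStep p P A x) : SRel p P A x :=
  ⟨x, 1, SChain.single h, Subgroup.one_mem _, fun a _ => by rw [mul_one]⟩

theorem SRel.congr {p : ℕ} {P : Subgroup G} (A : Set G) (g g₂ : G) (h : SRel p P A g)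
    (hag : ∀ a ∈ A, g⁻¹ * a * g = g₂⁻¹ * a * g₂) : SRel p P A g₂ := by
  obtain ⟨g', y, hc, hy, hag'⟩ := h
  exact ⟨g', y, hc, hy, fun a ha => (hag' a ha).trans (hag a ha)⟩

theorem SRel.fusionRel (p : ℕ) (P : Subgroup G) : FusionRel (SRel p P) where
  one := fun A => ⟨1, 1, SChain.nil A, Subgroup.one_mem _, fun _ _ => by simp⟩
  mono := by
    rintro A A' g ⟨g', y, hc, hy, hag⟩ hA
    exact ⟨g', y, hc.mono StrongStep.mono hA, hy, fun a ha => hag a (hA ha)⟩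
  comp := by
    rintro A g h ⟨g₁, y₁, hc1, hy1, hag1⟩ ⟨g₂, y₂, hc2, hy2, hag2⟩
    have e : cr (g₁ * y₁) A = cr g A := cr_eq_of_agree hag1
    have hy1' : P⋏y₁ = P := map_conj_eq_of_mem_normalizer hy1
    have hc2' : SChain (StrongStep p P) (cr g₁ A) (y₁ * g₂ * y₁⁻¹) := by
      have h0 := hc2
      rw [← e, cr_mul] at h0
      have h3 := h0.conj_strong hy1'
      rwa [cr_inv_cr] at h3
    refine ⟨g₁ * (y₁ * g₂ * y₁⁻¹), y₁ * y₂, hc1.append hc2', Subgroup.mul_mem _ hy1 hy2, ?_⟩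
    intro a ha
    have h3 := hag2 (g⁻¹ * a * g) ⟨a, ha, rfl⟩
    calc (g₁ * (y₁ * g₂ * y₁⁻¹) * (y₁ * y₂))⁻¹ * a * (g₁ * (y₁ * g₂ * y₁⁻¹) * (y₁ * y₂))
        = (g₂ * y₂)⁻¹ * ((g₁ * y₁)⁻¹ * a * (g₁ * y₁)) * (g₂ * y₂) := by group
      _ = (g₂ * y₂)⁻¹ * (g⁻¹ * a * g) * (g₂ * y₂) := by rw [hag1 a ha]
      _ = h⁻¹ * (g⁻¹ * a * g) * h := h3
      _ = (g * h)⁻¹ * a * (g * h) := by group
  inv := by
    rintro A g ⟨g₁, y₁, hc, hy, hag⟩
    have e : cr (g₁ * y₁) A = cr g A := cr_eq_of_agree hag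
    have hy' : P⋏y₁⁻¹ = P := map_conj_eq_of_mem_normalizer (Subgroup.inv_mem _ hy)
    have hc' : SChain (StrongStep p P) (cr g A) (y₁⁻¹ * g₁⁻¹ * y₁) := by
      have h1 := hc.reverse StrongStep.inv
      have h2 := h1.conj_strong hy'
      rw [inv_inv, ← cr_mul, e] at h2
      exact h2
    refine ⟨y₁⁻¹ * g₁⁻¹ * y₁, y₁⁻¹, hc', Subgroup.inv_mem _ hy, ?_⟩
    rintro _ ⟨a, ha, rfl⟩
    have h4 := hag a ha
    calc (y₁⁻¹ * g₁⁻¹ * y₁ * y₁⁻¹)⁻¹ * (g⁻¹ * a * g) * (y₁⁻¹ * g₁⁻¹ * y₁ * y₁⁻¹)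
        = (g₁ * y₁) * (g⁻¹ * a * g) * (g₁ * y₁)⁻¹ := by group
      _ = (g₁ * y₁) * ((g₁ * y₁)⁻¹ * a * (g₁ * y₁)) * (g₁ * y₁)⁻¹ := by rw [h4]
      _ = g⁻¹⁻¹ * (g⁻¹ * a * g) * g⁻¹ := by group
  triv := by
    intro A g hA
    refine ⟨1, 1, SChain.nil A, Subgroup.one_mem _, ?_⟩
    intro a ha
    rw [hA a ha]
    simp

end Cfsg.Agent.Lib.Helper7
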