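import Cfsg.Agent.Lib.Helper7.StrongAG1
import Cfsg.Agent.Lib.Helper7.StrongAG2
import Cfsg.Agent.Lib.Helper1.PResidual

set_option autoImplicit false

namespace Cfsg.Agent.Lib.Helper7

open Cfsg

variable {G : Type*} [Group G]

local notation:max Q "⋏" g:max => Subgroup.map (MulEquiv.toMonoidHom (MulAut.conj g)) Q

/-- `T · O^p(X) = X` for a Sylow `p`-subgroup `T` of `X` (ambient form). -/
theorem sup_pResidualIn_eq_of_isSylowIn [Finite G] {p : ℕ} [Fact p.Prime] {T X : Subgroup G}
    (hT : IsSylowIn p T X) : T ⊔ pResidualIn p X = X := by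
  have h1 : IsPGroup p ↥(T.subgroupOf X) :=
    hT.2.1.comap_of_injective X.subtype X.subtype_injective
  have hP : ((h1.toSylow hT.2.2 : Sylow p ↥X) : Subgroup ↥X) = T.subgroupOf X :=
    IsPGroup.toSylow_coe _ _
  have h := Cfsg.Agent.Lib.Helper1.sylow_sup_pResidual_eq_top (h1.toSylow hT.2.2)
  have h2 := congrArg (Subgroup.map X.subtype) h
  rw [Subgroup.map_sup, hP, Subgroup.subgroupOf_map_subtype, inf_of_le_left hT.1,
    ← MonoidHom.range_eq_map, Subgroup.range_subtype] at h2
  exact h2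

/-- The step of the strong Alperin–Goldschmidt theorem at a member of Goldschmidt's family. -/
theorem strong_step [Finite G] {p : ℕ} [Fact p.Prime] (S : Sylow p G) (H : Subgroup G)
    (hH : IsAGRefined p (S : Subgroup G) H)
    (hbig : ∀ Y : Subgroup G, Y ≤ (S : Subgroup G) → Nat.card ↥H < Nat.card ↥Y →
      ∀ g : G, cr g (Y : Set G) ⊆ (S : Subgroup G) → SRel p (S : Subgroup G) (Y : Set G) g) :
    ∀ x ∈ Subgroup.normalizer ((H : Subgroup G) : Set G),
      SRel p (S : Subgroup G) (H : Set G) x := by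
  have hPp : IsPGroup p ↥(S : Subgroup G) := S.isPGroup'
  have hp : p.Prime := Fact.out
  obtain ⟨hHP, hfn, hCK, hOK, hHK, hcomm, hdisj, hsup⟩ := hH
  have hHp : IsPGroup p ↥H := hPp.to_le hHP
  have fr := SRel.fusionRel (G := G) p (S : Subgroup G)
  have hHN : H ≤ Subgroup.normalizer (H : Set G) := Subgroup.le_normalizer
  have hsyl : IsSylowIn p ((S : Subgroup G) ⊓ Subgroup.normalizer (H : Set G))
      (Subgroup.normalizer (H : Set G)) := ⟨inf_le_right, hPp.to_le inf_le_left, hfn⟩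
  have hPNP : (S : Subgroup G) ≤ Subgroup.normalizer ((S : Subgroup G) : Set G) :=
    Subgroup.le_normalizer
  have hcrH : ∀ n ∈ Subgroup.normalizer (H : Set G), cr n (H : Set G) = H := fun n hn =>
    (cr_eq_self_iff_mem_normalizer n H).mpr hn
  by_cases hT₀ : (S : Subgroup G) ⊓ Subgroup.normalizer (H : Set G) ≤ H
  · have hHeq : H = (S : Subgroup G) := eq_of_inf_normalizer_eq H (S : Subgroup G) hPp hHP hT₀
    intro x hx
    rw [hHeq] at hx
    exact srel_of_mem_normalizer _ hx
  · by_contra hcon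
    push Not at hcon
    obtain ⟨x₀, hx₀N, hx₀⟩ := hcon
    -- the subgroup of accounted elements
    let M : Subgroup G :=
      { carrier := {n | n ∈ Subgroup.normalizer (H : Set G) ∧
          SRel p (S : Subgroup G) (H : Set G) n}
        one_mem' := ⟨Subgroup.one_mem _, fr.one _⟩
        mul_mem' := by
          rintro a b ⟨ha, hra⟩ ⟨hb, hrb⟩
          refine ⟨Subgroup.mul_mem _ ha hb, fr.comp hra ?_⟩
          rw [hcrH a ha]
          exact hrb
        inv_mem' := by
          rintro a ⟨ha, hra⟩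
          refine ⟨Subgroup.inv_mem _ ha, ?_⟩
          have := fr.inv hra
          rwa [hcrH a ha] at this }
    have hmemM : ∀ n, n ∈ M ↔ n ∈ Subgroup.normalizer (H : Set G) ∧
        SRel p (S : Subgroup G) (H : Set G) n := fun n => Iff.rfl
    have hMN : M ≤ Subgroup.normalizer (H : Set G) := fun n hn => ((hmemM n).mp hn).1
    have hMne : M ≠ Subgroup.normalizer (H : Set G) := by
      intro he
      have : x₀ ∈ M := by rw [he]; exact hx₀N
      exact hx₀ ((hmemM _).mp this).2
    have hPM : (S : Subgroup G) ⊓ Subgroup.normalizer (H : Set G) ≤ M := by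
      intro t ht
      exact (hmemM t).mpr ⟨(Subgroup.mem_inf.mp ht).2,
        srel_of_mem_normalizer _ (hPNP (Subgroup.mem_inf.mp ht).1)⟩
    have hHM : H ≤ M := (le_inf hHP hHN).trans hPM
    have hbigN : ∀ Y : Subgroup G, H ≤ Y → Y ≤ (S : Subgroup G) → Y ≠ H →
        Subgroup.normalizer (H : Set G) ⊓ Subgroup.normalizer (Y : Set G) ≤ M := by
      intro Y hHY hYP hYne n hn
      obtain ⟨hnH, hnY⟩ := Subgroup.mem_inf.mp hn
      refine (hmemM n).mpr ⟨hnH, ?_⟩
      have hlt : Nat.card ↥H < Nat.card ↥Y := by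
        by_contra hle
        push Not at hle
        exact hYne (Subgroup.eq_of_le_of_card_ge hHY hle).symm
      have h1 : cr n (Y : Set G) ⊆ ((S : Subgroup G) : Set G) := by
        rw [(cr_eq_self_iff_mem_normalizer n Y).mpr hnY]
        exact SetLike.coe_subset_coe.mpr hYP
      exact fr.mono (hbig Y hYP hlt n h1) (SetLike.coe_subset_coe.mpr hHY)
    have hloc : ∀ A : Subgroup G, H ≤ A → A ≤ M → IsPGroup p ↥A → A ≠ H →
        Subgroup.normalizer (H : Set G) ⊓ Subgroup.normalizer (A : Set G) ≤ M := by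
      intro A hHA hAM hAp hAne
      have hsylM : IsSylowIn p ((S : Subgroup G) ⊓ Subgroup.normalizer (H : Set G)) M :=
        hsyl.mono hPM hMN
      obtain ⟨m, hmM, hm⟩ := exists_mem_conj_le hAM hAp hsylM.2.2
      have hmN : m ∈ Subgroup.normalizer (H : Set G) := hMN hmM
      have hHm : H⋏m⁻¹ = H := map_conj_eq_of_mem_normalizer (Subgroup.inv_mem _ hmN)
      have hA₁P : A⋏m⁻¹ ≤ (S : Subgroup G) := by
        rintro _ ⟨a, ha, rfl⟩
        have h1 := hm a ha
        show m⁻¹ * a * m⁻¹⁻¹ ∈ (S : Subgroup G)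
        rw [inv_inv]
        exact (Subgroup.mem_inf.mp h1).1
      have hHA₁ : H ≤ A⋏m⁻¹ := by
        rw [← hHm]
        exact Subgroup.map_mono hHA
      have hA₁ne : A⋏m⁻¹ ≠ H := by
        intro he
        apply hAne
        rw [← hHm] at he
        exact Subgroup.map_injective (MulAut.conj m⁻¹).injective he
      have h2 := hbigN (A⋏m⁻¹) hHA₁ hA₁P hA₁ne
      intro n hn
      obtain ⟨hnH, hnA⟩ := Subgroup.mem_inf.mp hn
      have h3 : m⁻¹ * n * m⁻¹⁻¹ ∈ Subgroup.normalizer ((A⋏m⁻¹ : Subgroup G) : Set G) :=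
        conj_mem_normalizer_map_conj hnA m⁻¹
      have h4 : m⁻¹ * n * m⁻¹⁻¹ ∈ Subgroup.normalizer (H : Set G) :=
        Subgroup.mul_mem _ (Subgroup.mul_mem _ (Subgroup.inv_mem _ hmN) hnH)
          (Subgroup.inv_mem _ (Subgroup.inv_mem _ hmN))
      have h5 : m⁻¹ * n * m⁻¹⁻¹ ∈ M := h2 (Subgroup.mem_inf.mpr ⟨h4, h3⟩)
      have e : n = m * (m⁻¹ * n * m⁻¹⁻¹) * m⁻¹ := by group
      rw [e]
      exact M.mul_mem (M.mul_mem hmM h5) (M.inv_mem hmM)
    -- `C_P(H) ≤ H`
    have h3 : (S : Subgroup G) ⊓ Subgroup.centralizer (H : Set G) ≤ H := by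
      intro z hz
      obtain ⟨hzP, hzC⟩ := Subgroup.mem_inf.mp hz
      have hzK : z ∈ ((OIn p (Subgroup.normalizer (H : Set G)) ⊔ H : Subgroup G) : Set G) := by
        rw [hsup]
        exact hCK hzC
      rw [Subgroup.coe_mul_of_left_le_normalizer_right _ H (OIn_le p _), Set.mem_mul] at hzK
      obtain ⟨o, ho, h, hh, rfl⟩ := hzK
      have hoP : o ∈ (S : Subgroup G) := by
        have e : o = (o * h) * h⁻¹ := by group
        rw [e]
        exact Subgroup.mul_mem _ hzP (Subgroup.inv_mem _ (hHP hh))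
      have ho1 : o = 1 := by
        apply eq_one_of_mem_isPGroup_of_coprime hPp hoP
        have hdvd : orderOf o ∣ Nat.card ↥(OIn p (Subgroup.normalizer (H : Set G))) :=
          Subgroup.orderOf_dvd_natCard _ ho
        exact Nat.Coprime.coprime_dvd_left hdvd (card_OIn_coprime p _)
      rw [ho1, one_mul]
      exact hh
    -- `O_{p',p}(N) = H C(H)`
    have h4 : KIn p (Subgroup.normalizer (H : Set G)) = H ⊔ Subgroup.centralizer (H : Set G) := by
      apply le_antisymm
      · rw [← hsup]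
        apply sup_le _ le_sup_left
        refine le_trans ?_ le_sup_right
        intro o ho
        rw [Subgroup.mem_centralizer_iff]
        intro h hh
        exact (hcomm o ho h hh).symm
      · exact sup_le hHK hCK
    obtain ⟨t, ht, htH⟩ := SetLike.not_le_iff_exists.mp hT₀
    have htP : t ∈ (S : Subgroup G) := (Subgroup.mem_inf.mp ht).1
    have htpow : ∃ k : ℕ, t ^ p ^ k = 1 := by
      obtain ⟨k, hk⟩ := hPp ⟨t, htP⟩
      refine ⟨k, ?_⟩
      have := congrArg Subtype.val hk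
      simpa using this
    have hcc : ¬ IsSylowChainConnected p (↥(Subgroup.normalizer (H : Set G)) ⧸
        H.subgroupOf (Subgroup.normalizer (H : Set G))) :=
      not_chainConnected_normalizer_quotient hHp hHM hMN hMne ⟨t, hPM ht, htH, htpow⟩ hloc
    have hpN : p ∣ H.relIndex (Subgroup.normalizer (H : Set G)) := by
      have hT₀p : IsPGroup p ↥((S : Subgroup G) ⊓ Subgroup.normalizer (H : Set G) : Subgroup G) :=
        hPp.to_le inf_le_left
      obtain ⟨n, hn⟩ := IsPGroup.index hT₀p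
        (H.subgroupOf ((S : Subgroup G) ⊓ Subgroup.normalizer (H : Set G)))
      have hn' : H.relIndex ((S : Subgroup G) ⊓ Subgroup.normalizer (H : Set G)) = p ^ n := hn
      have hn0 : n ≠ 0 := by
        intro h0
        rw [h0, pow_zero] at hn'
        exact hT₀ (Subgroup.relIndex_eq_one.mp hn')
      rw [← Subgroup.relIndex_mul_relIndex H _ _ (le_inf hHP hHN) inf_le_right, hn']
      exact (dvd_pow_self p hn0).mul_right _
    obtain ⟨X, hHX, hXN, hNX, hpX, hXmin⟩ := exists_min_normal_over hcc hpN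
    have hdata : StrongData p (S : Subgroup G) H X M :=
      ⟨hHP, hfn, h3, h4, ⟨hHM, hMN, hMne, ⟨t, Subgroup.mem_inf.mpr ⟨htP, hPM ht⟩, htH⟩, hloc⟩,
        ⟨hHX, hXN, hNX, hpX, hXmin⟩⟩
    -- every element of `N(H)` is accounted for: contradiction
    apply hx₀
    have hsylX : IsSylowIn p (((S : Subgroup G) ⊓ Subgroup.normalizer (H : Set G)) ⊓ X) X :=
      hsyl.inf_normal hXN hNX
    have hHT₁ : H ≤ ((S : Subgroup G) ⊓ Subgroup.normalizer (H : Set G)) ⊓ X :=
      le_inf (le_inf hHP hHN) hHX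
    have hT₁P : ((S : Subgroup G) ⊓ Subgroup.normalizer (H : Set G)) ⊓ X ≤ (S : Subgroup G) :=
      inf_le_left.trans inf_le_left
    have hT₁N : ((S : Subgroup G) ⊓ Subgroup.normalizer (H : Set G)) ⊓ X ≤
        Subgroup.normalizer (H : Set G) := inf_le_left.trans inf_le_right
    have hT₁ne : ((S : Subgroup G) ⊓ Subgroup.normalizer (H : Set G)) ⊓ X ≠ H := by
      intro he
      rw [he] at hsylX
      exact hsylX.2.2 hpX
    obtain ⟨k, hkX, hkx⟩ := exists_mul_mem_normalizer_of_isSylowIn hsylX (hNX hx₀N)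
    have hsupX := sup_pResidualIn_eq_of_isSylowIn hsylX
    have hk' : k⁻¹ ∈ ((pResidualIn p X ⊔
        (((S : Subgroup G) ⊓ Subgroup.normalizer (H : Set G)) ⊓ X) : Subgroup G) : Set G) := by
      rw [sup_comm, hsupX]
      exact X.inv_mem hkX
    rw [Subgroup.coe_mul_of_right_le_normalizer_left (pResidualIn p X) _
      ((hsylX.1).trans (le_normalizer_pResidualIn p X)), Set.mem_mul] at hk'
    obtain ⟨o, ho, t', ht', hot⟩ := hk'
    have hrT : t' * (k * x₀) ∈ Subgroup.normalizer
        (((((S : Subgroup G) ⊓ Subgroup.normalizer (H : Set G)) ⊓ X) : Subgroup G) : Set G) :=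
      Subgroup.mul_mem _ (Subgroup.le_normalizer ht') hkx
    have hrN : t' * (k * x₀) ∈ Subgroup.normalizer (H : Set G) :=
      Subgroup.mul_mem _ (hT₁N ht') (Subgroup.mul_mem _ (hXN hkX) hx₀N)
    have hrM : t' * (k * x₀) ∈ M :=
      hbigN _ hHT₁ hT₁P hT₁ne (Subgroup.mem_inf.mpr ⟨hrN, hrT⟩)
    have hoN : o ∈ Subgroup.normalizer (H : Set G) := hXN (pResidualIn_le p X ho)
    have hro : SRel p (S : Subgroup G) (H : Set G) o :=
      srel_of_strongStep ⟨H, X, M, hdata, ho, subset_rfl⟩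
    have hx₀eq : x₀ = o * (t' * (k * x₀)) := by
      calc x₀ = k⁻¹ * (k * x₀) := by group
        _ = (o * t') * (k * x₀) := by rw [hot]
        _ = o * (t' * (k * x₀)) := by rw [mul_assoc]
    rw [hx₀eq]
    apply fr.comp hro
    rw [hcrH o hoN]
    exact ((hmemM _).mp hrM).2

/-- Strong form of the Alperin–Goldschmidt fusion theorem, in relational form. -/
theorem strong_alperin_goldschmidt [Finite G] {p : ℕ} [Fact p.Prime] (S : Sylow p G) :
    ∀ (A : Set G) (g : G), A ⊆ (S : Subgroup G) → cr g A ⊆ (S : Subgroup G) →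
      SRel p (S : Subgroup G) A g :=
  FusionRel.centric_radical_induction S (SRel.fusionRel p _) SRel.congr
    (fun X hX hbig => strong_step S X hX hbig)

/-- Translation of the ambient data to the form used in the frozen statement. -/
theorem StrongData.spec [Finite G] {p : ℕ} [Fact p.Prime] {P H X M : Subgroup G}
    (hPp : IsPGroup p ↥P) (h : StrongData p P H X M) :
    H ≤ P ∧
    ¬ p ∣ (P ⊓ Subgroup.normalizer (H : Set G)).relIndex (Subgroup.normalizer (H : Set G)) ∧
    P ⊓ Subgroup.centralizer (H : Set G) ≤ H ∧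
    (Cfsg.pPrimePCore p ↥(Subgroup.normalizer (H : Set G))).map
        (Subgroup.normalizer (H : Set G)).subtype = H ⊔ Subgroup.centralizer (H : Set G) ∧
    ¬ Cfsg.IsSylowChainConnected p
        (↥(Subgroup.normalizer (H : Set G)) ⧸ H.subgroupOf (Subgroup.normalizer (H : Set G))) ∧
    (H ≤ X ∧ X ≤ Subgroup.normalizer (H : Set G) ∧
      (X.subgroupOf (Subgroup.normalizer (H : Set G))).Normal ∧ p ∣ H.relIndex X ∧
      ∀ Y : Subgroup G, H ≤ Y → Y ≤ Subgroup.normalizer (H : Set G) →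
        (Y.subgroupOf (Subgroup.normalizer (H : Set G))).Normal → p ∣ H.relIndex Y → X ≤ Y) := by
  obtain ⟨h1, h2, h3, h4, ⟨m1, m2, m3, ⟨t, ht, htH⟩, m5⟩, ⟨x1, x2, x3, x4, x5⟩⟩ := h
  obtain ⟨htP, htM⟩ := Subgroup.mem_inf.mp ht
  have htpow : ∃ k : ℕ, t ^ p ^ k = 1 := by
    obtain ⟨k, hk⟩ := hPp ⟨t, htP⟩
    refine ⟨k, ?_⟩
    have := congrArg Subtype.val hk
    simpa using this
  refine ⟨h1, h2, h3, h4, ?_, x1, x2, ?_, x4, ?_⟩
  · exact not_chainConnected_normalizer_quotient (hPp.to_le h1) m1 m2 m3 ⟨t, htM, htH, htpow⟩ m5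
  · exact (Subgroup.normal_subgroupOf_iff_le_normalizer x2).mpr x3
  · intro Y hHY hYN hYn hpY
    exact x5 Y hHY hYN ((Subgroup.normal_subgroupOf_iff_le_normalizer hYN).mp hYn) hpY

end Cfsg.Agent.Lib.Helper7
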