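import Mathlib
import Cfsg.Prelude.Def_LocalStructure
import Cfsg.Agent.Lib.Helper7.Subnormal
import Cfsg.Agent.Lib.Helper7.WeaklyClosed
import Cfsg.Agent.Lib.Helper7.PGroupComm
import Cfsg.Agent.Lib.Helper1.Subnormal
import Cfsg.Agent.Lib.Helper1.PResidual

/-!
# The subnormal closure

`subnormalClosure A` is the smallest subnormal subgroup containing `A` (finite groups).
-/

set_option autoImplicit false

namespace Cfsg.Agent.Lib.Helper7

open Cfsg
open scoped commutatorElement

variable {H : Type*} [Group H]

local notation:max Q "⋏" g:max => Subgroup.map (MulEquiv.toMonoidHom (MulAut.conj g)) Q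

theorem le_subnormalClosure (A : Subgroup H) : A ≤ subnormalClosure A :=
  le_sInf fun _ hK => hK.1

theorem subnormalClosure_le {A L : Subgroup H} (hAL : A ≤ L) (hL : L.IsSubnormal) :
    subnormalClosure A ≤ L :=
  sInf_le ⟨hAL, hL⟩

/-- In a finite group the subnormal closure is subnormal. -/
theorem subnormalClosure_isSubnormal [Finite H] (A : Subgroup H) :
    (subnormalClosure A).IsSubnormal := by
  let 𝒮 : Set (Subgroup H) := {K | A ≤ K ∧ K.IsSubnormal}
  obtain ⟨K₀, -, hK₀⟩ := (Set.toFinite 𝒮).exists_le_minimal
    (show (⊤ : Subgroup H) ∈ 𝒮 from ⟨le_top, Subgroup.IsSubnormal.top⟩)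
  have h1 : subnormalClosure A = K₀ := by
    apply le_antisymm (subnormalClosure_le hK₀.1.1 hK₀.1.2)
    apply le_sInf
    rintro L ⟨hAL, hL⟩
    have h2 : K₀ ⊓ L ∈ 𝒮 := ⟨le_inf hK₀.1.1 hAL, hK₀.1.2.inf hL⟩
    exact (hK₀.2 h2 inf_le_left).trans inf_le_right
  rw [h1]
  exact hK₀.1.2

/-- A subgroup between `A` and its subnormal closure `K` which is subnormal in `K` equals `K`. -/
theorem eq_subnormalClosure_of_isSubnormal_subgroupOf [Finite H] {A X : Subgroup H} (hAX : A ≤ X)
    (hXK : X ≤ subnormalClosure A) (hX : (X.subgroupOf (subnormalClosure A)).IsSubnormal) :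
    X = subnormalClosure A :=
  le_antisymm hXK
    (subnormalClosure_le hAX (Subgroup.IsSubnormal.trans hXK hX (subnormalClosure_isSubnormal A)))

/-- A subgroup between `A` and its subnormal closure `K` which is normalized by `K` equals `K`. -/
theorem eq_subnormalClosure_of_le_normalizer [Finite H] {A X : Subgroup H} (hAX : A ≤ X)
    (hXK : X ≤ subnormalClosure A)
    (hX : subnormalClosure A ≤ Subgroup.normalizer (X : Set H)) :
    X = subnormalClosure A := by
  apply eq_subnormalClosure_of_isSubnormal_subgroupOf hAX hXK
  apply Subgroup.Normal.isSubnormal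
  rwa [Subgroup.normal_subgroupOf_iff_le_normalizer hXK]

/-- `N_H(A)` normalizes the subnormal closure of `A`. -/
theorem normalizer_le_normalizer_subnormalClosure [Finite H] (A : Subgroup H) :
    Subgroup.normalizer (A : Set H) ≤ Subgroup.normalizer (subnormalClosure A : Set H) := by
  set K := subnormalClosure A with hK
  have key : ∀ g ∈ Subgroup.normalizer (A : Set H), K ≤ K ⋏ g := by
    intro g hg
    apply subnormalClosure_le
    · rw [← map_conj_eq_of_mem_normalizer hg]
      exact Subgroup.map_mono (le_subnormalClosure A)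
    · exact (subnormalClosure_isSubnormal A).map (MulAut.conj g).surjective
  intro g hg
  rw [← map_conj_eq_self_iff]
  apply le_antisymm _ (key g hg)
  have h1 := key g⁻¹ (Subgroup.inv_mem _ hg)
  have h2 := (map_conj_le_iff K K g).mpr h1
  exact h2

/-- The subnormal closure `K` of `A` is the normal closure of `A` in `K`. -/
theorem map_normalClosure_subgroupOf_subnormalClosure [Finite H] (A : Subgroup H) :
    (Subgroup.normalClosure ((A.subgroupOf (subnormalClosure A) :
      Subgroup ↥(subnormalClosure A)) : Set ↥(subnormalClosure A))).map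
      (subnormalClosure A).subtype = subnormalClosure A := by
  set K := subnormalClosure A with hK
  set N := Subgroup.normalClosure ((A.subgroupOf K : Subgroup ↥K) : Set ↥K) with hN
  apply eq_subnormalClosure_of_isSubnormal_subgroupOf
  · intro a ha
    exact ⟨⟨a, le_subnormalClosure A ha⟩, Subgroup.subset_normalClosure
      (show (⟨a, le_subnormalClosure A ha⟩ : ↥K) ∈ A.subgroupOf K from ha), rfl⟩
  · exact Subgroup.map_subtype_le _
  · have h1 : (N.map K.subtype).subgroupOf K = N :=
      Subgroup.comap_map_eq_self_of_injective K.subtype_injective N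
    rw [h1]
    exact (Subgroup.normalClosure_normal).isSubnormal

variable {p : ℕ} [Fact p.Prime]

/-- A subgroup containing `O^p(K)` is subnormal in the finite group `K`. -/
theorem isSubnormal_of_pResidual_le [Finite H] {X : Subgroup H} (hX : pResidual p H ≤ X) :
    X.IsSubnormal := by
  have hnil : Group.IsNilpotent (H ⧸ pResidual p H) :=
    (Cfsg.Agent.Lib.Helper1.isPGroup_quotient_pResidual p).isNilpotent
  have h1 := (Cfsg.Agent.Lib.Helper1.isNilpotent_iff_forall_isSubnormal.mp hnil)
    (X.map (QuotientGroup.mk' (pResidual p H)))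
  have h2 := h1.comap (QuotientGroup.mk' (pResidual p H))
  rwa [Subgroup.comap_map_eq, QuotientGroup.ker_mk', sup_eq_left.mpr hX] at h2

/-- `K = A · O^p(K)` for the subnormal closure `K` of `A`. -/
theorem sup_pResidualIn_subnormalClosure [Finite H] (A : Subgroup H) :
    A ⊔ pResidualIn p (subnormalClosure A) = subnormalClosure A := by
  set K := subnormalClosure A with hK
  apply eq_subnormalClosure_of_isSubnormal_subgroupOf le_sup_left
    (sup_le (le_subnormalClosure A) (pResidualIn_le p K))
  apply isSubnormal_of_pResidual_le (p := p)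
  intro x hx
  rw [Subgroup.mem_subgroupOf]
  exact le_sup_right (a := A) (Subgroup.mem_map_of_mem K.subtype hx)

/-- If `A` is a `p`-group with subnormal closure `K`, then `O^p(K) = [O^p(K), A]`. -/
theorem commutator_pResidualIn_subnormalClosure [Finite H] (A : Subgroup H) (hA : IsPGroup p A) :
    ⁅pResidualIn p (subnormalClosure A), A⁆ = pResidualIn p (subnormalClosure A) := by
  set K := subnormalClosure A with hK
  set R := pResidualIn p K with hR
  have hAK : A ≤ K := le_subnormalClosure A
  have hKR : K ≤ Subgroup.normalizer (R : Set H) := le_normalizer_pResidualIn p K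
  have hCR : ⁅R, A⁆ ≤ R :=
    Subgroup.le_normalizer_iff_commutator_le_left.mp (hAK.trans hKR)
  apply le_antisymm hCR
  set C := ⁅R, A⁆ with hC
  have hKsup : A ⊔ R = K := sup_pResidualIn_subnormalClosure A
  have hRC : R ≤ Subgroup.normalizer (C : Set H) := Subgroup.normalizer_commutator_ge_left R A
  have hAC : A ≤ Subgroup.normalizer (C : Set H) := Subgroup.normalizer_commutator_ge_right R A
  -- `A ⊔ C` is normalized by `K`
  have hY : A ⊔ C = K := by
    apply eq_subnormalClosure_of_le_normalizer le_sup_left
      (sup_le hAK (hCR.trans (pResidualIn_le p K)))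
    show K ≤ _
    rw [← hKsup]
    apply sup_le
    · exact le_normalizer_sup Subgroup.le_normalizer hAC
    · intro r hr
      apply mem_normalizer_of_map_conj_le
      rw [Subgroup.map_sup, map_conj_eq_of_mem_normalizer (hRC hr)]
      apply sup_le _ le_sup_right
      rintro _ ⟨a, ha, rfl⟩
      have e : (MulAut.conj r).toMonoidHom a = ⁅r, a⁆ * a := by
        simp [commutatorElement_def, MulAut.conj_apply]
      rw [e]
      exact Subgroup.mul_mem _ (le_sup_right (a := A) (Subgroup.commutator_mem_commutator hr ha))
        (le_sup_left (b := C) ha)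
  have h1 : pResidualIn p (A ⊔ C) ≤ C := pResidualIn_sup_le hA hAC
  rw [hY] at h1
  exact h1

end Cfsg.Agent.Lib.Helper7
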