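import Mathlib

set_option autoImplicit false
set_option linter.unusedSectionVars false

/-!
# Sylow 2-subgroups of symmetric groups, part A (S4349)

`nu m` is the exponent of 2 in `m!`; `Sy Γ` is the symmetric group on a finset `Γ` realised inside
`Perm Ω`; `IsSyl Γ P` says that `P` is a Sylow 2-subgroup of `Sy Γ`.
-/

namespace Cfsg.Agent.Lib.Helper7.Sy2

open Equiv

/-- Exponent of `2` in `m!`. -/
def nu (m : ℕ) : ℕ := (m.factorial).factorization 2

lemma nu_add_le (k m : ℕ) : nu k + nu m ≤ nu (k + m) := by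
  have hd := Nat.factorial_mul_factorial_dvd_factorial_add k m
  have h1 := (Nat.factorization_le_iff_dvd
    (mul_ne_zero (Nat.factorial_ne_zero k) (Nat.factorial_ne_zero m))
    (Nat.factorial_ne_zero (k + m))).mpr hd
  rw [Nat.factorization_mul (Nat.factorial_ne_zero k) (Nat.factorial_ne_zero m)] at h1
  exact h1 2

lemma nu_eq (m : ℕ) : nu m = padicValNat 2 m.factorial :=
  Nat.factorization_def _ Nat.prime_two

lemma nu_lt {m : ℕ} (hm : m ≠ 0) : nu m < m := by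
  have : Fact (Nat.Prime 2) := ⟨Nat.prime_two⟩
  have h := sub_one_mul_padicValNat_factorial_lt_of_ne_zero 2 hm
  rw [nu_eq]
  simpa using h

lemma nu_two_mul (m : ℕ) : nu (2 * m) = nu m + m := by
  have : Fact (Nat.Prime 2) := ⟨Nat.prime_two⟩
  rw [nu_eq, nu_eq]
  exact padicValNat_factorial_mul m

lemma nu_zero : nu 0 = 0 := by simp [nu]

lemma nu_one : nu 1 = 0 := by simp [nu]

lemma nu_two : nu 2 = 1 := by
  have := nu_two_mul 1
  rw [nu_one] at this
  simpa using this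

lemma nu_two_pow (b : ℕ) : nu (2 ^ b) + 1 = 2 ^ b := by
  induction b with
  | zero => simp [nu_one]
  | succ b ih =>
    rw [pow_succ, mul_comm, nu_two_mul]
    omega

lemma two_pow_nu_small {m : ℕ} (hm : m ≤ 2) : 2 ^ nu m = m.factorial := by
  interval_cases m
  · simp [nu_zero]
  · simp [nu_one]
  · simp [nu_two]

variable {Ω : Type*} [Fintype Ω] [DecidableEq Ω]

/-- The symmetric group on `Γ`, inside `Perm Ω`. -/
def Sy (Γ : Finset Ω) : Subgroup (Perm Ω) where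
  carrier := {g | ∀ a, a ∉ Γ → g a = a}
  mul_mem' := by
    intro g h hg hh a ha
    rw [Perm.mul_apply, hh a ha, hg a ha]
  one_mem' := fun _ _ => rfl
  inv_mem' := by
    intro g hg a ha
    rw [Perm.inv_eq_iff_eq]
    exact (hg a ha).symm

lemma mem_Sy {Γ : Finset Ω} {g : Perm Ω} : g ∈ Sy Γ ↔ ∀ a, a ∉ Γ → g a = a := Iff.rfl

lemma Sy_mono {Γ Γ' : Finset Ω} (h : Γ ⊆ Γ') : Sy Γ ≤ Sy Γ' :=
  fun _ hg a ha => hg a (fun h' => ha (h h'))

lemma Sy_univ : Sy (Finset.univ : Finset Ω) = ⊤ := by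
  rw [eq_top_iff]
  intro g _ a ha
  exact absurd (Finset.mem_univ a) ha

lemma card_Sy (Γ : Finset Ω) : Nat.card (Sy Γ) = Γ.card.factorial := by
  have e := Perm.subtypeEquivSubtypePerm (fun a => a ∈ Γ)
  have h1 : Nat.card (Sy Γ) = Nat.card {f : Perm Ω // ∀ a, ¬ a ∈ Γ → f a = a} := rfl
  rw [h1, ← Nat.card_congr e, Nat.card_perm, Nat.card_eq_fintype_card, Fintype.card_coe]

/-- A 2-subgroup of `Sy Γ` has order at most `2 ^ nu |Γ|`. -/
lemma card_le_of_two_group {Γ : Finset Ω} {Q : Subgroup (Perm Ω)} (hQ : Q ≤ Sy Γ)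
    (h2 : IsPGroup 2 Q) : Nat.card Q ≤ 2 ^ nu Γ.card := by
  have : Fact (Nat.Prime 2) := ⟨Nat.prime_two⟩
  obtain ⟨j, hj⟩ := IsPGroup.iff_card.mp h2
  have hd : Nat.card Q ∣ Γ.card.factorial := by
    rw [← card_Sy]
    exact Subgroup.card_dvd_of_le hQ
  rw [hj] at hd ⊢
  have := (Nat.Prime.pow_dvd_iff_le_factorization Nat.prime_two
    (Nat.factorial_ne_zero _)).mp hd
  exact Nat.pow_le_pow_right (by norm_num) this

/-- `P` is a Sylow 2-subgroup of `Sy Γ`. -/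
def IsSyl (Γ : Finset Ω) (P : Subgroup (Perm Ω)) : Prop :=
  P ≤ Sy Γ ∧ Nat.card P = 2 ^ nu Γ.card

lemma IsSyl.isPGroup {Γ : Finset Ω} {P : Subgroup (Perm Ω)} (h : IsSyl Γ P) : IsPGroup 2 P :=
  IsPGroup.of_card h.2

lemma IsSyl.eq_of_le {Γ : Finset Ω} {P Q : Subgroup (Perm Ω)} (hP : IsSyl Γ P)
    (hQ : IsSyl Γ Q) (hle : P ≤ Q) : P = Q :=
  Subgroup.eq_of_le_of_card_ge hle (by rw [hP.2, hQ.2])

/-- Sylow 2-subgroups of `Perm Ω` are Sylow in the sense of `IsSyl univ`. -/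
lemma isSyl_of_sylow (P : Sylow 2 (Perm Ω)) : IsSyl (Finset.univ : Finset Ω) (P : Subgroup (Perm Ω)) := by
  have : Fact (Nat.Prime 2) := ⟨Nat.prime_two⟩
  refine ⟨by rw [Sy_univ]; exact le_top, ?_⟩
  rw [Sylow.card_eq_multiplicity, Nat.card_perm, Nat.card_eq_fintype_card, Finset.card_univ]
  rfl

end Cfsg.Agent.Lib.Helper7.Sy2
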