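import Cfsg.Agent.Lib.Helper7.Syl2A

set_option autoImplicit false
set_option linter.unusedSectionVars false

/-!
# Sylow 2-subgroups of symmetric groups, part B: restriction to invariant subsets (S4349)
-/

namespace Cfsg.Agent.Lib.Helper7.Sy2

open Equiv

variable {Ω : Type*} [Fintype Ω] [DecidableEq Ω]

/-- `g` preserves the finset `Γ`. -/
def Pres (Γ : Finset Ω) (g : Perm Ω) : Prop := ∀ a, g a ∈ Γ ↔ a ∈ Γ

lemma Pres.one (Γ : Finset Ω) : Pres Γ (1 : Perm Ω) := fun _ => Iff.rfl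

lemma Pres.mul {Γ : Finset Ω} {g h : Perm Ω} (hg : Pres Γ g) (hh : Pres Γ h) :
    Pres Γ (g * h) := fun a => by
  rw [Perm.mul_apply, hg, hh]

lemma Pres.inv {Γ : Finset Ω} {g : Perm Ω} (hg : Pres Γ g) : Pres Γ g⁻¹ := fun a => by
  have := hg (g⁻¹ a)
  have h1 : g (g⁻¹ a) = a := by simp
  rw [h1] at this
  exact this.symm

lemma Pres.pow {Γ : Finset Ω} {g : Perm Ω} (hg : Pres Γ g) (k : ℕ) : Pres Γ (g ^ k) := by
  induction k with
  | zero => rw [pow_zero]; exact Pres.one Γ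
  | succ k ih => rw [pow_succ]; exact ih.mul hg

lemma pres_of_mem_Sy {Γ : Finset Ω} {g : Perm Ω} (hg : g ∈ Sy Γ) : Pres Γ g := by
  intro a
  constructor
  · intro h
    by_contra ha
    rw [hg a ha] at h
    exact ha h
  · intro ha
    by_contra h
    have h1 := hg (g a) h
    have h2 : g a = a := g.injective h1
    rw [h2] at h
    exact h ha

/-- If `g ∈ Sy Γ` then `g` preserves every finset disjoint from `Γ`. -/
lemma pres_of_mem_Sy_disjoint {Γ Γ' : Finset Ω} (hd : Disjoint Γ Γ') {g : Perm Ω}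
    (hg : g ∈ Sy Γ) : Pres Γ' g := by
  intro a
  constructor
  · intro h
    have h1 : g a ∉ Γ := fun h' => (Finset.disjoint_left.mp hd h') h
    have h2 := hg (g a) h1
    have h3 : g a = a := g.injective h2
    rwa [h3] at h
  · intro ha
    have h1 : a ∉ Γ := fun h' => (Finset.disjoint_left.mp hd h') ha
    rw [hg a h1]
    exact ha

lemma pres_compl {Γ Γ' : Finset Ω} (hd : Disjoint Γ Γ') {g : Perm Ω}
    (hg : g ∈ Sy (Γ ∪ Γ')) (hp : Pres Γ g) : Pres Γ' g := by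
  have hu := pres_of_mem_Sy hg
  intro a
  constructor
  · intro h
    have h1 : g a ∈ Γ ∪ Γ' := Finset.mem_union_right _ h
    have h2 : a ∈ Γ ∪ Γ' := (hu a).mp h1
    rcases Finset.mem_union.mp h2 with h3 | h3
    · exact absurd ((hp a).mpr h3) (fun h' => (Finset.disjoint_left.mp hd h') h)
    · exact h3
  · intro ha
    have h2 : g a ∈ Γ ∪ Γ' := (hu a).mpr (Finset.mem_union_right _ ha)
    rcases Finset.mem_union.mp h2 with h3 | h3
    · exact absurd ((hp a).mp h3) (fun h' => (Finset.disjoint_left.mp hd h') ha)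
    · exact h3

/-- Restriction of `g` to a finset it preserves (identity outside; `1` if `g` does not preserve
the finset). -/
noncomputable def res (Γ : Finset Ω) (g : Perm Ω) : Perm Ω := by
  classical
  exact
    if h : Pres Γ g then
      { toFun := fun a => if a ∈ Γ then g a else a
        invFun := fun a => if a ∈ Γ then g⁻¹ a else a
        left_inv := fun a => by
          by_cases ha : a ∈ Γ
          · have h1 : g a ∈ Γ := (h a).mpr ha
            simp only [ha, h1, if_true]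
            simp
          · simp only [ha, if_false]
        right_inv := fun a => by
          by_cases ha : a ∈ Γ
          · have h1 : g⁻¹ a ∈ Γ := (h.inv a).mpr ha
            simp only [ha, h1, if_true]
            simp
          · simp only [ha, if_false] }
    else 1

lemma res_apply_mem {Γ : Finset Ω} {g : Perm Ω} (h : Pres Γ g) {a : Ω} (ha : a ∈ Γ) :
    res Γ g a = g a := by
  unfold res
  rw [dif_pos h]
  simp [ha]

lemma res_apply_not_mem {Γ : Finset Ω} (g : Perm Ω) {a : Ω} (ha : a ∉ Γ) :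
    res Γ g a = a := by
  unfold res
  by_cases h : Pres Γ g
  · rw [dif_pos h]
    simp [ha]
  · rw [dif_neg h]
    rfl

lemma res_mem_Sy (Γ : Finset Ω) (g : Perm Ω) : res Γ g ∈ Sy Γ :=
  fun _ ha => res_apply_not_mem g ha

lemma res_mul {Γ : Finset Ω} {g h : Perm Ω} (hg : Pres Γ g) (hh : Pres Γ h) :
    res Γ (g * h) = res Γ g * res Γ h := by
  ext a
  by_cases ha : a ∈ Γ
  · rw [res_apply_mem (hg.mul hh) ha, Perm.mul_apply, Perm.mul_apply, res_apply_mem hh ha,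
      res_apply_mem hg ((hh a).mpr ha)]
  · rw [res_apply_not_mem _ ha, Perm.mul_apply, res_apply_not_mem _ ha, res_apply_not_mem _ ha]

lemma res_one (Γ : Finset Ω) : res Γ (1 : Perm Ω) = 1 := by
  ext a
  by_cases ha : a ∈ Γ
  · rw [res_apply_mem (Pres.one Γ) ha]
  · rw [res_apply_not_mem _ ha]
    rfl

lemma res_inv {Γ : Finset Ω} {g : Perm Ω} (hg : Pres Γ g) : res Γ g⁻¹ = (res Γ g)⁻¹ := by
  have := res_mul hg hg.inv
  rw [mul_inv_cancel, res_one] at this
  exact eq_inv_of_mul_eq_one_right this.symm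

lemma res_pow {Γ : Finset Ω} {g : Perm Ω} (hg : Pres Γ g) (k : ℕ) :
    res Γ (g ^ k) = (res Γ g) ^ k := by
  induction k with
  | zero => rw [pow_zero, pow_zero, res_one]
  | succ k ih => rw [pow_succ, pow_succ, res_mul (hg.pow k) hg, ih]

lemma res_of_mem_Sy {Γ : Finset Ω} {g : Perm Ω} (hg : g ∈ Sy Γ) : res Γ g = g := by
  ext a
  by_cases ha : a ∈ Γ
  · rw [res_apply_mem (pres_of_mem_Sy hg) ha]
  · rw [res_apply_not_mem _ ha, hg a ha]

lemma res_of_mem_Sy_disjoint {Γ Γ' : Finset Ω} (hd : Disjoint Γ Γ') {g : Perm Ω}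
    (hg : g ∈ Sy Γ) : res Γ' g = 1 := by
  ext a
  by_cases ha : a ∈ Γ'
  · rw [res_apply_mem (pres_of_mem_Sy_disjoint hd hg) ha]
    have h1 : a ∉ Γ := fun h' => (Finset.disjoint_left.mp hd h') ha
    rw [hg a h1]
    rfl
  · rw [res_apply_not_mem _ ha]
    rfl

lemma eq_res_mul_res {Γ Γ' : Finset Ω} (hd : Disjoint Γ Γ') {g : Perm Ω}
    (hg : g ∈ Sy (Γ ∪ Γ')) (hp : Pres Γ g) : g = res Γ g * res Γ' g := by
  have hp' := pres_compl hd hg hp
  ext a
  rw [Perm.mul_apply]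
  by_cases ha : a ∈ Γ
  · have h1 : a ∉ Γ' := fun h' => (Finset.disjoint_left.mp hd ha) h'
    rw [res_apply_not_mem _ h1, res_apply_mem hp ha]
  · by_cases ha' : a ∈ Γ'
    · rw [res_apply_mem hp' ha']
      have h1 : g a ∉ Γ := fun h' => (Finset.disjoint_left.mp hd h') ((hp' a).mpr ha')
      rw [res_apply_not_mem _ h1]
    · rw [res_apply_not_mem _ ha', res_apply_not_mem _ ha]
      exact hg a (fun h => (Finset.mem_union.mp h).elim ha ha')

lemma commute_of_disjoint {Γ Γ' : Finset Ω} (hd : Disjoint Γ Γ') {x y : Perm Ω}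
    (hx : x ∈ Sy Γ) (hy : y ∈ Sy Γ') : x * y = y * x := by
  have h : Perm.Disjoint x y := by
    intro a
    by_cases ha : a ∈ Γ
    · right
      exact hy a (fun h' => (Finset.disjoint_left.mp hd ha) h')
    · left
      exact hx a ha
  exact h.commute.eq

/-- The image of a subgroup under restriction. -/
noncomputable def resSub (Γ : Finset Ω) (M : Subgroup (Perm Ω)) (hM : ∀ g ∈ M, Pres Γ g) :
    Subgroup (Perm Ω) where
  carrier := {y | ∃ g ∈ M, res Γ g = y}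
  mul_mem' := by
    rintro _ _ ⟨g, hg, rfl⟩ ⟨h, hh, rfl⟩
    exact ⟨g * h, mul_mem hg hh, res_mul (hM g hg) (hM h hh)⟩
  one_mem' := ⟨1, one_mem _, res_one Γ⟩
  inv_mem' := by
    rintro _ ⟨g, hg, rfl⟩
    exact ⟨g⁻¹, inv_mem hg, res_inv (hM g hg)⟩

lemma mem_resSub {Γ : Finset Ω} {M : Subgroup (Perm Ω)} {hM : ∀ g ∈ M, Pres Γ g} {y : Perm Ω} :
    y ∈ resSub Γ M hM ↔ ∃ g ∈ M, res Γ g = y := Iff.rfl

lemma resSub_le_Sy (Γ : Finset Ω) (M : Subgroup (Perm Ω)) (hM : ∀ g ∈ M, Pres Γ g) :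
    resSub Γ M hM ≤ Sy Γ := by
  rintro _ ⟨g, _, rfl⟩
  exact res_mem_Sy Γ g

lemma resSub_isPGroup (Γ : Finset Ω) (M : Subgroup (Perm Ω)) (hM : ∀ g ∈ M, Pres Γ g)
    (h2 : IsPGroup 2 M) : IsPGroup 2 (resSub Γ M hM) := by
  rintro ⟨y, g, hg, rfl⟩
  obtain ⟨k, hk⟩ := h2 ⟨g, hg⟩
  refine ⟨k, ?_⟩
  apply Subtype.ext
  have h1 : g ^ 2 ^ k = 1 := by
    have := congrArg Subtype.val hk
    simpa using this
  show (res Γ g) ^ 2 ^ k = 1
  rw [← res_pow (hM g hg), h1, res_one]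

lemma card_resSub_le (Γ : Finset Ω) (M : Subgroup (Perm Ω)) (hM : ∀ g ∈ M, Pres Γ g)
    (h2 : IsPGroup 2 M) : Nat.card (resSub Γ M hM) ≤ 2 ^ nu Γ.card :=
  card_le_of_two_group (resSub_le_Sy Γ M hM) (resSub_isPGroup Γ M hM h2)

/-- Splitting lemma: a 2-subgroup of `Sy (Γ ∪ Γ')` preserving `Γ` has order at most
`2 ^ (nu |Γ| + nu |Γ'|)`; in case of equality it is the product of its parts supported on `Γ`
and `Γ'`, which are Sylow. -/
theorem split (Γ Γ' : Finset Ω) (hd : Disjoint Γ Γ') (M : Subgroup (Perm Ω))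
    (hM : M ≤ Sy (Γ ∪ Γ')) (h2 : IsPGroup 2 M) (hpres : ∀ g ∈ M, Pres Γ g) :
    Nat.card M ≤ 2 ^ (nu Γ.card + nu Γ'.card) ∧
    (2 ^ (nu Γ.card + nu Γ'.card) ≤ Nat.card M →
      (∀ g ∈ M, res Γ g ∈ M ∧ res Γ' g ∈ M) ∧ IsSyl Γ (M ⊓ Sy Γ) ∧ IsSyl Γ' (M ⊓ Sy Γ')) := by
  have hpres' : ∀ g ∈ M, Pres Γ' g := fun g hg => pres_compl hd (hM hg) (hpres g hg)
  obtain ⟨A, hA⟩ : ∃ A, A = resSub Γ M hpres := ⟨_, rfl⟩
  obtain ⟨B, hB⟩ : ∃ B, B = resSub Γ' M hpres' := ⟨_, rfl⟩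
  have hAc : Nat.card A ≤ 2 ^ nu Γ.card := hA ▸ card_resSub_le Γ M hpres h2
  have hBc : Nat.card B ≤ 2 ^ nu Γ'.card := hB ▸ card_resSub_le Γ' M hpres' h2
  obtain ⟨ι, hι⟩ : ∃ ι : M → A × B, ∀ g : M,
      ((ι g).1 : Perm Ω) = res Γ g ∧ ((ι g).2 : Perm Ω) = res Γ' g := by
    refine ⟨fun g => (⟨res Γ g, ?_⟩, ⟨res Γ' g, ?_⟩), fun g => ⟨rfl, rfl⟩⟩
    · rw [hA]
      exact ⟨g, g.2, rfl⟩
    · rw [hB]
      exact ⟨g, g.2, rfl⟩
  have hinj : Function.Injective ι := by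
    intro g h hgh
    apply Subtype.ext
    rw [eq_res_mul_res hd (hM g.2) (hpres g g.2), eq_res_mul_res hd (hM h.2) (hpres h h.2),
      ← (hι g).1, ← (hι g).2, ← (hι h).1, ← (hι h).2, hgh]
  have hcard : Nat.card M ≤ Nat.card A * Nat.card B := by
    rw [← Nat.card_prod]
    exact Nat.card_le_card_of_injective ι hinj
  have hpowadd : (2 : ℕ) ^ (nu Γ.card + nu Γ'.card) = 2 ^ nu Γ.card * 2 ^ nu Γ'.card :=
    pow_add _ _ _
  refine ⟨?_, ?_⟩
  · rw [hpowadd]
    exact hcard.trans (Nat.mul_le_mul hAc hBc)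
  · intro hge
    rw [hpowadd] at hge
    have hApos : 0 < Nat.card A := Nat.card_pos
    have hBpos : 0 < Nat.card B := Nat.card_pos
    have hAeq : Nat.card A = 2 ^ nu Γ.card := by
      by_contra hne
      have hlt : Nat.card A < 2 ^ nu Γ.card := lt_of_le_of_ne hAc hne
      have : Nat.card A * Nat.card B < 2 ^ nu Γ.card * 2 ^ nu Γ'.card :=
        lt_of_lt_of_le (Nat.mul_lt_mul_of_pos_right hlt hBpos) (Nat.mul_le_mul_left _ hBc)
      omega
    have hBeq : Nat.card B = 2 ^ nu Γ'.card := by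
      by_contra hne
      have hlt : Nat.card B < 2 ^ nu Γ'.card := lt_of_le_of_ne hBc hne
      have : Nat.card A * Nat.card B < 2 ^ nu Γ.card * 2 ^ nu Γ'.card :=
        lt_of_le_of_lt (Nat.mul_le_mul_right _ hAc) (Nat.mul_lt_mul_of_pos_left hlt (by positivity))
      omega
    have hMeq : Nat.card M = Nat.card (A × B) := by
      rw [Nat.card_prod, hAeq, hBeq]
      have := hcard
      rw [hAeq, hBeq] at this
      omega
    have hbij : Function.Bijective ι :=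
      (Nat.bijective_iff_injective_and_card ι).mpr ⟨hinj, hMeq⟩
    have hresA : ∀ g ∈ M, res Γ g ∈ M := by
      intro g hg
      have hmemA : res Γ g ∈ A := by
        rw [hA]
        exact ⟨g, hg, rfl⟩
      have hmemB : (1 : Perm Ω) ∈ B := one_mem B
      obtain ⟨h, hh⟩ := hbij.surjective (⟨res Γ g, hmemA⟩, ⟨1, hmemB⟩)
      have e1 : res Γ h = res Γ g := by
        rw [← (hι h).1, hh]
      have e2 : res Γ' h = 1 := by
        rw [← (hι h).2, hh]
      have e3 : (h : Perm Ω) = res Γ g := by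
        rw [eq_res_mul_res hd (hM h.2) (hpres h h.2), e1, e2, mul_one]
      rw [← e3]
      exact h.2
    have hresB : ∀ g ∈ M, res Γ' g ∈ M := by
      intro g hg
      have hmemB : res Γ' g ∈ B := by
        rw [hB]
        exact ⟨g, hg, rfl⟩
      have hmemA : (1 : Perm Ω) ∈ A := one_mem A
      obtain ⟨h, hh⟩ := hbij.surjective (⟨1, hmemA⟩, ⟨res Γ' g, hmemB⟩)
      have e1 : res Γ h = 1 := by
        rw [← (hι h).1, hh]
      have e2 : res Γ' h = res Γ' g := by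
        rw [← (hι h).2, hh]
      have e3 : (h : Perm Ω) = res Γ' g := by
        rw [eq_res_mul_res hd (hM h.2) (hpres h h.2), e1, e2, one_mul]
      rw [← e3]
      exact h.2
    have hAM : M ⊓ Sy Γ = A := by
      rw [hA]
      ext y
      constructor
      · rintro ⟨hy1, hy2⟩
        exact ⟨y, hy1, res_of_mem_Sy hy2⟩
      · rintro ⟨g, hg, rfl⟩
        exact ⟨hresA g hg, res_mem_Sy Γ g⟩
    have hBM : M ⊓ Sy Γ' = B := by
      rw [hB]
      ext y
      constructor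
      · rintro ⟨hy1, hy2⟩
        exact ⟨y, hy1, res_of_mem_Sy hy2⟩
      · rintro ⟨g, hg, rfl⟩
        exact ⟨hresB g hg, res_mem_Sy Γ' g⟩
    refine ⟨fun g hg => ⟨hresA g hg, hresB g hg⟩, ⟨inf_le_right, ?_⟩, ⟨inf_le_right, ?_⟩⟩
    · rw [hAM, hAeq]
    · rw [hBM, hBeq]

end Cfsg.Agent.Lib.Helper7.Sy2
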