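import Cfsg.Agent.Lib.Helper7.Syl2B

set_option autoImplicit false
set_option linter.unusedSectionVars false

/-!
# Sylow 2-subgroups of symmetric groups, part C: transitivity and the block system (S4349)
-/

namespace Cfsg.Agent.Lib.Helper7.Sy2

open Equiv

variable {Ω : Type*} [Fintype Ω] [DecidableEq Ω]

/-- A Sylow 2-subgroup on `2 ^ b` points has no non-trivial invariant subset. -/
theorem invariant_trivial {Γ₀ : Finset Ω} {b : ℕ} (hcard : Γ₀.card = 2 ^ b)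
    {P : Subgroup (Perm Ω)} (hP : IsSyl Γ₀ P) {Γ : Finset Ω} (hΓ : Γ ⊆ Γ₀)
    (hinv : ∀ g ∈ P, Pres Γ g) : Γ = ∅ ∨ Γ = Γ₀ := by
  have hd : Disjoint Γ (Γ₀ \ Γ) := Finset.disjoint_sdiff
  have hu : Γ ∪ (Γ₀ \ Γ) = Γ₀ := Finset.union_sdiff_of_subset hΓ
  have h1 := (split Γ (Γ₀ \ Γ) hd P (by rw [hu]; exact hP.1) hP.isPGroup hinv).1
  rw [hP.2, hcard] at h1
  have h2 : nu (2 ^ b) ≤ nu Γ.card + nu (Γ₀ \ Γ).card :=
    (Nat.pow_le_pow_iff_right (by norm_num)).mp h1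
  have h3 : (Γ₀ \ Γ).card + Γ.card = 2 ^ b := by
    rw [← hcard]
    exact Finset.card_sdiff_add_card_eq_card hΓ
  have h4 := nu_two_pow b
  by_cases hk : Γ.card = 0
  · left
    exact Finset.card_eq_zero.mp hk
  · by_cases hk' : (Γ₀ \ Γ).card = 0
    · right
      have h5 := Finset.card_eq_zero.mp hk'
      exact Finset.Subset.antisymm hΓ (Finset.sdiff_eq_empty_iff_subset.mp h5)
    · have h6 := nu_lt hk
      have h7 := nu_lt hk'
      omega

/-- The orbit of a point under a subgroup, as a finset. -/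
noncomputable def orbF (P : Subgroup (Perm Ω)) (a : Ω) : Finset Ω := by
  classical
  exact Finset.univ.filter (fun b => ∃ g ∈ P, g a = b)

lemma mem_orbF {P : Subgroup (Perm Ω)} {a b : Ω} : b ∈ orbF P a ↔ ∃ g ∈ P, g a = b := by
  classical
  simp [orbF]

lemma self_mem_orbF (P : Subgroup (Perm Ω)) (a : Ω) : a ∈ orbF P a :=
  mem_orbF.mpr ⟨1, one_mem _, rfl⟩

lemma pres_orbF {P : Subgroup (Perm Ω)} {a : Ω} {g : Perm Ω} (hg : g ∈ P) :
    Pres (orbF P a) g := by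
  intro c
  constructor
  · intro h
    obtain ⟨h', hh', e⟩ := mem_orbF.mp h
    refine mem_orbF.mpr ⟨g⁻¹ * h', mul_mem (inv_mem hg) hh', ?_⟩
    rw [Perm.mul_apply, e]
    simp
  · intro h
    obtain ⟨h', hh', e⟩ := mem_orbF.mp h
    refine mem_orbF.mpr ⟨g * h', mul_mem hg hh', ?_⟩
    rw [Perm.mul_apply, e]

lemma orbF_subset {P : Subgroup (Perm Ω)} {Γ₀ : Finset Ω} (hP : P ≤ Sy Γ₀) {a : Ω}
    (ha : a ∈ Γ₀) : orbF P a ⊆ Γ₀ := by
  intro b hb
  obtain ⟨g, hg, rfl⟩ := mem_orbF.mp hb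
  exact (pres_of_mem_Sy (hP hg) a).mpr ha

/-- Point stabiliser inside `P`. -/
def stabS (P : Subgroup (Perm Ω)) (a : Ω) : Subgroup (Perm Ω) :=
  P ⊓ MulAction.stabilizer (Perm Ω) a

lemma mem_stabS {P : Subgroup (Perm Ω)} {a : Ω} {g : Perm Ω} :
    g ∈ stabS P a ↔ g ∈ P ∧ g a = a := by
  rw [stabS, Subgroup.mem_inf, MulAction.mem_stabilizer_iff]
  rfl

lemma card_stab_eq (P : Subgroup (Perm Ω)) (a : Ω) :
    Nat.card (MulAction.stabilizer P a) = Nat.card (stabS P a) := by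
  have h : (MulAction.stabilizer P a).map P.subtype = stabS P a := by
    ext g
    rw [Subgroup.mem_map, mem_stabS]
    constructor
    · rintro ⟨k, hk, rfl⟩
      exact ⟨k.2, MulAction.mem_stabilizer_iff.mp hk⟩
    · rintro ⟨hg, hga⟩
      exact ⟨⟨g, hg⟩, MulAction.mem_stabilizer_iff.mpr hga, rfl⟩
  rw [← h]
  exact (Subgroup.card_map_of_injective P.subtype_injective).symm

/-- Orbit-stabiliser. -/
lemma card_orbF_mul (P : Subgroup (Perm Ω)) (a : Ω) :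
    (orbF P a).card * Nat.card (stabS P a) = Nat.card P := by
  have e := MulAction.orbitEquivQuotientStabilizer P a
  have h1 : Nat.card (MulAction.orbit P a) = (orbF P a).card := by
    have h2 : Nat.card (MulAction.orbit P a) = Nat.card (orbF P a) := by
      apply Nat.card_congr
      apply Equiv.subtypeEquivRight
      intro b
      rw [MulAction.mem_orbit_iff, mem_orbF]
      constructor
      · rintro ⟨g, hg⟩
        exact ⟨g, g.2, hg⟩
      · rintro ⟨g, hg, hga⟩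
        exact ⟨⟨g, hg⟩, hga⟩
    rw [h2, Nat.card_eq_fintype_card, Fintype.card_coe]
  rw [← h1, ← card_stab_eq, Nat.card_congr e]
  exact (Subgroup.card_eq_card_quotient_mul_card_subgroup _).symm

/-- Orbits of a 2-group have 2-power size. -/
lemma card_orbF_two_pow {P : Subgroup (Perm Ω)} (h2 : IsPGroup 2 P) (a : Ω) :
    ∃ t : ℕ, (orbF P a).card = 2 ^ t := by
  have : Fact (Nat.Prime 2) := ⟨Nat.prime_two⟩
  obtain ⟨m, hm⟩ := IsPGroup.iff_card.mp h2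
  have h := card_orbF_mul P a
  rw [hm] at h
  exact (Nat.dvd_prime_pow Nat.prime_two).mp ⟨_, h.symm⟩ |>.imp fun t ht => ht.2

/-- The block system of a transitive Sylow 2-subgroup. -/
structure Blocks (Γ₀ : Finset Ω) (P : Subgroup (Perm Ω)) (B₁ B₂ : Finset Ω) (b : ℕ) : Prop where
  disj : Disjoint B₁ B₂
  union : B₁ ∪ B₂ = Γ₀
  card1 : B₁.card = 2 ^ b
  card2 : B₂.card = 2 ^ b
  alt : ∀ g ∈ P, (Pres B₁ g ∧ Pres B₂ g) ∨
    ((∀ a, g a ∈ B₂ ↔ a ∈ B₁) ∧ (∀ a, g a ∈ B₁ ↔ a ∈ B₂))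
  syl1 : IsSyl B₁ (P ⊓ Sy B₁)
  syl2 : IsSyl B₂ (P ⊓ Sy B₂)
  resmem : ∀ g ∈ P, Pres B₁ g → res B₁ g ∈ P ∧ res B₂ g ∈ P
  swap : ∃ g ∈ P, (∀ a, g a ∈ B₂ ↔ a ∈ B₁) ∧ (∀ a, g a ∈ B₁ ↔ a ∈ B₂)

lemma Blocks.symm {Γ₀ : Finset Ω} {P : Subgroup (Perm Ω)} {B₁ B₂ : Finset Ω} {b : ℕ}
    (h : Blocks Γ₀ P B₁ B₂ b) (hP : P ≤ Sy Γ₀) : Blocks Γ₀ P B₂ B₁ b where
  disj := h.disj.symm
  union := by rw [Finset.union_comm]; exact h.union
  card1 := h.card2
  card2 := h.card1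
  alt := fun g hg => (h.alt g hg).imp (fun h' => ⟨h'.2, h'.1⟩) (fun h' => ⟨h'.2, h'.1⟩)
  syl1 := h.syl2
  syl2 := h.syl1
  resmem := fun g hg hp => by
    have hg' : g ∈ Sy (B₂ ∪ B₁) := by
      rw [Finset.union_comm, h.union]
      exact hP hg
    have := h.resmem g hg (pres_compl h.disj.symm hg' hp)
    exact ⟨this.2, this.1⟩
  swap := by
    obtain ⟨g, hg, h1, h2⟩ := h.swap
    exact ⟨g, hg, h2, h1⟩

lemma Blocks.nonempty1 {Γ₀ : Finset Ω} {P : Subgroup (Perm Ω)} {B₁ B₂ : Finset Ω} {b : ℕ}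
    (h : Blocks Γ₀ P B₁ B₂ b) : B₁.Nonempty := by
  rw [← Finset.card_pos, h.card1]
  positivity

lemma Blocks.sub1 {Γ₀ : Finset Ω} {P : Subgroup (Perm Ω)} {B₁ B₂ : Finset Ω} {b : ℕ}
    (h : Blocks Γ₀ P B₁ B₂ b) : B₁ ⊆ Γ₀ := by
  rw [← h.union]
  exact Finset.subset_union_left

lemma Blocks.sub2 {Γ₀ : Finset Ω} {P : Subgroup (Perm Ω)} {B₁ B₂ : Finset Ω} {b : ℕ}
    (h : Blocks Γ₀ P B₁ B₂ b) : B₂ ⊆ Γ₀ := by
  rw [← h.union]
  exact Finset.subset_union_right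

/-- An element of `P` that maps one point of `B₁` into `B₁` preserves `B₁`. -/
lemma Blocks.pres_of_point {Γ₀ : Finset Ω} {P : Subgroup (Perm Ω)} {B₁ B₂ : Finset Ω} {b : ℕ}
    (h : Blocks Γ₀ P B₁ B₂ b) {g : Perm Ω} (hg : g ∈ P) {a : Ω} (ha : a ∈ B₁)
    (hga : g a ∈ B₁) : Pres B₁ g ∧ Pres B₂ g := by
  rcases h.alt g hg with h1 | h1
  · exact h1
  · exact absurd ((h1.1 a).mpr ha) (fun h' => (Finset.disjoint_left.mp h.disj hga) h')

theorem exists_blocks {Γ₀ : Finset Ω} {b : ℕ} (hcard : Γ₀.card = 2 ^ (b + 1))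
    {P : Subgroup (Perm Ω)} (hP : IsSyl Γ₀ P) : ∃ B₁ B₂, Blocks Γ₀ P B₁ B₂ b := by
  classical
  have : Fact (Nat.Prime 2) := ⟨Nat.prime_two⟩
  have hne : Γ₀.Nonempty := by
    rw [← Finset.card_pos, hcard]
    positivity
  obtain ⟨w, hw⟩ := hne
  have horb : orbF P w = Γ₀ := by
    rcases invariant_trivial hcard hP (orbF_subset hP.1 hw) (fun g hg => pres_orbF hg) with h | h
    · exact absurd (self_mem_orbF P w) (by rw [h]; exact Finset.notMem_empty _)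
    · exact h
  have htrans : ∀ a ∈ Γ₀, ∃ g ∈ P, g w = a := by
    intro a ha
    rw [← horb] at ha
    exact mem_orbF.mp ha
  have hos := card_orbF_mul P w
  rw [horb, hcard, hP.2, hcard] at hos
  obtain ⟨m, hm⟩ : ∃ m, m = nu (2 ^ (b + 1)) := ⟨_, rfl⟩
  rw [← hm] at hos
  have hm1 : m + 1 = 2 ^ (b + 1) := by
    rw [hm]
    exact nu_two_pow (b + 1)
  have hbm : b + 1 ≤ m := by
    have := Nat.lt_two_pow_self (n := b + 1)
    omega
  have hPcard : Nat.card P = 2 ^ m := by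
    rw [hP.2, hcard, hm]
  have hstab : Nat.card (MulAction.stabilizer P w) = 2 ^ (m - (b + 1)) := by
    rw [card_stab_eq]
    have h1 : 2 ^ (b + 1) * 2 ^ (m - (b + 1)) = 2 ^ m := by
      rw [← pow_add]
      congr 1
      omega
    exact Nat.eq_of_mul_eq_mul_left (by positivity) (hos.trans h1.symm)
  obtain ⟨K, hKcard, hKle⟩ := Sylow.exists_subgroup_card_pow_prime_le 2 (n := m - (b + 1))
    (m := m - 1) (by rw [hPcard]; exact pow_dvd_pow 2 (Nat.sub_le m 1))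
    (MulAction.stabilizer P w) hstab (by omega)
  have hK2 : K.index = 2 := by
    have h1 := Subgroup.card_mul_index K
    rw [hKcard, hPcard] at h1
    have h2 : 2 ^ (m - 1) * 2 = 2 ^ m := by
      rw [← pow_succ]
      congr 1
      omega
    exact Nat.eq_of_mul_eq_mul_left (by positivity) (h1.trans h2.symm)
  obtain ⟨M, hMdef⟩ : ∃ M, M = K.map P.subtype := ⟨_, rfl⟩
  have hMP : M ≤ P := by
    rw [hMdef]
    exact Subgroup.map_subtype_le K
  have hmemM : ∀ p (hp : p ∈ P), p ∈ M ↔ (⟨p, hp⟩ : P) ∈ K := by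
    intro p hp
    rw [hMdef, Subgroup.mem_map]
    constructor
    · rintro ⟨k, hk, hkp⟩
      have : k = ⟨p, hp⟩ := Subtype.ext hkp
      rwa [← this]
    · intro hk
      exact ⟨⟨p, hp⟩, hk, rfl⟩
  have hidx : ∀ p q, p ∈ P → q ∈ P → (p * q ∈ M ↔ (p ∈ M ↔ q ∈ M)) := by
    intro p q hp hq
    rw [hmemM _ (mul_mem hp hq), hmemM p hp, hmemM q hq]
    exact Subgroup.mul_mem_iff_of_index_two hK2 (a := ⟨p, hp⟩) (b := ⟨q, hq⟩)
  have hstabM : ∀ p ∈ P, p w = w → p ∈ M := by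
    intro p hp hpw
    rw [hmemM p hp]
    exact hKle (MulAction.mem_stabilizer_iff.mpr hpw)
  have hMcard : Nat.card M = 2 ^ (m - 1) := by
    rw [hMdef, Subgroup.card_map_of_injective P.subtype_injective, hKcard]
  have hMneP : ∃ g₀ ∈ P, g₀ ∉ M := by
    by_contra hcon
    push Not at hcon
    have h1 : Nat.card P ≤ Nat.card M := Subgroup.card_le_of_le hcon
    rw [hPcard, hMcard] at h1
    have h2 : m - 1 < m := by omega
    have := Nat.pow_lt_pow_right (a := 2) (by norm_num) h2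
    omega
  obtain ⟨g₀, hg₀P, hg₀M⟩ := hMneP
  obtain ⟨B₁, hB₁⟩ : ∃ B₁, B₁ = orbF M w := ⟨_, rfl⟩
  obtain ⟨B₂, hB₂⟩ : ∃ B₂, B₂ = Γ₀ \ B₁ := ⟨_, rfl⟩
  have hB₁sub : B₁ ⊆ Γ₀ := by
    rw [hB₁]
    exact orbF_subset (hMP.trans hP.1) hw
  have hwB₁ : w ∈ B₁ := by
    rw [hB₁]
    exact self_mem_orbF M w
  have hdisj : Disjoint B₁ B₂ := by
    rw [hB₂]
    exact Finset.disjoint_sdiff
  have hunion : B₁ ∪ B₂ = Γ₀ := by
    rw [hB₂]
    exact Finset.union_sdiff_of_subset hB₁sub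
  have hmemB₂ : ∀ a, a ∈ B₂ ↔ a ∈ Γ₀ ∧ a ∉ B₁ := by
    intro a
    rw [hB₂, Finset.mem_sdiff]
  have hpresΓ₀ : ∀ p ∈ P, Pres Γ₀ p := fun p hp => pres_of_mem_Sy (hP.1 hp)
  have hMpres : ∀ g ∈ M, Pres B₁ g := by
    intro g hg
    rw [hB₁]
    exact pres_orbF hg
  have hout : ∀ p ∈ P, p ∉ M → ∀ a ∈ B₁, p a ∉ B₁ := by
    intro p hp hpM a ha hpa
    rw [hB₁] at ha hpa
    obtain ⟨k, hk, rfl⟩ := mem_orbF.mp ha
    obtain ⟨k', hk', e⟩ := mem_orbF.mp hpa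
    have h1 : (k'⁻¹ * p * k) w = w := by
      rw [Perm.mul_apply, Perm.mul_apply, ← e]
      simp
    have h2 : k'⁻¹ * p * k ∈ M :=
      hstabM _ (mul_mem (mul_mem (inv_mem (hMP hk')) hp) (hMP hk)) h1
    apply hpM
    have h3 : p = k' * (k'⁻¹ * p * k) * k⁻¹ := by group
    rw [h3]
    exact mul_mem (mul_mem hk' h2) (inv_mem hk)
  have hin : ∀ p ∈ P, p ∉ M → ∀ a ∈ Γ₀, a ∉ B₁ → p a ∈ B₁ := by
    intro p hp hpM a ha haB
    obtain ⟨q, hq, rfl⟩ := htrans a ha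
    have hqM : q ∉ M := by
      intro hqM
      apply haB
      rw [hB₁]
      exact mem_orbF.mpr ⟨q, hqM, rfl⟩
    have hpq : p * q ∈ M := (hidx p q hp hq).mpr ⟨fun h => absurd h hpM, fun h => absurd h hqM⟩
    rw [hB₁]
    exact mem_orbF.mpr ⟨p * q, hpq, rfl⟩
  have hswap : ∀ p ∈ P, p ∉ M → (∀ a, p a ∈ B₂ ↔ a ∈ B₁) ∧ (∀ a, p a ∈ B₁ ↔ a ∈ B₂) := by
    intro p hp hpM
    constructor
    · intro a
      rw [hmemB₂]
      constructor
      · rintro ⟨h1, h2⟩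
        by_contra haB
        exact h2 (hin p hp hpM a ((hpresΓ₀ p hp a).mp h1) haB)
      · intro ha
        exact ⟨(hpresΓ₀ p hp a).mpr (hB₁sub ha), hout p hp hpM a ha⟩
    · intro a
      rw [hmemB₂]
      constructor
      · intro h1
        have h2 : a ∈ Γ₀ := (hpresΓ₀ p hp a).mp (hB₁sub h1)
        refine ⟨h2, fun haB => hout p hp hpM a haB h1⟩
      · rintro ⟨h1, h2⟩
        exact hin p hp hpM a h1 h2
  have hcardle1 : B₁.card ≤ B₂.card :=
    Finset.card_le_card_of_injOn g₀ (fun a ha => ((hswap g₀ hg₀P hg₀M).1 a).mpr ha)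
      g₀.injective.injOn
  have hcardle2 : B₂.card ≤ B₁.card :=
    Finset.card_le_card_of_injOn g₀ (fun a ha => ((hswap g₀ hg₀P hg₀M).2 a).mpr ha)
      g₀.injective.injOn
  have hcardsum : B₁.card + B₂.card = 2 ^ (b + 1) := by
    rw [← hcard, ← hunion, Finset.card_union_of_disjoint hdisj]
  have hc1 : B₁.card = 2 ^ b := by
    rw [pow_succ] at hcardsum
    omega
  have hc2 : B₂.card = 2 ^ b := by
    rw [pow_succ] at hcardsum
    omega
  have hM2 : IsPGroup 2 M := IsPGroup.of_card hMcard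
  have hMSy : M ≤ Sy (B₁ ∪ B₂) := by
    rw [hunion]
    exact hMP.trans hP.1
  have hnub := nu_two_pow b
  have hge : 2 ^ (nu B₁.card + nu B₂.card) ≤ Nat.card M := by
    rw [hMcard, hc1, hc2]
    apply Nat.pow_le_pow_right (by norm_num)
    rw [pow_succ] at hm1
    omega
  obtain ⟨hres, hs1, hs2⟩ := (split B₁ B₂ hdisj M hMSy hM2 hMpres).2 hge
  have hPM : ∀ g ∈ P, Pres B₁ g → g ∈ M := by
    intro g hg hp
    by_contra hgM
    exact hout g hg hgM w hwB₁ ((hp w).mpr hwB₁)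
  have hinf1 : P ⊓ Sy B₁ = M ⊓ Sy B₁ := by
    ext g
    constructor
    · rintro ⟨h1, h2⟩
      exact ⟨hPM g h1 (pres_of_mem_Sy h2), h2⟩
    · rintro ⟨h1, h2⟩
      exact ⟨hMP h1, h2⟩
  have hinf2 : P ⊓ Sy B₂ = M ⊓ Sy B₂ := by
    ext g
    constructor
    · rintro ⟨h1, h2⟩
      have h3 : g ∈ Sy (B₂ ∪ B₁) := by
        rw [Finset.union_comm, hunion]
        exact hP.1 h1
      exact ⟨hPM g h1 (pres_compl hdisj.symm h3 (pres_of_mem_Sy h2)), h2⟩
    · rintro ⟨h1, h2⟩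
      exact ⟨hMP h1, h2⟩
  refine ⟨B₁, B₂, ⟨hdisj, hunion, hc1, hc2, ?_, ?_, ?_, ?_, ?_⟩⟩
  · intro g hg
    by_cases hgM : g ∈ M
    · left
      exact ⟨hMpres g hgM, pres_compl hdisj (hMSy hgM) (hMpres g hgM)⟩
    · right
      exact hswap g hg hgM
  · rw [hinf1]
    exact hs1
  · rw [hinf2]
    exact hs2
  · intro g hg hp
    have := hres g (hPM g hg hp)
    exact ⟨hMP this.1, hMP this.2⟩
  · exact ⟨g₀, hg₀P, hswap g₀ hg₀P hg₀M⟩

/-- Uniqueness of the block system. -/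
theorem blocks_unique {Γ₀ : Finset Ω} {P : Subgroup (Perm Ω)} {B₁ B₂ : Finset Ω} {b : ℕ}
    (hB : Blocks Γ₀ P B₁ B₂ b) (C₁ : Finset Ω) (hC : C₁ ⊆ Γ₀) (hCcard : C₁.card = 2 ^ b)
    (hblock : ∀ g ∈ P, ∀ a ∈ C₁, g a ∈ C₁ → ∀ a' ∈ C₁, g a' ∈ C₁) :
    C₁ = B₁ ∨ C₁ = B₂ := by
  classical
  -- a subset of a finset of the same cardinality is equal
  have heq : ∀ B : Finset Ω, B.card = 2 ^ b → C₁ ⊆ B → C₁ = B := by
    intro B hBc hsub
    exact Finset.eq_of_subset_of_card_le hsub (by rw [hBc, hCcard])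
  by_cases hmeet : ∃ c ∈ C₁, c ∈ B₂
  · obtain ⟨c, hc1, hc2⟩ := hmeet
    right
    apply heq B₂ hB.card2
    -- C₁ ∩ B₁ is invariant under P ⊓ Sy B₁
    have hinv : ∀ g ∈ P ⊓ Sy B₁, Pres (C₁ ∩ B₁) g := by
      have hsub : ∀ g ∈ P ⊓ Sy B₁, ∀ a ∈ C₁ ∩ B₁, g a ∈ C₁ ∩ B₁ := by
        intro g hg a ha
        have hcfix : g c = c := hg.2 c (fun h' => (Finset.disjoint_left.mp hB.disj h') hc2)
        have h1 : g a ∈ C₁ :=
          hblock g hg.1 c hc1 (by rw [hcfix]; exact hc1) a (Finset.mem_inter.mp ha).1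
        have h2 : g a ∈ B₁ := (pres_of_mem_Sy hg.2 a).mpr (Finset.mem_inter.mp ha).2
        exact Finset.mem_inter.mpr ⟨h1, h2⟩
      intro g hg a
      constructor
      · intro h
        have := hsub g⁻¹ (inv_mem hg) (g a) h
        simpa using this
      · exact hsub g hg a
    rcases invariant_trivial hB.card1 hB.syl1 Finset.inter_subset_right hinv with h | h
    · intro a ha
      have haΓ := hC ha
      rw [← hB.union] at haΓ
      rcases Finset.mem_union.mp haΓ with h1 | h1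
      · have : a ∈ C₁ ∩ B₁ := Finset.mem_inter.mpr ⟨ha, h1⟩
        rw [h] at this
        exact absurd this (Finset.notMem_empty _)
      · exact h1
    · exfalso
      have h1 : B₁ ⊆ C₁ := by
        rw [← h]
        exact Finset.inter_subset_left
      have h2 : B₁ = C₁ := Finset.eq_of_subset_of_card_le h1 (by rw [hB.card1, hCcard])
      rw [← h2] at hc1
      exact (Finset.disjoint_left.mp hB.disj hc1) hc2
  · left
    apply heq B₁ hB.card1
    intro a ha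
    have haΓ := hC ha
    rw [← hB.union] at haΓ
    rcases Finset.mem_union.mp haΓ with h1 | h1
    · exact h1
    · exact absurd ⟨a, ha, h1⟩ hmeet

end Cfsg.Agent.Lib.Helper7.Sy2
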