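import Cfsg.Agent.Lib.Helper7.Syl2C

set_option autoImplicit false
set_option linter.unusedSectionVars false

/-!
# Sylow 2-subgroups of symmetric groups, part D: swapping elements and self-normalisation (S4349)
-/

namespace Cfsg.Agent.Lib.Helper7.Sy2

open Equiv

variable {Ω : Type*} [Fintype Ω] [DecidableEq Ω]

lemma IsSyl.eq_Sy_of_card_le_two {Γ₀ : Finset Ω} {P : Subgroup (Perm Ω)} (hP : IsSyl Γ₀ P)
    (h : Γ₀.card ≤ 2) : P = Sy Γ₀ :=
  Subgroup.eq_of_le_of_card_ge hP.1 (by rw [hP.2, card_Sy, two_pow_nu_small h])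

lemma apply_mem_image_iff (g : Perm Ω) (B : Finset Ω) (a : Ω) : g a ∈ B.image g ↔ a ∈ B := by
  rw [Finset.mem_image]
  constructor
  · rintro ⟨a', ha', e⟩
    rwa [← g.injective e]
  · intro h
    exact ⟨a, h, rfl⟩

/-- `p` swaps the two finsets. -/
def Swaps (B₁ B₂ : Finset Ω) (p : Perm Ω) : Prop :=
  (∀ a, p a ∈ B₂ ↔ a ∈ B₁) ∧ (∀ a, p a ∈ B₁ ↔ a ∈ B₂)

lemma Swaps.symm {B₁ B₂ : Finset Ω} {p : Perm Ω} (h : Swaps B₁ B₂ p) : Swaps B₂ B₁ p :=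
  ⟨h.2, h.1⟩

lemma Swaps.inv {B₁ B₂ : Finset Ω} {p : Perm Ω} (h : Swaps B₁ B₂ p) : Swaps B₁ B₂ p⁻¹ := by
  constructor
  · intro a
    have := h.2 (p⁻¹ a)
    have e : p (p⁻¹ a) = a := by simp
    rw [e] at this
    exact this.symm
  · intro a
    have := h.1 (p⁻¹ a)
    have e : p (p⁻¹ a) = a := by simp
    rw [e] at this
    exact this.symm

lemma Swaps.conj_mem {B₁ B₂ : Finset Ω} {p : Perm Ω} (h : Swaps B₁ B₂ p) {y : Perm Ω}
    (hy : y ∈ Sy B₁) : p * y * p⁻¹ ∈ Sy B₂ := by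
  intro a ha
  have h1 : p⁻¹ a ∉ B₁ := fun h' => ha ((h.inv.2 a).mp h')
  rw [Perm.mul_apply, Perm.mul_apply, hy _ h1]
  simp

lemma Swaps.conj_mem' {B₁ B₂ : Finset Ω} {p : Perm Ω} (h : Swaps B₁ B₂ p) {y : Perm Ω}
    (hy : y ∈ Sy B₂) : p⁻¹ * y * p ∈ Sy B₁ := by
  have := h.inv.symm.conj_mem hy
  rwa [inv_inv] at this

lemma Swaps.mul_pres {B₁ B₂ : Finset Ω} {p q : Perm Ω} (hp : Swaps B₁ B₂ p)
    (hq : Swaps B₁ B₂ q) : Pres B₁ (p⁻¹ * q) := by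
  intro a
  rw [Perm.mul_apply, hp.inv.2 (q a), hq.1 a]

lemma Swaps.mul_pres' {B₁ B₂ : Finset Ω} {s g : Perm Ω} (hs : Swaps B₁ B₂ s)
    (hg : ∀ a, g a ∈ B₂ ↔ a ∈ B₁) : Pres B₁ (s * g) := by
  intro a
  rw [Perm.mul_apply, hs.2 (g a), hg a]

lemma Swaps.sq_pres {B₁ B₂ : Finset Ω} {x : Perm Ω} (h : Swaps B₁ B₂ x) : Pres B₁ (x ^ 2) := by
  intro a
  rw [pow_two, Perm.mul_apply, h.2 (x a), h.1 a]

/-- Conjugating an element supported on `Γ` by `g` or by its restriction to `Γ` gives the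
same result. -/
lemma conj_res {Γ Γ' : Finset Ω} (hd : Disjoint Γ Γ') {g : Perm Ω} (hg : g ∈ Sy (Γ ∪ Γ'))
    (hp : Pres Γ g) {y : Perm Ω} (hy : y ∈ Sy Γ) :
    g * y * g⁻¹ = res Γ g * y * (res Γ g)⁻¹ := by
  have e := eq_res_mul_res hd hg hp
  have hc : y * res Γ' g = res Γ' g * y := commute_of_disjoint hd hy (res_mem_Sy Γ' g)
  calc g * y * g⁻¹ = (res Γ g * res Γ' g) * y * (res Γ g * res Γ' g)⁻¹ := by rw [← e]
    _ = res Γ g * (res Γ' g * y) * (res Γ' g)⁻¹ * (res Γ g)⁻¹ := by group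
    _ = res Γ g * (y * res Γ' g) * (res Γ' g)⁻¹ * (res Γ g)⁻¹ := by rw [hc]
    _ = res Γ g * y * (res Γ g)⁻¹ := by group

/-- In a finite subgroup, `g P g⁻¹ ≤ P` implies `g⁻¹ P g ≤ P`. -/
lemma inv_conj_mem {G : Type*} [Group G] {P : Subgroup G} [Finite P] {g : G}
    (hn : ∀ p ∈ P, g * p * g⁻¹ ∈ P) : ∀ p ∈ P, g⁻¹ * p * g ∈ P := by
  intro p hp
  obtain ⟨f, hf⟩ : ∃ f : P → P, ∀ q : P, (f q : G) = g * q * g⁻¹ :=
    ⟨fun q => ⟨g * q * g⁻¹, hn q q.2⟩, fun q => rfl⟩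
  have hinj : Function.Injective f := by
    intro q q' hqq'
    have h1 : g * (q : G) * g⁻¹ = g * (q' : G) * g⁻¹ := by rw [← hf q, ← hf q', hqq']
    apply Subtype.ext
    exact mul_left_cancel (mul_right_cancel h1)
  obtain ⟨q, hq⟩ := (Finite.injective_iff_surjective.mp hinj) ⟨p, hp⟩
  have h2 : g * (q : G) * g⁻¹ = p := by rw [← hf q, hq]
  have h3 : g⁻¹ * p * g = q := by
    rw [← h2]
    group
  rw [h3]
  exact q.2

/-- The inductive step of `normalizer_self`: the case where `g` preserves the blocks. -/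
lemma normalizer_step {b : ℕ}
    (ih : ∀ (Γ : Finset Ω), Γ.card = 2 ^ b → ∀ (P : Subgroup (Perm Ω)), IsSyl Γ P →
      ∀ g ∈ Sy Γ, (∀ p ∈ P, g * p * g⁻¹ ∈ P) → g ∈ P)
    {Γ₀ : Finset Ω} {P : Subgroup (Perm Ω)} {B₁ B₂ : Finset Ω} (hB : Blocks Γ₀ P B₁ B₂ b)
    {g : Perm Ω} (hg : g ∈ Sy Γ₀) (hn : ∀ p ∈ P, g * p * g⁻¹ ∈ P) (hp : Pres B₁ g) : g ∈ P := by
  have hg' : g ∈ Sy (B₁ ∪ B₂) := by
    rw [hB.union]
    exact hg
  have hp' : Pres B₂ g := pres_compl hB.disj hg' hp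
  have key : ∀ (Γ Γ' : Finset Ω), Disjoint Γ Γ' → g ∈ Sy (Γ ∪ Γ') → Pres Γ g →
      IsSyl Γ (P ⊓ Sy Γ) → Γ.card = 2 ^ b → res Γ g ∈ P := by
    intro Γ Γ' hd hgu hpΓ hs hc
    have h1 := ih Γ hc (P ⊓ Sy Γ) hs (res Γ g) (res_mem_Sy Γ g) ?_
    · exact h1.1
    · rintro y ⟨hy1, hy2⟩
      refine Subgroup.mem_inf.mpr ⟨?_,
        (Sy Γ).mul_mem ((Sy Γ).mul_mem (res_mem_Sy Γ g) hy2) ((Sy Γ).inv_mem (res_mem_Sy Γ g))⟩
      rw [← conj_res hd hgu hpΓ hy2]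
      exact hn y hy1
  have h1 := key B₁ B₂ hB.disj hg' hp hB.syl1 hB.card1
  have h2 := key B₂ B₁ hB.disj.symm (by rw [Finset.union_comm]; exact hg') hp' hB.syl2 hB.card2
  rw [eq_res_mul_res hB.disj hg' hp]
  exact mul_mem h1 h2

/-- A Sylow 2-subgroup of the symmetric group on `2 ^ b` points is self-normalising. -/
theorem normalizer_self : ∀ (b : ℕ) (Γ₀ : Finset Ω), Γ₀.card = 2 ^ b →
    ∀ (P : Subgroup (Perm Ω)), IsSyl Γ₀ P →
    ∀ g ∈ Sy Γ₀, (∀ p ∈ P, g * p * g⁻¹ ∈ P) → g ∈ P := by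
  intro b
  induction b with
  | zero =>
    intro Γ₀ hc P hP g hg _
    have := hP.eq_Sy_of_card_le_two (by rw [hc]; norm_num)
    rw [this]
    exact hg
  | succ b ih =>
    intro Γ₀ hc P hP g hg hn
    classical
    obtain ⟨B₁, B₂, hB⟩ := exists_blocks hc hP
    have hninv : ∀ p ∈ P, g⁻¹ * p * g ∈ P := inv_conj_mem hn
    have hpresΓ₀ := pres_of_mem_Sy hg
    have hC : B₁.image g ⊆ Γ₀ := by
      intro c hc'
      obtain ⟨a, ha, rfl⟩ := Finset.mem_image.mp hc'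
      exact (hpresΓ₀ a).mpr (hB.sub1 ha)
    have hCcard : (B₁.image g).card = 2 ^ b := by
      rw [Finset.card_image_of_injective _ g.injective, hB.card1]
    have hblock : ∀ p ∈ P, ∀ a ∈ B₁.image g, p a ∈ B₁.image g →
        ∀ a' ∈ B₁.image g, p a' ∈ B₁.image g := by
      intro p hp a ha hpa a' ha'
      obtain ⟨a₁, ha₁, rfl⟩ := Finset.mem_image.mp ha
      obtain ⟨a₂, ha₂, e⟩ := Finset.mem_image.mp hpa
      obtain ⟨a₁', ha₁', rfl⟩ := Finset.mem_image.mp ha'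
      have hq := hninv p hp
      have hq1 : (g⁻¹ * p * g) a₁ = a₂ := by
        rw [Perm.mul_apply, Perm.mul_apply, ← e]
        simp
      have hqpres := (hB.pres_of_point hq ha₁ (by rw [hq1]; exact ha₂)).1
      have h3 : p (g a₁') = g ((g⁻¹ * p * g) a₁') := by
        rw [Perm.mul_apply, Perm.mul_apply]
        simp
      rw [h3]
      exact Finset.mem_image.mpr ⟨_, (hqpres a₁').mpr ha₁', rfl⟩
    rcases blocks_unique hB (B₁.image g) hC hCcard hblock with h | h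
    · apply normalizer_step ih hB hg hn
      intro a
      have := apply_mem_image_iff g B₁ a
      rw [h] at this
      exact this
    · obtain ⟨s, hs, hsw⟩ := hB.swap
      have hsw' : Swaps B₁ B₂ s := hsw
      have hgB : ∀ a, g a ∈ B₂ ↔ a ∈ B₁ := fun a => by
        have := apply_mem_image_iff g B₁ a
        rw [h] at this
        exact this
      have hsg : s * g ∈ P := by
        apply normalizer_step ih hB (mul_mem (hP.1 hs) hg)
        · intro p hp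
          have h4 : s * g * p * (s * g)⁻¹ = s * (g * p * g⁻¹) * s⁻¹ := by group
          rw [h4]
          exact mul_mem (mul_mem hs (hn p hp)) (inv_mem hs)
        · exact hsw'.mul_pres' hgB
      have h5 : g = s⁻¹ * (s * g) := by group
      rw [h5]
      exact mul_mem (inv_mem hs) hsg

end Cfsg.Agent.Lib.Helper7.Sy2
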