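import Cfsg.Agent.Lib.Helper7.Syl2D

set_option autoImplicit false
set_option linter.unusedSectionVars false

/-!
# Sylow 2-subgroups of symmetric groups, part E: orbits of a single element, good elements (S4349)
-/

namespace Cfsg.Agent.Lib.Helper7.Sy2

open Equiv

variable {Ω : Type*} [Fintype Ω] [DecidableEq Ω]

/-- The orbit of `a` under `x`. -/
noncomputable def orb (x : Perm Ω) (a : Ω) : Finset Ω := orbF (Subgroup.zpowers x) a

lemma mem_orb {x : Perm Ω} {a b : Ω} : b ∈ orb x a ↔ ∃ n : ℕ, (x ^ n) a = b := by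
  rw [orb, mem_orbF]
  constructor
  · rintro ⟨g, hg, rfl⟩
    have h1 : g ∈ Submonoid.powers x := mem_powers_iff_mem_zpowers.mpr hg
    obtain ⟨n, rfl⟩ := (Submonoid.mem_powers_iff g x).mp h1
    exact ⟨n, rfl⟩
  · rintro ⟨n, rfl⟩
    exact ⟨x ^ n, Subgroup.pow_mem _ (Subgroup.mem_zpowers x) n, rfl⟩

lemma mem_orb_of_zpowers {x g : Perm Ω} (hg : g ∈ Subgroup.zpowers x) (a : Ω) :
    g a ∈ orb x a :=
  mem_orbF.mpr ⟨g, hg, rfl⟩

lemma self_mem_orb (x : Perm Ω) (a : Ω) : a ∈ orb x a := self_mem_orbF _ a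

lemma apply_mem_orb (x : Perm Ω) (a : Ω) : x a ∈ orb x a :=
  mem_orb.mpr ⟨1, by simp⟩

lemma pres_orb (x : Perm Ω) (a : Ω) : Pres (orb x a) x :=
  pres_orbF (Subgroup.mem_zpowers x)

lemma orb_subset {Γ₀ : Finset Ω} {x : Perm Ω} (hx : x ∈ Sy Γ₀) {a : Ω} (ha : a ∈ Γ₀) :
    orb x a ⊆ Γ₀ :=
  orbF_subset (Subgroup.zpowers_le.mpr hx) ha

lemma orb_subset_orbF {P : Subgroup (Perm Ω)} {x : Perm Ω} (hx : x ∈ P) (a : Ω) :
    orb x a ⊆ orbF P a := by
  intro b hb
  obtain ⟨n, rfl⟩ := mem_orb.mp hb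
  exact mem_orbF.mpr ⟨x ^ n, pow_mem hx n, rfl⟩

lemma orb_fixed {x : Perm Ω} {a : Ω} (h : x a = a) : orb x a = {a} := by
  ext b
  rw [mem_orb, Finset.mem_singleton]
  constructor
  · rintro ⟨n, rfl⟩
    exact Perm.pow_apply_eq_self_of_apply_eq_self h n
  · rintro rfl
    exact ⟨0, rfl⟩

lemma two_le_card_orb {x : Perm Ω} {a : Ω} (h : x a ≠ a) : 2 ≤ (orb x a).card :=
  Finset.one_lt_card.mpr ⟨a, self_mem_orb x a, x a, apply_mem_orb x a, fun h' => h h'.symm⟩

lemma zpowers_isPGroup {x : Perm Ω} {k : ℕ} (hx : x ^ 2 ^ k = 1) :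
    IsPGroup 2 (Subgroup.zpowers x) := by
  rintro ⟨g, hg⟩
  obtain ⟨m, rfl⟩ := Subgroup.mem_zpowers_iff.mp hg
  refine ⟨k, Subtype.ext ?_⟩
  have h1 : (x ^ m) ^ 2 ^ k = 1 := by
    rw [← zpow_natCast, ← zpow_mul, mul_comm, zpow_mul, zpow_natCast, hx, one_zpow]
  simpa using h1

lemma card_orb_two_pow {x : Perm Ω} (hx : ∃ k : ℕ, x ^ 2 ^ k = 1) (a : Ω) :
    ∃ t : ℕ, (orb x a).card = 2 ^ t := by
  obtain ⟨k, hk⟩ := hx
  exact card_orbF_two_pow (zpowers_isPGroup hk) a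

lemma orb_res {Γ : Finset Ω} {x : Perm Ω} (hp : Pres Γ x) {a : Ω} (ha : a ∈ Γ) :
    orb (res Γ x) a = orb x a := by
  have key : ∀ n : ℕ, ((res Γ x) ^ n) a = (x ^ n) a := fun n => by
    rw [← res_pow hp, res_apply_mem (hp.pow n) ha]
  ext b
  rw [mem_orb, mem_orb]
  simp only [key]

/-- The hypothesis on `x` in the uniqueness theorem, relative to the finset `Γ₀`. -/
structure Good (Γ₀ : Finset Ω) (x : Perm Ω) : Prop where
  mem : x ∈ Sy Γ₀
  ord : ∃ k : ℕ, x ^ 2 ^ k = 1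
  fix : ∀ s : Finset Ω, s ⊆ Γ₀ → (∀ a ∈ s, x a = a) → s.card ≤ 2
  inj : ∀ a ∈ Γ₀, ∀ b ∈ Γ₀, x a ≠ a → x b ≠ b → (orb x a).card = (orb x b).card → b ∈ orb x a

lemma good_res {Γ₀ Γ : Finset Ω} {x : Perm Ω} (h : Good Γ₀ x) (hΓ : Γ ⊆ Γ₀) (hp : Pres Γ x) :
    Good Γ (res Γ x) where
  mem := res_mem_Sy Γ x
  ord := by
    obtain ⟨k, hk⟩ := h.ord
    exact ⟨k, by rw [← res_pow hp, hk, res_one]⟩
  fix := fun s hs hfix => h.fix s (hs.trans hΓ) (fun a ha => by
    rw [← res_apply_mem hp (hs ha)]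
    exact hfix a ha)
  inj := fun a ha b hb hna hnb hc => by
    rw [orb_res hp ha] at hc ⊢
    rw [orb_res hp hb] at hc
    rw [res_apply_mem hp ha] at hna
    rw [res_apply_mem hp hb] at hnb
    exact h.inj a (hΓ ha) b (hΓ hb) hna hnb hc

lemma good_of_trans {Γ : Finset Ω} {x : Perm Ω} (hx : x ∈ Sy Γ) (hord : ∃ k : ℕ, x ^ 2 ^ k = 1)
    {a₀ : Ω} (ht : ∀ b ∈ Γ, ∃ n : ℕ, (x ^ n) a₀ = b) : Good Γ x where
  mem := hx
  ord := hord
  fix := fun s hs hfix => by
    have hsub : s ⊆ {a₀} := by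
      intro a ha
      obtain ⟨n, hn⟩ := ht a (hs ha)
      have hfa := hfix a ha
      have h0 : x a₀ = a₀ := by
        apply (x ^ n).injective
        have h1 : (x ^ n) (x a₀) = x ((x ^ n) a₀) := by
          rw [← Perm.mul_apply, ← Perm.mul_apply, ← pow_succ, ← pow_succ']
        rw [h1, hn, hfa]
      rw [Finset.mem_singleton, ← hn]
      exact Perm.pow_apply_eq_self_of_apply_eq_self h0 n
    calc s.card ≤ ({a₀} : Finset Ω).card := Finset.card_le_card hsub
      _ = 1 := Finset.card_singleton _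
      _ ≤ 2 := by norm_num
  inj := fun a ha b hb _ _ _ => by
    obtain ⟨n, hn⟩ := ht a ha
    obtain ⟨m, hm⟩ := ht b hb
    have hg : x ^ m * (x ^ n)⁻¹ ∈ Subgroup.zpowers x :=
      mul_mem (Subgroup.pow_mem _ (Subgroup.mem_zpowers x) m)
        (inv_mem (Subgroup.pow_mem _ (Subgroup.mem_zpowers x) n))
    have e : (x ^ m * (x ^ n)⁻¹) a = b := by
      rw [Perm.mul_apply, ← hn]
      simp [hm]
    rw [← e]
    exact mem_orb_of_zpowers hg a

/-- Counting lemma: if `f` takes values `2 ^ i`, `1 ≤ i ≤ j` on `S` and each fibre over `v` has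
at most `v` elements, then `|S| + 2 ≤ 2 ^ (j + 1)`. -/
lemma count_aux (f : Ω → ℕ) : ∀ (j : ℕ) (S : Finset Ω),
    (∀ a ∈ S, ∃ i, 1 ≤ i ∧ i ≤ j ∧ f a = 2 ^ i) →
    (∀ (v : ℕ) (T : Finset Ω), T ⊆ S → (∀ a ∈ T, f a = v) → T.card ≤ v) →
    S.card + 2 ≤ 2 ^ (j + 1) := by
  intro j
  induction j with
  | zero =>
    intro S h1 _
    have : S = ∅ := by
      apply Finset.eq_empty_of_forall_notMem
      intro a ha
      obtain ⟨i, hi1, hi2, _⟩ := h1 a ha
      omega
    rw [this]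
    simp
  | succ j ih =>
    intro S h1 h2
    classical
    have hA := h2 (2 ^ (j + 1)) (S.filter (fun a => f a = 2 ^ (j + 1)))
      (Finset.filter_subset _ _) (fun a ha => (Finset.mem_filter.mp ha).2)
    have hB := ih (S.filter (fun a => ¬ f a = 2 ^ (j + 1))) ?_ ?_
    · have h3 := Finset.card_filter_add_card_filter_not (s := S) (fun a => f a = 2 ^ (j + 1))
      rw [pow_succ 2 (j + 1)]
      omega
    · intro a ha
      obtain ⟨ha1, ha2⟩ := Finset.mem_filter.mp ha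
      obtain ⟨i, hi1, hi2, hi3⟩ := h1 a ha1
      refine ⟨i, hi1, ?_, hi3⟩
      by_contra hcon
      have hi : i = j + 1 := by omega
      rw [hi] at hi3
      exact ha2 hi3
    · intro v T hT hv
      exact h2 v T (hT.trans (Finset.filter_subset _ _)) hv

/-- The counting bound for a good element. -/
lemma card_le_of_good {Γ₀ : Finset Ω} {x : Perm Ω} (h : Good Γ₀ x) {j : ℕ}
    (hmax : ∀ a ∈ Γ₀, (orb x a).card ≤ 2 ^ j) :
    Γ₀.card ≤ 2 ^ (j + 1) ∧ ((∀ a ∈ Γ₀, x a ≠ a) → Γ₀.card + 2 ≤ 2 ^ (j + 1)) := by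
  classical
  have hS : (Γ₀.filter (fun a => ¬ x a = a)).card + 2 ≤ 2 ^ (j + 1) := by
    apply count_aux (fun a => (orb x a).card) j
    · intro a ha
      obtain ⟨ha1, ha2⟩ := Finset.mem_filter.mp ha
      obtain ⟨i, hi⟩ := card_orb_two_pow h.ord a
      refine ⟨i, ?_, ?_, hi⟩
      · have h2 := two_le_card_orb ha2
        rw [hi] at h2
        by_contra hcon
        have hi0 : i = 0 := by omega
        rw [hi0] at h2
        norm_num at h2
      · have h2 := hmax a ha1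
        rw [hi] at h2
        exact (Nat.pow_le_pow_iff_right (by norm_num)).mp h2
    · intro v T hT hv
      by_cases hTe : T = ∅
      · rw [hTe]
        simp
      · obtain ⟨a, ha⟩ := Finset.nonempty_iff_ne_empty.mpr hTe
        obtain ⟨ha1, ha2⟩ := Finset.mem_filter.mp (hT ha)
        have hsub : T ⊆ orb x a := by
          intro b hb
          obtain ⟨hb1, hb2⟩ := Finset.mem_filter.mp (hT hb)
          exact h.inj a ha1 b hb1 ha2 hb2 (by
            have e1 : (orb x a).card = v := hv a ha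
            have e2 : (orb x b).card = v := hv b hb
            rw [e1, e2])
        have := Finset.card_le_card hsub
        have e1 : (orb x a).card = v := hv a ha
        omega
  have hF : (Γ₀.filter (fun a => x a = a)).card ≤ 2 :=
    h.fix _ (Finset.filter_subset _ _) (fun a ha => (Finset.mem_filter.mp ha).2)
  have hsum := Finset.card_filter_add_card_filter_not (s := Γ₀) (fun a => x a = a)
  refine ⟨by omega, ?_⟩
  intro hall
  have : Γ₀.filter (fun a => ¬ x a = a) = Γ₀ := Finset.filter_true_of_mem hall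
  rw [this] at hS
  exact hS

end Cfsg.Agent.Lib.Helper7.Sy2
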