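import Cfsg.Agent.Lib.Helper7.Syl2E

set_option autoImplicit false
set_option linter.unusedSectionVars false

/-!
# Sylow 2-subgroups of symmetric groups, part F: the uniqueness theorem (S4349)
-/

namespace Cfsg.Agent.Lib.Helper7.Sy2

open Equiv

variable {Ω : Type*} [Fintype Ω] [DecidableEq Ω]

/-- The induction hypothesis of the uniqueness theorem. -/
def UniqBelow (Ω : Type*) [Fintype Ω] [DecidableEq Ω] (N : ℕ) : Prop :=
  ∀ (Γ : Finset Ω), Γ.card < N → ∀ x : Perm Ω, Good Γ x → ∀ P Q : Subgroup (Perm Ω),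
    IsSyl Γ P → IsSyl Γ Q → x ∈ P → x ∈ Q → P = Q

lemma split_data {Γ₀ Γ : Finset Ω} (hΓ : Γ ⊆ Γ₀) {P : Subgroup (Perm Ω)} (hP : IsSyl Γ₀ P)
    (hpP : ∀ g ∈ P, Pres Γ g) :
    (∀ g ∈ P, res Γ g ∈ P ∧ res (Γ₀ \ Γ) g ∈ P) ∧ IsSyl Γ (P ⊓ Sy Γ) ∧
      IsSyl (Γ₀ \ Γ) (P ⊓ Sy (Γ₀ \ Γ)) := by
  have hd : Disjoint Γ (Γ₀ \ Γ) := Finset.disjoint_sdiff
  have hu : Γ ∪ (Γ₀ \ Γ) = Γ₀ := Finset.union_sdiff_of_subset hΓ
  refine (split Γ (Γ₀ \ Γ) hd P (by rw [hu]; exact hP.1) hP.isPGroup hpP).2 ?_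
  rw [hP.2]
  apply Nat.pow_le_pow_right (by norm_num)
  have h1 := nu_add_le Γ.card (Γ₀ \ Γ).card
  have h3 : (Γ₀ \ Γ).card + Γ.card = Γ₀.card := Finset.card_sdiff_add_card_eq_card hΓ
  rw [add_comm] at h3
  rw [h3] at h1
  exact h1

/-- Case where both Sylow subgroups preserve a proper non-empty subset. -/
lemma case_split {Γ₀ Γ : Finset Ω} (ih : UniqBelow Ω Γ₀.card) {x : Perm Ω} (hx : Good Γ₀ x)
    (hΓ : Γ ⊆ Γ₀) (hne : Γ.Nonempty) (hlt : Γ.card < Γ₀.card)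
    {P Q : Subgroup (Perm Ω)} (hP : IsSyl Γ₀ P) (hQ : IsSyl Γ₀ Q) (hxP : x ∈ P) (hxQ : x ∈ Q)
    (hpP : ∀ g ∈ P, Pres Γ g) (hpQ : ∀ g ∈ Q, Pres Γ g) : P = Q := by
  obtain ⟨hrP, hs1P, hs2P⟩ := split_data hΓ hP hpP
  obtain ⟨hrQ, hs1Q, hs2Q⟩ := split_data hΓ hQ hpQ
  have hd : Disjoint Γ (Γ₀ \ Γ) := Finset.disjoint_sdiff
  have hu : Γ ∪ (Γ₀ \ Γ) = Γ₀ := Finset.union_sdiff_of_subset hΓ
  have hpx : Pres Γ x := hpP x hxP
  have hxu : x ∈ Sy (Γ ∪ (Γ₀ \ Γ)) := by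
    rw [hu]
    exact hx.mem
  have hpx' : Pres (Γ₀ \ Γ) x := pres_compl hd hxu hpx
  have hlt' : (Γ₀ \ Γ).card < Γ₀.card := by
    have h3 : (Γ₀ \ Γ).card + Γ.card = Γ₀.card := Finset.card_sdiff_add_card_eq_card hΓ
    have := Finset.card_pos.mpr hne
    omega
  have e1 : P ⊓ Sy Γ = Q ⊓ Sy Γ :=
    ih Γ hlt (res Γ x) (good_res hx hΓ hpx) _ _ hs1P hs1Q
      (Subgroup.mem_inf.mpr ⟨(hrP x hxP).1, res_mem_Sy Γ x⟩)
      (Subgroup.mem_inf.mpr ⟨(hrQ x hxQ).1, res_mem_Sy Γ x⟩)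
  have e2 : P ⊓ Sy (Γ₀ \ Γ) = Q ⊓ Sy (Γ₀ \ Γ) :=
    ih (Γ₀ \ Γ) hlt' (res (Γ₀ \ Γ) x) (good_res hx Finset.sdiff_subset hpx') _ _ hs2P hs2Q
      (Subgroup.mem_inf.mpr ⟨(hrP x hxP).2, res_mem_Sy _ x⟩)
      (Subgroup.mem_inf.mpr ⟨(hrQ x hxQ).2, res_mem_Sy _ x⟩)
  apply IsSyl.eq_of_le hP hQ
  intro g hg
  have hgu : g ∈ Sy (Γ ∪ (Γ₀ \ Γ)) := by
    rw [hu]
    exact hP.1 hg
  have h1 : res Γ g ∈ Q ⊓ Sy Γ := by
    rw [← e1]
    exact Subgroup.mem_inf.mpr ⟨(hrP g hg).1, res_mem_Sy Γ g⟩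
  have h2 : res (Γ₀ \ Γ) g ∈ Q ⊓ Sy (Γ₀ \ Γ) := by
    rw [← e2]
    exact Subgroup.mem_inf.mpr ⟨(hrP g hg).2, res_mem_Sy _ g⟩
  rw [eq_res_mul_res hd hgu (hpP g hg)]
  exact mul_mem (Subgroup.mem_inf.mp h1).1 (Subgroup.mem_inf.mp h2).1

lemma le_of_blocks {Γ₀ : Finset Ω} {P Q : Subgroup (Perm Ω)} {B B' : Finset Ω} {b : ℕ}
    (hBQ : Blocks Γ₀ Q B B' b) (hQ : Q ≤ Sy Γ₀) (h1 : Q ⊓ Sy B ≤ P) (h2 : Q ⊓ Sy B' ≤ P)
    {q : Perm Ω} (hqQ : q ∈ Q) (hqP : q ∈ P) (hsq : Swaps B B' q) : Q ≤ P := by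
  have hpres : ∀ h ∈ Q, Pres B h → h ∈ P := by
    intro h hh hp
    have hu : h ∈ Sy (B ∪ B') := by
      rw [hBQ.union]
      exact hQ hh
    obtain ⟨r1, r2⟩ := hBQ.resmem h hh hp
    rw [eq_res_mul_res hBQ.disj hu hp]
    exact mul_mem (h1 (Subgroup.mem_inf.mpr ⟨r1, res_mem_Sy B h⟩))
      (h2 (Subgroup.mem_inf.mpr ⟨r2, res_mem_Sy B' h⟩))
  intro h hh
  rcases hBQ.alt h hh with hp | hs
  · exact hpres h hh hp.1
  · have hs' : Swaps B B' h := hs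
    have h3 := hpres (q⁻¹ * h) (mul_mem (inv_mem hqQ) hh) (hsq.mul_pres hs')
    have h4 : h = q * (q⁻¹ * h) := by group
    rw [h4]
    exact mul_mem hqP h3

lemma Blocks.sdiff_eq {Γ₀ : Finset Ω} {P : Subgroup (Perm Ω)} {B₁ B₂ : Finset Ω} {b : ℕ}
    (hB : Blocks Γ₀ P B₁ B₂ b) : B₂ = Γ₀ \ B₁ := by
  rw [← hB.union]
  exact (Finset.union_sdiff_cancel_left hB.disj).symm

lemma exists_blocks_mem {Γ₀ : Finset Ω} {b : ℕ} (hcard : Γ₀.card = 2 ^ (b + 1))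
    {P : Subgroup (Perm Ω)} (hP : IsSyl Γ₀ P) {a₀ : Ω} (ha₀ : a₀ ∈ Γ₀) :
    ∃ B₁ B₂, Blocks Γ₀ P B₁ B₂ b ∧ a₀ ∈ B₁ := by
  obtain ⟨B₁, B₂, hB⟩ := exists_blocks hcard hP
  have : a₀ ∈ B₁ ∪ B₂ := by
    rw [hB.union]
    exact ha₀
  rcases Finset.mem_union.mp this with h | h
  · exact ⟨B₁, B₂, hB, h⟩
  · exact ⟨B₂, B₁, hB.symm hP.1, h⟩

lemma conj_lemma {B B' : Finset Ω} {P Q : Subgroup (Perm Ω)} {p q : Perm Ω}
    (hsp : Swaps B B' p) (hsq : Swaps B B' q) (hp : p ∈ P) (hq : q ∈ Q)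
    (e1 : P ⊓ Sy B = Q ⊓ Sy B) (e2 : P ⊓ Sy B' = Q ⊓ Sy B') :
    ∀ y ∈ P ⊓ Sy B, (p⁻¹ * q) * y * (p⁻¹ * q)⁻¹ ∈ P ⊓ Sy B := by
  intro y hy
  rw [e1] at hy
  obtain ⟨hy1, hy2⟩ := Subgroup.mem_inf.mp hy
  have h1 : q * y * q⁻¹ ∈ Q ⊓ Sy B' :=
    Subgroup.mem_inf.mpr ⟨mul_mem (mul_mem hq hy1) (inv_mem hq), hsq.conj_mem hy2⟩
  rw [← e2] at h1
  obtain ⟨h2, h3⟩ := Subgroup.mem_inf.mp h1
  have h4 : (p⁻¹ * q) * y * (p⁻¹ * q)⁻¹ = p⁻¹ * (q * y * q⁻¹) * p := by group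
  rw [h4]
  exact Subgroup.mem_inf.mpr ⟨mul_mem (mul_mem (inv_mem hp) h2) hp, hsp.conj_mem' h3⟩

/-- Case where `x` preserves a common block system of `P` and `Q`. -/
lemma case_two_blocks {Γ₀ B B' : Finset Ω} {b : ℕ} (ih : UniqBelow Ω Γ₀.card)
    (hcard : Γ₀.card = 2 ^ (b + 1)) {x : Perm Ω} (hx : Good Γ₀ x)
    {P Q : Subgroup (Perm Ω)} (hP : IsSyl Γ₀ P) (hQ : IsSyl Γ₀ Q) (hxP : x ∈ P) (hxQ : x ∈ Q)
    (hBP : Blocks Γ₀ P B B' b) (hBQ : Blocks Γ₀ Q B B' b) (hpx : Pres B x) : P = Q := by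
  have hpow : 2 ^ b < 2 ^ (b + 1) := Nat.pow_lt_pow_right (by norm_num) (Nat.lt_succ_self b)
  have hlt : B.card < Γ₀.card := by rw [hBP.card1, hcard]; exact hpow
  have hlt' : B'.card < Γ₀.card := by rw [hBP.card2, hcard]; exact hpow
  have hxu : x ∈ Sy (B ∪ B') := by
    rw [hBP.union]
    exact hx.mem
  have hpx' : Pres B' x := pres_compl hBP.disj hxu hpx
  have e1 : P ⊓ Sy B = Q ⊓ Sy B :=
    ih B hlt (res B x) (good_res hx hBP.sub1 hpx) _ _ hBP.syl1 hBQ.syl1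
      (Subgroup.mem_inf.mpr ⟨(hBP.resmem x hxP hpx).1, res_mem_Sy B x⟩)
      (Subgroup.mem_inf.mpr ⟨(hBQ.resmem x hxQ hpx).1, res_mem_Sy B x⟩)
  have e2 : P ⊓ Sy B' = Q ⊓ Sy B' :=
    ih B' hlt' (res B' x) (good_res hx hBP.sub2 hpx') _ _ hBP.syl2 hBQ.syl2
      (Subgroup.mem_inf.mpr ⟨(hBP.resmem x hxP hpx).2, res_mem_Sy B' x⟩)
      (Subgroup.mem_inf.mpr ⟨(hBQ.resmem x hxQ hpx).2, res_mem_Sy B' x⟩)
  obtain ⟨p, hp, hsp⟩ := hBP.swap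
  obtain ⟨q, hq, hsq⟩ := hBQ.swap
  have hsp' : Swaps B B' p := hsp
  have hsq' : Swaps B B' q := hsq
  have hgpres : Pres B (p⁻¹ * q) := hsp'.mul_pres hsq'
  have hgSy : p⁻¹ * q ∈ Sy Γ₀ := mul_mem (inv_mem (hP.1 hp)) (hQ.1 hq)
  have hgu : p⁻¹ * q ∈ Sy (B ∪ B') := by
    rw [hBP.union]
    exact hgSy
  have hgu' : p⁻¹ * q ∈ Sy (B' ∪ B) := by
    rw [Finset.union_comm]
    exact hgu
  have hgpres' : Pres B' (p⁻¹ * q) := pres_compl hBP.disj hgu hgpres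
  have hr1 : res B (p⁻¹ * q) ∈ P ⊓ Sy B := by
    apply normalizer_self b B hBP.card1 (P ⊓ Sy B) hBP.syl1 _ (res_mem_Sy B _)
    intro y hy
    rw [← conj_res hBP.disj hgu hgpres (Subgroup.mem_inf.mp hy).2]
    exact conj_lemma hsp' hsq' hp hq e1 e2 y hy
  have hr2 : res B' (p⁻¹ * q) ∈ P ⊓ Sy B' := by
    apply normalizer_self b B' hBP.card2 (P ⊓ Sy B') hBP.syl2 _ (res_mem_Sy B' _)
    intro y hy
    rw [← conj_res hBP.disj.symm hgu' hgpres' (Subgroup.mem_inf.mp hy).2]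
    exact conj_lemma hsp'.symm hsq'.symm hp hq e2 e1 y hy
  have hgP : p⁻¹ * q ∈ P := by
    rw [eq_res_mul_res hBP.disj hgu hgpres]
    exact mul_mem (Subgroup.mem_inf.mp hr1).1 (Subgroup.mem_inf.mp hr2).1
  have hqP : q ∈ P := by
    have h4 : q = p * (p⁻¹ * q) := by group
    rw [h4]
    exact mul_mem hp hgP
  have hle : Q ≤ P := le_of_blocks hBQ hQ.1 (by rw [← e1]; exact inf_le_left)
    (by rw [← e2]; exact inf_le_left) hq hqP hsq'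
  exact (IsSyl.eq_of_le hQ hP hle).symm

/-- Case where `x` is transitive and swaps a common block system of `P` and `Q`. -/
lemma case_trans {Γ₀ B B' : Finset Ω} {b : ℕ} (ih : UniqBelow Ω Γ₀.card)
    (hcard : Γ₀.card = 2 ^ (b + 1)) {x : Perm Ω} (hord : ∃ k : ℕ, x ^ 2 ^ k = 1)
    {P Q : Subgroup (Perm Ω)} (hP : IsSyl Γ₀ P) (hQ : IsSyl Γ₀ Q) (hxP : x ∈ P) (hxQ : x ∈ Q)
    (hBP : Blocks Γ₀ P B B' b) (hBQ : Blocks Γ₀ Q B B' b) (hsx : Swaps B B' x)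
    {a₀ : Ω} (ha₀ : a₀ ∈ B) (hB : ∀ c ∈ B, ∃ n : ℕ, (x ^ (2 * n)) a₀ = c)
    (hB' : ∀ c ∈ B', ∃ n : ℕ, (x ^ (2 * n + 1)) a₀ = c) : P = Q := by
  have hpow : 2 ^ b < 2 ^ (b + 1) := Nat.pow_lt_pow_right (by norm_num) (Nat.lt_succ_self b)
  have hlt : B.card < Γ₀.card := by rw [hBP.card1, hcard]; exact hpow
  have hlt' : B'.card < Γ₀.card := by rw [hBP.card2, hcard]; exact hpow
  have hz : Pres B (x ^ 2) := hsx.sq_pres
  have hz' : Pres B' (x ^ 2) := hsx.symm.sq_pres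
  have hzP : x ^ 2 ∈ P := pow_mem hxP 2
  have hzQ : x ^ 2 ∈ Q := pow_mem hxQ 2
  have hzord : ∃ k : ℕ, (x ^ 2) ^ 2 ^ k = 1 := by
    obtain ⟨k, hk⟩ := hord
    exact ⟨k, by rw [← pow_mul, mul_comm, pow_mul, hk, one_pow]⟩
  have hxa₀ : x a₀ ∈ B' := (hsx.1 a₀).mpr ha₀
  have hg1 : Good B (res B (x ^ 2)) := by
    apply good_of_trans (res_mem_Sy B _) (a₀ := a₀)
    · obtain ⟨k, hk⟩ := hzord
      exact ⟨k, by rw [← res_pow hz, hk, res_one]⟩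
    · intro c hc
      obtain ⟨n, hn⟩ := hB c hc
      refine ⟨n, ?_⟩
      rw [← res_pow hz, res_apply_mem (hz.pow n) ha₀, ← pow_mul]
      exact hn
  have hg2 : Good B' (res B' (x ^ 2)) := by
    apply good_of_trans (res_mem_Sy B' _) (a₀ := x a₀)
    · obtain ⟨k, hk⟩ := hzord
      exact ⟨k, by rw [← res_pow hz', hk, res_one]⟩
    · intro c hc
      obtain ⟨n, hn⟩ := hB' c hc
      refine ⟨n, ?_⟩
      rw [← res_pow hz', res_apply_mem (hz'.pow n) hxa₀, ← pow_mul, ← Perm.mul_apply, ← pow_succ]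
      exact hn
  have e1 : P ⊓ Sy B = Q ⊓ Sy B :=
    ih B hlt _ hg1 _ _ hBP.syl1 hBQ.syl1
      (Subgroup.mem_inf.mpr ⟨(hBP.resmem _ hzP hz).1, res_mem_Sy B _⟩)
      (Subgroup.mem_inf.mpr ⟨(hBQ.resmem _ hzQ hz).1, res_mem_Sy B _⟩)
  have e2 : P ⊓ Sy B' = Q ⊓ Sy B' :=
    ih B' hlt' _ hg2 _ _ hBP.syl2 hBQ.syl2
      (Subgroup.mem_inf.mpr ⟨(hBP.resmem _ hzP hz).2, res_mem_Sy B' _⟩)
      (Subgroup.mem_inf.mpr ⟨(hBQ.resmem _ hzQ hz).2, res_mem_Sy B' _⟩)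
  have hle : P ≤ Q := le_of_blocks hBP hP.1 (by rw [e1]; exact inf_le_left)
    (by rw [e2]; exact inf_le_left) hxP hxQ hsx
  exact IsSyl.eq_of_le hP hQ hle

/-- The block system of a Sylow 2-subgroup containing a transitive element. -/
lemma blocks_of_trans {Γ₀ : Finset Ω} {b : ℕ} (hcard : Γ₀.card = 2 ^ (b + 1))
    {P : Subgroup (Perm Ω)} (hP : IsSyl Γ₀ P) {x : Perm Ω} (hxP : x ∈ P) {a₀ : Ω}
    (ha₀ : a₀ ∈ Γ₀) (ht : ∀ c ∈ Γ₀, ∃ n : ℕ, (x ^ n) a₀ = c) :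
    ∃ B, Blocks Γ₀ P B (Γ₀ \ B) b ∧ Swaps B (Γ₀ \ B) x ∧ a₀ ∈ B ∧
      (∀ c, c ∈ B ↔ ∃ n : ℕ, (x ^ (2 * n)) a₀ = c) ∧
      (∀ c ∈ Γ₀ \ B, ∃ n : ℕ, (x ^ (2 * n + 1)) a₀ = c) := by
  obtain ⟨B₁, B₂, hB, ha⟩ := exists_blocks_mem hcard hP ha₀
  have hB2 : B₂ = Γ₀ \ B₁ := hB.sdiff_eq
  have hsw : Swaps B₁ B₂ x := by
    rcases hB.alt x hxP with h | h
    · exfalso
      have hsub : Γ₀ ⊆ B₁ := by
        intro c hc
        obtain ⟨n, rfl⟩ := ht c hc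
        exact ((h.1.pow n) a₀).mpr ha
      have h1 := Finset.card_le_card hsub
      rw [hcard, hB.card1, pow_succ] at h1
      have : 0 < 2 ^ b := by positivity
      omega
    · exact h
  have hpar : ∀ n : ℕ, (x ^ (2 * n)) a₀ ∈ B₁ ∧ (x ^ (2 * n + 1)) a₀ ∈ B₂ := by
    intro n
    induction n with
    | zero =>
      refine ⟨by simpa using ha, ?_⟩
      have := (hsw.1 a₀).mpr ha
      simpa using this
    | succ n ih =>
      have h1 : (x ^ (2 * (n + 1))) a₀ = x ((x ^ (2 * n + 1)) a₀) := by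
        rw [← Perm.mul_apply, ← pow_succ']
        rfl
      have h2 : (x ^ (2 * (n + 1) + 1)) a₀ = x ((x ^ (2 * (n + 1))) a₀) := by
        rw [← Perm.mul_apply, ← pow_succ']
      have h3 : (x ^ (2 * (n + 1))) a₀ ∈ B₁ := by
        rw [h1]
        exact (hsw.2 _).mpr ih.2
      exact ⟨h3, by rw [h2]; exact (hsw.1 _).mpr h3⟩
  subst hB2
  refine ⟨B₁, hB, hsw, ha, ?_, ?_⟩
  · intro c
    constructor
    · intro hc
      obtain ⟨m, rfl⟩ := ht c (hB.sub1 hc)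
      obtain ⟨n, hn | hn⟩ := Nat.even_or_odd' m
      · exact ⟨n, by rw [hn]⟩
      · rw [hn] at hc
        exact absurd hc (fun h' => Finset.disjoint_left.mp hB.disj h' (hpar n).2)
    · rintro ⟨n, rfl⟩
      exact (hpar n).1
  · intro c hc
    obtain ⟨m, rfl⟩ := ht c (hB.sub2 hc)
    obtain ⟨n, hn | hn⟩ := Nat.even_or_odd' m
    · rw [hn] at hc
      exact absurd (hpar n).1 (fun h' => Finset.disjoint_left.mp hB.disj h' hc)
    · exact ⟨n, by rw [hn]⟩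

/-- The block system of a Sylow 2-subgroup containing an element with a fixed point and an orbit of
half the size. -/
lemma blocks_of_orbit {Γ₀ : Finset Ω} {b : ℕ} (hcard : Γ₀.card = 2 ^ (b + 1))
    {P : Subgroup (Perm Ω)} (hP : IsSyl Γ₀ P) {x : Perm Ω} (hxP : x ∈ P) {a₀ : Ω}
    (ha₀ : a₀ ∈ Γ₀) (horb : (orb x a₀).card = 2 ^ b) {c : Ω} (hc : c ∈ Γ₀) (hfix : x c = c) :
    Blocks Γ₀ P (orb x a₀) (Γ₀ \ orb x a₀) b := by
  obtain ⟨B₁, B₂, hB, ha⟩ := exists_blocks_mem hcard hP ha₀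
  have hB2 : B₂ = Γ₀ \ B₁ := hB.sdiff_eq
  have hpres : Pres B₁ x := by
    have hcu : c ∈ B₁ ∪ B₂ := by
      rw [hB.union]
      exact hc
    rcases Finset.mem_union.mp hcu with h | h
    · exact (hB.pres_of_point hxP h (by rw [hfix]; exact h)).1
    · exact ((hB.symm hP.1).pres_of_point hxP h (by rw [hfix]; exact h)).2
  have hsub : orb x a₀ ⊆ B₁ := by
    intro d hd
    obtain ⟨n, rfl⟩ := mem_orb.mp hd
    exact ((hpres.pow n) a₀).mpr ha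
  have heq : orb x a₀ = B₁ := Finset.eq_of_subset_of_card_le hsub (by rw [hB.card1, horb])
  subst hB2
  rw [heq]
  exact hB

/-- If `|Γ₀| < 2 ^ (j + 1)` and `x ∈ P` has an orbit of size `2 ^ j` then this orbit is
`P`-invariant. -/
lemma pres_of_orbit_bound {Γ₀ : Finset Ω} {P : Subgroup (Perm Ω)} (hP : IsSyl Γ₀ P)
    {x : Perm Ω} (hxP : x ∈ P) {a₀ : Ω} (ha₀ : a₀ ∈ Γ₀) {j : ℕ} (horb : (orb x a₀).card = 2 ^ j)
    (hlt : Γ₀.card < 2 ^ (j + 1)) : ∀ g ∈ P, Pres (orb x a₀) g := by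
  obtain ⟨t, ht⟩ := card_orbF_two_pow hP.isPGroup a₀
  have h1 : orb x a₀ ⊆ orbF P a₀ := orb_subset_orbF hxP a₀
  have h2 : orbF P a₀ ⊆ Γ₀ := orbF_subset hP.1 ha₀
  have h3 := Finset.card_le_card h1
  have h4 := Finset.card_le_card h2
  rw [horb, ht] at h3
  rw [ht] at h4
  have h5 : j ≤ t := (Nat.pow_le_pow_iff_right (by norm_num)).mp h3
  have h6 : t < j + 1 := (Nat.pow_lt_pow_iff_right (by norm_num)).mp (lt_of_le_of_lt h4 hlt)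
  have h7 : t = j := by omega
  have heq : orb x a₀ = orbF P a₀ :=
    Finset.eq_of_subset_of_card_le h1 (by rw [ht, horb, h7])
  intro g hg
  rw [heq]
  exact pres_orbF hg

/-- **Uniqueness theorem**: a good element lies in at most one Sylow 2-subgroup. -/
theorem uniq : ∀ (N : ℕ) (Γ₀ : Finset Ω), Γ₀.card = N → ∀ x : Perm Ω, Good Γ₀ x →
    ∀ P Q : Subgroup (Perm Ω), IsSyl Γ₀ P → IsSyl Γ₀ Q → x ∈ P → x ∈ Q → P = Q := by
  intro N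
  induction N using Nat.strong_induction_on with
  | _ N IH =>
  intro Γ₀ hN x hx P Q hP hQ hxP hxQ
  have ih : UniqBelow Ω Γ₀.card := by
    intro Γ hlt y hy P' Q' hP' hQ' hyP hyQ
    exact IH Γ.card (hN ▸ hlt) Γ rfl y hy P' Q' hP' hQ' hyP hyQ
  by_cases hfix : ∀ a ∈ Γ₀, x a = a
  · have h2 := hx.fix Γ₀ (Finset.Subset.refl _) hfix
    rw [hP.eq_Sy_of_card_le_two h2, hQ.eq_Sy_of_card_le_two h2]
  · push Not at hfix
    obtain ⟨a₁, ha₁, hna₁⟩ := hfix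
    obtain ⟨a₀, ha₀, hmax⟩ := Finset.exists_max_image Γ₀ (fun a => (orb x a).card) ⟨a₁, ha₁⟩
    obtain ⟨j, hj⟩ := card_orb_two_pow hx.ord a₀
    have h2le : 2 ≤ (orb x a₁).card := two_le_card_orb hna₁
    have hj1 : 1 ≤ j := by
      have h1 := hmax a₁ ha₁
      simp only [hj] at h1
      by_contra hcon
      have hj0 : j = 0 := by omega
      rw [hj0] at h1
      omega
    have hmax' : ∀ a ∈ Γ₀, (orb x a).card ≤ 2 ^ j := fun a ha => by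
      have := hmax a ha
      simp only [hj] at this
      exact this
    obtain ⟨hle, hnofix⟩ := card_le_of_good hx hmax'
    have hΓsub : orb x a₀ ⊆ Γ₀ := orb_subset hx.mem ha₀
    have hge : 2 ^ j ≤ Γ₀.card := by
      rw [← hj]
      exact Finset.card_le_card hΓsub
    by_cases hβ : Γ₀.card = 2 ^ j
    · -- `x` is transitive on `Γ₀`
      obtain ⟨b, rfl⟩ : ∃ b, j = b + 1 := ⟨j - 1, by omega⟩
      have horbeq : orb x a₀ = Γ₀ := Finset.eq_of_subset_of_card_le hΓsub (by rw [hβ, hj])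
      have ht : ∀ c ∈ Γ₀, ∃ n : ℕ, (x ^ n) a₀ = c := by
        intro c hc
        rw [← horbeq] at hc
        exact mem_orb.mp hc
      obtain ⟨B, hBP, hsx, haB, hchar, hchar'⟩ := blocks_of_trans hβ hP hxP ha₀ ht
      obtain ⟨C, hBQ, _, _, hcharC, _⟩ := blocks_of_trans hβ hQ hxQ ha₀ ht
      have hBC : C = B := by
        ext c
        rw [hchar, hcharC]
      subst hBC
      exact case_trans ih hβ hx.ord hP hQ hxP hxQ hBP hBQ hsx haB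
        (fun c hc => (hchar c).mp hc) hchar'
    · by_cases hα : Γ₀.card = 2 ^ (j + 1)
      · -- `x` has a fixed point and the blocks are the orbit and its complement
        have hexfix : ∃ c ∈ Γ₀, x c = c := by
          by_contra hcon
          push Not at hcon
          have := hnofix hcon
          omega
        obtain ⟨c, hc, hcfix⟩ := hexfix
        have hBP := blocks_of_orbit hα hP hxP ha₀ hj hc hcfix
        have hBQ := blocks_of_orbit hα hQ hxQ ha₀ hj hc hcfix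
        exact case_two_blocks ih hα hx hP hQ hxP hxQ hBP hBQ (pres_orb x a₀)
      · -- the orbit is invariant under both `P` and `Q`
        have hlt : Γ₀.card < 2 ^ (j + 1) := lt_of_le_of_ne hle hα
        have hgt : 2 ^ j < Γ₀.card := lt_of_le_of_ne hge (Ne.symm hβ)
        exact case_split ih hx hΓsub ⟨a₀, self_mem_orb x a₀⟩ (by rw [hj]; exact hgt) hP hQ hxP hxQ
          (pres_of_orbit_bound hP hxP ha₀ hj hlt) (pres_of_orbit_bound hQ hxQ ha₀ hj hlt)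

end Cfsg.Agent.Lib.Helper7.Sy2
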