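import Cfsg.Agent.Lib.Helper7.Syl2F

set_option autoImplicit false
set_option linter.unusedSectionVars false

/-!
# Sylow 2-subgroups of symmetric groups, part G: necessity and the final statement (S4349)
-/

namespace Cfsg.Agent.Lib.Helper7.Sy2

open Equiv

variable {Ω : Type*} [Fintype Ω] [DecidableEq Ω]

/-- The transposition `(x^i a, x^i b)`. -/
def sw (x : Perm Ω) (a b : Ω) (i : ℕ) : Perm Ω := swap ((x ^ i) a) ((x ^ i) b)

/-- The group generated by the transpositions `sw x a b i`. -/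
def EE (x : Perm Ω) (a b : Ω) : Subgroup (Perm Ω) := Subgroup.closure (Set.range (sw x a b))

lemma conj_sw (x : Perm Ω) (a b : Ω) (i : ℕ) : x * sw x a b i * x⁻¹ = sw x a b (i + 1) := by
  unfold sw
  rw [← swap_apply_apply, ← Perm.mul_apply, ← Perm.mul_apply, ← pow_succ']

/-- Hypotheses on a pair of points `a`, `b` in distinct cycles of `x` of the same length `l`. -/
structure Pair (x : Perm Ω) (a b : Ω) (l : ℕ) : Prop where
  ha : ∀ m n : ℕ, (x ^ m) a = (x ^ n) a ↔ m ≡ n [MOD l]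
  hb : ∀ m n : ℕ, (x ^ m) b = (x ^ n) b ↔ m ≡ n [MOD l]
  hab : ∀ m n : ℕ, (x ^ m) a ≠ (x ^ n) b

lemma sw_comm {x : Perm Ω} {a b : Ω} {l : ℕ} (h : Pair x a b l) (i j : ℕ) :
    sw x a b i * sw x a b j = sw x a b j * sw x a b i := by
  by_cases hij : i ≡ j [MOD l]
  · have e1 := (h.ha i j).mpr hij
    have e2 := (h.hb i j).mpr hij
    unfold sw
    rw [e1, e2]
  · have n1 : (x ^ i) a ≠ (x ^ j) a := fun h' => hij ((h.ha i j).mp h')
    have n2 : (x ^ i) b ≠ (x ^ j) b := fun h' => hij ((h.hb i j).mp h')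
    have hd : Perm.Disjoint (sw x a b i) (sw x a b j) := by
      unfold sw
      apply Perm.disjoint_swap_swap
      simp [h.hab i i, n1, h.hab i j, (h.hab j i).symm, n2, h.hab j j]
    exact hd.commute.eq

lemma EE_sq {x : Perm Ω} {a b : Ω} {l : ℕ} (h : Pair x a b l) : ∀ g ∈ EE x a b, g * g = 1 := by
  have hc : ∀ s ∈ Set.range (sw x a b), ∀ t ∈ Set.range (sw x a b), s * t = t * s := by
    rintro _ ⟨i, rfl⟩ _ ⟨j, rfl⟩
    exact sw_comm h i j
  have hcomm : ∀ g ∈ EE x a b, ∀ k ∈ EE x a b, g * k = k * g := by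
    intro g hg k hk
    have inst := Subgroup.isMulCommutative_closure hc
    have e := mul_comm' (⟨g, hg⟩ : Subgroup.closure (Set.range (sw x a b))) ⟨k, hk⟩
    exact congrArg (fun z : Subgroup.closure (Set.range (sw x a b)) => (z : Perm Ω)) e
  intro g hg
  refine Subgroup.closure_induction (p := fun g _ => g * g = 1) ?_ ?_ ?_ ?_ hg
  · rintro _ ⟨i, rfl⟩
    exact swap_mul_self _ _
  · simp
  · intro g k hg hk h1 h2
    have e := hcomm g hg k hk
    calc g * k * (g * k) = g * (k * g) * k := by group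
      _ = g * (g * k) * k := by rw [e]
      _ = (g * g) * (k * k) := by group
      _ = 1 := by rw [h1, h2, one_mul]
  · intro g _ h1
    have h2 : g⁻¹ * g⁻¹ = (g * g)⁻¹ := by group
    rw [h2, h1, inv_one]

lemma EE_isPGroup {x : Perm Ω} {a b : Ω} {l : ℕ} (h : Pair x a b l) : IsPGroup 2 (EE x a b) := by
  rintro ⟨g, hg⟩
  refine ⟨1, Subtype.ext ?_⟩
  have h1 : g ^ 2 ^ 1 = 1 := by
    rw [pow_one, pow_two]
    exact EE_sq h g hg
  simpa using h1

lemma EE_conj (x : Perm Ω) (a b : Ω) : ∀ g ∈ EE x a b, x * g * x⁻¹ ∈ EE x a b := by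
  intro g hg
  refine Subgroup.closure_induction (p := fun g _ => x * g * x⁻¹ ∈ EE x a b) ?_ ?_ ?_ ?_ hg
  · rintro _ ⟨i, rfl⟩
    rw [conj_sw]
    exact Subgroup.subset_closure ⟨i + 1, rfl⟩
  · simp
  · intro g k _ _ h1 h2
    have h3 : x * (g * k) * x⁻¹ = (x * g * x⁻¹) * (x * k * x⁻¹) := by group
    rw [h3]
    exact mul_mem h1 h2
  · intro g _ h1
    have h3 : x * g⁻¹ * x⁻¹ = (x * g * x⁻¹)⁻¹ := by group
    rw [h3]
    exact inv_mem h1

lemma sup_isPGroup {x : Perm Ω} {a b : Ω} {l : ℕ} (h : Pair x a b l) {k : ℕ}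
    (hx : x ^ 2 ^ k = 1) : IsPGroup 2 (Subgroup.zpowers x ⊔ EE x a b : Subgroup (Perm Ω)) := by
  apply IsPGroup.to_sup_of_normal_right' (zpowers_isPGroup hx) (EE_isPGroup h)
  rw [Subgroup.zpowers_le]
  exact Subgroup.mem_normalizer_fintype (fun n hn => EE_conj x a b n hn)

lemma swap_mem_of_pair {x : Perm Ω} {a b : Ω} {l : ℕ} (h : Pair x a b l) {k : ℕ}
    (hx : x ^ 2 ^ k = 1) {P₀ : Subgroup (Perm Ω)}
    (hmax : ∀ H : Subgroup (Perm Ω), IsPGroup 2 H → x ∈ H → H ≤ P₀) : swap a b ∈ P₀ := by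
  have h1 := hmax _ (sup_isPGroup h hx) (Subgroup.mem_sup_left (Subgroup.mem_zpowers x))
  apply h1
  apply Subgroup.mem_sup_right
  apply Subgroup.subset_closure
  exact ⟨0, by simp [sw]⟩

lemma pair_of_fixed {x : Perm Ω} {a b : Ω} (ha : x a = a) (hb : x b = b) (hab : a ≠ b) :
    Pair x a b 1 where
  ha := fun m n => by
    rw [Perm.pow_apply_eq_self_of_apply_eq_self ha m, Perm.pow_apply_eq_self_of_apply_eq_self ha n]
    exact ⟨fun _ => Nat.modEq_one, fun _ => rfl⟩
  hb := fun m n => by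
    rw [Perm.pow_apply_eq_self_of_apply_eq_self hb m, Perm.pow_apply_eq_self_of_apply_eq_self hb n]
    exact ⟨fun _ => Nat.modEq_one, fun _ => rfl⟩
  hab := fun m n => by
    rw [Perm.pow_apply_eq_self_of_apply_eq_self ha m, Perm.pow_apply_eq_self_of_apply_eq_self hb n]
    exact hab

lemma pair_of_cycles {x c d : Perm Ω} (hc : c ∈ x.cycleFactorsFinset)
    (hd : d ∈ x.cycleFactorsFinset) (hne : c ≠ d) (hcard : c.support.card = d.support.card)
    {a b : Ω} (ha : a ∈ c.support) (hb : b ∈ d.support) : Pair x a b c.support.card := by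
  have hca : c = x.cycleOf a := Perm.cycle_is_cycleOf ha hc
  have hdb : d = x.cycleOf b := Perm.cycle_is_cycleOf hb hd
  have hcyc : x.IsCycleOn (c.support : Set Ω) := by
    rw [hca]
    exact Perm.isCycleOn_support_cycleOf x a
  have hcyd : x.IsCycleOn (d.support : Set Ω) := by
    rw [hdb]
    exact Perm.isCycleOn_support_cycleOf x b
  have hns : ¬ x.SameCycle a b := by
    intro hs
    apply hne
    rw [hca, hdb]
    exact hs.cycleOf_eq
  refine ⟨fun m n => hcyc.pow_apply_eq_pow_apply ha, fun m n => ?_, fun m n hmn => ?_⟩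
  · rw [hcard]
    exact hcyd.pow_apply_eq_pow_apply hb
  · apply hns
    have h1 : x.SameCycle a ((x ^ m) a) := Perm.sameCycle_pow_right.mpr (Perm.SameCycle.refl x a)
    rw [hmn] at h1
    exact Perm.sameCycle_pow_right.mp h1

lemma no_three_cycle {P₀ : Subgroup (Perm Ω)} (hP : IsPGroup 2 P₀) {g : Perm Ω} (hg : g ∈ P₀)
    (h3 : g.IsThreeCycle) : False := by
  obtain ⟨k, hk⟩ := hP ⟨g, hg⟩
  have h1 : g ^ 2 ^ k = 1 := by
    have := congrArg (fun z : P₀ => (z : Perm Ω)) hk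
    simpa using this
  have h2 := orderOf_dvd_of_pow_eq_one h1
  rw [h3.orderOf] at h2
  have h4 := Nat.Prime.dvd_of_dvd_pow Nat.prime_three h2
  exact (by decide : ¬ 3 ∣ 2) h4

lemma card_le_of_unique {x : Perm Ω} {k : ℕ} (hx : x ^ 2 ^ k = 1) {P₀ : Subgroup (Perm Ω)}
    (hP : IsPGroup 2 P₀) (hmax : ∀ H : Subgroup (Perm Ω), IsPGroup 2 H → x ∈ H → H ≤ P₀) :
    Fintype.card Ω ≤ x.support.card + 2 := by
  by_contra hcon
  push Not at hcon
  have h1 : 2 < (x.supportᶜ).card := by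
    rw [Finset.card_compl]
    omega
  obtain ⟨a, ha, b, hb, c, hc, hab, hac, hbc⟩ := Finset.two_lt_card.mp h1
  have fa : x a = a := Perm.notMem_support.mp (Finset.mem_compl.mp ha)
  have fb : x b = b := Perm.notMem_support.mp (Finset.mem_compl.mp hb)
  have fc : x c = c := Perm.notMem_support.mp (Finset.mem_compl.mp hc)
  have s1 := swap_mem_of_pair (pair_of_fixed fa fb hab) hx hmax
  have s2 := swap_mem_of_pair (pair_of_fixed fa fc hac) hx hmax
  exact no_three_cycle hP (mul_mem s1 s2) (Perm.isThreeCycle_swap_mul_swap_same hab hac hbc)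

lemma nodup_of_unique {x : Perm Ω} {k : ℕ} (hx : x ^ 2 ^ k = 1) {P₀ : Subgroup (Perm Ω)}
    (hP : IsPGroup 2 P₀) (hmax : ∀ H : Subgroup (Perm Ω), IsPGroup 2 H → x ∈ H → H ≤ P₀) :
    x.cycleType.Nodup := by
  rw [Perm.cycleType_def, Multiset.nodup_map_iff_inj_on x.cycleFactorsFinset.nodup]
  intro c hc d hd hcd
  by_contra hne
  rw [Finset.mem_val] at hc hd
  have hcd' : c.support.card = d.support.card := hcd
  obtain ⟨a, ha⟩ := (Perm.mem_cycleFactorsFinset_iff.mp hc).1.nonempty_support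
  obtain ⟨b, hb⟩ := (Perm.mem_cycleFactorsFinset_iff.mp hd).1.nonempty_support
  have hdb : d b = x b := (Perm.mem_cycleFactorsFinset_iff.mp hd).2 b hb
  have hb' : x b ∈ d.support := by
    rw [← hdb]
    exact Perm.apply_mem_support.mpr hb
  have hbb' : b ≠ x b := by
    rw [← hdb]
    exact (Perm.mem_support.mp hb).symm
  have p1 := pair_of_cycles hc hd hne hcd' ha hb
  have p2 := pair_of_cycles hc hd hne hcd' ha hb'
  have s1 := swap_mem_of_pair p1 hx hmax
  have s2 := swap_mem_of_pair p2 hx hmax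
  have hab : a ≠ b := by
    have := p1.hab 0 0
    simpa using this
  have hab' : a ≠ x b := by
    have := p2.hab 0 0
    simpa using this
  exact no_three_cycle hP (mul_mem s1 s2) (Perm.isThreeCycle_swap_mul_swap_same hab hab' hbb')

lemma orb_eq_support_cycleOf {x : Perm Ω} {a : Ω} (ha : x a ≠ a) :
    orb x a = (x.cycleOf a).support := by
  ext b
  rw [mem_orb, Perm.mem_support_cycleOf_iff' ha]
  constructor
  · rintro ⟨n, rfl⟩
    exact Perm.sameCycle_pow_right.mpr (Perm.SameCycle.refl x a)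
  · intro h
    exact h.exists_nat_pow_eq

lemma good_of_cycleType {x : Perm Ω} (hord : ∃ k : ℕ, x ^ 2 ^ k = 1)
    (hfix : Fintype.card Ω ≤ x.support.card + 2) (hnd : x.cycleType.Nodup) :
    Good (Finset.univ : Finset Ω) x where
  mem := by
    rw [Sy_univ]
    exact Subgroup.mem_top x
  ord := hord
  fix := fun s _ hs => by
    have hsub : s ⊆ x.supportᶜ := by
      intro a ha
      rw [Finset.mem_compl, Perm.notMem_support]
      exact hs a ha
    have h1 := Finset.card_le_card hsub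
    rw [Finset.card_compl] at h1
    omega
  inj := fun a _ b _ hna hnb hc => by
    rw [orb_eq_support_cycleOf hna, orb_eq_support_cycleOf hnb] at hc
    rw [Perm.cycleType_def, Multiset.nodup_map_iff_inj_on x.cycleFactorsFinset.nodup] at hnd
    have h1 : x.cycleOf a ∈ x.cycleFactorsFinset.val :=
      Finset.mem_val.mpr (Perm.cycleOf_mem_cycleFactorsFinset_iff.mpr (Perm.mem_support.mpr hna))
    have h2 : x.cycleOf b ∈ x.cycleFactorsFinset.val :=
      Finset.mem_val.mpr (Perm.cycleOf_mem_cycleFactorsFinset_iff.mpr (Perm.mem_support.mpr hnb))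
    have e := hnd _ h1 _ h2 hc
    rw [orb_eq_support_cycleOf hna, e, Perm.mem_support_cycleOf_iff' hnb]

/-- **S4349**, for an arbitrary finite set `Ω`. -/
theorem main4349 (x : Perm Ω) (hx : ∃ k : ℕ, orderOf x = 2 ^ k) :
    (∃! P : Sylow 2 (Perm Ω), x ∈ P) ↔
      (Fintype.card Ω ≤ x.support.card + 2 ∧ x.cycleType.Nodup) := by
  obtain ⟨k, hk⟩ := hx
  have hxk : x ^ 2 ^ k = 1 := by
    rw [← hk]
    exact pow_orderOf_eq_one x
  constructor
  · rintro ⟨P₀, hxP₀, huniq⟩
    have hmax : ∀ H : Subgroup (Perm Ω), IsPGroup 2 H → x ∈ H →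
        H ≤ (P₀ : Subgroup (Perm Ω)) := by
      intro H hH hxH
      obtain ⟨Q, hQ⟩ := hH.exists_le_sylow
      have h1 : Q = P₀ := huniq Q (hQ hxH)
      rw [← h1]
      exact hQ
    exact ⟨card_le_of_unique hxk P₀.isPGroup' hmax, nodup_of_unique hxk P₀.isPGroup' hmax⟩
  · rintro ⟨h1, h2⟩
    have hgood := good_of_cycleType ⟨k, hxk⟩ h1 h2
    obtain ⟨P, hP⟩ := (zpowers_isPGroup hxk).exists_le_sylow
    have hxP : x ∈ (P : Subgroup (Perm Ω)) := hP (Subgroup.mem_zpowers x)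
    refine ⟨P, hxP, ?_⟩
    intro Q hxQ
    apply Sylow.ext
    exact uniq _ Finset.univ rfl x hgood _ _ (isSyl_of_sylow Q) (isSyl_of_sylow P) hxQ hxP

end Cfsg.Agent.Lib.Helper7.Sy2
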