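import Mathlib

/-!
S3797 (Thompson), piece A: if `α` is an involutory automorphism of a finite abelian group `A` and
`α γ α γ⁻¹` is fixed-point-free on `A`, then every `α`-fixed element of `A` is a norm `t * α t`.
-/

set_option autoImplicit false
set_option maxRecDepth 100000
set_option maxHeartbeats 1000000
set_option linter.unusedVariables false
set_option linter.unusedSectionVars false
set_option linter.deprecated false
set_option linter.style.haveILetI false

namespace Cfsg.Agent.Lib.Helper7.T97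

/-- the abelian case -/
theorem fix_eq_norm {B : Type*} [CommGroup B] [Finite B] (α γ : B ≃* B)
    (hα : ∀ x, α (α x) = x)
    (hfpf : ∀ x, α (γ (α (γ.symm x))) = x → x = 1) (u : B) (hu : α u = u) :
    ∃ t, t * α t = u := by
  obtain ⟨N, hN⟩ : ∃ N : B →* B, N = MonoidHom.id B * α.toMonoidHom := ⟨_, rfl⟩
  have hNt : ∀ t, N t = t * α t := by
    intro t
    rw [hN, MonoidHom.mul_apply]
    rfl
  let Fix : Subgroup B :=
    { carrier := {x | α x = x}
      mul_mem' := by
        intro a b ha hb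
        rw [Set.mem_setOf_eq] at ha hb ⊢
        rw [map_mul, ha, hb]
      one_mem' := map_one α
      inv_mem' := by
        intro a ha
        rw [Set.mem_setOf_eq] at ha ⊢
        rw [map_inv, ha] }
  have hmemFix : ∀ b, b ∈ Fix ↔ α b = b := fun b => Iff.rfl
  have hrange : N.range ≤ Fix := by
    rintro x ⟨t, rfl⟩
    rw [hmemFix, hNt, map_mul, hα, mul_comm]
  have hker : ∀ t, t ∈ N.ker ↔ α t = t⁻¹ := by
    intro t
    rw [MonoidHom.mem_ker, hNt]
    constructor
    · intro h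
      exact eq_inv_of_mul_eq_one_right h
    · intro h
      rw [h, mul_inv_cancel]
  have inj1 : Function.Injective (fun p : ↥Fix × ↥Fix => (p.1 : B) * γ (p.2 : B)) := by
    rintro ⟨x, y⟩ ⟨x', y'⟩ h
    simp only at h
    have hw : (x' : B)⁻¹ * x = γ ((y' : B) * (y : B)⁻¹) := by
      rw [map_mul, map_inv]
      calc (x' : B)⁻¹ * x = (x' : B)⁻¹ * ((x : B) * γ y) * (γ (y : B))⁻¹ := by group
        _ = (x' : B)⁻¹ * ((x' : B) * γ y') * (γ (y : B))⁻¹ := by rw [h]
        _ = γ (y' : B) * (γ (y : B))⁻¹ := by group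
    have hwfix : α ((x' : B)⁻¹ * x) = (x' : B)⁻¹ * x := by
      rw [map_mul, map_inv, (hmemFix _).mp x'.2, (hmemFix _).mp x.2]
    have hvfix : α ((y' : B) * (y : B)⁻¹) = (y' : B) * (y : B)⁻¹ := by
      rw [map_mul, map_inv, (hmemFix _).mp y'.2, (hmemFix _).mp y.2]
    have h1 : (x' : B)⁻¹ * x = 1 := by
      apply hfpf
      rw [hw, γ.symm_apply_apply, hvfix, ← hw, hwfix]
    have hx : (x' : B) = x := inv_mul_eq_one.mp h1
    have hy : (y' : B) = y := by
      rw [h1] at hw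
      have h2 : (y' : B) * (y : B)⁻¹ = 1 := (map_eq_one_iff γ γ.injective).mp hw.symm
      exact mul_inv_eq_one.mp h2
    exact Prod.ext (Subtype.ext hx.symm) (Subtype.ext hy.symm)
  have inj2 : Function.Injective (fun p : ↥N.ker × ↥N.ker => (p.1 : B) * γ (p.2 : B)) := by
    rintro ⟨x, y⟩ ⟨x', y'⟩ h
    simp only at h
    have hw : (x' : B)⁻¹ * x = γ ((y' : B) * (y : B)⁻¹) := by
      rw [map_mul, map_inv]
      calc (x' : B)⁻¹ * x = (x' : B)⁻¹ * ((x : B) * γ y) * (γ (y : B))⁻¹ := by group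
        _ = (x' : B)⁻¹ * ((x' : B) * γ y') * (γ (y : B))⁻¹ := by rw [h]
        _ = γ (y' : B) * (γ (y : B))⁻¹ := by group
    have hwI : α ((x' : B)⁻¹ * x) = ((x' : B)⁻¹ * x)⁻¹ :=
      (hker _).mp (N.ker.mul_mem (N.ker.inv_mem x'.2) x.2)
    have hvI : α ((y' : B) * (y : B)⁻¹) = ((y' : B) * (y : B)⁻¹)⁻¹ :=
      (hker _).mp (N.ker.mul_mem y'.2 (N.ker.inv_mem y.2))
    have h1 : (x' : B)⁻¹ * x = 1 := by
      apply hfpf
      rw [hw, γ.symm_apply_apply, hvI, map_inv, ← hw, map_inv, hwI, inv_inv]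
    have hx : (x' : B) = x := inv_mul_eq_one.mp h1
    have hy : (y' : B) = y := by
      rw [h1] at hw
      have h2 : (y' : B) * (y : B)⁻¹ = 1 := (map_eq_one_iff γ γ.injective).mp hw.symm
      exact mul_inv_eq_one.mp h2
    exact Prod.ext (Subtype.ext hx.symm) (Subtype.ext hy.symm)
  have card1 : Nat.card ↥Fix * Nat.card ↥Fix ≤ Nat.card B := by
    rw [← Nat.card_prod]
    exact Nat.card_le_card_of_injective _ inj1
  have card2 : Nat.card ↥N.ker * Nat.card ↥N.ker ≤ Nat.card B := by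
    rw [← Nat.card_prod]
    exact Nat.card_le_card_of_injective _ inj2
  have card3 : Nat.card ↥N.range * Nat.card ↥N.ker = Nat.card B := by
    rw [← Subgroup.index_ker]
    exact Subgroup.index_mul_card N.ker
  have card4 : Nat.card ↥N.range ≤ Nat.card ↥Fix := Subgroup.card_le_of_le hrange
  have hkpos : 0 < Nat.card ↥N.ker := Nat.card_pos
  have card5 : Nat.card ↥Fix ≤ Nat.card ↥N.range := by
    by_contra hlt
    have hlt' : Nat.card ↥N.range + 1 ≤ Nat.card ↥Fix := Nat.lt_of_not_le hlt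
    -- n = r * a < f * a, so n * n < (f * f) * (a * a) ≤ n * n
    have h1 : Nat.card B + Nat.card ↥N.ker ≤ Nat.card ↥Fix * Nat.card ↥N.ker := by
      calc Nat.card B + Nat.card ↥N.ker = (Nat.card ↥N.range + 1) * Nat.card ↥N.ker := by
            rw [add_mul, one_mul, card3]
        _ ≤ Nat.card ↥Fix * Nat.card ↥N.ker := Nat.mul_le_mul_right _ hlt'
    have h2 : (Nat.card ↥Fix * Nat.card ↥N.ker) * (Nat.card ↥Fix * Nat.card ↥N.ker) ≤
        Nat.card B * Nat.card B := by
      calc (Nat.card ↥Fix * Nat.card ↥N.ker) * (Nat.card ↥Fix * Nat.card ↥N.ker)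
          = (Nat.card ↥Fix * Nat.card ↥Fix) * (Nat.card ↥N.ker * Nat.card ↥N.ker) := by ring
        _ ≤ Nat.card B * Nat.card B := Nat.mul_le_mul card1 card2
    have h3 : Nat.card B < Nat.card ↥Fix * Nat.card ↥N.ker := by omega
    have h4 := Nat.mul_lt_mul'' h3 h3
    omega
  have heq : N.range = Fix := Subgroup.eq_of_le_of_card_ge hrange card5
  have huF : u ∈ Fix := (hmemFix u).mpr hu
  rw [← heq] at huF
  obtain ⟨t, ht⟩ := huF
  exact ⟨t, by rw [← hNt]; exact ht⟩

theorem fix_eq_norm_sub {X : Type*} [Group X] [Finite X] (A : Subgroup X)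
    (hc : ∀ x ∈ A, ∀ y ∈ A, x * y = y * x)
    (α γ : MulAut X) (hαA : ∀ x ∈ A, α x ∈ A) (hγA : ∀ x ∈ A, γ x ∈ A)
    (hγA' : ∀ x ∈ A, γ⁻¹ x ∈ A)
    (hα : ∀ x ∈ A, α (α x) = x)
    (hfpf : ∀ x ∈ A, α (γ (α (γ⁻¹ x))) = x → x = 1) (u : X) (huA : u ∈ A) (hu : α u = u) :
    ∃ t ∈ A, t * α t = u := by
  letI : CommGroup ↥A :=
    { (inferInstance : Group ↥A) with
      mul_comm := fun x y => Subtype.ext (hc x x.2 y y.2) }
  let α' : ↥A ≃* ↥A :=
    { toFun := fun x => ⟨α x, hαA x x.2⟩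
      invFun := fun x => ⟨α x, hαA x x.2⟩
      left_inv := fun x => Subtype.ext (hα x x.2)
      right_inv := fun x => Subtype.ext (hα x x.2)
      map_mul' := fun x y => Subtype.ext (map_mul α (x : X) (y : X)) }
  let γ' : ↥A ≃* ↥A :=
    { toFun := fun x => ⟨γ x, hγA x x.2⟩
      invFun := fun x => ⟨γ⁻¹ x, hγA' x x.2⟩
      left_inv := fun x => Subtype.ext (MulAut.inv_apply_self X γ x)
      right_inv := fun x => Subtype.ext (MulAut.apply_inv_self X γ x)
      map_mul' := fun x y => Subtype.ext (map_mul γ (x : X) (y : X)) }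
  have hα' : ∀ x : ↥A, α' (α' x) = x := fun x => Subtype.ext (hα x x.2)
  have hfpf' : ∀ x : ↥A, α' (γ' (α' (γ'.symm x))) = x → x = 1 := by
    intro x h
    apply Subtype.ext
    apply hfpf x x.2
    exact congrArg Subtype.val h
  obtain ⟨t, ht⟩ := fix_eq_norm α' γ' hα' hfpf' ⟨u, huA⟩ (Subtype.ext hu)
  exact ⟨t.1, t.2, congrArg Subtype.val ht⟩

end Cfsg.Agent.Lib.Helper7.T97
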