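import Mathlib
import Cfsg.Agent.Lib.Helper7.BB1
import Cfsg.Agent.Lib.Helper8.ExtLayer1
import Cfsg.Agent.Lib.Helper1.CoprimeSylow

/-!
# S1775, unit U4

A `2`-component `J` of a subgroup `N` that is normal in `C` is a `2`-component of `C`; applied to
`N = L_{2'}(C_x) ∩ C_y` and `C = C_x ∩ C_y`.
-/

set_option autoImplicit false

namespace Cfsg.Agent.Lib.Helper7.TCL

open Cfsg Cfsg.Agent.Lib.Helper7.BB

/-- A `p`-component of (the group) `N`, where `N` is normalized by `C ≥ N`, is a `p`-component
of `C`. -/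
theorem isPComponentOf_map_subtype {G : Type*} [Group G] [Finite G] (p : ℕ) [hp : Fact p.Prime]
    (N C : Subgroup G) (hNC : N ≤ C) (hn : C ≤ Subgroup.normalizer (N : Set G))
    (J : Subgroup ↥N) (hJ : IsPComponent p J) :
    IsPComponentOf p (J.map N.subtype) C := by
  obtain ⟨hsub, hlike⟩ := (isPComponent_iff_pLike J).1 hJ
  have hJN : J.map N.subtype ≤ N := Subgroup.map_subtype_le J
  rw [isPComponentOf_iff]
  refine ⟨hJN.trans hNC, ?_, ?_⟩
  · apply subn_trans hJN hNC
    · have : (J.map N.subtype).subgroupOf N = J :=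
        Subgroup.comap_map_eq_self_of_injective (Subgroup.subtype_injective N) J
      rw [this]
      exact hsub
    · exact subn_of_normalizer hNC hn
  · exact hlike.of_equiv (Subgroup.equivMapOfInjective J N.subtype (Subgroup.subtype_injective N))

/-- The image in `G` of a normal subgroup of `H` is normalized by `H`. -/
theorem le_normalizer_map_subtype {G : Type*} [Group G] (H : Subgroup G) (A : Subgroup ↥H)
    [hA : A.Normal] : H ≤ Subgroup.normalizer ((A.map H.subtype : Subgroup G) : Set G) := by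
  apply Cfsg.Agent.Lib.Helper1.le_normalizer_of_conj_mem
  rintro g hg _ ⟨a, ha, rfl⟩
  exact ⟨(⟨g, hg⟩ : ↥H) * a * (⟨g, hg⟩ : ↥H)⁻¹, hA.conj_mem a ha ⟨g, hg⟩, rfl⟩

/-- `L_{2'}(C_x) ∩ C_y` is normalized by `C_x ∩ C_y`. -/
theorem double_layer_normalized {G : Type*} [Group G] (p : ℕ) (x y : G) :
    Subgroup.centralizer ({x} : Set G) ⊓ Subgroup.centralizer ({y} : Set G) ≤
      Subgroup.normalizer
        (((pLayer p ↥(Subgroup.centralizer ({x} : Set G))).map
          (Subgroup.centralizer ({x} : Set G)).subtype ⊓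
            Subgroup.centralizer ({y} : Set G) : Subgroup G) : Set G) := by
  haveI := Cfsg.Agent.Lib.Helper8.ExtLayer.pLayer_normal (X := ↥(Subgroup.centralizer ({x} : Set G))) p
  refine le_trans ?_ Subgroup.inf_normalizer_le_normalizer_inf
  exact inf_le_inf (le_normalizer_map_subtype _ _) Subgroup.le_normalizer

/-- **S1775 U4.** A `2`-component of `L_{2'}(C_x) ∩ C_y` is a `2`-component of `C_x ∩ C_y`. -/
theorem isPComponentOf_double_layer {G : Type*} [Group G] [Finite G] (p : ℕ) [hp : Fact p.Prime]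
    (x y : G)
    (J : Subgroup ↥((pLayer p ↥(Subgroup.centralizer ({x} : Set G))).map
      (Subgroup.centralizer ({x} : Set G)).subtype ⊓ Subgroup.centralizer ({y} : Set G)))
    (hJ : IsPComponent p J) :
    IsPComponentOf p (J.map (Subgroup.subtype _))
      (Subgroup.centralizer ({x} : Set G) ⊓ Subgroup.centralizer ({y} : Set G)) :=
  isPComponentOf_map_subtype p _ _
    (inf_le_inf_right _ (Subgroup.map_subtype_le _)) (double_layer_normalized p x y) J hJ

end Cfsg.Agent.Lib.Helper7.TCL
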