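import Mathlib
import Cfsg.Agent.Lib.Helper7.TCL4

/-!
# Farm TCL (S1775), unit U4 (stub shape of `Cfsg.Agent.Lib.Helper1.TCLStubs.U4`)
-/

set_option autoImplicit false

namespace Cfsg.Agent.Lib.Helper7.TCL

open Cfsg Cfsg.Agent.Lib.Helper7.BB

/-- U4: the 2-component `J` of `L_{2'}(C_x) ∩ C_y`, read inside `X = C_y`, is a 2-component of
`C_X(x)`. -/
theorem U4 {G : Type*} [Group G] [Finite G] (x y : G) (hxy : x * y = y * x)
    (J : Subgroup ↥((Cfsg.pLayer 2 ↥(Subgroup.centralizer ({x} : Set G))).map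
      (Subgroup.centralizer ({x} : Set G)).subtype ⊓ Subgroup.centralizer ({y} : Set G)))
    (hJ : Cfsg.IsPComponent 2 J) :
    Cfsg.IsPComponentOf 2
      ((J.map (Subgroup.subtype _)).subgroupOf (Subgroup.centralizer ({y} : Set G)))
      (Subgroup.centralizer
        ({(⟨x, Subgroup.mem_centralizer_singleton_iff.mpr hxy⟩ :
          ↥(Subgroup.centralizer ({y} : Set G)))} : Set ↥(Subgroup.centralizer ({y} : Set G)))) := by
  have h0 := isPComponentOf_double_layer 2 x y J hJ
  rw [isPComponentOf_iff] at h0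
  obtain ⟨hle, hsub, hlike⟩ := h0
  have hCt : Subgroup.centralizer
      ({(⟨x, Subgroup.mem_centralizer_singleton_iff.mpr hxy⟩ :
        ↥(Subgroup.centralizer ({y} : Set G)))} : Set ↥(Subgroup.centralizer ({y} : Set G))) =
      (Subgroup.centralizer ({x} : Set G) ⊓ Subgroup.centralizer ({y} : Set G)).subgroupOf
        (Subgroup.centralizer ({y} : Set G)) := by
    ext g
    rw [Subgroup.mem_subgroupOf, Subgroup.mem_inf]
    constructor
    · intro h
      refine ⟨Subgroup.mem_centralizer_singleton_iff.2 ?_, g.2⟩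
      exact congrArg Subtype.val (Subgroup.mem_centralizer_singleton_iff.1 h)
    · rintro ⟨h, -⟩
      exact Subgroup.mem_centralizer_singleton_iff.2
        (Subtype.ext (Subgroup.mem_centralizer_singleton_iff.1 h))
  rw [isPComponentOf_iff, hCt]
  refine ⟨?_, ?_, ?_⟩
  · intro g hg
    rw [Subgroup.mem_subgroupOf] at hg ⊢
    exact hle hg
  · exact subn_subgroupOf inf_le_right hsub
  · exact hlike.of_equiv (Subgroup.subgroupOfEquivOfLe (hle.trans inf_le_right)).symm

end Cfsg.Agent.Lib.Helper7.TCL
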