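import Mathlib

set_option autoImplicit false
set_option linter.style.haveILetI false
set_option linter.unusedSectionVars false
set_option linter.unusedVariables false
set_option linter.unusedTactic false
set_option linter.unreachableTactic false

/-! helper7: group-theoretic part of S4407: an elementary abelian group `A` of order 9 normal in
`S`, an element `r` with `(r r)^2 = 1`; fixed and inverted subgroups of involutions on `A`. -/

namespace Cfsg.Agent.Lib.Helper7.TD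

variable {S : Type*} [Group S]

/-- in a subgroup of order 3 every element is `1`, `g` or `g * g`. -/
theorem sl3 (H : Subgroup S) (h3 : Nat.card H = 3) {g : S} (hg : g ∈ H)
    (hg1 : g ≠ 1) : ∀ x ∈ H, x = 1 ∨ x = g ∨ x = g * g := by
  classical
  intro x hx
  haveI : Fact (Nat.Prime 3) := ⟨Nat.prime_three⟩
  haveI : Finite H := Nat.finite_of_card_ne_zero (by rw [h3]; norm_num)
  have hg1' : (⟨g, hg⟩ : H) ≠ 1 := by
    intro h
    exact hg1 (congrArg Subtype.val h)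
  have htop : Subgroup.zpowers (⟨g, hg⟩ : H) = ⊤ :=
    zpowers_eq_top_of_prime_card (G := H) (p := 3) h3 hg1'
  have hmem : (⟨x, hx⟩ : H) ∈ Subgroup.zpowers (⟨g, hg⟩ : H) := by
    rw [htop]; exact Subgroup.mem_top _
  have hg3 : (⟨g, hg⟩ : H) ^ 3 = 1 := by
    have := pow_card_eq_one' (G := H) (x := ⟨g, hg⟩)
    rwa [h3] at this
  have hord : orderOf (⟨g, hg⟩ : H) = 3 := orderOf_eq_prime hg3 hg1'
  rw [mem_zpowers_iff_mem_range_orderOf, hord] at hmem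
  obtain ⟨k, hk, hk'⟩ := Finset.mem_image.mp hmem
  have hk3 : k < 3 := Finset.mem_range.mp hk
  have hx' : g ^ k = x := by
    have := congrArg Subtype.val hk'
    simpa using this
  interval_cases k
  · left; rw [← hx', pow_zero]
  · right; left; rw [← hx', pow_one]
  · right; right; rw [← hx', pow_two]

theorem dvd9 : ∀ n : ℕ, n ∣ 9 → n = 1 ∨ n = 3 ∨ n = 9 := by
  intro n h
  have hle : n ≤ 9 := Nat.le_of_dvd (by norm_num) h
  interval_cases n <;> first | omega | (exfalso; revert h; decide)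

theorem cjm (y a b : S) : y * (a * b) * y⁻¹ = (y * a * y⁻¹) * (y * b * y⁻¹) := by group

theorem cji (y a : S) : y * a⁻¹ * y⁻¹ = (y * a * y⁻¹)⁻¹ := by group

theorem cancel_aux {P P' Q Q' : S} (h : P * Q = P' * Q') : P'⁻¹ * P = Q' * Q⁻¹ := by
  calc P'⁻¹ * P = P'⁻¹ * (P * Q) * Q⁻¹ := by group
    _ = P'⁻¹ * (P' * Q') * Q⁻¹ := by rw [h]
    _ = Q' * Q⁻¹ := by group

/-- elements of `A` fixed by conjugation with `y`. -/
def fixSub (A : Subgroup S) (y : S) : Subgroup S where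
  carrier := {x | x ∈ A ∧ y * x * y⁻¹ = x}
  mul_mem' := by
    rintro a b ⟨ha, ha'⟩ ⟨hb, hb'⟩
    exact ⟨A.mul_mem ha hb, by rw [cjm, ha', hb']⟩
  one_mem' := ⟨A.one_mem, by group⟩
  inv_mem' := by
    rintro a ⟨ha, ha'⟩
    exact ⟨A.inv_mem ha, by rw [cji, ha']⟩

/-- elements of the commutative `A` inverted by conjugation with `y`. -/
def invSub (A : Subgroup S) (hc : ∀ a ∈ A, ∀ a' ∈ A, a * a' = a' * a) (y : S) : Subgroup S where
  carrier := {x | x ∈ A ∧ y * x * y⁻¹ = x⁻¹}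
  mul_mem' := by
    rintro a b ⟨ha, ha'⟩ ⟨hb, hb'⟩
    refine ⟨A.mul_mem ha hb, ?_⟩
    rw [cjm, ha', hb', mul_inv_rev]
    exact hc _ (A.inv_mem ha) _ (A.inv_mem hb)
  one_mem' := ⟨A.one_mem, by group⟩
  inv_mem' := by
    rintro a ⟨ha, ha'⟩
    exact ⟨A.inv_mem ha, by rw [cji, ha']⟩

theorem fix_inv_eq_one {A : Subgroup S} (h3 : ∀ a ∈ A, a ^ 3 = 1) {y x : S} (hxA : x ∈ A)
    (h1 : y * x * y⁻¹ = x) (h2 : y * x * y⁻¹ = x⁻¹) : x = 1 := by
  have hxx : x = x⁻¹ := h1.symm.trans h2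
  have h3x := h3 x hxA
  rw [pow_three'] at h3x
  have hx2 : x * x = 1 := mul_eq_one_iff_eq_inv.mpr hxx
  rw [hx2, one_mul] at h3x
  exact h3x

theorem card_fix_inv (A : Subgroup S) (hc : ∀ a ∈ A, ∀ a' ∈ A, a * a' = a' * a)
    (h3 : ∀ a ∈ A, a ^ 3 = 1) (h9 : Nat.card A = 9) (y f g : S)
    (hf : f ∈ fixSub A y) (hg : g ∈ invSub A hc y) (hf1 : f ≠ 1) (hg1 : g ≠ 1) :
    Nat.card (fixSub A y) = 3 ∧ Nat.card (invSub A hc y) = 3 ∧
      ∀ a ∈ A, ∃ f' ∈ fixSub A y, ∃ g' ∈ invSub A hc y, a = f' * g' := by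
  haveI : Finite A := Nat.finite_of_card_ne_zero (by rw [h9]; norm_num)
  obtain ⟨F, hFdef⟩ : ∃ F, F = fixSub A y := ⟨_, rfl⟩
  obtain ⟨I, hIdef⟩ : ∃ I, I = invSub A hc y := ⟨_, rfl⟩
  rw [← hFdef, ← hIdef]
  rw [← hFdef] at hf
  rw [← hIdef] at hg
  have hFA : F ≤ A := by rw [hFdef]; exact fun x hx => hx.1
  have hIA : I ≤ A := by rw [hIdef]; exact fun x hx => hx.1
  have hdisj : ∀ x, x ∈ F → x ∈ I → x = 1 := by
    intro x hxF hxI
    rw [hFdef] at hxF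
    rw [hIdef] at hxI
    exact fix_inv_eq_one h3 hxF.1 hxF.2 hxI.2
  let ψ : F × I → A := fun p => ⟨p.1.1 * p.2.1, A.mul_mem (hFA p.1.2) (hIA p.2.2)⟩
  have hψ : Function.Injective ψ := by
    rintro ⟨⟨p1, hp1⟩, ⟨p2, hp2⟩⟩ ⟨⟨q1, hq1⟩, ⟨q2, hq2⟩⟩ h
    have h' : p1 * p2 = q1 * q2 := congrArg Subtype.val h
    have hx : q1⁻¹ * p1 = q2 * p2⁻¹ := cancel_aux h'
    have hxF : q1⁻¹ * p1 ∈ F := F.mul_mem (F.inv_mem hq1) hp1
    have hxI : q1⁻¹ * p1 ∈ I := by rw [hx]; exact I.mul_mem hq2 (I.inv_mem hp2)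
    have h1 := hdisj _ hxF hxI
    have e1 : q1 = p1 := inv_mul_eq_one.mp h1
    have e2 : q2 = p2 := mul_inv_eq_one.mp (hx.symm.trans h1)
    subst e1; subst e2; rfl
  have hcard_le : Nat.card F * Nat.card I ≤ 9 := by
    rw [← Nat.card_prod, ← h9]
    exact Nat.card_le_card_of_injective ψ hψ
  have hFd : Nat.card F ∣ 9 := by rw [← h9]; exact Subgroup.card_dvd_of_le hFA
  have hId : Nat.card I ∣ 9 := by rw [← h9]; exact Subgroup.card_dvd_of_le hIA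
  have hF1 : Nat.card F ≠ 1 := by
    intro h
    rw [Subgroup.card_eq_one] at h
    rw [h, Subgroup.mem_bot] at hf
    exact hf1 hf
  have hI1 : Nat.card I ≠ 1 := by
    intro h
    rw [Subgroup.card_eq_one] at h
    rw [h, Subgroup.mem_bot] at hg
    exact hg1 hg
  have hF3 : Nat.card F = 3 ∧ Nat.card I = 3 := by
    rcases dvd9 _ hFd with h | h | h <;> rcases dvd9 _ hId with h' | h' | h' <;>
      first
        | exact absurd h hF1
        | exact absurd h' hI1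
        | exact ⟨h, h'⟩
        | (exfalso; rw [h, h'] at hcard_le; norm_num at hcard_le)
  have hbij : Function.Bijective ψ := by
    apply hψ.bijective_of_nat_card_le
    have h := Nat.card_prod F I
    rw [hF3.1, hF3.2] at h
    omega
  refine ⟨hF3.1, hF3.2, ?_⟩
  intro a ha
  obtain ⟨⟨⟨f', hf'⟩, ⟨g', hg'⟩⟩, hp⟩ := hbij.2 ⟨a, ha⟩
  exact ⟨f', hf', g', hg', (congrArg Subtype.val hp).symm⟩

theorem two_gen (A : Subgroup S) (hc : ∀ a ∈ A, ∀ a' ∈ A, a * a' = a' * a)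
    (h3 : ∀ a ∈ A, a ^ 3 = 1) (h9 : Nat.card A = 9) (y f g : S) (hfA : f ∈ A) (hgA : g ∈ A)
    (hf1 : f ≠ 1) (hg1 : g ≠ 1) (hyf : y * f * y⁻¹ = f) (hyg : y * g * y⁻¹ = g⁻¹) :
    ∀ a ∈ A, ∃ i j : ℕ, a = f ^ i * g ^ j := by
  have hf : f ∈ fixSub A y := ⟨hfA, hyf⟩
  have hg : g ∈ invSub A hc y := ⟨hgA, hyg⟩
  obtain ⟨hF, hI, hall⟩ := card_fix_inv A hc h3 h9 y f g hf hg hf1 hg1
  intro a ha
  obtain ⟨f', hf', g', hg', rfl⟩ := hall a ha
  have h1 := sl3 _ hF hf hf1 f' hf'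
  have h2 := sl3 _ hI hg hg1 g' hg'
  rcases h1 with h1 | h1 | h1 <;> rcases h2 with h2 | h2 | h2
  · exact ⟨0, 0, by rw [h1, h2, pow_zero, pow_zero]⟩
  · exact ⟨0, 1, by rw [h1, h2, pow_zero, pow_one]⟩
  · exact ⟨0, 2, by rw [h1, h2, pow_zero, pow_two]⟩
  · exact ⟨1, 0, by rw [h1, h2, pow_zero, pow_one]⟩
  · exact ⟨1, 1, by rw [h1, h2, pow_one, pow_one]⟩
  · exact ⟨1, 2, by rw [h1, h2, pow_one, pow_two]⟩
  · exact ⟨2, 0, by rw [h1, h2, pow_zero, pow_two]⟩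
  · exact ⟨2, 1, by rw [h1, h2, pow_one, pow_two]⟩
  · exact ⟨2, 2, by rw [h1, h2, pow_two, pow_two]⟩

theorem inv_classify (A : Subgroup S) (hc : ∀ a ∈ A, ∀ a' ∈ A, a * a' = a' * a)
    (h3 : ∀ a ∈ A, a ^ 3 = 1) (h9 : Nat.card A = 9) (y f g : S) (hfA : f ∈ A) (hgA : g ∈ A)
    (hf1 : f ≠ 1) (hg1 : g ≠ 1) (hyf : y * f * y⁻¹ = f) (hyg : y * g * y⁻¹ = g⁻¹) :
    ∀ x ∈ A, y * x * y⁻¹ = x⁻¹ → x = 1 ∨ x = g ∨ x = g * g := by
  have hf : f ∈ fixSub A y := ⟨hfA, hyf⟩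
  have hg : g ∈ invSub A hc y := ⟨hgA, hyg⟩
  obtain ⟨hF, hI, hall⟩ := card_fix_inv A hc h3 h9 y f g hf hg hf1 hg1
  intro x hx hyx
  exact sl3 _ hI hg hg1 x ⟨hx, hyx⟩

/-- if `(r r)^2 = 1` and `r r` does not centralize `A` then it inverts `A`. -/
theorem inverts_sq (A : Subgroup S) [hn : A.Normal] (hc : ∀ a ∈ A, ∀ a' ∈ A, a * a' = a' * a)
    (h3 : ∀ a ∈ A, a ^ 3 = 1) (h9 : Nat.card A = 9) (r : S) (hrr : (r * r) * (r * r) = 1)
    (a₀ : S) (ha₀ : a₀ ∈ A) (hne : (r * r) * a₀ * (r * r)⁻¹ ≠ a₀) :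
    ∀ a ∈ A, (r * r) * a * (r * r)⁻¹ = a⁻¹ := by
  obtain ⟨z, hz⟩ : ∃ z, z = r * r := ⟨_, rfl⟩
  rw [← hz] at hrr hne ⊢
  have hzz : ∀ x : S, z * (z * x * z⁻¹) * z⁻¹ = x := by
    intro x
    calc z * (z * x * z⁻¹) * z⁻¹ = (z * z) * x * (z * z)⁻¹ := by group
      _ = x := by rw [hrr]; group
  by_cases hF : ∃ f ∈ A, z * f * z⁻¹ = f ∧ f ≠ 1
  · exfalso
    obtain ⟨f, hfA, hzf, hf1⟩ := hF
    obtain ⟨g, hgdef⟩ : ∃ g, g = a₀ * (z * a₀ * z⁻¹)⁻¹ := ⟨_, rfl⟩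
    have hgA : g ∈ A := by
      rw [hgdef]; exact A.mul_mem ha₀ (A.inv_mem (hn.conj_mem a₀ ha₀ z))
    have hzg : z * g * z⁻¹ = g⁻¹ := by
      calc z * g * z⁻¹ = (z * a₀ * z⁻¹) * ((z * z) * a₀⁻¹ * (z * z)⁻¹) := by rw [hgdef]; group
        _ = (z * a₀ * z⁻¹) * a₀⁻¹ := by rw [hrr]; group
        _ = g⁻¹ := by rw [hgdef]; group
    have hg1 : g ≠ 1 := by
      intro h
      rw [hgdef, mul_inv_eq_one] at h
      exact hne h.symm
    have hI := inv_classify A hc h3 h9 z f g hfA hgA hf1 hg1 hzf hzg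
    obtain ⟨h, hhdef⟩ : ∃ h, h = r * g * r⁻¹ := ⟨_, rfl⟩
    have hhA : h ∈ A := by rw [hhdef]; exact hn.conj_mem g hgA r
    have hzh : z * h * z⁻¹ = h⁻¹ := by
      calc z * h * z⁻¹ = r * (z * g * z⁻¹) * r⁻¹ := by rw [hhdef, hz]; group
        _ = r * g⁻¹ * r⁻¹ := by rw [hzg]
        _ = h⁻¹ := by rw [hhdef]; group
    have hzg' : z * g * z⁻¹ = r * h * r⁻¹ := by rw [hhdef, hz]; group
    have hg3 : g * g * g = 1 := by rw [← pow_three']; exact h3 g hgA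
    have hfix : z * g * z⁻¹ = g := by
      rcases hI h hhA hzh with h1 | h1 | h1
      · exfalso
        rw [hhdef, conj_eq_one_iff] at h1
        exact hg1 h1
      · rw [hzg', h1]
        exact hhdef.symm.trans h1
      · rw [hzg', h1, cjm]
        have h2 : r * g * r⁻¹ = g * g := hhdef.symm.trans h1
        rw [h2]
        calc g * g * (g * g) = (g * g * g) * g := by group
          _ = g := by rw [hg3, one_mul]
    exact hg1 (fix_inv_eq_one h3 hgA hfix hzg)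
  · intro a ha
    have hw : a * (z * a * z⁻¹) = 1 := by
      by_contra hw1
      apply hF
      refine ⟨a * (z * a * z⁻¹), A.mul_mem ha (hn.conj_mem a ha z), ?_, hw1⟩
      rw [cjm, hzz]
      exact hc _ (hn.conj_mem a ha z) _ ha
    exact eq_inv_of_mul_eq_one_right hw

/-- an involution not inverting `A` fixes a nonidentity element. -/
theorem exists_fixed (A : Subgroup S) [hn : A.Normal] (hc : ∀ a ∈ A, ∀ a' ∈ A, a * a' = a' * a)
    (t : S) (ht2 : t * t = 1) (a : S) (ha : a ∈ A) (hne : t * a * t⁻¹ ≠ a⁻¹) :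
    ∃ b ∈ A, b ≠ 1 ∧ t * b * t⁻¹ = b := by
  refine ⟨a * (t * a * t⁻¹), A.mul_mem ha (hn.conj_mem a ha t), ?_, ?_⟩
  · intro h
    exact hne (eq_inv_of_mul_eq_one_right h)
  · have htt : t * (t * a * t⁻¹) * t⁻¹ = a := by
      calc t * (t * a * t⁻¹) * t⁻¹ = (t * t) * a * (t * t)⁻¹ := by group
        _ = a := by rw [ht2]; group
    rw [cjm, htt]
    exact hc _ (hn.conj_mem a ha t) _ ha

end Cfsg.Agent.Lib.Helper7.TD
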