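import Mathlib

set_option autoImplicit false
set_option linter.style.haveILetI false
set_option linter.unusedSectionVars false
set_option linter.unusedVariables false

/-! helper7: the module part of S4407.  `S = A⟨r, t⟩` with `A` elementary abelian of order 9,
`⟨r, t⟩` dihedral of order 8, `z = r * r` inverting `A`, `b ∈ A` fixed by `t`, `c = r b r⁻¹`.
If a faithful irreducible `F₂S`-module `M` is `C_M(b) + C_M(c)` then `#M = 16`,
`⟨z, t⟩` has at least three fixed vectors and `⟨z, t r⟩` has exactly two. -/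

namespace Cfsg.Agent.Lib.Helper7.TD

section act
variable {S : Type*} [Group S] {M : Type*} [AddCommGroup M] [Module (ZMod 2) M]
variable (ρ : Representation (ZMod 2) S M)

theorem act_mul (g h : S) (v : M) : ρ (g * h) v = ρ g (ρ h v) := by
  rw [map_mul]; rfl

theorem act_one (v : M) : ρ 1 v = v := by
  rw [map_one]; rfl

theorem act_inv_act (g : S) (v : M) : ρ g⁻¹ (ρ g v) = v := by
  rw [← act_mul, inv_mul_cancel, act_one]

theorem act_act_inv (g : S) (v : M) : ρ g (ρ g⁻¹ v) = v := by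
  rw [← act_mul, mul_inv_cancel, act_one]

theorem act_inj (g : S) {v w : M} (h : ρ g v = ρ g w) : v = w := by
  have := congrArg (ρ g⁻¹) h
  rwa [act_inv_act, act_inv_act] at this

theorem act_pow_mem (N : Submodule (ZMod 2) M) (g : S) (hg : ∀ v ∈ N, ρ g v ∈ N) (k : ℕ) :
    ∀ v ∈ N, ρ (g ^ k) v ∈ N := by
  induction k with
  | zero => intro v hv; rw [pow_zero, act_one]; exact hv
  | succ k ih => intro v hv; rw [pow_succ, act_mul]; exact ih _ (hg v hv)

/-- fixed space of `g` -/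
def W (g : S) : Submodule (ZMod 2) M := LinearMap.eqLocus (ρ g) LinearMap.id

theorem mem_W {g : S} {v : M} : v ∈ W ρ g ↔ ρ g v = v := by
  unfold W; rw [LinearMap.mem_eqLocus]; rfl

/-- conjugation -/
def cj (x g : S) : S := x * g * x⁻¹

theorem cj_mul (x y g : S) : cj (x * y) g = cj x (cj y g) := by unfold cj; group
theorem cj_inv (x g : S) : cj x g⁻¹ = (cj x g)⁻¹ := by unfold cj; group
theorem cj_inv_cj (x g : S) : cj x⁻¹ (cj x g) = g := by unfold cj; group
theorem mul_eq_of_cj {x g h : S} (hh : cj x g = h) : x * g = h * x := by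
  rw [← hh]; unfold cj; group

theorem W_cj {g x : S} {v : M} (h : v ∈ W ρ g) : ρ x v ∈ W ρ (cj x g) := by
  rw [mem_W] at h ⊢
  unfold cj
  rw [← act_mul, inv_mul_cancel_right, act_mul, h]

theorem W_inv {g : S} {v : M} (h : v ∈ W ρ g) : v ∈ W ρ g⁻¹ := by
  rw [mem_W] at h ⊢
  have := act_inv_act ρ g v
  rwa [h] at this

theorem W_of_inv {g : S} {v : M} (h : v ∈ W ρ g⁻¹) : v ∈ W ρ g := by
  have := W_inv ρ h
  rwa [inv_inv] at this

theorem W_comm {g x : S} {v : M} (hx : x * g = g * x) (h : v ∈ W ρ g) : ρ x v ∈ W ρ g := by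
  rw [mem_W] at h ⊢
  rw [← act_mul, ← hx, act_mul, h]

theorem add_eq_zero_iff_eq' {v w : M} : v + w = 0 ↔ v = w := by
  constructor
  · intro h
    have := congrArg (· + w) h
    simp only [add_assoc, ZModModule.add_self, add_zero, zero_add] at this
    exact this
  · intro h; rw [h]; exact ZModModule.add_self w

theorem exists_fix_of_invol {u : S} (hu : u * u = 1) (N : Submodule (ZMod 2) M)
    (hN : ∀ v ∈ N, ρ u v ∈ N) (hne : N ≠ ⊥) : ∃ w ∈ N, w ≠ 0 ∧ ρ u w = w := by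
  obtain ⟨w₀, hw₀, hw₀ne⟩ := (Submodule.ne_bot_iff N).mp hne
  by_cases h : ρ u w₀ = w₀
  · exact ⟨w₀, hw₀, hw₀ne, h⟩
  · refine ⟨ρ u w₀ + w₀, N.add_mem (hN _ hw₀) hw₀, ?_, ?_⟩
    · intro h0
      exact h (add_eq_zero_iff_eq'.mp h0)
    · rw [map_add, ← act_mul, hu, act_one, add_comm]

theorem zmod2_cases : ∀ α : ZMod 2, α = 0 ∨ α = 1 := by decide

end act

/-- the hypotheses of the module part -/
structure Core {S : Type*} [Group S] {M : Type*} [AddCommGroup M] [Module (ZMod 2) M]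
    (A : Subgroup S) (ρ : Representation (ZMod 2) S M) (r t b : S) : Prop where
  rr : (r * r) * (r * r) = 1
  t2 : t * t = 1
  tr : t * r * t⁻¹ = r⁻¹
  zinv : ∀ a ∈ A, (r * r) * a * (r * r)⁻¹ = a⁻¹
  gen : ∀ g : S, ∃ a ∈ A, ∃ k : ℕ, g = a * r ^ k ∨ g = a * (t * r ^ k)
  comm : ∀ a ∈ A, ∀ a' ∈ A, a * a' = a' * a
  normal : A.Normal
  bA : b ∈ A
  b3 : b ^ 3 = 1
  b1 : b ≠ 1
  tb : t * b * t⁻¹ = b
  genA : ∀ a ∈ A, ∃ i j : ℕ, a = b ^ i * (r * b * r⁻¹) ^ j
  faith : Function.Injective ρ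
  irr : ∀ N : Submodule (ZMod 2) M, (∀ s : S, ∀ m ∈ N, ρ s m ∈ N) → N = ⊥ ∨ N = ⊤
  nontriv : Nontrivial M
  sum : ∀ v : M, ∃ v₁ v₂, ρ b v₁ = v₁ ∧ ρ (r * b * r⁻¹) v₂ = v₂ ∧ v = v₁ + v₂

end Cfsg.Agent.Lib.Helper7.TD
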