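import Mathlib
import Cfsg.Agent.Lib.Helper7.TD2

set_option autoImplicit false
set_option linter.style.haveILetI false
set_option linter.unusedSectionVars false
set_option linter.unusedVariables false
set_option maxHeartbeats 1600000

/-! helper7: main theorem of the module part of S4407 (see `TD2`). -/

namespace Cfsg.Agent.Lib.Helper7.TD

variable {S : Type*} [Group S] {M : Type*} [AddCommGroup M] [Module (ZMod 2) M]

theorem core_main (ρ : Representation (ZMod 2) S M) {A : Subgroup S} {r t b : S}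
    (h : Core A ρ r t b) :
    Nat.card M = 16 ∧
    (∀ B : Subgroup S, (∀ x ∈ B, x = 1 ∨ x = r * r ∨ x = t ∨ x = t * (r * r)) →
      Nat.card {m : M // ∀ g ∈ B, ρ g m = m} ≠ 2) ∧
    (∀ B : Subgroup S, r * r ∈ B → t * r ∈ B →
      (∀ x ∈ B, x = 1 ∨ x = r * r ∨ x = t * r ∨ x = t * r * (r * r)) →
      Nat.card {m : M // ∀ g ∈ B, ρ g m = m} = 2) := by
  obtain ⟨hrr, ht2, htr, hzinv, hgen, hcomm, hnorm, hbA, hb3, hb1, htb, hgenA, hfaith, hirr, hnt,
    hsum⟩ := h
  haveI := hnorm
  haveI := hnt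
  obtain ⟨z, hz⟩ : ∃ z, z = r * r := ⟨_, rfl⟩
  obtain ⟨c, hc⟩ : ∃ c, c = r * b * r⁻¹ := ⟨_, rfl⟩
  rw [← hz] at hrr hzinv
  rw [← hz]
  simp only [← hc] at hgenA hsum
  -- group facts
  have hzi : z⁻¹ = z := inv_eq_of_mul_eq_one_right hrr
  have hti : t⁻¹ = t := inv_eq_of_mul_eq_one_right ht2
  have hcA : c ∈ A := by rw [hc]; exact hnorm.conj_mem b hbA r
  have hbc : b * c = c * b := hcomm b hbA c hcA
  have cjtb : cj t b = b := htb
  have cjrb : cj r b = c := hc.symm
  have cjzb : cj z b = b⁻¹ := hzinv b hbA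
  have cjzc : cj z c = c⁻¹ := hzinv c hcA
  have cjrc : cj r c = b⁻¹ := by rw [← cjrb, ← cj_mul, ← hz]; exact cjzb
  have cjrib : cj r⁻¹ b = c⁻¹ := by
    have := congrArg (cj r⁻¹) cjrc
    rw [cj_inv_cj, cj_inv] at this
    rw [this, inv_inv]
  have cjric : cj r⁻¹ c = b := by rw [← cjrb, cj_inv_cj]
  have htr' : t * r = r⁻¹ * t := by rw [← htr]; group
  have cjtc : cj t c = c⁻¹ := by
    have h1 : cj t (cj r b) = cj r⁻¹ (cj t b) := by rw [← cj_mul, htr', cj_mul]
    rw [cjrb, cjtb, cjrib] at h1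
    exact h1
  have hzr : z * r = r * z := by rw [hz, mul_assoc]
  have hri : r⁻¹ = r * z := by
    apply inv_eq_of_mul_eq_one_right
    rw [← mul_assoc, ← hz, hrr]
  have htz : t * z = z * t := by
    calc t * z = t * r * r := by rw [hz, mul_assoc]
      _ = r⁻¹ * t * r := by rw [htr']
      _ = r⁻¹ * (t * r) := by rw [mul_assoc]
      _ = r⁻¹ * (r⁻¹ * t) := by rw [htr']
      _ = (r * r)⁻¹ * t := by group
      _ = z * t := by rw [← hz, hzi]
  obtain ⟨u, hu⟩ : ∃ u, u = t * z := ⟨_, rfl⟩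
  have huu : u * u = 1 := by
    calc u * u = t * (z * t) * z := by rw [hu]; group
      _ = t * (t * z) * z := by rw [htz]
      _ = (t * t) * (z * z) := by group
      _ = 1 := by rw [ht2, hrr, one_mul]
  have cjub : cj u b = b⁻¹ := by rw [hu, cj_mul, cjzb, cj_inv, cjtb]
  have cjuc : cj u c = c := by rw [hu, cj_mul, cjzc, cj_inv, cjtc, inv_inv]
  have hut : t * u = u * t := by
    rw [hu]
    calc t * (t * z) = t * (z * t) := by rw [htz]
      _ = t * z * t := by rw [mul_assoc]
  have huz : z * u = u * z := by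
    rw [hu]
    calc z * (t * z) = (z * t) * z := by rw [mul_assoc]
      _ = t * z * z := by rw [htz]
  obtain ⟨u₂, hu₂⟩ : ∃ u₂, u₂ = t * r := ⟨_, rfl⟩
  have hu2u2 : u₂ * u₂ = 1 := by
    calc u₂ * u₂ = (t * r) * (t * r) := by rw [hu₂]
      _ = (r⁻¹ * t) * (t * r) := by rw [htr']
      _ = r⁻¹ * (t * t) * r := by group
      _ = 1 := by rw [ht2]; group
  have cju2b : cj u₂ b = c⁻¹ := by rw [hu₂, cj_mul, cjrb, cjtc]
  have cju2c : cj u₂ c = b⁻¹ := by rw [hu₂, cj_mul, cjrc, cj_inv, cjtb]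
  have hzu2 : z * u₂ = u₂ * z := by
    rw [hu₂]
    calc z * (t * r) = (z * t) * r := by rw [mul_assoc]
      _ = t * z * r := by rw [htz]
      _ = t * (z * r) := by rw [mul_assoc]
      _ = t * (r * z) := by rw [hzr]
      _ = t * r * z := by rw [mul_assoc]
  have hc3 : c * c * c = 1 := by
    have : c ^ 3 = 1 := by rw [hc, conj_pow, hb3]; group
    rw [← this]; exact (pow_three' c).symm
  have hb3' : b * b * b = 1 := by rw [← hb3]; exact (pow_three' b).symm
  have hci : c⁻¹ = c * c := by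
    apply inv_eq_of_mul_eq_one_right
    rw [← mul_assoc]; exact hc3
  have hc1 : c ≠ 1 := by
    intro h1
    rw [hc, conj_eq_one_iff] at h1
    exact hb1 h1
  have cjcb : c * b = b * c := hbc.symm
  -- invariance from generators
  have hinv : ∀ N : Submodule (ZMod 2) M, (∀ v ∈ N, ρ b v ∈ N) → (∀ v ∈ N, ρ c v ∈ N) →
      (∀ v ∈ N, ρ r v ∈ N) → (∀ v ∈ N, ρ t v ∈ N) → ∀ s : S, ∀ m ∈ N, ρ s m ∈ N := by
    intro N hb hc' hr ht s m hm
    have hA : ∀ a ∈ A, ∀ v ∈ N, ρ a v ∈ N := by
      intro a ha v hv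
      obtain ⟨i, j, rfl⟩ := hgenA a ha
      rw [act_mul]
      exact act_pow_mem ρ N b hb i _ (act_pow_mem ρ N c hc' j v hv)
    obtain ⟨a, ha, k, hk | hk⟩ := hgen s
    · rw [hk, act_mul]; exact hA a ha _ (act_pow_mem ρ N r hr k m hm)
    · rw [hk, act_mul, act_mul]; exact hA a ha _ (ht _ (act_pow_mem ρ N r hr k m hm))
  -- (C1)
  have hbot : W ρ b ⊓ W ρ c = ⊥ := by
    have hN : ∀ s : S, ∀ m ∈ W ρ b ⊓ W ρ c, ρ s m ∈ W ρ b ⊓ W ρ c := by
      apply hinv
      · intro v hv
        have : ρ b v = v := (mem_W ρ).mp hv.1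
        rw [this]; exact hv
      · intro v hv
        have : ρ c v = v := (mem_W ρ).mp hv.2
        rw [this]; exact hv
      · intro v hv
        refine ⟨?_, ?_⟩
        · have := W_cj ρ (x := r) hv.2
          rw [cjrc] at this
          exact W_of_inv ρ this
        · have := W_cj ρ (x := r) hv.1
          rwa [cjrb] at this
      · intro v hv
        refine ⟨?_, ?_⟩
        · have := W_cj ρ (x := t) hv.1
          rwa [cjtb] at this
        · have := W_cj ρ (x := t) hv.2
          rw [cjtc] at this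
          exact W_of_inv ρ this
    rcases hirr _ hN with h0 | h1
    · exact h0
    · exfalso
      apply hb1
      apply hfaith
      rw [map_one]
      ext v
      have : v ∈ W ρ b ⊓ W ρ c := by rw [h1]; trivial
      exact (mem_W ρ).mp this.1
  have hbot' : ∀ v, v ∈ W ρ b → v ∈ W ρ c → v = 0 := by
    intro v h1 h2
    have : v ∈ W ρ b ⊓ W ρ c := ⟨h1, h2⟩
    rw [hbot] at this
    exact (Submodule.mem_bot _).mp this
  -- (C2)
  have hWb_ne : W ρ b ≠ ⊥ := by
    intro h0
    obtain ⟨x, y, hxy⟩ := exists_pair_ne M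
    have hall : ∀ v : M, v = 0 := by
      intro v
      obtain ⟨v₁, v₂, h1, h2, rfl⟩ := hsum v
      have hv1 : v₁ = 0 := by
        have : v₁ ∈ W ρ b := (mem_W ρ).mpr h1
        rw [h0] at this
        exact (Submodule.mem_bot _).mp this
      have hv2 : v₂ = 0 := by
        have h3 : v₂ ∈ W ρ c := (mem_W ρ).mpr h2
        have h4 := W_cj ρ (x := r) h3
        rw [cjrc] at h4
        have h5 := W_of_inv ρ h4
        rw [h0] at h5
        have h6 : ρ r v₂ = 0 := (Submodule.mem_bot _).mp h5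
        apply act_inj ρ r
        rw [h6, map_zero]
      rw [hv1, hv2, add_zero]
    exact hxy ((hall x).trans (hall y).symm)
  -- (IRR)
  have hIRR : ∀ N : Submodule (ZMod 2) M, N ≤ W ρ b → (∀ v ∈ N, ρ c v ∈ N) →
      (∀ v ∈ N, ρ t v ∈ N) → (∀ v ∈ N, ρ z v ∈ N) → N = ⊥ ∨ N = W ρ b := by
    intro N hNb hNc hNt hNz
    have hconj : ∀ (x : S) (n : M), ρ x (ρ r n) = ρ r (ρ (cj r⁻¹ x) n) := by
      intro x n
      rw [← act_mul, ← act_mul]
      congr 2
      unfold cj; group
    have hP : ∀ s : S, ∀ m ∈ N ⊔ N.map (ρ r), ρ s m ∈ N ⊔ N.map (ρ r) := by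
      apply hinv
      · intro v hv
        obtain ⟨y, hy, w', hw', rfl⟩ := Submodule.mem_sup.mp hv
        obtain ⟨n, hn, rfl⟩ := Submodule.mem_map.mp hw'
        rw [map_add]
        apply Submodule.add_mem
        · apply Submodule.mem_sup_left
          have : ρ b y = y := (mem_W ρ).mp (hNb hy)
          rw [this]; exact hy
        · apply Submodule.mem_sup_right
          rw [hconj, cjrib, hci, act_mul]
          exact Submodule.mem_map_of_mem (hNc _ (hNc _ hn))
      · intro v hv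
        obtain ⟨y, hy, w', hw', rfl⟩ := Submodule.mem_sup.mp hv
        obtain ⟨n, hn, rfl⟩ := Submodule.mem_map.mp hw'
        rw [map_add]
        apply Submodule.add_mem
        · exact Submodule.mem_sup_left (hNc _ hy)
        · apply Submodule.mem_sup_right
          rw [hconj, cjric]
          have : ρ b n = n := (mem_W ρ).mp (hNb hn)
          rw [this]
          exact Submodule.mem_map_of_mem hn
      · intro v hv
        obtain ⟨y, hy, w', hw', rfl⟩ := Submodule.mem_sup.mp hv
        obtain ⟨n, hn, rfl⟩ := Submodule.mem_map.mp hw'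
        rw [map_add]
        apply Submodule.add_mem
        · exact Submodule.mem_sup_right (Submodule.mem_map_of_mem hy)
        · apply Submodule.mem_sup_left
          rw [← act_mul, ← hz]
          exact hNz _ hn
      · intro v hv
        obtain ⟨y, hy, w', hw', rfl⟩ := Submodule.mem_sup.mp hv
        obtain ⟨n, hn, rfl⟩ := Submodule.mem_map.mp hw'
        rw [map_add]
        apply Submodule.add_mem
        · exact Submodule.mem_sup_left (hNt _ hy)
        · apply Submodule.mem_sup_right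
          rw [← act_mul, htr', hri, act_mul, act_mul]
          exact Submodule.mem_map_of_mem (hNz _ (hNt _ hn))
    rcases hirr _ hP with h0 | h1
    · left
      rw [eq_bot_iff, ← h0]
      exact le_sup_left
    · right
      apply le_antisymm hNb
      intro w hw
      have hwP : w ∈ N ⊔ N.map (ρ r) := by rw [h1]; trivial
      obtain ⟨y, hy, w', hw', hyw⟩ := Submodule.mem_sup.mp hwP
      obtain ⟨n, hn, rfl⟩ := Submodule.mem_map.mp hw'
      have h2 : ρ r n ∈ W ρ c := by
        have := W_cj ρ (x := r) (hNb hn)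
        rwa [cjrb] at this
      have h3 : ρ r n ∈ W ρ b := by
        have : ρ r n = w - y := by rw [← hyw]; abel
        rw [this]
        exact Submodule.sub_mem _ hw (hNb hy)
      have h4 := hbot' _ h3 h2
      rw [h4, add_zero] at hyw
      rw [← hyw]; exact hy
  -- (C3)
  have hu_triv : ∀ v ∈ W ρ b, ρ u v = v := by
    have hub : ∀ v ∈ W ρ b, ρ u v ∈ W ρ b := by
      intro v hv
      have := W_cj ρ (x := u) hv
      rw [cjub] at this
      exact W_of_inv ρ this
    have hN1 : W ρ b ⊓ W ρ u = ⊥ ∨ W ρ b ⊓ W ρ u = W ρ b := by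
      apply hIRR _ inf_le_left
      · intro v hv
        refine ⟨W_comm ρ cjcb hv.1, W_comm ρ (mul_eq_of_cj cjuc).symm hv.2⟩
      · intro v hv
        refine ⟨?_, W_comm ρ hut hv.2⟩
        have := W_cj ρ (x := t) hv.1
        rwa [cjtb] at this
      · intro v hv
        refine ⟨?_, W_comm ρ huz hv.2⟩
        have := W_cj ρ (x := z) hv.1
        rw [cjzb] at this
        exact W_of_inv ρ this
    obtain ⟨w₀, hw₀, hw₀ne, hw₀u⟩ := exists_fix_of_invol ρ huu (W ρ b) hub hWb_ne
    rcases hN1 with h0 | h1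
    · exfalso
      have : w₀ ∈ W ρ b ⊓ W ρ u := ⟨hw₀, (mem_W ρ).mpr hw₀u⟩
      rw [h0] at this
      exact hw₀ne ((Submodule.mem_bot _).mp this)
    · intro v hv
      have : v ∈ W ρ b ⊓ W ρ u := by rw [h1]; exact hv
      exact (mem_W ρ).mp this.2
  have hzt : ∀ v ∈ W ρ b, ρ z v = ρ t v := by
    intro v hv
    have h1 := hu_triv v hv
    rw [hu, act_mul] at h1
    have h2 := congrArg (ρ t) h1
    rwa [← act_mul, ht2, act_one] at h2
  -- (C4)
  have htb' : ∀ v ∈ W ρ b, ρ t v ∈ W ρ b := by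
    intro v hv
    have := W_cj ρ (x := t) hv
    rwa [cjtb] at this
  obtain ⟨w, hwb, hw0, hwt⟩ := exists_fix_of_invol ρ ht2 (W ρ b) htb' hWb_ne
  have hwz : ρ z w = w := by rw [hzt w hwb, hwt]
  have hwbb : ρ b w = w := (mem_W ρ).mp hwb
  -- (C5)
  obtain ⟨w', hw'⟩ : ∃ w', w' = ρ c w := ⟨_, rfl⟩
  have hcb' : ∀ v ∈ W ρ b, ρ c v ∈ W ρ b := fun v hv => W_comm ρ cjcb hv
  have hw'b : w' ∈ W ρ b := by rw [hw']; exact hcb' w hwb
  have hccw : ρ c (ρ c w') = w := by
    rw [hw', ← act_mul, ← act_mul, hc3, act_one]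
  have hcw' : ρ c w' = w + w' := by
    have hn_c : w + w' + ρ c w' ∈ W ρ c := by
      rw [mem_W, map_add, map_add, hccw, ← hw']
      abel
    have hn_b : w + w' + ρ c w' ∈ W ρ b :=
      Submodule.add_mem _ (Submodule.add_mem _ hwb hw'b) (hcb' _ hw'b)
    have h0 := hbot' _ hn_b hn_c
    exact (add_eq_zero_iff_eq'.mp h0).symm
  have htw' : ρ t w' = w + w' := by
    have h1 : t * c = c⁻¹ * t := mul_eq_of_cj cjtc
    rw [hw', ← act_mul, h1, act_mul, hwt, hci, act_mul, ← hw', hcw']
  have hzw' : ρ z w' = w + w' := by rw [hzt w' hw'b, htw']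
  have hw'0 : w' ≠ 0 := by
    intro h0
    apply hw0
    apply act_inj ρ c
    rw [← hw', h0, map_zero]
  have hw'w : w' ≠ w := by
    intro h0
    apply hw0
    apply hbot' w hwb
    rw [mem_W, ← hw', h0]
  have hind : ∀ α β : ZMod 2, α • w + β • w' = 0 → α = 0 ∧ β = 0 := by
    intro α β h0
    rcases zmod2_cases α with rfl | rfl <;> rcases zmod2_cases β with rfl | rfl
    · exact ⟨rfl, rfl⟩
    · exfalso; rw [zero_smul, one_smul, zero_add] at h0; exact hw'0 h0
    · exfalso; rw [zero_smul, one_smul, add_zero] at h0; exact hw0 h0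
    · exfalso; rw [one_smul, one_smul] at h0
      exact hw'w (add_eq_zero_iff_eq'.mp h0).symm
  have hspan : Submodule.span (ZMod 2) {w, w'} = W ρ b := by
    have hle : Submodule.span (ZMod 2) {w, w'} ≤ W ρ b := by
      rw [Submodule.span_le]
      intro x hx
      rcases hx with rfl | rfl
      · exact hwb
      · exact hw'b
    have hw_in : w ∈ Submodule.span (ZMod 2) {w, w'} := Submodule.subset_span (by simp)
    have hw'_in : w' ∈ Submodule.span (ZMod 2) {w, w'} := Submodule.subset_span (by simp)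
    have hmap : ∀ x : S, ρ x w ∈ Submodule.span (ZMod 2) {w, w'} →
        ρ x w' ∈ Submodule.span (ZMod 2) {w, w'} →
        ∀ v ∈ Submodule.span (ZMod 2) {w, w'}, ρ x v ∈ Submodule.span (ZMod 2) {w, w'} := by
      intro x h1 h2 v hv
      have hle' : (Submodule.span (ZMod 2) {w, w'}).map (ρ x) ≤ Submodule.span (ZMod 2) {w, w'} := by
        rw [Submodule.map_span_le]
        intro m hm
        rcases hm with rfl | rfl
        · exact h1
        · exact h2
      exact hle' (Submodule.mem_map_of_mem hv)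
    rcases hIRR _ hle
      (hmap c (by rw [← hw']; exact hw'_in) (by rw [hcw']; exact Submodule.add_mem _ hw_in hw'_in))
      (hmap t (by rw [hwt]; exact hw_in) (by rw [htw']; exact Submodule.add_mem _ hw_in hw'_in))
      (hmap z (by rw [hwz]; exact hw_in) (by rw [hzw']; exact Submodule.add_mem _ hw_in hw'_in))
      with h0 | h1
    · exfalso
      rw [h0] at hw_in
      exact hw0 ((Submodule.mem_bot _).mp hw_in)
    · exact h1
  have hWb : ∀ v ∈ W ρ b, ∃ α β : ZMod 2, v = α • w + β • w' := by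
    intro v hv
    rw [← hspan] at hv
    obtain ⟨α, β, h⟩ := Submodule.mem_span_pair.mp hv
    exact ⟨α, β, h.symm⟩
  have hind2 : ∀ α β α' β' : ZMod 2, α • w + β • w' = α' • w + β' • w' → α = α' ∧ β = β' := by
    intro α β α' β' h
    have : (α - α') • w + (β - β') • w' = 0 := by
      rw [sub_smul, sub_smul]
      have := sub_eq_zero.mpr h
      rw [← this]; abel
    obtain ⟨h1, h2⟩ := hind _ _ this
    exact ⟨sub_eq_zero.mp h1, sub_eq_zero.mp h2⟩
  have hrWb : ∀ v ∈ W ρ b, ρ r v ∈ W ρ c := by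
    intro v hv
    have := W_cj ρ (x := r) hv
    rwa [cjrb] at this
  refine ⟨?_, ?_, ?_⟩
  · -- card M = 16
    obtain ⟨F, hF⟩ : ∃ F : ZMod 2 × ZMod 2 × ZMod 2 × ZMod 2 → M,
        F = fun p => (p.1 • w + p.2.1 • w') + ρ r (p.2.2.1 • w + p.2.2.2 • w') := ⟨_, rfl⟩
    have hFinj : Function.Injective F := by
      intro p q hpq
      rw [hF] at hpq
      simp only at hpq
      have hp1 : p.1 • w + p.2.1 • w' ∈ W ρ b :=
        Submodule.add_mem _ (Submodule.smul_mem _ _ hwb) (Submodule.smul_mem _ _ hw'b)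
      have hq1 : q.1 • w + q.2.1 • w' ∈ W ρ b :=
        Submodule.add_mem _ (Submodule.smul_mem _ _ hwb) (Submodule.smul_mem _ _ hw'b)
      have hp2 : ρ r (p.2.2.1 • w + p.2.2.2 • w') ∈ W ρ c :=
        hrWb _ (Submodule.add_mem _ (Submodule.smul_mem _ _ hwb) (Submodule.smul_mem _ _ hw'b))
      have hq2 : ρ r (q.2.2.1 • w + q.2.2.2 • w') ∈ W ρ c :=
        hrWb _ (Submodule.add_mem _ (Submodule.smul_mem _ _ hwb) (Submodule.smul_mem _ _ hw'b))
      have hd : (p.1 • w + p.2.1 • w') - (q.1 • w + q.2.1 • w') =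
          ρ r (q.2.2.1 • w + q.2.2.2 • w') - ρ r (p.2.2.1 • w + p.2.2.2 • w') := by
        have := sub_eq_zero.mpr hpq
        rw [sub_eq_sub_iff_add_eq_add]
        rw [hpq]; abel
      have h0 : (p.1 • w + p.2.1 • w') - (q.1 • w + q.2.1 • w') = 0 := by
        apply hbot'
        · exact Submodule.sub_mem _ hp1 hq1
        · rw [hd]; exact Submodule.sub_mem _ hq2 hp2
      have h0' : ρ r (q.2.2.1 • w + q.2.2.2 • w') - ρ r (p.2.2.1 • w + p.2.2.2 • w') = 0 := by
        rw [← hd]; exact h0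
      obtain ⟨e1, e2⟩ := hind2 _ _ _ _ (sub_eq_zero.mp h0)
      obtain ⟨e3, e4⟩ := hind2 _ _ _ _ (act_inj ρ r (sub_eq_zero.mp h0'))
      exact Prod.ext e1 (Prod.ext e2 (Prod.ext e3.symm e4.symm))
    have hFsurj : Function.Surjective F := by
      intro v
      obtain ⟨v₁, v₂, h1, h2, rfl⟩ := hsum v
      obtain ⟨α, β, hv1⟩ := hWb v₁ ((mem_W ρ).mpr h1)
      have h3 : ρ r⁻¹ v₂ ∈ W ρ b := by
        have := W_cj ρ (x := r⁻¹) ((mem_W ρ).mpr h2)
        rwa [cjric] at this
      obtain ⟨α', β', hv3⟩ := hWb _ h3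
      refine ⟨(α, β, α', β'), ?_⟩
      rw [hF]
      simp only
      rw [← hv1, ← hv3, act_act_inv]
    have := Nat.card_congr (Equiv.ofBijective F ⟨hFinj, hFsurj⟩)
    rw [← this]
    simp
  · -- B₁ has at least three fixed vectors
    intro B hB hcard
    have hfix_w : ∀ g ∈ B, ρ g w = w := by
      intro g hg
      rcases hB g hg with rfl | rfl | rfl | rfl
      · exact act_one ρ w
      · exact hwz
      · exact hwt
      · rw [act_mul, hwz, hwt]
    have hzrw : ρ z (ρ r w) = ρ r w := by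
      rw [← act_mul, hzr, act_mul, hwz]
    have htrw : ρ t (ρ r w) = ρ r w := by
      rw [← act_mul, htr', hri, act_mul, act_mul, hwt, hwz]
    have hfix_rw : ∀ g ∈ B, ρ g (ρ r w) = ρ r w := by
      intro g hg
      rcases hB g hg with rfl | rfl | rfl | rfl
      · exact act_one ρ _
      · exact hzrw
      · exact htrw
      · rw [act_mul, hzrw, htrw]
    have hfix_0 : ∀ g ∈ B, ρ g (0 : M) = 0 := fun g _ => map_zero _
    have hrw0 : ρ r w ≠ 0 := by
      intro h0
      apply hw0
      apply act_inj ρ r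
      rw [h0, map_zero]
    have hrww : ρ r w ≠ w := by
      intro h0
      apply hw0
      apply hbot' w hwb
      rw [← h0]; exact hrWb w hwb
    obtain ⟨x, y, hxy, huniv⟩ := Nat.card_eq_two_iff.mp hcard
    have m0 : (⟨0, hfix_0⟩ : {m : M // ∀ g ∈ B, ρ g m = m}) ∈ ({x, y} : Set _) := by
      rw [huniv]; trivial
    have m1 : (⟨w, hfix_w⟩ : {m : M // ∀ g ∈ B, ρ g m = m}) ∈ ({x, y} : Set _) := by
      rw [huniv]; trivial
    have m2 : (⟨ρ r w, hfix_rw⟩ : {m : M // ∀ g ∈ B, ρ g m = m}) ∈ ({x, y} : Set _) := by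
      rw [huniv]; trivial
    have e01 : (⟨0, hfix_0⟩ : {m : M // ∀ g ∈ B, ρ g m = m}) ≠ ⟨w, hfix_w⟩ := by
      intro h; exact hw0 (congrArg Subtype.val h).symm
    have e02 : (⟨0, hfix_0⟩ : {m : M // ∀ g ∈ B, ρ g m = m}) ≠ ⟨ρ r w, hfix_rw⟩ := by
      intro h; exact hrw0 (congrArg Subtype.val h).symm
    have e12 : (⟨w, hfix_w⟩ : {m : M // ∀ g ∈ B, ρ g m = m}) ≠ ⟨ρ r w, hfix_rw⟩ := by
      intro h; exact hrww (congrArg Subtype.val h).symm
    rcases m0 with a0 | a0 <;> rcases m1 with a1 | a1 <;> rcases m2 with a2 | a2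
    · exact e01 (a0.trans a1.symm)
    · exact e01 (a0.trans a1.symm)
    · exact e02 (a0.trans a2.symm)
    · exact e12 (a1.trans a2.symm)
    · exact e12 (a1.trans a2.symm)
    · exact e02 (a0.trans a2.symm)
    · exact e01 (a0.trans a1.symm)
    · exact e01 (a0.trans a1.symm)
  · -- B₂ has exactly two fixed vectors
    intro B hzB hu2B hB
    rw [← hu₂] at hu2B
    simp only [← hu₂] at hB
    obtain ⟨q, hq⟩ : ∃ q, q = w + ρ u₂ w := ⟨_, rfl⟩
    have hu2w_c : ρ u₂ w ∈ W ρ c := by
      have := W_cj ρ (x := u₂) hwb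
      rw [cju2b] at this
      exact W_of_inv ρ this
    have hq0 : q ≠ 0 := by
      intro h0
      rw [hq] at h0
      have h1 : w = ρ u₂ w := add_eq_zero_iff_eq'.mp h0
      apply hw0
      apply hbot' w hwb
      rw [h1]; exact hu2w_c
    have hu2q : ρ u₂ q = q := by
      rw [hq, map_add, ← act_mul, hu2u2, act_one, add_comm]
    have hzq : ρ z q = q := by
      rw [hq, map_add, hwz, ← act_mul, hzu2, act_mul, hwz]
    have hfix_q : ∀ g ∈ B, ρ g q = q := by
      intro g hg
      rcases hB g hg with rfl | rfl | rfl | rfl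
      · exact act_one ρ _
      · exact hzq
      · exact hu2q
      · rw [act_mul, hzq, hu2q]
    have hfix_0 : ∀ g ∈ B, ρ g (0 : M) = 0 := fun g _ => map_zero _
    have hchar : ∀ m : M, (∀ g ∈ B, ρ g m = m) → m = 0 ∨ m = q := by
      intro m hm
      have hmz : ρ z m = m := hm z hzB
      have hmu : ρ u₂ m = m := hm u₂ hu2B
      obtain ⟨m₁, m₂, h1, h2, hm12⟩ := hsum m
      have hm1b : m₁ ∈ W ρ b := (mem_W ρ).mpr h1
      have hm2c : m₂ ∈ W ρ c := (mem_W ρ).mpr h2
      have hum1 : ρ u₂ m₁ ∈ W ρ c := by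
        have := W_cj ρ (x := u₂) hm1b
        rw [cju2b] at this
        exact W_of_inv ρ this
      have hum2 : ρ u₂ m₂ ∈ W ρ b := by
        have := W_cj ρ (x := u₂) hm2c
        rw [cju2c] at this
        exact W_of_inv ρ this
      have hm2 : m₂ = ρ u₂ m₁ := by
        have e : m₁ + m₂ = ρ u₂ m₁ + ρ u₂ m₂ := by
          rw [← map_add, ← hm12, hmu]
        have hd : m₁ - ρ u₂ m₂ = ρ u₂ m₁ - m₂ := by
          rw [sub_eq_sub_iff_add_eq_add]
          exact e
        have h0 : ρ u₂ m₁ - m₂ = 0 := by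
          apply hbot'
          · rw [← hd]; exact Submodule.sub_mem _ hm1b hum2
          · exact Submodule.sub_mem _ hum1 hm2c
        exact (sub_eq_zero.mp h0).symm
      have hzm1 : ρ z m₁ = m₁ := by
        have hz1 : ρ z m₁ ∈ W ρ b := by
          have := W_cj ρ (x := z) hm1b
          rw [cjzb] at this
          exact W_of_inv ρ this
        have hz2 : ρ z m₂ ∈ W ρ c := by
          have := W_cj ρ (x := z) hm2c
          rw [cjzc] at this
          exact W_of_inv ρ this
        have e : ρ z m₁ + ρ z m₂ = m₁ + m₂ := by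
          rw [← map_add, ← hm12, hmz]
        have hd : ρ z m₁ - m₁ = m₂ - ρ z m₂ := by
          rw [sub_eq_sub_iff_add_eq_add]
          rw [e]; abel
        have h0 : ρ z m₁ - m₁ = 0 := by
          apply hbot'
          · exact Submodule.sub_mem _ hz1 hm1b
          · rw [hd]; exact Submodule.sub_mem _ hm2c hz2
        exact sub_eq_zero.mp h0
      obtain ⟨α, β, hαβ⟩ := hWb m₁ hm1b
      have hβ : β = 0 := by
        have e : ρ z m₁ = (α + β) • w + β • w' := by
          rw [hαβ, map_add, map_smul, map_smul, hwz, hzw', smul_add, add_smul]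
          abel
        rw [hzm1, hαβ] at e
        obtain ⟨e1, _⟩ := hind2 _ _ _ _ e
        have : α + β = α + 0 := by rw [add_zero]; exact e1.symm
        exact add_left_cancel this
      rcases zmod2_cases α with rfl | rfl
      · left
        rw [hm12, hm2, hαβ, hβ, zero_smul, zero_smul, add_zero, map_zero, add_zero]
      · right
        rw [hm12, hm2, hαβ, hβ, one_smul, zero_smul, add_zero, hq]
    apply Nat.card_eq_two_iff.mpr
    refine ⟨⟨0, hfix_0⟩, ⟨q, hfix_q⟩, ?_, ?_⟩
    · intro h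
      exact hq0 (congrArg Subtype.val h).symm
    · ext ⟨m, hm⟩
      simp only [Set.mem_insert_iff, Set.mem_singleton_iff, Set.mem_univ, iff_true]
      rcases hchar m hm with h0 | h1
      · left; exact Subtype.ext h0
      · right; exact Subtype.ext h1

end Cfsg.Agent.Lib.Helper7.TD
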