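import Mathlib
import Cfsg.Agent.Lib.Helper7.TD1
import Cfsg.Agent.Lib.Helper7.TD2

set_option autoImplicit false
set_option linter.style.haveILetI false
set_option linter.unusedSectionVars false
set_option linter.unusedVariables false
set_option linter.unusedTactic false
set_option linter.unreachableTactic false

/-! helper7: S4407, the dichotomy: `M = C_M(b) + C_M(c)` or `M = C_M(b c⁻¹) + C_M(c b)`. -/

namespace Cfsg.Agent.Lib.Helper7.TD

variable {S : Type*} [Group S] {M : Type*} [AddCommGroup M] [Module (ZMod 2) M]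

theorem cj_prod (x g h : S) : cj x (g * h) = cj x g * cj x h := by unfold cj; group

/-- the hypotheses of `Core` without the sum decomposition -/
structure PreCore (A : Subgroup S) (ρ : Representation (ZMod 2) S M) (r t b : S) : Prop where
  rr : (r * r) * (r * r) = 1
  t2 : t * t = 1
  tr : t * r * t⁻¹ = r⁻¹
  zinv : ∀ a ∈ A, (r * r) * a * (r * r)⁻¹ = a⁻¹
  gen : ∀ g : S, ∃ a ∈ A, ∃ k : ℕ, g = a * r ^ k ∨ g = a * (t * r ^ k)
  comm : ∀ a ∈ A, ∀ a' ∈ A, a * a' = a' * a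
  normal : A.Normal
  exp3 : ∀ a ∈ A, a ^ 3 = 1
  card9 : Nat.card A = 9
  bA : b ∈ A
  b1 : b ≠ 1
  tb : t * b * t⁻¹ = b
  faith : Function.Injective ρ
  irr : ∀ N : Submodule (ZMod 2) M, (∀ s : S, ∀ m ∈ N, ρ s m ∈ N) → N = ⊥ ∨ N = ⊤
  nontriv : Nontrivial M

variable {A : Subgroup S} {ρ : Representation (ZMod 2) S M} {r t b : S}

theorem PreCore.grp (h : PreCore A ρ r t b) :
    cj r b ∈ A ∧ cj r (cj r b) = b⁻¹ ∧ cj t (cj r b) = (cj r b)⁻¹ ∧ cj r b ≠ 1 ∧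
      b * cj r b = cj r b * b := by
  obtain ⟨hrr, ht2, htr, hzinv, hgen, hcomm, hnorm, hexp, hcard, hbA, hb1, htb, hfaith, hirr,
    hnt⟩ := h
  obtain ⟨c, hc⟩ : ∃ c, c = cj r b := ⟨_, rfl⟩
  rw [← hc]
  have hcA : c ∈ A := by rw [hc]; exact hnorm.conj_mem b hbA r
  have cjtb : cj t b = b := htb
  have cjrb : cj r b = c := hc.symm
  have cjzb : cj (r * r) b = b⁻¹ := hzinv b hbA
  have cjrc : cj r c = b⁻¹ := by rw [← cjrb, ← cj_mul]; exact cjzb
  have cjrib : cj r⁻¹ b = c⁻¹ := by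
    have := congrArg (cj r⁻¹) cjrc
    rw [cj_inv_cj, cj_inv] at this
    rw [this, inv_inv]
  have htr' : t * r = r⁻¹ * t := by rw [← htr]; group
  have cjtc : cj t c = c⁻¹ := by
    have h1 : cj t (cj r b) = cj r⁻¹ (cj t b) := by rw [← cj_mul, htr', cj_mul]
    rw [cjrb, cjtb, cjrib] at h1
    exact h1
  have hc1 : c ≠ 1 := by
    intro h1
    rw [hc] at h1
    unfold cj at h1
    rw [conj_eq_one_iff] at h1
    exact hb1 h1
  exact ⟨hcA, cjrc, cjtc, hc1, hcomm b hbA c hcA⟩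

theorem PreCore.genA (h : PreCore A ρ r t b) :
    ∀ a ∈ A, ∃ i j : ℕ, a = b ^ i * (r * b * r⁻¹) ^ j := by
  obtain ⟨hcA, cjrc, cjtc, hc1, hbc⟩ := h.grp
  exact two_gen A h.comm h.exp3 h.card9 t b (cj r b) h.bA hcA h.b1 hc1 h.tb cjtc

theorem PreCore.invariant (h : PreCore A ρ r t b) (N : Submodule (ZMod 2) M)
    (hb : ∀ v ∈ N, ρ b v ∈ N) (hc : ∀ v ∈ N, ρ (cj r b) v ∈ N)
    (hr : ∀ v ∈ N, ρ r v ∈ N) (ht : ∀ v ∈ N, ρ t v ∈ N) : ∀ s : S, ∀ m ∈ N, ρ s m ∈ N := by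
  intro s m hm
  have hA : ∀ a ∈ A, ∀ v ∈ N, ρ a v ∈ N := by
    intro a ha v hv
    obtain ⟨i, j, rfl⟩ := h.genA a ha
    rw [act_mul]
    exact act_pow_mem ρ N b hb i _ (act_pow_mem ρ N (r * b * r⁻¹) hc j v hv)
  obtain ⟨a, ha, k, hk | hk⟩ := h.gen s
  · rw [hk, act_mul]; exact hA a ha _ (act_pow_mem ρ N r hr k m hm)
  · rw [hk, act_mul, act_mul]; exact hA a ha _ (ht _ (act_pow_mem ρ N r hr k m hm))

theorem PreCore.sup_inv (h : PreCore A ρ r t b) :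
    ∀ s : S, ∀ m ∈ W ρ b ⊔ W ρ (cj r b), ρ s m ∈ W ρ b ⊔ W ρ (cj r b) := by
  obtain ⟨hcA, cjrc, cjtc, hc1, hbc⟩ := h.grp
  have cjtb : cj t b = b := h.tb
  apply h.invariant
  · intro v hv
    obtain ⟨y, hy, w, hw, rfl⟩ := Submodule.mem_sup.mp hv
    rw [map_add]
    apply Submodule.add_mem
    · apply Submodule.mem_sup_left
      rw [(mem_W ρ).mp hy]; exact hy
    · exact Submodule.mem_sup_right (W_comm ρ hbc hw)
  · intro v hv
    obtain ⟨y, hy, w, hw, rfl⟩ := Submodule.mem_sup.mp hv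
    rw [map_add]
    apply Submodule.add_mem
    · exact Submodule.mem_sup_left (W_comm ρ hbc.symm hy)
    · apply Submodule.mem_sup_right
      rw [(mem_W ρ).mp hw]; exact hw
  · intro v hv
    obtain ⟨y, hy, w, hw, rfl⟩ := Submodule.mem_sup.mp hv
    rw [map_add, add_comm]
    apply Submodule.add_mem
    · apply Submodule.mem_sup_left
      have := W_cj ρ (x := r) hw
      rw [cjrc] at this
      exact W_of_inv ρ this
    · exact Submodule.mem_sup_right (W_cj ρ (x := r) hy)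
  · intro v hv
    obtain ⟨y, hy, w, hw, rfl⟩ := Submodule.mem_sup.mp hv
    rw [map_add]
    apply Submodule.add_mem
    · apply Submodule.mem_sup_left
      have := W_cj ρ (x := t) hy
      rwa [cjtb] at this
    · apply Submodule.mem_sup_right
      have := W_cj ρ (x := t) hw
      rw [cjtc] at this
      exact W_of_inv ρ this

theorem PreCore.inf_bot (h : PreCore A ρ r t b) : W ρ b ⊓ W ρ (cj r b) = ⊥ := by
  obtain ⟨hcA, cjrc, cjtc, hc1, hbc⟩ := h.grp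
  have cjtb : cj t b = b := h.tb
  have hN : ∀ s : S, ∀ m ∈ W ρ b ⊓ W ρ (cj r b), ρ s m ∈ W ρ b ⊓ W ρ (cj r b) := by
    apply h.invariant
    · intro v hv
      rw [(mem_W ρ).mp hv.1]; exact hv
    · intro v hv
      rw [(mem_W ρ).mp hv.2]; exact hv
    · intro v hv
      refine ⟨?_, W_cj ρ (x := r) hv.1⟩
      have := W_cj ρ (x := r) hv.2
      rw [cjrc] at this
      exact W_of_inv ρ this
    · intro v hv
      refine ⟨?_, ?_⟩
      · have := W_cj ρ (x := t) hv.1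
        rwa [cjtb] at this
      · have := W_cj ρ (x := t) hv.2
        rw [cjtc] at this
        exact W_of_inv ρ this
  rcases h.irr _ hN with h0 | h1
  · exact h0
  · exfalso
    apply h.b1
    apply h.faith
    rw [map_one]
    ext v
    have : v ∈ W ρ b ⊓ W ρ (cj r b) := by rw [h1]; trivial
    exact (mem_W ρ).mp this.1

theorem PreCore.swap (h : PreCore A ρ r t b) :
    PreCore A ρ r (t * r) (b * (cj r b)⁻¹) := by
  obtain ⟨hcA, cjrc, cjtc, hc1, hbc⟩ := h.grp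
  obtain ⟨hrr, ht2, htr, hzinv, hgen, hcomm, hnorm, hexp, hcard, hbA, hb1, htb, hfaith, hirr,
    hnt⟩ := h
  obtain ⟨c, hc⟩ : ∃ c, c = cj r b := ⟨_, rfl⟩
  rw [← hc] at hcA cjrc cjtc hc1 hbc ⊢
  have cjtb : cj t b = b := htb
  have cjrb : cj r b = c := hc.symm
  have htr' : t * r = r⁻¹ * t := by rw [← htr]; group
  have h4 : r ^ 4 = 1 := by rw [show (4 : ℕ) = 2 + 2 from rfl, pow_add, pow_two, hrr]
  have hbb : ∀ x ∈ A, x = x⁻¹ → x = 1 := by
    intro x hx hxx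
    have h3x := hexp x hx
    rw [pow_three'] at h3x
    have hx2 : x * x = 1 := mul_eq_one_iff_eq_inv.mpr hxx
    rw [hx2, one_mul] at h3x
    exact h3x
  refine
    { rr := hrr, t2 := ?_, tr := ?_, zinv := hzinv, gen := ?_, comm := hcomm, normal := hnorm,
      exp3 := hexp, card9 := hcard, bA := ?_, b1 := ?_, tb := ?_, faith := hfaith, irr := hirr,
      nontriv := hnt }
  · calc (t * r) * (t * r) = (r⁻¹ * t) * (t * r) := by rw [htr']
      _ = r⁻¹ * (t * t) * r := by group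
      _ = 1 := by rw [ht2]; group
  · calc (t * r) * r * (t * r)⁻¹ = t * r * t⁻¹ := by group
      _ = r⁻¹ := htr
  · intro g
    obtain ⟨a, ha, k, hk | hk⟩ := hgen g
    · exact ⟨a, ha, k, Or.inl hk⟩
    · refine ⟨a, ha, k + 3, Or.inr ?_⟩
      rw [hk]
      congr 1
      rw [mul_assoc, ← pow_succ', show k + 3 + 1 = k + 4 from rfl, pow_add, h4, mul_one]
  · exact A.mul_mem hbA (A.inv_mem hcA)
  · intro h1
    rw [mul_inv_eq_one] at h1
    apply hb1
    apply hbb b hbA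
    rw [← h1] at cjtc
    exact cjtb.symm.trans cjtc
  · show cj (t * r) (b * c⁻¹) = b * c⁻¹
    rw [cj_mul, cj_prod, cj_inv, cjrb, cjrc, inv_inv, cj_prod, cjtc, cjtb]
    exact hcomm _ (A.inv_mem hcA) _ hbA

theorem nm_mem (ρ : Representation (ZMod 2) S M) {g : S} (hg : g * g * g = 1) (v : M) :
    v + ρ g v + ρ (g * g) v ∈ W ρ g := by
  rw [mem_W, map_add, map_add, ← act_mul, ← act_mul, ← mul_assoc, hg, act_one]
  abel

theorem PreCore.decomp (h : PreCore A ρ r t b) (v : M) :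
    ∃ v₁ v₂ v₃ v₄ : M, v₁ ∈ W ρ b ∧ v₂ ∈ W ρ (cj r b) ∧ v₃ ∈ W ρ (b * (cj r b)⁻¹) ∧
      v₄ ∈ W ρ (cj r (b * (cj r b)⁻¹)) ∧ v = v₁ + v₂ + v₃ + v₄ := by
  obtain ⟨hcA, cjrc, cjtc, hc1, hbc⟩ := h.grp
  have hbot := h.inf_bot
  have hbA := h.bA
  have hcomm := h.comm
  have hexp := h.exp3
  obtain ⟨c, hc⟩ : ∃ c, c = cj r b := ⟨_, rfl⟩
  rw [← hc] at hcA cjrc cjtc hc1 hbc hbot ⊢
  have cjrb : cj r b = c := hc.symm
  have hre : cj r (b * c⁻¹) = c * b := by rw [cj_prod, cj_inv, cjrb, cjrc, inv_inv]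
  rw [hre]
  have hb3 : b * b * b = 1 := by rw [← pow_three']; exact hexp b hbA
  have hc3 : c * c * c = 1 := by rw [← pow_three']; exact hexp c hcA
  have hci : c⁻¹ = c * c := by
    apply inv_eq_of_mul_eq_one_right
    rw [← mul_assoc]; exact hc3
  have he3 : (b * c⁻¹) * (b * c⁻¹) * (b * c⁻¹) = 1 := by
    rw [← pow_three']; exact hexp _ (A.mul_mem hbA (A.inv_mem hcA))
  have hd3 : (c * b) * (c * b) * (c * b) = 1 := by
    rw [← pow_three']; exact hexp _ (A.mul_mem hcA hbA)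
  have e1 : c * b = b * c := hbc.symm
  have e2 : (c * b) * (c * b) = b * b * (c * c) := by
    calc (c * b) * (c * b) = (b * c) * (b * c) := by rw [e1]
      _ = b * (c * b) * c := by group
      _ = b * (b * c) * c := by rw [e1]
      _ = b * b * (c * c) := by group
  have e5 : c⁻¹ * b = b * c⁻¹ := hcomm _ (A.inv_mem hcA) _ hbA
  have e6 : c⁻¹ * c⁻¹ = c := by
    rw [← mul_inv_rev]
    exact inv_eq_of_mul_eq_one_right hc3
  have e4 : (b * c⁻¹) * (b * c⁻¹) = b * b * c := by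
    calc (b * c⁻¹) * (b * c⁻¹) = b * (c⁻¹ * b) * c⁻¹ := by group
      _ = b * (b * c⁻¹) * c⁻¹ := by rw [e5]
      _ = b * b * (c⁻¹ * c⁻¹) := by group
      _ = b * b * c := by rw [e6]
  have hq6 : ρ (b * c⁻¹) v = ρ (b * (c * c)) v := by rw [hci]
  have hq7 : ρ ((b * c⁻¹) * (b * c⁻¹)) v = ρ (b * b * c) v := by rw [e4]
  have hq5 : ρ (c * b) v = ρ (b * c) v := by rw [e1]
  have hq8 : ρ ((c * b) * (c * b)) v = ρ (b * b * (c * c)) v := by rw [e2]
  have hv1 : v + ρ b v + ρ (b * b) v ∈ W ρ b := nm_mem ρ hb3 v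
  have hv2 : v + ρ c v + ρ (c * c) v ∈ W ρ c := nm_mem ρ hc3 v
  have hv3 : v + ρ (b * c⁻¹) v + ρ ((b * c⁻¹) * (b * c⁻¹)) v ∈ W ρ (b * c⁻¹) := nm_mem ρ he3 v
  have hv4 : v + ρ (c * b) v + ρ ((c * b) * (c * b)) v ∈ W ρ (c * b) := nm_mem ρ hd3 v
  obtain ⟨w, hw⟩ : ∃ w, w = v + ρ c v + ρ (c * c) v := ⟨_, rfl⟩
  have hw2 : w ∈ W ρ c := by rw [hw]; exact hv2
  have hn1 : w + ρ b w + ρ (b * b) w ∈ W ρ b := nm_mem ρ hb3 w
  have hn2 : w + ρ b w + ρ (b * b) w ∈ W ρ c :=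
    Submodule.add_mem _ (Submodule.add_mem _ hw2 (W_comm ρ hbc hw2))
      (W_comm ρ (hcomm _ (A.mul_mem hbA hbA) c hcA) hw2)
  have hn0 : w + ρ b w + ρ (b * b) w = 0 := by
    have : w + ρ b w + ρ (b * b) w ∈ W ρ b ⊓ W ρ c := ⟨hn1, hn2⟩
    rw [hbot] at this
    exact (Submodule.mem_bot _).mp this
  have hnexp : w + ρ b w + ρ (b * b) w =
      (v + ρ c v + ρ (c * c) v) + (ρ b v + ρ (b * c) v + ρ (b * (c * c)) v) +
        (ρ (b * b) v + ρ (b * b * c) v + ρ (b * b * (c * c)) v) := by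
    rw [hw]
    simp only [map_add, ← act_mul]
  rw [hnexp] at hn0
  refine ⟨_, _, _, _, hv1, hv2, hv3, hv4, ?_⟩
  rw [hq6, hq7, hq5, hq8]
  have key : (v + ρ b v + ρ (b * b) v) + (v + ρ c v + ρ (c * c) v) +
      (v + ρ (b * (c * c)) v + ρ (b * b * c) v) + (v + ρ (b * c) v + ρ (b * b * (c * c)) v) =
      ((v + ρ c v + ρ (c * c) v) + (ρ b v + ρ (b * c) v + ρ (b * (c * c)) v) +
        (ρ (b * b) v + ρ (b * b * c) v + ρ (b * b * (c * c)) v)) + v + (v + v) := by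
    abel
  rw [key, hn0, ZModModule.add_self, zero_add, add_zero]

theorem PreCore.toCore (h : PreCore A ρ r t b)
    (hsum : ∀ v : M, ∃ v₁ v₂, ρ b v₁ = v₁ ∧ ρ (r * b * r⁻¹) v₂ = v₂ ∧ v = v₁ + v₂) :
    Core A ρ r t b :=
  { rr := h.rr, t2 := h.t2, tr := h.tr, zinv := h.zinv, gen := h.gen, comm := h.comm,
    normal := h.normal, bA := h.bA, b3 := h.exp3 b h.bA, b1 := h.b1, tb := h.tb,
    genA := h.genA, faith := h.faith, irr := h.irr, nontriv := h.nontriv, sum := hsum }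

theorem PreCore.dichotomy (h : PreCore A ρ r t b) :
    Core A ρ r t b ∨ Core A ρ r (t * r) (b * (cj r b)⁻¹) := by
  rcases h.irr _ h.sup_inv with h0 | h1
  · right
    apply h.swap.toCore
    intro v
    obtain ⟨v₁, v₂, v₃, v₄, hv1, hv2, hv3, hv4, hv⟩ := h.decomp v
    have hb0 : W ρ b = ⊥ := by rw [eq_bot_iff, ← h0]; exact le_sup_left
    have hc0 : W ρ (cj r b) = ⊥ := by rw [eq_bot_iff, ← h0]; exact le_sup_right
    rw [hb0] at hv1
    rw [hc0] at hv2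
    have e1 : v₁ = 0 := (Submodule.mem_bot _).mp hv1
    have e2 : v₂ = 0 := (Submodule.mem_bot _).mp hv2
    refine ⟨v₃, v₄, (mem_W ρ).mp hv3, (mem_W ρ).mp hv4, ?_⟩
    rw [hv, e1, e2, zero_add, zero_add]
  · left
    apply h.toCore
    intro v
    have hv : v ∈ W ρ b ⊔ W ρ (cj r b) := by rw [h1]; trivial
    obtain ⟨y, hy, w, hw, rfl⟩ := Submodule.mem_sup.mp hv
    exact ⟨y, w, (mem_W ρ).mp hy, (mem_W ρ).mp hw, rfl⟩

end Cfsg.Agent.Lib.Helper7.TD
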