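import Mathlib
import Cfsg.Agent.Lib.Helper7.TD1

set_option autoImplicit false
set_option linter.style.haveILetI false
set_option linter.unusedSectionVars false
set_option linter.unusedVariables false
set_option linter.unusedTactic false
set_option linter.unreachableTactic false

/-! helper7: S4407, the transport of the dihedral group of order 8 into `S` and the two
four-subgroups of `X`. -/

namespace Cfsg.Agent.Lib.Helper7.TD

/-- rotation generator -/
def dR : DihedralGroup 4 := DihedralGroup.r 1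
/-- reflection generator -/
def dT : DihedralGroup 4 := DihedralGroup.sr 0

theorem d_rr : (dR * dR) * (dR * dR) = 1 := by decide
theorem d_t2 : dT * dT = 1 := by decide
theorem d_tr : dT * dR * dT⁻¹ = dR⁻¹ := by decide
theorem d_gen : ∀ d : DihedralGroup 4, ∃ k : ℕ, k < 4 ∧ (d = dR ^ k ∨ d = dT * dR ^ k) := by
  decide
theorem d_pow8 : ∀ d : DihedralGroup 4, d ^ 8 = 1 := by decide
theorem d_z1 : dR * dR ≠ 1 := by decide
theorem d_tz1 : dT * (dR * dR) ≠ 1 := by decide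

/-- the four-group `⟨z, t⟩` -/
def F1 : Finset (DihedralGroup 4) := {1, dR * dR, dT, dT * (dR * dR)}
/-- the four-group `⟨z, t r⟩` -/
def F2 : Finset (DihedralGroup 4) := {1, dR * dR, dT * dR, dT * dR * (dR * dR)}

set_option maxRecDepth 100000 in
theorem classify_fin : ∀ T : Finset (DihedralGroup 4), T.card = 4 →
    (∀ x ∈ T, ∀ y ∈ T, x * y ∈ T) → (∀ x ∈ T, x * x = 1) → (T = F1 ∨ T = F2) := by
  decide +kernel

theorem F1_mul : ∀ a ∈ F1, ∀ b ∈ F1, a * b ∈ F1 := by decide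
theorem F1_inv : ∀ a ∈ F1, a⁻¹ ∈ F1 := by decide
theorem F1_sq : ∀ a ∈ F1, a ^ 2 = 1 := by decide
theorem F1_card : F1.card = 4 := by decide
theorem F2_mul : ∀ a ∈ F2, ∀ b ∈ F2, a * b ∈ F2 := by decide
theorem F2_inv : ∀ a ∈ F2, a⁻¹ ∈ F2 := by decide
theorem F2_sq : ∀ a ∈ F2, a ^ 2 = 1 := by decide
theorem F2_card : F2.card = 4 := by decide

/-- `F1` as a subgroup -/
def dB1 : Subgroup (DihedralGroup 4) where
  carrier := {x | x ∈ F1}
  mul_mem' := fun {a b} ha hb => F1_mul a ha b hb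
  one_mem' := by show (1 : DihedralGroup 4) ∈ F1; decide
  inv_mem' := fun {a} ha => F1_inv a ha

/-- `F2` as a subgroup -/
def dB2 : Subgroup (DihedralGroup 4) where
  carrier := {x | x ∈ F2}
  mul_mem' := fun {a b} ha hb => F2_mul a ha b hb
  one_mem' := by show (1 : DihedralGroup 4) ∈ F2; decide
  inv_mem' := fun {a} ha => F2_inv a ha

theorem card_dB1 : Nat.card dB1 = 4 := by
  have h := Nat.subtype_card F1 (p := fun x => x ∈ dB1) (fun x => Iff.rfl)
  rw [F1_card] at h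
  exact h

theorem card_dB2 : Nat.card dB2 = 4 := by
  have h := Nat.subtype_card F2 (p := fun x => x ∈ dB2) (fun x => Iff.rfl)
  rw [F2_card] at h
  exact h

variable {S : Type*} [Group S]

theorem classify_four (θ : DihedralGroup 4 →* S) (hθ : Function.Injective θ) (B : Subgroup S)
    (hB : B ≤ θ.range) (h4 : Nat.card B = 4) (h2 : ∀ x ∈ B, x ^ 2 = 1) :
    B = dB1.map θ ∨ B = dB2.map θ := by
  classical
  obtain ⟨T', hT'⟩ : ∃ T', T' = B.comap θ := ⟨_, rfl⟩
  have hmap : T'.map θ = B := by rw [hT']; exact Subgroup.map_comap_eq_self hB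
  have hcard : Nat.card T' = 4 := by
    have h := Subgroup.card_map_of_injective (K := T') hθ
    rw [hmap, h4] at h
    exact h.symm
  obtain ⟨T, hTdef⟩ : ∃ T : Finset (DihedralGroup 4), T = Finset.univ.filter (fun x => x ∈ T') :=
    ⟨_, rfl⟩
  have hmemT : ∀ x, x ∈ T ↔ x ∈ T' := by
    intro x
    rw [hTdef, Finset.mem_filter]
    exact ⟨fun h => h.2, fun h => ⟨Finset.mem_univ _, h⟩⟩
  have hTcard : T.card = 4 := by
    have h := Nat.subtype_card T (p := fun x => x ∈ T') hmemT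
    rw [← h]
    exact hcard
  have hTmul : ∀ x ∈ T, ∀ y ∈ T, x * y ∈ T := by
    intro x hx y hy
    rw [hmemT] at hx hy ⊢
    exact T'.mul_mem hx hy
  have hTsq : ∀ x ∈ T, x * x = 1 := by
    intro x hx
    rw [hmemT, hT', Subgroup.mem_comap] at hx
    apply hθ
    rw [map_mul, map_one, ← pow_two]
    exact h2 _ hx
  rcases classify_fin T hTcard hTmul hTsq with h | h
  · left
    rw [← hmap]
    congr 1
    ext x
    rw [← hmemT, h]
    exact Iff.rfl
  · right
    rw [← hmap]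
    congr 1
    ext x
    rw [← hmemT, h]
    exact Iff.rfl

/-- the output of the group-theoretic set-up of S4407 -/
structure Setup (A X : Subgroup S) (r t b : S) (B₁ B₂ : Subgroup S) : Prop where
  rr : (r * r) * (r * r) = 1
  t2 : t * t = 1
  tr : t * r * t⁻¹ = r⁻¹
  zinv : ∀ a ∈ A, (r * r) * a * (r * r)⁻¹ = a⁻¹
  gen : ∀ g : S, ∃ a ∈ A, ∃ k : ℕ, g = a * r ^ k ∨ g = a * (t * r ^ k)
  bA : b ∈ A
  b1 : b ≠ 1
  tb : t * b * t⁻¹ = b
  B1X : B₁ ≤ X
  B1card : Nat.card B₁ = 4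
  B1exp : ∀ x ∈ B₁, x ^ 2 = 1
  B2X : B₂ ≤ X
  B2card : Nat.card B₂ = 4
  B2exp : ∀ x ∈ B₂, x ^ 2 = 1
  cls : ∀ B : Subgroup S, B ≤ X → Nat.card B = 4 → (∀ x ∈ B, x ^ 2 = 1) → B = B₁ ∨ B = B₂
  z1 : r * r ∈ B₁
  t1 : t ∈ B₁
  m1 : ∀ x ∈ B₁, x = 1 ∨ x = r * r ∨ x = t ∨ x = t * (r * r)
  z2 : r * r ∈ B₂
  tr2 : t * r ∈ B₂
  m2 : ∀ x ∈ B₂, x = 1 ∨ x = r * r ∨ x = t * r ∨ x = t * r * (r * r)

theorem exists_setup (A : Subgroup S) [hn : A.Normal]
    (hc : ∀ a ∈ A, ∀ a' ∈ A, a * a' = a' * a) (h3 : ∀ a ∈ A, a ^ 3 = 1) (h9 : Nat.card A = 9)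
    (hAC : Subgroup.centralizer (A : Set S) = A) (X : Subgroup S)
    (θ : DihedralGroup 4 →* S) (hθ : Function.Injective θ) (hθX : θ.range = X)
    (hAX : A ⊔ X = ⊤) : ∃ r t b B₁ B₂, Setup A X r t b B₁ B₂ := by
  obtain ⟨r, hr⟩ : ∃ r, r = θ dR := ⟨_, rfl⟩
  obtain ⟨t, ht⟩ : ∃ t, t = θ dT := ⟨_, rfl⟩
  have hrr : (r * r) * (r * r) = 1 := by
    have h := congrArg θ d_rr
    simp only [map_mul, map_one] at h
    rw [hr]; exact h
  have ht2 : t * t = 1 := by
    have h := congrArg θ d_t2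
    simp only [map_mul, map_one] at h
    rw [ht]; exact h
  have htr : t * r * t⁻¹ = r⁻¹ := by
    have h := congrArg θ d_tr
    simp only [map_mul, map_inv] at h
    rw [hr, ht]; exact h
  -- nonidentity elements of X do not centralize A
  have hnc : ∀ d : DihedralGroup 4, d ≠ 1 → ∃ a ∈ A, θ d * a * (θ d)⁻¹ ≠ a := by
    intro d hd
    by_contra hcon
    have hall : ∀ a ∈ A, θ d * a * (θ d)⁻¹ = a := by
      intro a ha
      by_contra h
      exact hcon ⟨a, ha, h⟩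
    have hmem : θ d ∈ Subgroup.centralizer (A : Set S) := by
      rw [Subgroup.mem_centralizer_iff]
      intro a ha
      have h := hall a ha
      calc a * θ d = (θ d * a * (θ d)⁻¹) * θ d := by rw [h]
        _ = θ d * a := by group
    rw [hAC] at hmem
    have h3' := h3 _ hmem
    have h8 : (θ d) ^ 8 = 1 := by rw [← map_pow, d_pow8, map_one]
    have h9' : (θ d) ^ 9 = 1 := by
      rw [show (9 : ℕ) = 3 * 3 from rfl, pow_mul, h3', one_pow]
    have h98 : (θ d) ^ 9 = (θ d) ^ 8 * θ d := pow_succ (θ d) 8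
    rw [h9', h8, one_mul] at h98
    apply hd
    apply hθ
    rw [← h98, map_one]
  -- z inverts A
  obtain ⟨a₀, ha₀, hne⟩ := hnc _ d_z1
  rw [map_mul, ← hr] at hne
  have hzinv := inverts_sq A hc h3 h9 r hrr a₀ ha₀ hne
  -- t fixes some b
  obtain ⟨a₁, ha₁, hne₁⟩ := hnc _ d_tz1
  rw [map_mul, map_mul, ← hr, ← ht] at hne₁
  have hex : ∃ a ∈ A, t * a * t⁻¹ ≠ a⁻¹ := by
    by_contra hcon
    have hall : ∀ a ∈ A, t * a * t⁻¹ = a⁻¹ := by
      intro a ha
      by_contra h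
      exact hcon ⟨a, ha, h⟩
    apply hne₁
    calc (t * (r * r)) * a₁ * (t * (r * r))⁻¹ = t * ((r * r) * a₁ * (r * r)⁻¹) * t⁻¹ := by group
      _ = t * a₁⁻¹ * t⁻¹ := by rw [hzinv a₁ ha₁]
      _ = (a₁⁻¹)⁻¹ := hall _ (A.inv_mem ha₁)
      _ = a₁ := inv_inv _
  obtain ⟨a₂, ha₂, hne₂⟩ := hex
  obtain ⟨b, hbA, hb1, htb⟩ := exists_fixed A hc t ht2 a₂ ha₂ hne₂
  have hgen : ∀ g : S, ∃ a ∈ A, ∃ k : ℕ, g = a * r ^ k ∨ g = a * (t * r ^ k) := by
    intro g
    have hg : g ∈ ((A ⊔ X : Subgroup S) : Set S) := by rw [hAX]; exact Subgroup.mem_top g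
    rw [Subgroup.normal_mul] at hg
    obtain ⟨a, ha, x, hx, rfl⟩ := Set.mem_mul.mp hg
    rw [SetLike.mem_coe, ← hθX] at hx
    obtain ⟨d, rfl⟩ := MonoidHom.mem_range.mp hx
    obtain ⟨k, hk, hd | hd⟩ := d_gen d
    · refine ⟨a, ha, k, Or.inl ?_⟩
      rw [hd, map_pow, ← hr]
    · refine ⟨a, ha, k, Or.inr ?_⟩
      rw [hd, map_mul, map_pow, ← hr, ← ht]
  refine ⟨r, t, b, dB1.map θ, dB2.map θ, ?_⟩
  refine
    { rr := hrr, t2 := ht2, tr := htr, zinv := hzinv, gen := hgen, bA := hbA, b1 := hb1,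
      tb := htb, B1X := ?_, B1card := ?_, B1exp := ?_, B2X := ?_, B2card := ?_, B2exp := ?_,
      cls := ?_, z1 := ?_, t1 := ?_, m1 := ?_, z2 := ?_, tr2 := ?_, m2 := ?_ }
  · rw [← hθX]; exact Subgroup.map_le_range θ dB1
  · rw [Subgroup.card_map_of_injective hθ]; exact card_dB1
  · intro x hx
    obtain ⟨d, hd, rfl⟩ := Subgroup.mem_map.mp hx
    rw [← map_pow, F1_sq d hd, map_one]
  · rw [← hθX]; exact Subgroup.map_le_range θ dB2
  · rw [Subgroup.card_map_of_injective hθ]; exact card_dB2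
  · intro x hx
    obtain ⟨d, hd, rfl⟩ := Subgroup.mem_map.mp hx
    rw [← map_pow, F2_sq d hd, map_one]
  · intro B hB h4 h2
    exact classify_four θ hθ B (by rw [hθX]; exact hB) h4 h2
  · rw [hr, ← map_mul]
    exact Subgroup.mem_map_of_mem θ (show dR * dR ∈ F1 by decide)
  · rw [ht]
    exact Subgroup.mem_map_of_mem θ (show dT ∈ F1 by decide)
  · intro x hx
    obtain ⟨d, hd, rfl⟩ := Subgroup.mem_map.mp hx
    have hd' : d ∈ F1 := hd
    simp only [F1, Finset.mem_insert, Finset.mem_singleton] at hd'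
    rcases hd' with h | h | h | h
    · left; rw [h, map_one]
    · right; left; rw [h, map_mul, ← hr]
    · right; right; left; rw [h, ← ht]
    · right; right; right; rw [h, map_mul, map_mul, ← hr, ← ht]
  · rw [hr, ← map_mul]
    exact Subgroup.mem_map_of_mem θ (show dR * dR ∈ F2 by decide)
  · rw [hr, ht, ← map_mul]
    exact Subgroup.mem_map_of_mem θ (show dT * dR ∈ F2 by decide)
  · intro x hx
    obtain ⟨d, hd, rfl⟩ := Subgroup.mem_map.mp hx
    have hd' : d ∈ F2 := hd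
    simp only [F2, Finset.mem_insert, Finset.mem_singleton] at hd'
    rcases hd' with h | h | h | h
    · left; rw [h, map_one]
    · right; left; rw [h, map_mul, ← hr]
    · right; right; left; rw [h, map_mul, ← hr, ← ht]
    · right; right; right; rw [h, map_mul, map_mul, map_mul, ← hr, ← ht]

end Cfsg.Agent.Lib.Helper7.TD
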