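import Mathlib
import Cfsg.Agent.Lib.Helper1.FrattiniP
import Cfsg.Agent.Lib.Helper7.THDefs
set_option autoImplicit false

/-! S4057 farm, pieces F0 (class-2 power formula) and F1 (p-central groups: `a^p = b^p → (a⁻¹b)^p = 1`). -/

universe u

namespace Cfsg.Agent.Lib.Helper7.TH

theorem h7_pow_mul_comm_aux {G : Type*} [Group G] (a b t : G) (hab : b * a = a * b * t)
    (hat : a * t = t * a) (hbt : b * t = t * b) (n : ℕ) :
    b ^ n * a = a * b ^ n * t ^ n := by
  induction n with
  | zero => simp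
  | succ n ih =>
    have hbtn : b * t ^ n = t ^ n * b := (Commute.pow_right (show Commute b t from hbt) n).eq
    calc b ^ (n + 1) * a = b * (b ^ n * a) := by rw [pow_succ', mul_assoc]
      _ = b * (a * b ^ n * t ^ n) := by rw [ih]
      _ = (b * a) * b ^ n * t ^ n := by simp only [mul_assoc]
      _ = a * b * t * b ^ n * t ^ n := by rw [hab]
      _ = a * b * (t * b ^ n) * t ^ n := by simp only [mul_assoc]
      _ = a * b * (b ^ n * t) * t ^ n := by
        rw [(Commute.pow_left (show Commute b t from hbt) n).eq]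
      _ = a * (b * b ^ n) * (t * t ^ n) := by simp only [mul_assoc]
      _ = a * b ^ (n + 1) * t ^ (n + 1) := by rw [← pow_succ', ← pow_succ']

/-- F0: class-2 power formula -/
theorem pow_mul_of_comm_central {G : Type*} [Group G] (a b t : G) (hab : b * a = a * b * t)
    (hat : a * t = t * a) (hbt : b * t = t * b) (n : ℕ) :
    (a * b) ^ n = a ^ n * b ^ n * t ^ (n * (n - 1) / 2) := by
  induction n with
  | zero => simp
  | succ n ih =>
    have h1 := h7_pow_mul_comm_aux a b t hab hat hbt n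
    have hexp : (n + 1) * (n + 1 - 1) / 2 = n + n * (n - 1) / 2 := by
      have h2 : (n + 1) * (n + 1 - 1) = 2 * n + n * (n - 1) := by
        cases n with
        | zero => rfl
        | succ k => simp only [Nat.add_sub_cancel]; ring
      rw [h2, Nat.mul_add_div (by norm_num : 0 < 2)]
    have hct : ∀ k : ℕ, t ^ k * a = a * t ^ k := fun k =>
      (Commute.pow_right (show Commute a t from hat) k).eq.symm
    have hbt' : ∀ k : ℕ, t ^ k * b = b * t ^ k := fun k =>
      (Commute.pow_right (show Commute b t from hbt) k).eq.symm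
    calc (a * b) ^ (n + 1) = (a * b) ^ n * (a * b) := pow_succ _ _
      _ = a ^ n * b ^ n * t ^ (n * (n - 1) / 2) * (a * b) := by rw [ih]
      _ = a ^ n * b ^ n * (t ^ (n * (n - 1) / 2) * a) * b := by simp only [mul_assoc]
      _ = a ^ n * b ^ n * (a * t ^ (n * (n - 1) / 2)) * b := by rw [hct]
      _ = a ^ n * (b ^ n * a) * (t ^ (n * (n - 1) / 2) * b) := by simp only [mul_assoc]
      _ = a ^ n * (a * b ^ n * t ^ n) * (b * t ^ (n * (n - 1) / 2)) := by rw [h1, hbt']
      _ = a ^ n * a * b ^ n * (t ^ n * b) * t ^ (n * (n - 1) / 2) := by simp only [mul_assoc]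
      _ = a ^ n * a * b ^ n * (b * t ^ n) * t ^ (n * (n - 1) / 2) := by rw [hbt']
      _ = (a ^ n * a) * (b ^ n * b) * (t ^ n * t ^ (n * (n - 1) / 2)) := by simp only [mul_assoc]
      _ = a ^ (n + 1) * b ^ (n + 1) * t ^ ((n + 1) * (n + 1 - 1) / 2) := by
        rw [← pow_succ, ← pow_succ, ← pow_add, hexp]

theorem h7_pcentral_pow_eq_aux {p : ℕ} [Fact p.Prime] (hp : p ≠ 2) :
    ∀ (n : ℕ) (Y : Type u) [Group Y] [Finite Y], Nat.card Y = n → IsPGroup p Y →
      (∀ z : Y, z ^ p = 1 → ∀ y : Y, z * y = y * z) →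
      ∀ a b : Y, a ^ p = b ^ p → (a⁻¹ * b) ^ p = 1 := by
  intro n
  induction n using Nat.strong_induction_on with
  | _ n ih =>
    intro Y _ _ hn hY hc a b h
    by_cases hcomm : a * b = b * a
    · have hc1 : Commute a⁻¹ b := (show Commute a b from hcomm).inv_left
      rw [hc1.mul_pow, inv_pow, h, inv_mul_cancel]
    · have hne : Subgroup.zpowers a ≠ ⊤ := by
        intro htop
        apply hcomm
        have hb : b ∈ Subgroup.zpowers a := htop ▸ Subgroup.mem_top b
        obtain ⟨k, rfl⟩ := Subgroup.mem_zpowers_iff.mp hb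
        exact (Commute.self_zpow a k).eq
      obtain ⟨M, hM, haM⟩ := (eq_top_or_exists_le_coatom (Subgroup.zpowers a)).resolve_left hne
      have hMn : M.Normal := Cfsg.Agent.Lib.Helper1.normal_of_isCoatom_of_isPGroup p hY M hM
      have haM' : a ∈ M := Subgroup.zpowers_le.mp haM
      have ha' : b⁻¹ * a * b ∈ M := by
        have := hMn.conj_mem a haM' b⁻¹
        simpa using this
      have hlt : Nat.card M < n := by
        rw [← hn]
        rcases lt_or_eq_of_le (Subgroup.card_le_card_group M) with h1 | h1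
        · exact h1
        · exact absurd (Subgroup.eq_top_of_card_eq M h1) hM.1
      have hconj : (b⁻¹ * a * b) ^ p = a ^ p := by
        have h1 : (b⁻¹ * a * b) ^ p = b⁻¹ * a ^ p * b := by
          have := conj_pow (a := b⁻¹) (b := a) (i := p)
          simpa using this
        rw [h1, h]
        group
      have key := ih (Nat.card M) hlt M rfl (hY.to_subgroup M)
        (fun z hz y => Subtype.ext (hc (z : Y) (by
          have := congrArg (fun w : M => (w : Y)) hz
          simpa using this) (y : Y)))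
        ⟨a, haM'⟩ ⟨b⁻¹ * a * b, ha'⟩ (Subtype.ext (by simpa using hconj.symm))
      have hcp : (a⁻¹ * (b⁻¹ * a * b)) ^ p = 1 := by
        have := congrArg (fun w : M => (w : Y)) key
        simpa using this
      have hcc : ∀ y, (a⁻¹ * (b⁻¹ * a * b)) * y = y * (a⁻¹ * (b⁻¹ * a * b)) := hc _ hcp
      have hc2 : b⁻¹ * a * b * a⁻¹ = a⁻¹ * (b⁻¹ * a * b) := by
        have h1 := hcc a
        calc b⁻¹ * a * b * a⁻¹ = (a * (a⁻¹ * (b⁻¹ * a * b))) * a⁻¹ := by group
          _ = ((a⁻¹ * (b⁻¹ * a * b)) * a) * a⁻¹ := by rw [h1]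
          _ = a⁻¹ * (b⁻¹ * a * b) := by group
      have hba : b * a⁻¹ = a⁻¹ * b * (a⁻¹ * (b⁻¹ * a * b)) := by
        rw [← hc2]; group
      have hF0 := pow_mul_of_comm_central a⁻¹ b (a⁻¹ * (b⁻¹ * a * b)) hba (hcc a⁻¹).symm
        (hcc b).symm p
      rw [hF0, inv_pow, h, inv_mul_cancel, one_mul]
      obtain ⟨k', hk'⟩ := (Nat.Prime.odd_of_ne_two (Fact.out : p.Prime) hp)
      have hexp : p * (p - 1) / 2 = p * k' := by
        have : p - 1 = 2 * k' := by omega
        rw [this, ← mul_assoc, mul_comm p 2, mul_assoc, Nat.mul_div_cancel_left _ (by norm_num)]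
      rw [hexp, pow_mul, hcp, one_pow]

/-- F1: in a p-central p-group (p odd), `a^p = b^p → (a⁻¹b)^p = 1`. -/
theorem pcentral_pow_eq {p : ℕ} [Fact p.Prime] (hp : p ≠ 2) {Y : Type*} [Group Y] [Finite Y]
    (hY : IsPGroup p Y) (hc : ∀ z : Y, z ^ p = 1 → ∀ y : Y, z * y = y * z)
    (a b : Y) (h : a ^ p = b ^ p) : (a⁻¹ * b) ^ p = 1 :=
  h7_pcentral_pow_eq_aux hp (Nat.card Y) Y rfl hY hc a b h

end Cfsg.Agent.Lib.Helper7.TH
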