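import Mathlib
import Cfsg.Agent.Lib.Helper7.THF
set_option autoImplicit false

/-! S4057 farm, piece B. -/

universe u

namespace Cfsg.Agent.Lib.Helper7.TH

theorem h7_B_aux {p : ℕ} [Fact p.Prime] (hp : p ≠ 2) :
    ∀ (e : ℕ) (G : Type u) [Group G] [Finite G] (Y : Subgroup G) [Y.Normal],
      (∀ y ∈ Y, y ^ (p ^ e) = 1) → (∀ z ∈ Y, z ^ p = 1 → ∀ y ∈ Y, z * y = y * z) →
      ∀ x : G, x ^ p = 1 → (∀ z ∈ Y, z ^ p = 1 → x * z = z * x) →
      ∀ u ∈ Y, (x * u) ^ p = 1 → u ^ p = 1 := by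
  intro e
  induction e with
  | zero =>
    intro G _ _ Y _ hexp hc x hx hxc u hu hxu
    have h1 := hexp u hu
    rw [pow_zero, pow_one] at h1
    rw [h1, one_pow]
  | succ e ih =>
    intro G _ _ Y hYn hexp hc x hx hxc u hu hxu
    let Z0 : Subgroup G :=
      { carrier := {z | z ∈ Y ∧ z ^ p = 1}
        mul_mem' := by
          rintro a b ⟨ha, hap⟩ ⟨hb, hbp⟩
          refine ⟨Y.mul_mem ha hb, ?_⟩
          rw [(show Commute a b from hc a ha hap b hb).mul_pow, hap, hbp, one_mul]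
        one_mem' := ⟨Y.one_mem, one_pow p⟩
        inv_mem' := by
          rintro a ⟨ha, hap⟩
          exact ⟨Y.inv_mem ha, by rw [inv_pow, hap, inv_one]⟩ }
    have hZ0mem : ∀ z, z ∈ Z0 ↔ z ∈ Y ∧ z ^ p = 1 := fun z => Iff.rfl
    have hZ0n : Z0.Normal := ⟨fun z hz g =>
      ⟨hYn.conj_mem z hz.1 g, by rw [conj_pow, hz.2, mul_one, mul_inv_cancel]⟩⟩
    have hYp : IsPGroup p Y := fun y => ⟨e + 1, Subtype.ext (by
      have := hexp y y.2
      simpa using this)⟩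
    have hYc : ∀ z : Y, z ^ p = 1 → ∀ y : Y, z * y = y * z := fun z hz y =>
      Subtype.ext (hc z z.2 (by
        have := congrArg (fun w : Y => (w : G)) hz
        simpa using this) y y.2)
    have hconj : ∀ x' : G, (∀ z ∈ Z0, x' * z = z * x') → ∀ w ∈ Y, w ^ p ∈ Z0 →
        w⁻¹ * (x' * w * x'⁻¹) ∈ Z0 := by
      intro x' hx' w hw hwp
      have hw' : x' * w * x'⁻¹ ∈ Y := hYn.conj_mem w hw x'
      have h1 : (x' * w * x'⁻¹) ^ p = w ^ p := by
        rw [conj_pow, hx' _ hwp, mul_inv_cancel_right]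
      have h2 := pcentral_pow_eq hp hYp hYc ⟨w, hw⟩ ⟨x' * w * x'⁻¹, hw'⟩
        (Subtype.ext (by simpa using h1.symm))
      refine ⟨Y.mul_mem (Y.inv_mem hw) hw', ?_⟩
      have := congrArg (fun v : Y => (v : G)) h2
      simpa using this
    have hxZ0 : ∀ z ∈ Z0, x * z = z * x := fun z hz => hxc z hz.1 hz.2
    have hxinvZ0 : ∀ z ∈ Z0, x⁻¹ * z = z * x⁻¹ := by
      intro z hz
      have := hxZ0 z hz
      calc x⁻¹ * z = x⁻¹ * (z * x) * x⁻¹ := by group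
        _ = x⁻¹ * (x * z) * x⁻¹ := by rw [this]
        _ = z * x⁻¹ := by group
    have hyZ0 : ∀ y ∈ Y, ∀ z ∈ Z0, y * z = z * y := fun y hy z hz => (hc z hz.1 hz.2 y hy).symm
    -- the quotient
    let π : G →* G ⧸ Z0 := QuotientGroup.mk' Z0
    have hπ1 : ∀ g : G, π g = 1 ↔ g ∈ Z0 := fun g => QuotientGroup.eq_one_iff g
    have hpowmem : ∀ w : G, (π w) ^ p = 1 → w ^ p ∈ Z0 := by
      intro w hw
      rw [← map_pow] at hw
      exact (hπ1 _).mp hw
    have hcommπ : ∀ x' : G, (∀ z ∈ Z0, x' * z = z * x') → ∀ w ∈ Y, (π w) ^ p = 1 →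
        π x' * π w = π w * π x' := by
      intro x' hx' w hw hwp
      have hc1 := hconj x' hx' w hw (hpowmem w hwp)
      have h1 : x' * w = w * (w⁻¹ * (x' * w * x'⁻¹)) * x' := by group
      rw [← map_mul, h1, map_mul, map_mul, (hπ1 _).mpr hc1, mul_one]
    haveI : (Y.map π).Normal := hYn.map π (QuotientGroup.mk'_surjective Z0)
    have key := ih (G ⧸ Z0) (Y.map π)
      (by
        rintro ybar ⟨y, hy, rfl⟩
        rw [← map_pow, hπ1]
        exact ⟨Y.pow_mem hy _, by rw [← pow_mul, ← pow_succ]; exact hexp y hy⟩)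
      (by
        rintro zbar ⟨w, hw, rfl⟩ hwp ybar ⟨y, hy, rfl⟩
        exact (hcommπ y (hyZ0 y hy) w hw hwp).symm)
      (π x) (by rw [← map_pow, hx, map_one])
      (by
        rintro zbar ⟨w, hw, rfl⟩ hwp
        exact hcommπ x hxZ0 w hw hwp)
      (π u) (Subgroup.mem_map_of_mem π hu) (by rw [← map_mul, ← map_pow, hxu, map_one])
    have hup : u ^ p ∈ Z0 := hpowmem u key
    have ht := hconj x⁻¹ hxinvZ0 u hu hup
    rw [inv_inv] at ht
    have htx : x * (u⁻¹ * (x⁻¹ * u * x)) = (u⁻¹ * (x⁻¹ * u * x)) * x := hxZ0 _ ht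
    have htu : u * (u⁻¹ * (x⁻¹ * u * x)) = (u⁻¹ * (x⁻¹ * u * x)) * u := hyZ0 u hu _ ht
    have hux : u * x = x * u * (u⁻¹ * (x⁻¹ * u * x)) := by group
    have hF0 := pow_mul_of_comm_central x u (u⁻¹ * (x⁻¹ * u * x)) hux htx htu p
    obtain ⟨k', hk'⟩ := (Nat.Prime.odd_of_ne_two (Fact.out : p.Prime) hp)
    have hexp2 : p * (p - 1) / 2 = p * k' := by
      have : p - 1 = 2 * k' := by omega
      rw [this, ← mul_assoc, mul_comm p 2, mul_assoc, Nat.mul_div_cancel_left _ (by norm_num)]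
    rw [hxu, hx, one_mul, hexp2, pow_mul, ht.2, one_pow, mul_one] at hF0
    exact hF0.symm

/-- B -/
theorem pcentral_B {p : ℕ} [Fact p.Prime] (hp : p ≠ 2) {G : Type*} [Group G] [Finite G]
    (Y : Subgroup G) [Y.Normal] (hY : IsPGroup p Y)
    (hc : ∀ z ∈ Y, z ^ p = 1 → ∀ y ∈ Y, z * y = y * z)
    (x : G) (hx : x ^ p = 1) (hxc : ∀ z ∈ Y, z ^ p = 1 → x * z = z * x)
    (u : G) (hu : u ∈ Y) (hxu : (x * u) ^ p = 1) : u ^ p = 1 := by
  obtain ⟨e, he⟩ := (IsPGroup.iff_card.mp hY)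
  refine h7_B_aux hp e G Y ?_ hc x hx hxc u hu hxu
  intro y hy
  have h1 : (⟨y, hy⟩ : Y) ^ (Nat.card Y) = 1 := pow_card_eq_one'
  rw [he] at h1
  have := congrArg (fun w : Y => (w : G)) h1
  simpa using this

end Cfsg.Agent.Lib.Helper7.TH
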