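import Mathlib
import Cfsg.Agent.Lib.Helper7.THB
set_option autoImplicit false

/-! S4057 farm, piece A (Alperin): elements of order dividing `p` that centralize a maximal normal
elementary abelian subgroup `E` of an odd p-group lie in `E`. -/

open scoped commutatorElement

namespace Cfsg.Agent.Lib.Helper7.TH

theorem h7_alperin_step {p : ℕ} [Fact p.Prime] {P : Type*} [Group P]
    (E : Subgroup P) [hE : E.Normal]
    (hEc : ∀ x ∈ E, ∀ y ∈ E, x * y = y * x) (hEp : ∀ x ∈ E, x ^ p = 1)
    (hmax : ∀ F : Subgroup P, F.Normal → (∀ x ∈ F, ∀ y ∈ F, x * y = y * x) →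
      (∀ x ∈ F, x ^ p = 1) → E ≤ F → F = E)
    (x : P) (hxE : ∀ e ∈ E, x * e = e * x) (hx : x ^ p = 1)
    (hconj : ∀ g : P, x⁻¹ * (g * x * g⁻¹) ∈ E) : x ∈ E := by
  let k : Set P := (E : Set P) ∪ {x}
  have hk : ∀ a ∈ k, ∀ b ∈ k, a * b = b * a := by
    rintro a (ha | ha) b (hb | hb)
    · exact hEc a ha b hb
    · rw [Set.mem_singleton_iff.mp hb]; exact (hxE a ha).symm
    · rw [Set.mem_singleton_iff.mp ha]; exact hxE b hb
    · rw [Set.mem_singleton_iff.mp ha, Set.mem_singleton_iff.mp hb]
  have hcommI := Subgroup.isMulCommutative_closure hk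
  have hFc : ∀ a ∈ Subgroup.closure k, ∀ b ∈ Subgroup.closure k, a * b = b * a := by
    intro a ha b hb
    have := hcommI.is_comm.comm ⟨a, ha⟩ ⟨b, hb⟩
    exact congrArg (fun w : Subgroup.closure k => (w : P)) this
  have hFp : ∀ a ∈ Subgroup.closure k, a ^ p = 1 := by
    intro a ha
    induction ha using Subgroup.closure_induction with
    | mem y hy =>
      rcases hy with hy | hy
      · exact hEp y hy
      · rw [Set.mem_singleton_iff.mp hy]; exact hx
    | one => exact one_pow p
    | mul a b ha hb iha ihb =>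
      rw [(show Commute a b from hFc a ha b hb).mul_pow, iha, ihb, one_mul]
    | inv a _ iha => rw [inv_pow, iha, inv_one]
  have hEF : E ≤ Subgroup.closure k := fun e he => Subgroup.subset_closure (Or.inl he)
  have hxF : x ∈ Subgroup.closure k := Subgroup.subset_closure (Or.inr rfl)
  have hFn : (Subgroup.closure k).Normal := by
    constructor
    intro a ha g
    induction ha using Subgroup.closure_induction with
    | mem y hy =>
      rcases hy with hy | hy
      · exact hEF (hE.conj_mem y hy g)
      · rw [Set.mem_singleton_iff.mp hy]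
        have h1 : g * x * g⁻¹ = x * (x⁻¹ * (g * x * g⁻¹)) := by group
        rw [h1]
        exact (Subgroup.closure k).mul_mem hxF (hEF (hconj g))
    | one => rw [mul_one, mul_inv_cancel]; exact Subgroup.one_mem _
    | mul a b _ _ iha ihb =>
      rw [← conj_mul]; exact Subgroup.mul_mem _ iha ihb
    | inv a _ iha =>
      rw [← conj_inv]; exact Subgroup.inv_mem _ iha
  have := hmax (Subgroup.closure k) hFn hFc hFp hEF
  rw [← this]
  exact hxF

/-- A (Alperin): elements of order dividing p centralizing a maximal normal elementary abelian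
subgroup `E` lie in `E`. -/
theorem alperin_omega {p : ℕ} [Fact p.Prime] (hp : p ≠ 2) {P : Type*} [Group P] [Finite P]
    (hP : IsPGroup p P) (E : Subgroup P) [hE : E.Normal]
    (hEc : ∀ x ∈ E, ∀ y ∈ E, x * y = y * x) (hEp : ∀ x ∈ E, x ^ p = 1)
    (hmax : ∀ F : Subgroup P, F.Normal → (∀ x ∈ F, ∀ y ∈ F, x * y = y * x) →
      (∀ x ∈ F, x ^ p = 1) → E ≤ F → F = E)
    (x : P) (hxE : ∀ e ∈ E, x * e = e * x) (hx : x ^ p = 1) : x ∈ E := by
  have hCn : (Subgroup.centralizer (E : Set P)).Normal := Subgroup.normal_centralizer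
  have hEC : E ≤ Subgroup.centralizer (E : Set P) := by
    intro e he
    rw [Subgroup.mem_centralizer_iff]
    intro h hh
    exact hEc h hh e he
  have claim : ∀ n : ℕ, ∀ y ∈ Subgroup.upperCentralSeries P n ⊓ Subgroup.centralizer (E : Set P),
      y ^ p = 1 → y ∈ E := by
    intro n
    induction n with
    | zero =>
      intro y hy _
      rw [Subgroup.upperCentralSeries_zero] at hy
      rw [Subgroup.mem_bot.mp hy.1]
      exact E.one_mem
    | succ n ih =>
      intro y hy hyp
      have hyC : y ∈ Subgroup.centralizer (E : Set P) := hy.2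
      have hyE : ∀ e ∈ E, y * e = e * y := fun e he =>
        ((Subgroup.mem_centralizer_iff.mp hyC) e he).symm
      refine h7_alperin_step E hEc hEp hmax y hyE hyp ?_
      intro g
      -- the subgroup Y
      have hWn : (Subgroup.upperCentralSeries P n ⊓ Subgroup.centralizer (E : Set P)).Normal :=
        Subgroup.normal_inf_normal _ _
      let Y : Subgroup P := (Subgroup.upperCentralSeries P n ⊓ Subgroup.centralizer (E : Set P)) ⊔ E
      have hYn : Y.Normal := Subgroup.sup_normal _ _
      have hYC : Y ≤ Subgroup.centralizer (E : Set P) := sup_le inf_le_right hEC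
      have hYE : ∀ z ∈ Y, z ^ p = 1 → z ∈ E := by
        intro z hz hzp
        obtain ⟨w, hw, e, he, rfl⟩ := Subgroup.mem_sup_of_normal_right.mp hz
        have hwe : Commute w e := ((Subgroup.mem_centralizer_iff.mp hw.2) e he).symm
        rw [hwe.mul_pow, hEp e he, mul_one] at hzp
        exact E.mul_mem (ih w hw hzp) he
      have hu1 : y⁻¹ * (g * y * g⁻¹) ∈
          Subgroup.upperCentralSeries P n ⊓ Subgroup.centralizer (E : Set P) := by
        refine ⟨?_, ?_⟩
        · have h1 : y⁻¹ ∈ Subgroup.upperCentralSeries P (n + 1) := Subgroup.inv_mem _ hy.1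
          have h2 := (Subgroup.mem_upperCentralSeries_succ_iff.mp h1) g
          have h3 : ⁅y⁻¹, g⁆ = y⁻¹ * (g * y * g⁻¹) := by
            rw [commutatorElement_def]; group
          rw [h3] at h2
          exact h2
        · exact Subgroup.mul_mem _ (Subgroup.inv_mem _ hyC) (hCn.conj_mem y hyC g)
      have hu : y⁻¹ * (g * y * g⁻¹) ∈ Y := (le_sup_left : _ ≤ Y) hu1
      have hxu : (y * (y⁻¹ * (g * y * g⁻¹))) ^ p = 1 := by
        rw [mul_inv_cancel_left, conj_pow, hyp, mul_one, mul_inv_cancel]
      have hB := pcentral_B hp Y (hP.to_subgroup Y)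
        (fun z hz hzp w hw =>
          (Subgroup.mem_centralizer_iff.mp (hYC hw)) z (hYE z hz hzp))
        y hyp (fun z hz hzp => hyE z (hYE z hz hzp)) _ hu hxu
      exact ih _ hu1 hB
  have hnil : Group.IsNilpotent P := hP.isNilpotent
  obtain ⟨N, hN⟩ := hnil.nilpotent
  apply claim N x _ hx
  refine ⟨by rw [hN]; exact Subgroup.mem_top x, ?_⟩
  show x ∈ Subgroup.centralizer (E : Set P)
  rw [Subgroup.mem_centralizer_iff]
  intro h hh
  exact (hxE h hh).symm

end Cfsg.Agent.Lib.Helper7.TH
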