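import Mathlib
import Cfsg.Agent.Lib.Helper1.BurnsideBasis
import Cfsg.Agent.Lib.Helper7.THF
set_option autoImplicit false

/-! S4057 farm, piece C: a p-central p-group (p odd) with at most `p^m` solutions of `z^p = 1`
is generated by `m` elements. -/

namespace Cfsg.Agent.Lib.Helper7.TH

/-- the subgroup of elements with `z^p = 1` in a p-central group -/
def h7_omega {p : ℕ} {K : Type*} [Group K]
    (hc : ∀ z : K, z ^ p = 1 → ∀ y : K, z * y = y * z) : Subgroup K where
  carrier := {z | z ^ p = 1}
  mul_mem' := by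
    intro a b ha hb
    have ha' : a ^ p = 1 := ha
    have hb' : b ^ p = 1 := hb
    show (a * b) ^ p = 1
    rw [(show Commute a b from hc a ha' b).mul_pow, ha', hb', one_mul]
  one_mem' := one_pow p
  inv_mem' := by
    intro a ha
    have ha' : a ^ p = 1 := ha
    show (a⁻¹) ^ p = 1
    rw [inv_pow, ha', inv_one]

theorem h7_mem_omega {p : ℕ} {K : Type*} [Group K]
    (hc : ∀ z : K, z ^ p = 1 → ∀ y : K, z * y = y * z) (z : K) :
    z ∈ h7_omega hc ↔ z ^ p = 1 := Iff.rfl

/-- C -/
theorem pcentral_rank {p : ℕ} [Fact p.Prime] (hp : p ≠ 2) {K : Type*} [Group K] [Finite K]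
    (hK : IsPGroup p K) (hc : ∀ z : K, z ^ p = 1 → ∀ y : K, z * y = y * z) (m : ℕ)
    (hm : Nat.card {z : K // z ^ p = 1} ≤ p ^ m) :
    ∃ T : Finset K, T.card ≤ m ∧ Subgroup.closure (T : Set K) = ⊤ := by
  classical
  let Z0 : Subgroup K := h7_omega hc
  have hZ0card : Nat.card Z0 ≤ p ^ m := by
    have : Nat.card Z0 = Nat.card {z : K // z ^ p = 1} :=
      Nat.card_congr (Equiv.subtypeEquivRight (fun z => h7_mem_omega hc z))
    rw [this]; exact hm
  -- the p-th power map K/Z0 → frattini K
  let f : K ⧸ Z0 → frattini K := Quotient.lift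
    (fun x : K => (⟨x ^ p, Cfsg.Agent.Lib.Helper1.pow_prime_mem_frattini_of_isPGroup p hK x⟩ :
      frattini K)) (by
      intro x y hxy
      have h1 : x⁻¹ * y ∈ Z0 := QuotientGroup.leftRel_apply.mp hxy
      have h2 : (x⁻¹ * y) ^ p = 1 := h1
      apply Subtype.ext
      show x ^ p = y ^ p
      have h3 : y = x * (x⁻¹ * y) := by group
      rw [h3, (show Commute x (x⁻¹ * y) from (hc _ h2 x).symm).mul_pow, h2, mul_one])
  have hf : Function.Injective f := by
    intro a b hab
    induction a using QuotientGroup.induction_on with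
    | H x =>
      induction b using QuotientGroup.induction_on with
      | H y =>
        have h1 : x ^ p = y ^ p := congrArg (fun w : frattini K => (w : K)) hab
        have h2 := pcentral_pow_eq hp hK hc x y h1
        exact QuotientGroup.eq.mpr h2
  have h1 : Z0.index ≤ Nat.card (frattini K) := by
    rw [Subgroup.index_eq_card]
    exact Nat.card_le_card_of_injective f hf
  have h2 := Subgroup.index_mul_card Z0
  have h3 := Subgroup.index_mul_card (frattini K)
  have hpos : 0 < Nat.card (frattini K) := Nat.card_pos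
  have h4 : (frattini K).index ≤ Nat.card Z0 := by
    have h5 : (frattini K).index * Nat.card (frattini K) ≤ Nat.card Z0 * Nat.card (frattini K) := by
      rw [h3, ← h2, mul_comm]
      exact Nat.mul_le_mul_left _ h1
    exact Nat.le_of_mul_le_mul_right h5 hpos
  obtain ⟨n, hn⟩ := hK.index (frattini K)
  have hnm : n ≤ m := by
    have h6 : p ^ n ≤ p ^ m := by rw [← hn]; exact h4.trans hZ0card
    exact (Nat.pow_le_pow_iff_right (Fact.out : p.Prime).one_lt).mp h6
  haveI : Fintype K := Fintype.ofFinite K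
  obtain ⟨T, -, hTc, hT⟩ := (Cfsg.Agent.Lib.Helper1.burnside_basis p n hK hn).1 Finset.univ (by
    rw [Finset.coe_univ, Subgroup.closure_univ])
  exact ⟨T, hTc ▸ hnm, hT⟩

end Cfsg.Agent.Lib.Helper7.TH
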