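import Mathlib
set_option autoImplicit false

/-! S4057 farm, piece EA: an elementary abelian subgroup generated by `S` has order `≤ p^|S|`. -/

namespace Cfsg.Agent.Lib.Helper7.TH

/-- EA: an elementary abelian subgroup generated by a finset `S` has order at most `p^|S|`. -/
theorem card_le_of_closure {p : ℕ} [Fact p.Prime] {P : Type*} [Group P] [Finite P] (E : Subgroup P)
    (hEc : ∀ x ∈ E, ∀ y ∈ E, x * y = y * x) (hEp : ∀ x ∈ E, x ^ p = 1) (S : Finset P)
    (hS : Subgroup.closure (S : Set P) = E) : Nat.card E ≤ p ^ S.card := by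
  subst hS
  letI inst : CommGroup (Subgroup.closure (S : Set P)) :=
    { (inferInstance : Group (Subgroup.closure (S : Set P))) with
      mul_comm := fun a b => Subtype.ext (hEc a a.2 b b.2) }
  have h1 : Nat.card (Subgroup.closure (S : Set P)) ∣
      p ^ Group.rank (Subgroup.closure (S : Set P)) :=
    card_dvd_exponent_pow_rank' (Subgroup.closure (S : Set P)) (fun g => Subtype.ext (by
      have := hEp g g.2
      simpa using this))
  have h2 : Group.rank (Subgroup.closure (S : Set P)) ≤ S.card :=
    Subgroup.rank_closure_finset_le_card S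
  have hp1 : 0 < p := (Fact.out : p.Prime).pos
  exact (Nat.le_of_dvd (pow_pos hp1 _) h1).trans (Nat.pow_le_pow_right hp1 h2)

end Cfsg.Agent.Lib.Helper7.TH
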