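import Mathlib
set_option autoImplicit false

/-! S4057 farm, piece LA: a basis adapted to a "unipotent" family of endomorphisms. -/

namespace Cfsg.Agent.Lib.Helper7.TH

theorem h7_adapted_family {k : Type*} [Field k] {V : Type*} [AddCommGroup V] [Module k V]
    [FiniteDimensional k V] {G : Type*} [Monoid G] (ρ : G →* Module.End k V)
    (H : ∀ F : Submodule k V, F ≠ ⊤ → ∃ e, e ∉ F ∧ ∀ g, ρ g e - e ∈ F) :
    ∀ n : ℕ, n ≤ Module.finrank k V → ∃ v : Fin n → V, LinearIndependent k v ∧
      ∀ (g : G) (j : Fin n), ρ g (v j) - v j ∈ Submodule.span k (v '' {i | i < j}) := by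
  intro n
  induction n with
  | zero =>
    intro _
    exact ⟨Fin.elim0, linearIndependent_empty_type, fun _ j => j.elim0⟩
  | succ n ih =>
    intro hn
    obtain ⟨v, hv, hvg⟩ := ih (by omega)
    have hFne : Submodule.span k (Set.range v) ≠ ⊤ := by
      intro htop
      have h1 := finrank_span_eq_card hv
      rw [htop, finrank_top, Fintype.card_fin] at h1
      omega
    obtain ⟨e, heF, heg⟩ := H _ hFne
    refine ⟨Fin.snoc v e, linearIndependent_finSnoc.mpr ⟨hv, heF⟩, ?_⟩
    intro g j
    induction j using Fin.lastCases with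
    | last =>
      rw [Fin.snoc_last]
      refine Submodule.span_mono ?_ (heg g)
      rintro _ ⟨i, rfl⟩
      exact ⟨i.castSucc, Fin.castSucc_lt_last i, by rw [Fin.snoc_castSucc]⟩
    | cast j' =>
      rw [Fin.snoc_castSucc]
      refine Submodule.span_mono ?_ (hvg g j')
      rintro _ ⟨i, hi, rfl⟩
      exact ⟨i.castSucc, Fin.castSucc_lt_castSucc_iff.mpr hi, by rw [Fin.snoc_castSucc]⟩

/-- LA: adapted basis -/
theorem exists_adapted_basis {k : Type*} [Field k] {V : Type*} [AddCommGroup V] [Module k V]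
    [FiniteDimensional k V] {G : Type*} [Monoid G] (ρ : G →* Module.End k V) (m : ℕ)
    (hm : Module.finrank k V = m)
    (H : ∀ F : Submodule k V, F ≠ ⊤ → ∃ e, e ∉ F ∧ ∀ g, ρ g e - e ∈ F) :
    ∃ b : Module.Basis (Fin m) k V, ∀ (g : G) (i j : Fin m),
      (j < i → LinearMap.toMatrix b b (ρ g) i j = 0) ∧ LinearMap.toMatrix b b (ρ g) i i = 1 := by
  classical
  obtain ⟨v, hv, hvg⟩ := h7_adapted_family ρ H m hm.ge
  have hsp : ⊤ ≤ Submodule.span k (Set.range v) := by
    have h1 := finrank_span_eq_card hv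
    rw [Fintype.card_fin] at h1
    exact (Submodule.eq_top_of_finrank_eq (h1.trans hm.symm)).ge
  let b : Module.Basis (Fin m) k V := Module.Basis.mk hv hsp
  have hb : ⇑b = v := Module.Basis.coe_mk hv hsp
  have hrepr : ∀ (g : G) (i j : Fin m), ¬ i < j →
      b.repr (ρ g (b j)) i = b.repr (b j) i := by
    intro g i j hij
    have h1 : ρ g (b j) - b j ∈ Submodule.span k (b '' {i | i < j}) := by
      rw [hb]; exact hvg g j
    have h2 := b.repr_support_subset_of_mem_span _ h1
    have h3 : i ∉ ((b.repr (ρ g (b j) - b j)).support : Set (Fin m)) := fun h => hij (h2 h)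
    have h4 : b.repr (ρ g (b j) - b j) i = 0 := by
      rw [Finset.mem_coe] at h3
      exact Finsupp.notMem_support_iff.mp h3
    rw [map_sub, Finsupp.sub_apply, sub_eq_zero] at h4
    exact h4
  refine ⟨b, fun g i j => ⟨fun hji => ?_, ?_⟩⟩
  · rw [LinearMap.toMatrix_apply, hrepr g i j (not_lt.mpr hji.le), Module.Basis.repr_self_apply,
      if_neg hji.ne]
  · rw [LinearMap.toMatrix_apply, hrepr g i i (lt_irrefl i), Module.Basis.repr_self_apply,
      if_pos rfl]

end Cfsg.Agent.Lib.Helper7.TH
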