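import Mathlib
set_option autoImplicit false

/-! S4057 farm, piece MANTEL: a triangle-free set of ordered pairs on `Fin m` has at most `m^2/4`
elements (from Mathlib's Turán theorem). -/

namespace Cfsg.Agent.Lib.Helper7.TH

/-- Mantel for ordered pairs -/
theorem mantel_pairs (m : ℕ) (T : Finset (Fin m × Fin m)) (h1 : ∀ q ∈ T, q.1 < q.2)
    (h2 : ∀ a b c : Fin m, (a, b) ∈ T → (b, c) ∈ T → (a, c) ∉ T) : T.card ≤ m * m / 4 := by
  classical
  let G : SimpleGraph (Fin m) := SimpleGraph.fromRel (fun a b => (a, b) ∈ T)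
  have hadj : ∀ a b, G.Adj a b ↔ a ≠ b ∧ ((a, b) ∈ T ∨ (b, a) ∈ T) :=
    fun a b => SimpleGraph.fromRel_adj _ a b
  have hadj_lt : ∀ a b, a < b → G.Adj a b → (a, b) ∈ T := by
    intro a b hab h
    rcases ((hadj a b).mp h).2 with h3 | h3
    · exact h3
    · exact absurd (h1 _ h3) (not_lt.mpr hab.le)
  have key : ∀ x y z : Fin m, x < y → y < z → G.Adj x y → G.Adj y z → G.Adj x z → False := by
    intro x y z hxy hyz a1 a2 a3
    exact h2 x y z (hadj_lt x y hxy a1) (hadj_lt y z hyz a2) (hadj_lt x z (hxy.trans hyz) a3)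
  have hcf : G.CliqueFree (2 + 1) := by
    intro s hs
    obtain ⟨a, b, c, hab, hac, hbc, -⟩ := SimpleGraph.is3Clique_iff.mp hs
    rcases lt_or_gt_of_ne hab.ne with h | h
    · rcases lt_or_gt_of_ne hac.ne with h' | h'
      · rcases lt_or_gt_of_ne hbc.ne with h'' | h''
        · exact key a b c h h'' hab hbc hac
        · exact key a c b h' h'' hac hbc.symm hab
      · exact key c a b h' h hac.symm hab hbc.symm
    · rcases lt_or_gt_of_ne hac.ne with h' | h'
      · exact key b a c h h' hab.symm hac hbc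
      · rcases lt_or_gt_of_ne hbc.ne with h'' | h''
        · exact key b c a h'' h' hbc hac.symm hab.symm
        · exact key c b a h'' h hbc.symm hab.symm hac.symm
  have hcard : T.card = G.edgeFinset.card := by
    apply Finset.card_bij (fun q _ => s(q.1, q.2))
    · intro q hq
      rw [SimpleGraph.mem_edgeFinset, SimpleGraph.mem_edgeSet, hadj]
      exact ⟨(h1 q hq).ne, Or.inl hq⟩
    · intro q1 hq1 q2 hq2 he
      rcases Sym2.eq_iff.mp he with ⟨e1, e2⟩ | ⟨e1, e2⟩
      · exact Prod.ext e1 e2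
      · exfalso
        have l1 := h1 q1 hq1
        have l2 := h1 q2 hq2
        rw [e1, e2] at l1
        exact lt_asymm l1 l2
    · intro e he
      induction e using Sym2.ind with
      | _ a b =>
        rw [SimpleGraph.mem_edgeFinset, SimpleGraph.mem_edgeSet, hadj] at he
        rcases he.2 with h | h
        · exact ⟨(a, b), h, rfl⟩
        · exact ⟨(b, a), h, Sym2.eq_swap⟩
  have hT := hcf.card_edgeFinset_le
  simp only [Fintype.card_fin] at hT
  rw [hcard]
  refine hT.trans ?_
  have h3 : (m % 2).choose 2 = 0 := Nat.choose_eq_zero_of_lt (by omega)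
  rw [h3, add_zero]
  have h4 : (m ^ 2 - (m % 2) ^ 2) * (2 - 1) / (2 * 2) ≤ m * m / 4 := by
    have h5 : m ^ 2 - (m % 2) ^ 2 ≤ m * m := by rw [← pow_two]; exact Nat.sub_le _ _
    norm_num
    exact Nat.div_le_div_right h5
  exact h4

end Cfsg.Agent.Lib.Helper7.TH
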