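import Mathlib
import Cfsg.Agent.Lib.Helper7.THR1
import Cfsg.Agent.Lib.Helper7.THLA
set_option autoImplicit false

/-! S4057 farm, piece REP: the conjugation action of a p-group on a normal elementary abelian
subgroup of order `p^m` as a homomorphism into upper unitriangular `m × m` matrices over `ZMod p`. -/

namespace Cfsg.Agent.Lib.Helper7.TH

theorem h7_rep_gen' {p : ℕ} [Fact p.Prime] {A : Type*} [CommGroup A] [Finite A]
    [Module (ZMod p) (Additive A)]
    (m : ℕ) (hm : Nat.card A = p ^ m) {G : Type*} [Monoid G] (φ : G →* MulAut A)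
    (H : ∀ F : Subgroup A, F ≠ ⊤ → ∃ e, e ∉ F ∧ ∀ g, φ g e * e⁻¹ ∈ F) :
    ∃ r : G →* Matrix (Fin m) (Fin m) (ZMod p),
      (∀ (g : G) (i j : Fin m), j < i → r g i j = 0) ∧ (∀ (g : G) (i : Fin m), r g i i = 1) ∧
      (∀ g : G, r g = 1 ↔ ∀ a : A, φ g a = a) := by
  classical
  -- the representation
  let ρ : G →* Module.End (ZMod p) (Additive A) :=
    { toFun := fun g => AddMonoidHom.toZModLinearMap p (MonoidHom.toAdditive (φ g).toMonoidHom)
      map_one' := by
        apply LinearMap.ext
        intro x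
        rw [AddMonoidHom.coe_toZModLinearMap]
        show Additive.ofMul ((φ 1) (Additive.toMul x)) = x
        rw [map_one, MulAut.one_apply]
        rfl
      map_mul' := by
        intro g h
        apply LinearMap.ext
        intro x
        show (AddMonoidHom.toZModLinearMap p (MonoidHom.toAdditive (φ (g * h)).toMonoidHom)) x =
          (AddMonoidHom.toZModLinearMap p (MonoidHom.toAdditive (φ g).toMonoidHom))
            ((AddMonoidHom.toZModLinearMap p (MonoidHom.toAdditive (φ h).toMonoidHom)) x)
        rw [AddMonoidHom.coe_toZModLinearMap,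
          AddMonoidHom.coe_toZModLinearMap, AddMonoidHom.coe_toZModLinearMap]
        show Additive.ofMul ((φ (g * h)) (Additive.toMul x)) =
          Additive.ofMul ((φ g) (Additive.toMul (Additive.ofMul ((φ h) (Additive.toMul x)))))
        rw [map_mul, MulAut.mul_apply]
        rfl }
  have hρ : ∀ (g : G) (a : A), ρ g (Additive.ofMul a) = Additive.ofMul (φ g a) := fun g a => rfl
  have hfin : Module.finrank (ZMod p) (Additive A) = m := by
    have h1 := Module.natCard_eq_pow_finrank (K := ZMod p) (V := Additive A)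
    rw [Nat.card_zmod, Nat.card_congr (Additive.toMul : Additive A ≃ A), hm] at h1
    exact (Nat.pow_right_injective (Fact.out : p.Prime).two_le h1).symm
  have hH : ∀ F : Submodule (ZMod p) (Additive A), F ≠ ⊤ →
      ∃ e, e ∉ F ∧ ∀ g, ρ g e - e ∈ F := by
    intro F hF
    let F' : Subgroup A :=
      { carrier := {a | Additive.ofMul a ∈ F}
        mul_mem' := by
          intro a b ha hb
          show Additive.ofMul (a * b) ∈ F
          rw [ofMul_mul]
          exact F.add_mem ha hb
        one_mem' := by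
          show Additive.ofMul (1 : A) ∈ F
          rw [ofMul_one]
          exact F.zero_mem
        inv_mem' := by
          intro a ha
          show Additive.ofMul a⁻¹ ∈ F
          rw [ofMul_inv]
          exact F.neg_mem ha }
    have hF' : F' ≠ ⊤ := by
      intro htop
      apply hF
      rw [Submodule.eq_top_iff']
      intro x
      have : Additive.toMul x ∈ F' := htop ▸ Subgroup.mem_top _
      exact this
    obtain ⟨e, heF, heg⟩ := H F' hF'
    refine ⟨Additive.ofMul e, heF, fun g => ?_⟩
    rw [hρ, ← ofMul_div, div_eq_mul_inv]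
    exact heg g
  obtain ⟨b, hb⟩ := exists_adapted_basis ρ m hfin hH
  let r : G →* Matrix (Fin m) (Fin m) (ZMod p) :=
    { toFun := fun g => LinearMap.toMatrix b b (ρ g)
      map_one' := by rw [map_one]; exact LinearMap.toMatrix_one b
      map_mul' := fun g h => by rw [map_mul]; exact LinearMap.toMatrix_mul b _ _ }
  refine ⟨r, fun g i j hji => (hb g i j).1 hji, fun g i => (hb g i i).2, fun g => ?_⟩
  constructor
  · intro hr a
    have h1 : LinearMap.toMatrix b b (ρ g) = LinearMap.toMatrix b b 1 := by
      rw [LinearMap.toMatrix_one]; exact hr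
    have h2 : ρ g = 1 := (LinearMap.toMatrix b b).injective h1
    have h3 : ρ g (Additive.ofMul a) = Additive.ofMul a := by rw [h2]; rfl
    rw [hρ] at h3
    exact Additive.ofMul.injective h3
  · intro ha
    have h2 : ρ g = 1 := by
      apply LinearMap.ext
      intro x
      show ρ g (Additive.ofMul (Additive.toMul x)) = x
      rw [hρ, ha]
      rfl
    show LinearMap.toMatrix b b (ρ g) = 1
    rw [h2]
    exact LinearMap.toMatrix_one b

theorem h7_rep_gen {p : ℕ} [Fact p.Prime] {A : Type*} [Group A] [Finite A]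
    (hAc : ∀ a b : A, a * b = b * a) (hAp : ∀ a : A, a ^ p = 1)
    (m : ℕ) (hm : Nat.card A = p ^ m) {G : Type*} [Monoid G] (φ : G →* MulAut A)
    (H : ∀ F : Subgroup A, F ≠ ⊤ → ∃ e, e ∉ F ∧ ∀ g, φ g e * e⁻¹ ∈ F) :
    ∃ r : G →* Matrix (Fin m) (Fin m) (ZMod p),
      (∀ (g : G) (i j : Fin m), j < i → r g i j = 0) ∧ (∀ (g : G) (i : Fin m), r g i i = 1) ∧
      (∀ g : G, r g = 1 ↔ ∀ a : A, φ g a = a) := by
  letI instC : CommGroup A := { (inferInstance : Group A) with mul_comm := hAc }
  letI instM : Module (ZMod p) (Additive A) := AddCommGroup.zmodModule (n := p) (fun x => by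
    apply Additive.toMul.injective
    rw [toMul_nsmul, hAp]
    rfl)
  exact h7_rep_gen' (p := p) (A := A) m hm φ H

/-- REP -/
theorem exists_unitriangular_rep {p : ℕ} [Fact p.Prime] {P : Type*} [Group P] [Finite P]
    (hP : IsPGroup p P) (E : Subgroup P) [hE : E.Normal]
    (hEc : ∀ x ∈ E, ∀ y ∈ E, x * y = y * x) (hEp : ∀ x ∈ E, x ^ p = 1)
    (m : ℕ) (hm : Nat.card E = p ^ m) :
    ∃ r : P →* Matrix (Fin m) (Fin m) (ZMod p),
      (∀ (g : P) (i j : Fin m), j < i → r g i j = 0) ∧ (∀ (g : P) (i : Fin m), r g i i = 1) ∧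
      (∀ g : P, r g = 1 ↔ ∀ x ∈ E, g * x = x * g) := by
  have hAc : ∀ a b : E, a * b = b * a := fun a b => Subtype.ext (hEc a a.2 b b.2)
  have hAp : ∀ a : E, a ^ p = 1 := fun a => Subtype.ext (by
    have := hEp a a.2
    simpa using this)
  obtain ⟨r, h1, h2, h3⟩ := h7_rep_gen hAc hAp m hm (MulAut.conjNormal (H := E)) (by
    intro F hF
    have hlt : F.map E.subtype < E := by
      refine lt_of_le_of_ne (Subgroup.map_subtype_le F) ?_
      intro heq
      apply hF
      rw [eq_top_iff]
      intro x _
      have hx : (x : P) ∈ F.map E.subtype := by rw [heq]; exact x.2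
      obtain ⟨y, hy, hyx⟩ := hx
      have : y = x := Subtype.ext hyx
      rw [← this]; exact hy
    obtain ⟨e, heE, heF, heg⟩ := exists_central_mod hP E (F.map E.subtype) hlt
    refine ⟨⟨e, heE⟩, ?_, ?_⟩
    · intro he
      exact heF ⟨⟨e, heE⟩, he, rfl⟩
    · intro g
      obtain ⟨y, hy, hyx⟩ := heg g
      have : y = MulAut.conjNormal g (⟨e, heE⟩ : E) * (⟨e, heE⟩ : E)⁻¹ := by
        apply Subtype.ext
        have hyx' : (y : P) = g * e * g⁻¹ * e⁻¹ := hyx
        rw [hyx']
        simp [MulAut.conjNormal_apply]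
      rw [← this]; exact hy)
  refine ⟨r, h1, h2, fun g => ?_⟩
  rw [h3]
  constructor
  · intro h x hx
    have h4 := congrArg (fun w : E => (w : P)) (h ⟨x, hx⟩)
    simp only [MulAut.conjNormal_apply] at h4
    calc g * x = (g * x * g⁻¹) * g := by group
      _ = x * g := by rw [h4]
  · intro h a
    apply Subtype.ext
    rw [MulAut.conjNormal_apply, h a a.2, mul_inv_cancel_right]

end Cfsg.Agent.Lib.Helper7.TH
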