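import Mathlib
import Cfsg.Agent.Lib.Helper7.THDefs
set_option autoImplicit false

/-! S4057 farm: arithmetic of the weights `wt i j = 2^j - 2^i`. -/

namespace Cfsg.Agent.Lib.Helper7.TH

theorem two_pow_lt {a b : ℕ} (h : a < b) : 2 ^ a < 2 ^ b :=
  Nat.pow_lt_pow_right (by norm_num) h

theorem wt_add {i j k : ℕ} (hij : i < j) (hjk : j < k) : wt i j + wt j k = wt i k := by
  unfold wt
  have h1 := two_pow_lt hij
  have h2 := two_pow_lt hjk
  omega

theorem wt_pos {i j : ℕ} (hij : i < j) : 0 < wt i j := by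
  unfold wt
  have h1 := two_pow_lt hij
  omega

/-- `j < k → wt i j < wt i k` (for `i < j`) -/
theorem wt_lt_left {i j k : ℕ} (hij : i < j) (hjk : j < k) : wt i j < wt i k := by
  unfold wt
  have h1 := two_pow_lt hij
  have h2 := two_pow_lt hjk
  omega

/-- `i < j → wt j k < wt i k` (for `j < k`) -/
theorem wt_lt_right {i j k : ℕ} (hij : i < j) (hjk : j < k) : wt j k < wt i k := by
  unfold wt
  have h1 := two_pow_lt hij
  have h2 := two_pow_lt hjk
  omega

theorem wt_lt_two_pow {i j m : ℕ} (hij : i < j) (hjm : j < m) : wt i j < 2 ^ m := by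
  unfold wt
  have h1 := two_pow_lt hij
  have h2 := two_pow_lt hjm
  have h3 : 0 < 2 ^ i := Nat.pos_of_ne_zero (by positivity)
  omega

theorem h7_wt_inj_aux {a b c d : ℕ} (hab : a < b) (hcd : c < d) (h : 2 ^ b + 2 ^ c = 2 ^ d + 2 ^ a)
    (hac : a < c) : False := by
  have h1 : 2 ^ (a + 1) ∣ 2 ^ b := pow_dvd_pow 2 (by omega)
  have h2 : 2 ^ (a + 1) ∣ 2 ^ c := pow_dvd_pow 2 (by omega)
  have h3 : 2 ^ (a + 1) ∣ 2 ^ d := pow_dvd_pow 2 (by omega)
  have h4 : 2 ^ (a + 1) ∣ 2 ^ d + 2 ^ a := h ▸ dvd_add h1 h2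
  have h5 : 2 ^ (a + 1) ∣ 2 ^ a := (Nat.dvd_add_right h3).mp h4
  have h6 : 2 ^ (a + 1) ≤ 2 ^ a := Nat.le_of_dvd (Nat.pos_of_ne_zero (by positivity)) h5
  have h7 : 2 ^ a < 2 ^ (a + 1) := two_pow_lt (Nat.lt_succ_self a)
  omega

/-- the weight determines the position -/
theorem wt_inj {a b c d : ℕ} (hab : a < b) (hcd : c < d) (h : wt a b = wt c d) : a = c ∧ b = d := by
  unfold wt at h
  have h1 := two_pow_lt hab
  have h2 := two_pow_lt hcd
  have h3 : 2 ^ b + 2 ^ c = 2 ^ d + 2 ^ a := by omega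
  have hac : a = c := by
    rcases lt_trichotomy a c with h4 | h4 | h4
    · exact (h7_wt_inj_aux hab hcd h3 h4).elim
    · exact h4
    · exact (h7_wt_inj_aux hcd hab (by omega) h4).elim
  refine ⟨hac, ?_⟩
  subst hac
  have h5 : 2 ^ b = 2 ^ d := by omega
  exact Nat.pow_right_injective (le_refl 2) h5

end Cfsg.Agent.Lib.Helper7.TH
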