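import Mathlib
import Cfsg.Agent.Lib.Helper7.THDefs
import Cfsg.Agent.Lib.Helper7.THWt
set_option autoImplicit false

/-! S4057 farm, piece UTM: matrix lemmas for the weight filtration of the unitriangular group. -/

namespace Cfsg.Agent.Lib.Helper7.TH

theorem h7_vanish_mono {m : ℕ} {R : Type*} [Zero R] {A : Matrix (Fin m) (Fin m) R} {s t : ℕ}
    (h : Vanish A t) (hst : s ≤ t) : Vanish A s :=
  fun i j hij hlt => h i j hij (lt_of_lt_of_le hlt hst)

/-- UT-M2 -/
theorem entry_mul {m : ℕ} {R : Type*} [CommRing R] {A B : Matrix (Fin m) (Fin m) R}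
    (hA : IsUUT A) (hB : IsUUT B) {i k : Fin m} (hik : i < k) (h1 : Vanish A (wt i k)) :
    (A * B) i k = A i k + B i k := by
  rw [Matrix.mul_apply, Finset.sum_eq_add k i hik.ne']
  · rw [hB.2 k, hA.2 i, mul_one, one_mul]
  · intro c _ hc
    rcases lt_trichotomy c i with h | h | h
    · rw [hA.1 i c h, zero_mul]
    · exact absurd h hc.2
    · rcases lt_trichotomy c k with h' | h' | h'
      · rw [h1 i c h (wt_lt_left (Fin.lt_def.mp h) (Fin.lt_def.mp h')), zero_mul]
      · exact absurd h' hc.1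
      · rw [hB.1 c k h', mul_zero]
  · intro h; exact absurd (Finset.mem_univ _) h
  · intro h; exact absurd (Finset.mem_univ _) h

/-- UT-M1 -/
theorem vanish_mul {m : ℕ} {R : Type*} [CommRing R] {A B : Matrix (Fin m) (Fin m) R}
    (hA : IsUUT A) (hB : IsUUT B) {t : ℕ} (h1 : Vanish A t) (h2 : Vanish B t) :
    Vanish (A * B) t := by
  intro i k hik hlt
  rw [entry_mul hA hB hik (h7_vanish_mono h1 hlt.le), h1 i k hik hlt, h2 i k hik hlt, add_zero]

/-- strictly upper triangular and vanishing below weight `s` -/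
def h7_SV {m : ℕ} {R : Type*} [Zero R] (X : Matrix (Fin m) (Fin m) R) (s : ℕ) : Prop :=
  ∀ a b : Fin m, (b ≤ a ∨ wt a b < s) → X a b = 0

theorem h7_SV_sub_one {m : ℕ} {R : Type*} [CommRing R] {A : Matrix (Fin m) (Fin m) R}
    (hA : IsUUT A) {s : ℕ} (h : Vanish A s) : h7_SV (A - 1) s := by
  intro a b hab
  rw [Matrix.sub_apply]
  rcases lt_trichotomy a b with h1 | h1 | h1
  · rcases hab with h2 | h2
    · exact absurd h1 (not_lt.mpr h2)
    · rw [h a b h1 h2, Matrix.one_apply_ne h1.ne, sub_zero]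
  · subst h1; rw [hA.2, Matrix.one_apply_eq, sub_self]
  · rw [hA.1 a b h1, Matrix.one_apply_ne h1.ne', sub_zero]

theorem h7_SV_mul {m : ℕ} {R : Type*} [CommRing R] {X Y : Matrix (Fin m) (Fin m) R} {s t : ℕ}
    (hX : h7_SV X s) (hY : h7_SV Y t) : h7_SV (X * Y) (s + t) := by
  intro a c hac
  rw [Matrix.mul_apply]
  apply Finset.sum_eq_zero
  intro b _
  by_cases hab : b ≤ a
  · rw [hX a b (Or.inl hab), zero_mul]
  · by_cases hbc : c ≤ b
    · rw [hY b c (Or.inl hbc), mul_zero]
    · have hab' : a < b := not_le.mp hab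
      have hbc' : b < c := not_le.mp hbc
      rcases hac with h | h
      · exact absurd (hab'.trans hbc') (not_lt.mpr h)
      · have hadd := wt_add (Fin.lt_def.mp hab') (Fin.lt_def.mp hbc')
        by_cases h1 : wt a b < s
        · rw [hX a b (Or.inr h1), zero_mul]
        · have h2 : wt b c < t := by omega
          rw [hY b c (Or.inr h2), mul_zero]

theorem h7_SV_mul_entry {m : ℕ} {R : Type*} [CommRing R] {X Y : Matrix (Fin m) (Fin m) R}
    {i j k : Fin m} (hij : i < j) (hjk : j < k)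
    (hX : h7_SV X (wt i j)) (hY : h7_SV Y (wt j k)) : (X * Y) i k = X i j * Y j k := by
  rw [Matrix.mul_apply]
  apply Finset.sum_eq_single j
  · intro b _ hbj
    by_cases hib : b ≤ i
    · rw [hX i b (Or.inl hib), zero_mul]
    · by_cases hbk : k ≤ b
      · rw [hY b k (Or.inl hbk), mul_zero]
      · have hib' : i < b := not_le.mp hib
        have hbk' : b < k := not_le.mp hbk
        rcases lt_or_gt_of_ne hbj with h | h
        · rw [hX i b (Or.inr (wt_lt_left (Fin.lt_def.mp hib') (Fin.lt_def.mp h))), zero_mul]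
        · rw [hY b k (Or.inr (wt_lt_right (Fin.lt_def.mp h) (Fin.lt_def.mp hbk'))), mul_zero]
  · intro h; exact absurd (Finset.mem_univ _) h

theorem h7_SV_mul_entry_zero {m : ℕ} {R : Type*} [CommRing R] {X Y : Matrix (Fin m) (Fin m) R}
    {i j k : Fin m} (hij : i < j) (hjk : j < k)
    (hX : h7_SV X (wt i j)) (hY : h7_SV Y (wt j k)) : (Y * X) i k = 0 := by
  rw [Matrix.mul_apply]
  apply Finset.sum_eq_zero
  intro b _
  by_cases hib : b ≤ i
  · rw [hY i b (Or.inl hib), zero_mul]
  · by_cases hbk : k ≤ b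
    · rw [hX b k (Or.inl hbk), mul_zero]
    · have hib' : i < b := not_le.mp hib
      have hbk' : b < k := not_le.mp hbk
      by_cases h1 : wt i b < wt j k
      · rw [hY i b (Or.inr h1), zero_mul]
      · by_cases h2 : wt b k < wt i j
        · rw [hX b k (Or.inr h2), mul_zero]
        · exfalso
          have e1 := wt_add (Fin.lt_def.mp hib') (Fin.lt_def.mp hbk')
          have e2 := wt_add (Fin.lt_def.mp hij) (Fin.lt_def.mp hjk)
          have e3 : wt (i : ℕ) b = wt j k := by omega
          have := (wt_inj (Fin.lt_def.mp hib') (Fin.lt_def.mp hjk) e3).1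
          have hij' : (i : ℕ) < j := Fin.lt_def.mp hij
          omega

theorem h7_uut_mul_SV {m : ℕ} {R : Type*} [CommRing R] {D K : Matrix (Fin m) (Fin m) R} {w : ℕ}
    (hD : IsUUT D) (hK : h7_SV K w) {a c : Fin m} (hac : a < c) (hw : wt a c ≤ w) :
    (D * K) a c = K a c := by
  rw [Matrix.mul_apply, Finset.sum_eq_single a]
  · rw [hD.2, one_mul]
  · intro b _ hba
    rcases lt_or_gt_of_ne hba with h | h
    · rw [hD.1 a b h, zero_mul]
    · by_cases hcb : c ≤ b
      · rw [hK b c (Or.inl hcb), mul_zero]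
      · have hbc : b < c := not_le.mp hcb
        have := wt_lt_right (Fin.lt_def.mp h) (Fin.lt_def.mp hbc)
        rw [hK b c (Or.inr (by omega)), mul_zero]
  · intro h; exact absurd (Finset.mem_univ _) h

/-- UT-M3 (transitivity, matrix form) -/
theorem trans_matrix {m : ℕ} {R : Type*} [CommRing R] {A B D : Matrix (Fin m) (Fin m) R}
    (hA : IsUUT A) (hB : IsUUT B) (hD : IsUUT D) (hD1 : D * (B * A) = 1)
    {i j k : Fin m} (hij : i < j) (hjk : j < k) (h1 : Vanish A (wt i j)) (h2 : Vanish B (wt j k)) :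
    Vanish (D * (A * B)) (wt i k) ∧ (D * (A * B)) i k = A i j * B j k := by
  have hX := h7_SV_sub_one hA h1
  have hY := h7_SV_sub_one hB h2
  have hadd := wt_add (Fin.lt_def.mp hij) (Fin.lt_def.mp hjk)
  have hK : h7_SV ((A - 1) * (B - 1) - (B - 1) * (A - 1)) (wt i k) := by
    intro a c hac
    rw [Matrix.sub_apply, h7_SV_mul hX hY a c (by rw [hadd]; exact hac),
      h7_SV_mul hY hX a c (by rw [add_comm, hadd]; exact hac), sub_zero]
  have hcomm : A * B - B * A = (A - 1) * (B - 1) - (B - 1) * (A - 1) := by noncomm_ring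
  have hmain : D * (A * B) = 1 + D * ((A - 1) * (B - 1) - (B - 1) * (A - 1)) := by
    rw [← hcomm, Matrix.mul_sub, hD1]; abel
  have hik : i < k := hij.trans hjk
  constructor
  · intro a c hac hlt
    rw [hmain, Matrix.add_apply, Matrix.one_apply_ne hac.ne, zero_add,
      h7_uut_mul_SV hD hK hac hlt.le]
    exact hK a c (Or.inr hlt)
  · rw [hmain, Matrix.add_apply, Matrix.one_apply_ne hik.ne, zero_add,
      h7_uut_mul_SV hD hK hik le_rfl, Matrix.sub_apply, h7_SV_mul_entry hij hjk hX hY,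
      h7_SV_mul_entry_zero hij hjk hX hY, sub_zero, Matrix.sub_apply, Matrix.sub_apply,
      Matrix.one_apply_ne hij.ne, Matrix.one_apply_ne hjk.ne, sub_zero, sub_zero]

end Cfsg.Agent.Lib.Helper7.TH
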