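import Mathlib
import Cfsg.Agent.Lib.Helper7.THDefs
import Cfsg.Agent.Lib.Helper7.THWt
import Cfsg.Agent.Lib.Helper7.THUTM
import Cfsg.Agent.Lib.Helper7.THMantel
set_option autoImplicit false

/-! S4057 farm, piece UT: a group of upper unitriangular `m × m` matrices over `ZMod p` is generated
by at most `m^2/4` elements. -/

namespace Cfsg.Agent.Lib.Helper7.TH

theorem h7_vanish_one {m : ℕ} {R : Type*} [Zero R] [One R] [DecidableEq (Fin m)] (t : ℕ) :
    Vanish (1 : Matrix (Fin m) (Fin m) R) t := by
  intro i j hij _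
  exact Matrix.one_apply_ne hij.ne

/-- UT -/
theorem ut_generation {U : Type*} [Group U] {p m : ℕ} [Fact p.Prime]
    (r : U →* Matrix (Fin m) (Fin m) (ZMod p))
    (htri : ∀ (g : U) (i j : Fin m), j < i → r g i j = 0) (hdiag : ∀ (g : U) (i : Fin m), r g i i = 1) :
    ∃ S : Finset U, S.card ≤ m * m / 4 ∧
      ∀ g : U, ∃ g' ∈ Subgroup.closure (S : Set U), r g' = r g := by
  classical
  have huut : ∀ g, IsUUT (r g) := fun g => ⟨htri g, hdiag g⟩
  let Spos : Subgroup U → Fin m × Fin m → Prop := fun R q =>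
    q.1 < q.2 ∧ ∃ g ∈ R, Vanish (r g) (wt q.1 q.2) ∧ r g q.1 q.2 ≠ 0
  -- transitivity
  have htrans : ∀ (R : Subgroup U) (i j k : Fin m), Spos R (i, j) → Spos R (j, k) → Spos R (i, k) := by
    rintro R i j k ⟨hij, g, hgR, hgv, hg0⟩ ⟨hjk, h, hhR, hhv, hh0⟩
    refine ⟨hij.trans hjk, (h * g)⁻¹ * (g * h),
      R.mul_mem (R.inv_mem (R.mul_mem hhR hgR)) (R.mul_mem hgR hhR), ?_⟩
    have hD1 : r ((h * g)⁻¹) * (r h * r g) = 1 := by
      rw [← map_mul, ← map_mul, inv_mul_cancel, map_one]
    have h3 := trans_matrix (huut g) (huut h) (huut ((h * g)⁻¹)) hD1 hij hjk hgv hhv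
    rw [map_mul, map_mul]
    refine ⟨h3.1, ?_⟩
    rw [h3.2]
    exact mul_ne_zero hg0 hh0
  -- the indecomposable positions
  let T : Finset (Fin m × Fin m) := Finset.univ.filter
    (fun q => Spos ⊤ q ∧ ¬ ∃ j, Spos ⊤ (q.1, j) ∧ Spos ⊤ (j, q.2))
  have hTcard : T.card ≤ m * m / 4 := by
    refine mantel_pairs m T (fun q hq => ((Finset.mem_filter.mp hq).2.1).1) ?_
    intro a b c hab hbc hac
    have h1 := (Finset.mem_filter.mp hab).2.1
    have h2 := (Finset.mem_filter.mp hbc).2.1
    exact (Finset.mem_filter.mp hac).2.2 ⟨b, h1, h2⟩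
  -- choose generators
  have hchoose : ∀ q : Fin m × Fin m, ∃ g : U,
      q ∈ T → (Vanish (r g) (wt q.1 q.2) ∧ r g q.1 q.2 ≠ 0) := by
    intro q
    by_cases hq : q ∈ T
    · obtain ⟨_, g, _, hv, h0⟩ := (Finset.mem_filter.mp hq).2.1
      exact ⟨g, fun _ => ⟨hv, h0⟩⟩
    · exact ⟨1, fun h => absurd h hq⟩
  choose gsel hgsel using hchoose
  let S : Finset U := T.image gsel
  let R : Subgroup U := Subgroup.closure (S : Set U)
  have hTR : ∀ q ∈ T, Spos R q := fun q hq =>
    ⟨((Finset.mem_filter.mp hq).2.1).1, gsel q,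
      Subgroup.subset_closure (Finset.mem_coe.mpr (Finset.mem_image_of_mem gsel hq)), hgsel q hq⟩
  -- S(⊤) ⊆ S(R)
  have hsub : ∀ (d : ℕ) (i k : Fin m), (k : ℕ) - (i : ℕ) ≤ d → Spos ⊤ (i, k) → Spos R (i, k) := by
    intro d
    induction d with
    | zero =>
      intro i k hd hS
      exfalso
      have h1 : (i : ℕ) < (k : ℕ) := Fin.lt_def.mp hS.1
      omega
    | succ d ih =>
      intro i k hd hS
      by_cases hT : (i, k) ∈ T
      · exact hTR _ hT
      · have hex : ∃ j, Spos ⊤ (i, j) ∧ Spos ⊤ (j, k) := by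
          by_contra hne
          exact hT (Finset.mem_filter.mpr ⟨Finset.mem_univ _, hS, hne⟩)
        obtain ⟨j, h1, h2⟩ := hex
        have hij : (i : ℕ) < (j : ℕ) := Fin.lt_def.mp h1.1
        have hjk : (j : ℕ) < (k : ℕ) := Fin.lt_def.mp h2.1
        exact htrans R i j k (ih i j (by omega) h1) (ih j k (by omega) h2)
  -- the downward induction
  have hmain : ∀ (s t : ℕ), t + s = 2 ^ m → ∀ h : U, Vanish (r h) t → ∃ h' ∈ R, r h' = r h := by
    intro s
    induction s with
    | zero =>
      intro t ht h hv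
      refine ⟨1, R.one_mem, ?_⟩
      rw [map_one]
      ext a b
      rcases lt_trichotomy a b with hab | hab | hab
      · rw [hv a b hab (by
          have := wt_lt_two_pow (Fin.lt_def.mp hab) b.2
          omega), Matrix.one_apply_ne hab.ne]
      · subst hab; rw [hdiag, Matrix.one_apply_eq]
      · rw [htri h a b hab, Matrix.one_apply_ne hab.ne']
    | succ s ih =>
      intro t ht h hv
      by_cases hpos : ∃ i k : Fin m, i < k ∧ wt i k = t
      · obtain ⟨i, k, hik, hw⟩ := hpos
        have huniq : ∀ a b : Fin m, a < b → wt a b = t → a = i ∧ b = k := by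
          intro a b hab h1
          obtain ⟨e1, e2⟩ := wt_inj (Fin.lt_def.mp hab) (Fin.lt_def.mp hik) (h1.trans hw.symm)
          exact ⟨Fin.ext e1, Fin.ext e2⟩
        by_cases h0 : r h i k = 0
        · apply ih (t + 1) (by omega) h
          intro a b hab hlt
          rcases Nat.lt_succ_iff_lt_or_eq.mp hlt with h1 | h1
          · exact hv a b hab h1
          · obtain ⟨rfl, rfl⟩ := huniq a b hab h1
            exact h0
        · have hS : Spos ⊤ (i, k) := ⟨hik, h, Subgroup.mem_top _, hw ▸ hv, h0⟩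
          obtain ⟨_, g, hgR, hgv, hg0⟩ := hsub _ i k le_rfl hS
          have hgv' : Vanish (r g) (wt i k) := hgv
          have hg0' : r g i k ≠ 0 := hg0
          have hpow : ∀ n : ℕ, Vanish (r (g ^ n)) (wt i k) ∧ r (g ^ n) i k = n * r g i k := by
            intro n
            induction n with
            | zero =>
              rw [pow_zero, map_one]
              refine ⟨h7_vanish_one _, ?_⟩
              rw [Matrix.one_apply_ne hik.ne]; simp
            | succ n ihn =>
              rw [pow_succ, map_mul]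
              refine ⟨vanish_mul (huut _) (huut _) ihn.1 hgv', ?_⟩
              rw [entry_mul (huut _) (huut _) hik ihn.1, ihn.2]
              push_cast; ring
          have hp0 : NeZero p := ⟨(Fact.out : p.Prime).ne_zero⟩
          have hn : (((-(r h i k) / (r g i k) : ZMod p).val : ℕ) : ZMod p)
              = -(r h i k) / (r g i k) := ZMod.natCast_zmod_val _
          have h2v : Vanish (r (h * g ^ (-(r h i k) / (r g i k) : ZMod p).val)) (t + 1) := by
            rw [map_mul]
            intro a b hab hlt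
            rcases Nat.lt_succ_iff_lt_or_eq.mp hlt with h1 | h1
            · exact vanish_mul (huut _) (huut _) hv (hw ▸ (hpow _).1) a b hab h1
            · obtain ⟨rfl, rfl⟩ := huniq a b hab h1
              rw [entry_mul (huut _) (huut _) hik (hw ▸ hv), (hpow _).2, hn]
              field_simp
              ring
          obtain ⟨h2', hh2'R, hh2'⟩ := ih (t + 1) (by omega) _ h2v
          refine ⟨h2' * (g ^ (-(r h i k) / (r g i k) : ZMod p).val)⁻¹,
            R.mul_mem hh2'R (R.inv_mem (R.pow_mem hgR _)), ?_⟩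
          rw [map_mul, hh2', ← map_mul, mul_inv_cancel_right]
      · apply ih (t + 1) (by omega) h
        intro a b hab hlt
        rcases Nat.lt_succ_iff_lt_or_eq.mp hlt with h1 | h1
        · exact hv a b hab h1
        · exact absurd ⟨a, b, hab, h1⟩ hpos
  refine ⟨S, Finset.card_image_le.trans hTcard, fun g => ?_⟩
  exact hmain (2 ^ m) 0 (by simp) g (fun a b _ hlt => absurd hlt (Nat.not_lt_zero _))

end Cfsg.Agent.Lib.Helper7.TH
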