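import Mathlib
import Cfsg.Agent.Lib.Helper7.TIV5

set_option autoImplicit false
set_option linter.unusedSectionVars false
set_option linter.style.haveILetI false

/-!
# S3043, part 6: the case `K = ⟨z⟩`

The hypotheses of the two end-games `PSL₂(2^e)` and `2^{2d} : D_{2(2^d+1)}`.
-/

namespace Cfsg.Agent.Lib.Helper7.TIV

open Subgroup

variable {G : Type*} [Group G] [Finite G]

namespace Setup

variable {M : Subgroup G} {z : G} (S : Setup M z)
include S

set_option maxHeartbeats 1000000 in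
theorem caseK2 (hstar : ∀ g : G, g ∉ NN M → ∃ x ∈ M, orderOf (g * x) = 2)
    (hklt : Nat.card (KK M z) < Nat.card M)
    (hcount : Nat.card {t : G // orderOf t = 2} + Nat.card (KK M z) = Nat.card M + M.index)
    {g₀ : G} (hg₀ : g₀ ∉ NN M) (hk : Nat.card (KK M z) = 2) :
    (∃ e : ℕ, 1 < e ∧ (∀ t : G, orderOf t = 2 → ∃ g : G, t = g * z * g⁻¹) ∧
        Nat.card (centralizer ({z} : Set G)) = 2 ^ e ∧
        Nat.card G = 2 ^ e * (2 ^ e + 1) * (2 ^ e - 1) ∧ Nat.card M = 2 ^ e + 1) ∨
    (∃ (d : ℕ) (v : G), 1 ≤ d ∧ Nat.card M = 2 ^ d + 1 ∧ Nat.card (NN M) = 2 * (2 ^ d + 1) ∧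
        Nat.card G = 2 ^ (2 * d + 1) * (2 ^ d + 1) ∧ orderOf v = 2 ∧
        ∀ g : G, v ≠ g * z * g⁻¹) := by
  classical
  haveI : Fact (Nat.Prime 2) := ⟨Nat.prime_two⟩
  set m := Nat.card M with hm
  set c := Nat.card (centralizer ({z} : Set G)) with hc
  set I := Nat.card {t : G // orderOf t = 2} with hI
  set cl := Nat.card {t : G // ∃ g : G, t = g * z * g⁻¹} with hcl
  -- C is a 2-group
  have hP : IsPGroup 2 (centralizer ({z} : Set G)) := by
    intro a
    refine ⟨1, ?_⟩
    apply Subtype.ext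
    have := S.cent_sq hstar hk a.2
    simp only [pow_one, Subgroup.coe_pow, Subgroup.coe_one]
    rw [pow_two]; exact this
  obtain ⟨b, hb⟩ := hP.exists_card_eq
  -- |C| ≥ 3
  have hX : 1 ≤ Nat.card {c : G // c * z = z * c ∧ c ∉ NN M} := by
    obtain ⟨u, -, huN, huz, -⟩ := S.exists_u hstar hg₀
    haveI : Nonempty {c : G // c * z = z * c ∧ c ∉ NN M} := ⟨⟨u, huz, huN⟩⟩
    exact Nat.card_pos
  have hc3 : 3 ≤ c := by
    have := S.card_cent_split
    rw [hk] at this
    omega
  have hb2 : 2 ≤ b := by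
    by_contra hcon
    have hb01 : b = 0 ∨ b = 1 := by omega
    rcases hb01 with h | h <;> rw [h] at hb <;> omega
  obtain ⟨d, rfl⟩ : ∃ d, b = d + 1 := ⟨b - 1, by omega⟩
  have hd : 1 ≤ d := by omega
  obtain ⟨f, hf⟩ : ∃ f : ℕ, f = 2 ^ d := ⟨_, rfl⟩
  have hc2f : c = 2 * f := by rw [hc, hb, pow_succ, hf]; ring
  -- the order formulas
  have e1 := S.card_formula hstar
  rw [hk, ← hm, ← hc, hc2f] at e1
  have e2 : cl * c = Nat.card G := card_conj_class z
  rw [hc2f] at e2
  have e3 : m * M.index = Nat.card G := Subgroup.card_mul_index M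
  have hmpos : 0 < m := Nat.card_pos
  rw [hk] at hcount hklt
  have h1 : cl * f + m * m = m + m * m * f := by nlinarith
  have h2 : I + m = 2 * m * f := by
    have h3 : m * (M.index + 2 * m) = m * (2 + 2 * m * f) := by nlinarith
    have h4 : M.index + 2 * m = 2 + 2 * m * f := Nat.eq_of_mul_eq_mul_left hmpos h3
    omega
  have hle : cl ≤ I := by
    let φ : {t : G // ∃ g : G, t = g * z * g⁻¹} → {t : G // orderOf t = 2} := fun t =>
      ⟨t.1, by
        obtain ⟨g, hg⟩ := t.2
        rw [hg, orderOf_conj']; exact S.hz⟩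
    apply Nat.card_le_card_of_injective φ
    intro t t' h
    have h1 : (t : G) = (t' : G) := congrArg (fun s : {t : G // orderOf t = 2} => s.1) h
    exact Subtype.ext h1
  have hmo : Odd m := S.card_M_odd
  have hm3 : 3 ≤ m := by
    obtain ⟨j, hj⟩ := hmo
    omega
  rcases arith_k2 m f cl I d hm3 hmo hd hf h1 h2 hle with ⟨hmf, hclI⟩ | ⟨hmf, hclI⟩
  · left
    refine ⟨d + 1, by omega, ?_, hb, ?_, ?_⟩
    · -- all involutions are conjugate to z
      let φ : {t : G // ∃ g : G, t = g * z * g⁻¹} → {t : G // orderOf t = 2} := fun t =>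
        ⟨t.1, by
          obtain ⟨g, hg⟩ := t.2
          rw [hg, orderOf_conj']; exact S.hz⟩
      have hinj : Function.Injective φ := by
        intro t t' h
        have h1 : (t : G) = (t' : G) := congrArg (fun s : {t : G // orderOf t = 2} => s.1) h
        exact Subtype.ext h1
      have hbij : Function.Bijective φ := by
        rw [Nat.bijective_iff_injective_and_card]
        exact ⟨hinj, hclI⟩
      intro t ht
      obtain ⟨⟨t', g, hg⟩, ht'⟩ := hbij.2 ⟨t, ht⟩
      have : t' = t := congrArg Subtype.val ht'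
      exact ⟨g, by rw [← this, hg]⟩
    · have h2f : 2 ^ (d + 1) = 2 * f := by rw [hf, pow_succ]; ring
      rw [h2f]
      have hfpos : 1 ≤ f := by rw [hf]; exact Nat.one_le_two_pow
      obtain ⟨f', hf'⟩ : ∃ f', f = f' + 1 := ⟨f - 1, by omega⟩
      rw [hf'] at e1 hmf ⊢
      have : 2 * (f' + 1) - 1 = 2 * f' + 1 := by omega
      rw [this]
      rw [hmf] at e1
      zify at e1 ⊢
      linear_combination e1
    · have h2f : 2 ^ (d + 1) = 2 * f := by rw [hf, pow_succ]; ring
      rw [h2f]; exact hmf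
  · right
    -- an involution outside the class of z
    have hv : ∃ v : G, orderOf v = 2 ∧ ∀ g : G, v ≠ g * z * g⁻¹ := by
      by_contra hcon
      push Not at hcon
      have : I ≤ cl := by
        let ψ : {t : G // orderOf t = 2} → {t : G // ∃ g : G, t = g * z * g⁻¹} := fun t =>
          ⟨t.1, hcon t.1 t.2⟩
        apply Nat.card_le_card_of_injective ψ
        intro t t' h
        have h1 : (t : G) = (t' : G) :=
          congrArg (fun s : {t : G // ∃ g : G, t = g * z * g⁻¹} => s.1) h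
        exact Subtype.ext h1
      omega
    obtain ⟨v, hv2, hvz⟩ := hv
    have hmf' : m = 2 ^ d + 1 := by rw [hmf, hf]
    refine ⟨d, v, hd, hmf', ?_, ?_, hv2, hvz⟩
    · rw [S.card_N, hk, ← hm, hmf']; ring
    · have h2f : 2 ^ (2 * d + 1) = 2 * (f * f) := by
        rw [hf, pow_succ, two_mul, pow_add]; ring
      rw [h2f, ← hf]
      rw [hmf] at e1
      have hfpos : 1 ≤ f := by rw [hf]; exact Nat.one_le_two_pow
      obtain ⟨f', hf'⟩ : ∃ f', f = f' + 1 := ⟨f - 1, by omega⟩
      rw [hf'] at e1 ⊢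
      zify at e1 ⊢
      linear_combination e1

end Setup

end Cfsg.Agent.Lib.Helper7.TIV
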