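import Mathlib
import Cfsg.Prelude.Def_Transfer
import Cfsg.Agent.Lib.Helper1.S3043Z2
import Cfsg.Agent.Lib.Helper8.S3043Z3

set_option autoImplicit false
set_option linter.unusedSectionVars false
set_option linter.style.haveILetI false

/-!
# S3043, part 7: the Zassenhaus branch `|C_G(z)| = 2 |K|`

Assembly of the `PGL₂` / `PSL₂` conclusion from the conclusion of the permutation-group core
`zcore` (helper9 + helper4), the abstract sharply 3-transitive theorem (helper1) and the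
Zassenhaus-group theorem (helper8).
-/

namespace Cfsg.Agent.Lib.Helper7.TIV

open Subgroup

variable {G : Type*} [Group G] [Finite G]

theorem smul_mk_eq_iff (N : Subgroup G) (t g : G) :
    t • (QuotientGroup.mk g : G ⧸ N) = QuotientGroup.mk g ↔ g⁻¹ * t * g ∈ N := by
  rw [MulAction.Quotient.smul_mk, smul_eq_mul, eq_comm, QuotientGroup.eq, mul_assoc]

theorem caseZ (M N K : Subgroup G) (z u : G)
    (hMN : M ≤ N) (hKN : K ≤ N)
    (hnorm : ∀ y ∈ N, ∀ x ∈ M, y * x * y⁻¹ ∈ M)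
    (hMc : ∀ x ∈ M, ∀ y ∈ M, x * y = y * x)
    (hz : orderOf z = 2) (hzK : z ∈ K)
    (hidx : N.index = Nat.card M + 1) (huN : u ∉ N)
    (hK : N ⊓ N.map (MulAut.conj u).toMonoidHom = K)
    (hNcard : Nat.card N = Nat.card M * Nat.card K)
    (hcore : ∃ p j : ℕ, p.Prime ∧ p ≠ 2 ∧ 1 ≤ j ∧ Nat.card M = p ^ j ∧ (∀ x ∈ M, x ^ p = 1) ∧
      FaithfulSMul G (G ⧸ N) ∧ MulAction.IsMultiplyPretransitive G (G ⧸ N) 2 ∧
      (∀ g : G, ∀ a b c : G ⧸ N, a ≠ b → b ≠ c → a ≠ c → g • a = a → g • b = b → g • c = c →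
        g = 1) ∧
      (∀ y w : G ⧸ N, y ≠ (QuotientGroup.mk 1 : G ⧸ N) → w ≠ (QuotientGroup.mk 1 : G ⧸ N) →
        ∃! x : M, (x : G) • y = w) ∧
      ((Nat.card K = Nat.card M - 1 ∧ MulAction.IsMultiplyPretransitive G (G ⧸ N) 3 ∧
          ∀ t h : G, ∀ a b : G ⧸ N, a ≠ b → t • a = b → t • b = a → h • a = a → h • b = b →
            t * h * t⁻¹ = h⁻¹) ∨
        (2 * Nat.card K = Nat.card M - 1 ∧
          ∀ t : G, orderOf t = 2 → ∃ g : G, t = g * z * g⁻¹))) :
    ∃ (F : Type) (_ : Field F) (_ : Fintype F) (p : ℕ) (_ : Fact p.Prime) (_ : CharP F p),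
      Fintype.card F = Nat.card M ∧ Cfsg.IsElementaryAbelian p M ∧
        (Nonempty (G ≃* (GL (Fin 2) F ⧸ Subgroup.center (GL (Fin 2) F))) ∨
         (Fintype.card F % 4 = 1 ∧
          Nonempty (G ≃* Matrix.ProjectiveSpecialLinearGroup (Fin 2) F))) := by
  classical
  obtain ⟨p, j, hp, hp2, hj, hMcard, hexp, hfaith, h2t, hsharp, hreg, hcase⟩ := hcore
  haveI := hfaith
  haveI : Fact p.Prime := ⟨hp⟩
  have hMab : IsMulCommutative M := ⟨⟨fun a b => Subtype.ext (hMc a a.2 b b.2)⟩⟩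
  have hEA : Cfsg.IsElementaryAbelian p M := ⟨hMab, hexp⟩
  have hΩ : Nat.card (G ⧸ N) = p ^ j + 1 := by rw [← Subgroup.index_eq_card, hidx, hMcard]
  rcases hcase with ⟨hk, h3t, hinv⟩ | ⟨hk, hconj⟩
  · obtain ⟨F, hF, hFt, hFcard, hiso⟩ :=
      Cfsg.Agent.Lib.Helper1.S3043.sharp3_pgl_abstract h3t hsharp hp hp2 hj hΩ hinv
    have hch : CharP F p := charP_of_card_eq_prime_pow hFcard
    exact ⟨F, hF, hFt, p, ⟨hp⟩, hch, by rw [hFcard, hMcard], hEA, Or.inl hiso⟩
  · have hmo : Odd (Nat.card M) := by rw [hMcard]; exact (hp.odd_of_ne_two hp2).pow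
    have hzN : z ∈ N := hKN hzK
    have hz1 : z ≠ 1 := by
      intro h
      rw [h, orderOf_one] at hz
      omega
    -- `z` fixes two points
    have hfix2 : ∃ g : G, g ≠ 1 ∧ ∃ a b : G ⧸ N, a ≠ b ∧ g • a = a ∧ g • b = b := by
      refine ⟨z, hz1, (QuotientGroup.mk 1 : G ⧸ N), (QuotientGroup.mk u : G ⧸ N), ?_, ?_, ?_⟩
      · intro h
        rw [QuotientGroup.eq] at h
        apply huN
        simpa using h
      · rw [smul_mk_eq_iff]; simpa using hzN
      · rw [smul_mk_eq_iff]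
        have hzK' : z ∈ N ⊓ N.map (MulAut.conj u).toMonoidHom := by rw [hK]; exact hzK
        obtain ⟨n, hn, hnz⟩ := (Subgroup.mem_inf.mp hzK').2
        have h1 : u * n * u⁻¹ = z := by
          rw [← hnz]; simp [MulAut.conj_apply]
        have h2 : u⁻¹ * z * u = n := by rw [← h1]; group
        rw [h2]; exact hn
    have hinvfix : ∀ t : G, orderOf t = 2 → ∃ a : G ⧸ N, t • a = a := by
      intro t ht
      obtain ⟨g, hg⟩ := hconj t ht
      refine ⟨(QuotientGroup.mk g : G ⧸ N), ?_⟩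
      rw [smul_mk_eq_iff, hg]
      have h2 : g⁻¹ * (g * z * g⁻¹) * g = z := by group
      rw [h2]; exact hzN
    have hMle : M ≤ MulAction.stabilizer G (QuotientGroup.mk 1 : G ⧸ N) := by
      intro a ha
      rw [MulAction.mem_stabilizer_iff, smul_mk_eq_iff]
      simpa using hMN ha
    have hMn : (M.subgroupOf (MulAction.stabilizer G (QuotientGroup.mk 1 : G ⧸ N))).Normal := by
      constructor
      intro n hn g
      rw [Subgroup.mem_subgroupOf] at hn ⊢
      have hgN : (g : G) ∈ N := by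
        have h1 := g.2
        rw [MulAction.mem_stabilizer_iff, smul_mk_eq_iff] at h1
        simpa using h1
      show (g : G) * (n : G) * (g : G)⁻¹ ∈ M
      exact hnorm _ hgN _ hn
    have hG : 2 * Nat.card G = (Nat.card M + 1) * Nat.card M * (Nat.card M - 1) := by
      rw [← Subgroup.card_mul_index N, hNcard, hidx, ← hk]; ring
    obtain ⟨F, hF, hFt, hFcard, hiso⟩ :=
      Cfsg.Agent.Lib.Helper8.S3043.zass_psl h2t hsharp hfix2 hinvfix (QuotientGroup.mk 1 : G ⧸ N) M hMle hMn hMab hreg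
        hmo hG
    have hch : CharP F p := charP_of_card_eq_prime_pow (hFcard.trans hMcard)
    have h2k : 2 ∣ Nat.card K := by
      have := Subgroup.orderOf_dvd_natCard K hzK
      rwa [hz] at this
    have hmod : Fintype.card F % 4 = 1 := by
      rw [hFcard]
      obtain ⟨k', hk'⟩ := h2k
      have hmpos : 0 < Nat.card M := Nat.card_pos
      omega
    exact ⟨F, hF, hFt, p, ⟨hp⟩, hch, hFcard, hEA, Or.inr ⟨hmod, hiso⟩⟩

end Cfsg.Agent.Lib.Helper7.TIV
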