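import Mathlib

/-! Helper7: a two-prime version of Bertrand's postulate: for `6 ≤ n` there are two distinct
primes in `(n, 2n]`. -/

set_option autoImplicit false
set_option linter.unusedSectionVars false
set_option linter.style.haveILetI false

namespace Cfsg.Agent.Lib.Helper7.TP

open Nat

/-- The central binomial bound of the Erdős proof still holds when at most one prime
lies in `(n, 2n]`. -/
theorem centralBinom_le_of_one_prime (n : ℕ) (n_large : 2 < n) (p₀ : ℕ)
    (hp₀ : ∀ p : ℕ, p.Prime → n < p → p ≤ 2 * n → p = p₀) :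
    centralBinom n ≤ (2 * n) ^ sqrt (2 * n) * 4 ^ (2 * n / 3) := by
  have n_pos : 0 < n := (Nat.zero_le _).trans_lt n_large
  have n2_pos : 1 ≤ 2 * n := mul_pos (zero_lt_two' ℕ) n_pos
  have hs1 : 1 ≤ sqrt (2 * n) := by
    rw [Nat.le_sqrt]
    omega
  let f : ℕ → ℕ := fun x => x ^ n.centralBinom.factorization x
  have hfle : ∀ x, f x ≤ 2 * n := fun x => pow_factorization_choose_le (mul_pos two_pos n_pos)
  let S := {p ∈ Finset.range (2 * n / 3 + 1) | Nat.Prime p}
  have hdecomp : centralBinom n ≤ (∏ x ∈ S, f x) * (2 * n) := by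
    rw [← n.prod_pow_factorization_centralBinom]
    rw [← Finset.prod_filter_mul_prod_filter_not (Finset.range (2 * n + 1))
      (fun x => x ≤ 2 * n / 3 ∧ x.Prime)]
    apply Nat.mul_le_mul
    · apply le_of_eq
      apply Finset.prod_congr
      · ext x
        simp only [S, Finset.mem_filter, Finset.mem_range]
        constructor
        · rintro ⟨h1, h2, h3⟩
          exact ⟨by omega, h3⟩
        · rintro ⟨h1, h2⟩
          exact ⟨by omega, by omega, h2⟩
      · intro x _
        rfl
    · calc ∏ x ∈ Finset.range (2 * n + 1) with ¬(x ≤ 2 * n / 3 ∧ x.Prime),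
            x ^ n.centralBinom.factorization x
          ≤ ∏ x ∈ Finset.range (2 * n + 1) with ¬(x ≤ 2 * n / 3 ∧ x.Prime),
            (if x = p₀ then 2 * n else 1) := by
            apply Finset.prod_le_prod'
            intro x hx
            rw [Finset.mem_filter, Finset.mem_range] at hx
            obtain ⟨hx1, hx2⟩ := hx
            by_cases hxp : x = p₀
            · rw [if_pos hxp]
              exact hfle x
            · rw [if_neg hxp]
              have h0 : n.centralBinom.factorization x = 0 := by
                by_cases hpr : x.Prime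
                · have hx3 : ¬ x ≤ 2 * n / 3 := fun h => hx2 ⟨h, hpr⟩
                  have hxn : x ≤ n := by
                    by_contra hcon
                    exact hxp (hp₀ x hpr (by omega) (by omega))
                  exact factorization_centralBinom_of_two_mul_self_lt_three_mul n_large hxn
                    (by omega)
                · exact factorization_eq_zero_of_not_prime _ hpr
              rw [h0, pow_zero]
        _ ≤ 2 * n := by
            rw [Finset.prod_ite_eq']
            split_ifs <;> omega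
  have hS : ∏ x ∈ S, f x ≤ (2 * n) ^ (sqrt (2 * n) - 1) * 4 ^ (2 * n / 3) := by
    rw [← Finset.prod_filter_mul_prod_filter_not S (· ≤ sqrt (2 * n))]
    apply mul_le_mul'
    · refine (Finset.prod_le_prod' fun p _ => (hfle p)).trans ?_
      have hc : (Finset.Icc 2 (sqrt (2 * n))).card = sqrt (2 * n) - 1 := by
        rw [Nat.card_Icc]
        omega
      rw [Finset.prod_const]
      refine pow_right_mono₀ n2_pos ((Finset.card_le_card fun x hx => ?_).trans hc.le)
      obtain ⟨h1, h2⟩ := Finset.mem_filter.1 hx
      exact Finset.mem_Icc.mpr ⟨(Finset.mem_filter.1 h1).2.two_le, h2⟩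
    · refine le_trans ?_ (primorial_le_four_pow (2 * n / 3))
      refine (Finset.prod_le_prod' fun p hp => (?_ : f p ≤ p)).trans ?_
      · obtain ⟨h1, h2⟩ := Finset.mem_filter.1 hp
        refine (pow_right_mono₀ (Finset.mem_filter.1 h1).2.one_lt.le ?_).trans (pow_one p).le
        exact Nat.factorization_choose_le_one (sqrt_lt'.mp <| not_le.1 h2)
      refine Finset.prod_le_prod_of_subset_of_one_le' (Finset.filter_subset _ _) ?_
      exact fun p hp _ => (Finset.mem_filter.1 hp).2.one_lt.le
  calc centralBinom n ≤ (∏ x ∈ S, f x) * (2 * n) := hdecomp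
    _ ≤ ((2 * n) ^ (sqrt (2 * n) - 1) * 4 ^ (2 * n / 3)) * (2 * n) :=
        Nat.mul_le_mul_right _ hS
    _ = (2 * n) ^ sqrt (2 * n) * 4 ^ (2 * n / 3) := by
        have h1 : sqrt (2 * n) = (sqrt (2 * n) - 1) + 1 := by omega
        conv_rhs => rw [h1, pow_succ]
        ring

/-- Two primes in `(n, 2n]` for large `n`. -/
theorem two_primes_large (n : ℕ) (n_large : 512 ≤ n) :
    ∃ p q : ℕ, p.Prime ∧ q.Prime ∧ q < p ∧ n < q ∧ p ≤ 2 * n := by
  by_contra hcon
  obtain ⟨p₀, hp₀, h1, h2⟩ := Nat.exists_prime_lt_and_le_two_mul n (by omega)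
  have huniq : ∀ p : ℕ, p.Prime → n < p → p ≤ 2 * n → p = p₀ := by
    intro p hp hnp hp2
    by_contra hne
    rcases lt_or_gt_of_ne hne with h | h
    · exact hcon ⟨p₀, p, hp₀, hp, h, hnp, h2⟩
    · exact hcon ⟨p, p₀, hp, hp₀, h, h1, hp2⟩
  have hlow : 4 ^ n < n * n.centralBinom := Nat.four_pow_lt_mul_centralBinom n (by omega)
  have hup := centralBinom_le_of_one_prime n (by omega) p₀ huniq
  have hmain := bertrand_main_inequality n_large
  have h3 : n * n.centralBinom ≤ 4 ^ n := by
    calc n * n.centralBinom
        ≤ n * ((2 * n) ^ Nat.sqrt (2 * n) * 4 ^ (2 * n / 3)) := Nat.mul_le_mul_left _ hup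
      _ = n * (2 * n) ^ Nat.sqrt (2 * n) * 4 ^ (2 * n / 3) := by ring
      _ ≤ 4 ^ n := hmain
  omega

/-- Two primes in `(n, 2n]` for `6 ≤ n < 557`. -/
theorem two_primes_small (n : ℕ) (h6 : 6 ≤ n) (h : n < 557) :
    ∃ p q : ℕ, p.Prime ∧ q.Prime ∧ q < p ∧ n < q ∧ p ≤ 2 * n := by
  by_cases h1 : n < 7
  · exact ⟨11, 7, by norm_num, by norm_num, by norm_num, by omega, by omega⟩
  by_cases h2 : n < 11
  · exact ⟨13, 11, by norm_num, by norm_num, by norm_num, by omega, by omega⟩
  by_cases h3 : n < 13
  · exact ⟨17, 13, by norm_num, by norm_num, by norm_num, by omega, by omega⟩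
  by_cases h4 : n < 17
  · exact ⟨23, 17, by norm_num, by norm_num, by norm_num, by omega, by omega⟩
  by_cases h5 : n < 23
  · exact ⟨29, 23, by norm_num, by norm_num, by norm_num, by omega, by omega⟩
  by_cases h7 : n < 29
  · exact ⟨37, 29, by norm_num, by norm_num, by norm_num, by omega, by omega⟩
  by_cases h8 : n < 37
  · exact ⟨43, 37, by norm_num, by norm_num, by norm_num, by omega, by omega⟩
  by_cases h9 : n < 43
  · exact ⟨59, 43, by norm_num, by norm_num, by norm_num, by omega, by omega⟩
  by_cases h10 : n < 59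
  · exact ⟨73, 59, by norm_num, by norm_num, by norm_num, by omega, by omega⟩
  by_cases h11 : n < 73
  · exact ⟨89, 73, by norm_num, by norm_num, by norm_num, by omega, by omega⟩
  by_cases h12 : n < 89
  · exact ⟨113, 89, by norm_num, by norm_num, by norm_num, by omega, by omega⟩
  by_cases h13 : n < 113
  · exact ⟨139, 113, by norm_num, by norm_num, by norm_num, by omega, by omega⟩
  by_cases h14 : n < 139
  · exact ⟨179, 139, by norm_num, by norm_num, by norm_num, by omega, by omega⟩
  by_cases h15 : n < 179
  · exact ⟨223, 179, by norm_num, by norm_num, by norm_num, by omega, by omega⟩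
  by_cases h16 : n < 223
  · exact ⟨277, 223, by norm_num, by norm_num, by norm_num, by omega, by omega⟩
  by_cases h17 : n < 277
  · exact ⟨349, 277, by norm_num, by norm_num, by norm_num, by omega, by omega⟩
  by_cases h18 : n < 349
  · exact ⟨443, 349, by norm_num, by norm_num, by norm_num, by omega, by omega⟩
  by_cases h19 : n < 443
  · exact ⟨557, 443, by norm_num, by norm_num, by norm_num, by omega, by omega⟩
  · exact ⟨691, 557, by norm_num, by norm_num, by norm_num, by omega, by omega⟩

/-- **Two-prime Bertrand**: for `6 ≤ n` there are two distinct primes in `(n, 2n]`. -/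
theorem two_primes (n : ℕ) (h6 : 6 ≤ n) :
    ∃ p q : ℕ, p.Prime ∧ q.Prime ∧ q < p ∧ n < q ∧ p ≤ 2 * n := by
  by_cases h : n < 557
  · exact two_primes_small n h6 h
  · exact two_primes_large n (by omega)

end Cfsg.Agent.Lib.Helper7.TP
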