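import Mathlib
import Cfsg.Agent.Lib.Helper7.TPa
import Cfsg.Agent.Lib.Helper1.Hall

/-! Helper7: a finite group with the order and the spectrum of `A_n` (`n ≥ 5`) is not solvable. -/

set_option autoImplicit false
set_option linter.unusedSectionVars false
set_option linter.style.haveILetI false

namespace Cfsg.Agent.Lib.Helper7.TP

open Cfsg.Agent.Lib

/-- A group of order `p * m` with a unique Sylow `p`-subgroup of order `p` that is forced to be
central has elements of order `p * q` for every prime `q ∣ m`. -/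
theorem exists_order_pq {K : Type*} [Group K] [Finite K] {p m q : ℕ} (hp : p.Prime)
    (hq : q.Prime) (hK : Nat.card K = p * m) (hpm : ¬ p ∣ m)
    (ha : ∀ d, d ∣ m → d ≡ 1 [MOD p] → d = 1) (hb : m.Coprime (p - 1)) (hqm : q ∣ m) :
    ∃ z : K, orderOf z = p * q := by
  haveI : Fact p.Prime := ⟨hp⟩
  haveI : Fact q.Prime := ⟨hq⟩
  have hm0 : m ≠ 0 := by
    rintro rfl
    exact hpm (dvd_zero p)
  obtain ⟨P⟩ : Nonempty (Sylow p K) := inferInstance
  have hPcard : Nat.card (P : Subgroup K) = p := by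
    rw [Sylow.card_eq_multiplicity, hK, Nat.factorization_mul hp.ne_zero hm0, Finsupp.add_apply,
      hp.factorization_self, Nat.factorization_eq_zero_of_not_dvd hpm, add_zero, pow_one]
  have hPidx : (P : Subgroup K).index = m := by
    have h1 := (P : Subgroup K).card_mul_index
    rw [hPcard, hK] at h1
    exact Nat.eq_of_mul_eq_mul_left hp.pos h1
  have hsyl1 : Nat.card (Sylow p K) = 1 := by
    apply ha
    · rw [← hPidx]
      exact P.card_dvd_index
    · exact card_sylow_modEq_one p K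
  have hPn : (P : Subgroup K).Normal := by
    have h1 := P.card_eq_index_normalizer
    rw [hsyl1] at h1
    rw [← Subgroup.normalizer_eq_top_iff, ← Subgroup.index_eq_one]
    exact h1.symm
  haveI := hPn
  obtain ⟨x, hx⟩ := exists_prime_orderOf_dvd_card' (G := (P : Subgroup K)) p (by rw [hPcard])
  obtain ⟨y, hy⟩ := exists_prime_orderOf_dvd_card' (G := K) q (by rw [hK]; exact hqm.mul_left p)
  haveI : IsCyclic (P : Subgroup K) := isCyclic_of_prime_card hPcard
  have hautcard : Nat.card (MulAut (P : Subgroup K)) = p - 1 := by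
    rw [IsCyclic.card_mulAut, hPcard, Nat.totient_prime hp]
  have hκ : MulAut.conjNormal (H := (P : Subgroup K)) y = 1 := by
    rw [← orderOf_eq_one_iff]
    have h1 : orderOf (MulAut.conjNormal (H := (P : Subgroup K)) y) ∣ q := by
      rw [← hy]
      exact orderOf_map_dvd _ y
    have h2 : orderOf (MulAut.conjNormal (H := (P : Subgroup K)) y) ∣ p - 1 := by
      rw [← hautcard]
      exact orderOf_dvd_natCard _
    have hcop : q.Coprime (p - 1) := Nat.Coprime.coprime_dvd_left hqm hb
    exact Nat.Coprime.eq_one_of_dvd (hcop.coprime_dvd_left h1) h2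
  have hcomm : Commute y (x : K) := by
    have h3 := congrArg (fun e : MulAut (P : Subgroup K) => ((e x : (P : Subgroup K)) : K)) hκ
    simp only [MulAut.conjNormal_apply, MulAut.one_apply] at h3
    rw [mul_inv_eq_iff_eq_mul] at h3
    exact h3
  have hxo : orderOf (x : K) = p := by rw [Subgroup.orderOf_coe, hx]
  have hpq : p ≠ q := by
    rintro rfl
    exact hpm hqm
  refine ⟨(x : K) * y, ?_⟩
  rw [hcomm.symm.orderOf_mul_eq_mul_orderOf_of_coprime, hxo, hy]
  rw [hxo, hy]
  exact (Nat.coprime_primes hp hq).2 hpq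

theorem prime_dvd_multiset_lcm {p : ℕ} (hp : p.Prime) (s : Multiset ℕ) (h : p ∣ s.lcm) :
    ∃ a ∈ s, p ∣ a := by
  induction s using Multiset.induction_on with
  | empty =>
    rw [Multiset.lcm_zero] at h
    exact absurd (Nat.dvd_one.1 h) hp.one_lt.ne'
  | cons a s ih =>
    rw [Multiset.lcm_cons] at h
    have h1 : p ∣ a * s.lcm := h.trans (_root_.lcm_dvd_mul a s.lcm)
    rcases (Nat.Prime.dvd_mul hp).1 h1 with h2 | h2
    · exact ⟨a, Multiset.mem_cons_self a s, h2⟩
    · obtain ⟨b, hb, hpb⟩ := ih h2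
      exact ⟨b, Multiset.mem_cons_of_mem hb, hpb⟩

/-- No permutation of `n` points has order `p * q` when `p + q > n`. -/
theorem no_order_pq {n p q : ℕ} (hp : p.Prime) (hq : q.Prime) (hpq : p ≠ q) (hsum : n < p + q)
    (σ : Equiv.Perm (Fin n)) : orderOf σ ≠ p * q := by
  intro h
  have hl := Equiv.Perm.lcm_cycleType σ
  rw [h] at hl
  obtain ⟨a, ha, hpa⟩ := prime_dvd_multiset_lcm hp σ.cycleType
    (by rw [hl]; exact dvd_mul_right p q)
  obtain ⟨b, hb, hqb⟩ := prime_dvd_multiset_lcm hq σ.cycleType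
    (by rw [hl]; exact dvd_mul_left q p)
  have hsum' : σ.cycleType.sum ≤ n := by
    have h1 := Equiv.Perm.sum_cycleType_le σ
    rwa [Fintype.card_fin] at h1
  have ha0 : 0 < a := by
    have := Equiv.Perm.two_le_of_mem_cycleType ha
    omega
  have hb0 : 0 < b := by
    have := Equiv.Perm.two_le_of_mem_cycleType hb
    omega
  by_cases hab : a = b
  · subst hab
    have h1 : p * q ∣ a := ((Nat.coprime_primes hp hq).2 hpq).mul_dvd_of_dvd_of_dvd hpa hqb
    have h2 : p * q ≤ a := Nat.le_of_dvd ha0 h1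
    have h3 : a ≤ σ.cycleType.sum := Multiset.le_sum_of_mem ha
    have h4 : 2 * q ≤ p * q := Nat.mul_le_mul_right q hp.two_le
    have h5 : p * 2 ≤ p * q := Nat.mul_le_mul_left p hq.two_le
    omega
  · have h1 : b ∈ σ.cycleType.erase a := (Multiset.mem_erase_of_ne (Ne.symm hab)).2 hb
    have h2 := Multiset.sum_erase ha
    have h3 : b ≤ (σ.cycleType.erase a).sum := Multiset.le_sum_of_mem h1
    have h4 : p ≤ a := Nat.le_of_dvd ha0 hpa
    have h5 : q ≤ b := Nat.le_of_dvd hb0 hqb
    omega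

/-- Core argument: a Hall subgroup of order `p * q ^ b` produces an element of order `p * q`. -/
theorem core {G : Type*} [Group G] [Finite G] [Group.IsSolvable G] (n : ℕ)
    (hcard : Nat.card G = Nat.card ↥(alternatingGroup (Fin n)))
    (hspec : Set.range (orderOf : G → ℕ) =
      Set.range (orderOf : ↥(alternatingGroup (Fin n)) → ℕ))
    {p q b r : ℕ} (hp : p.Prime) (hq : q.Prime) (hpq : p ≠ q) (hsum : n < p + q)
    (hfac : Nat.card ↥(alternatingGroup (Fin n)) = (p * q ^ b) * r)
    (hcop : (p * q ^ b).Coprime r) (hb : 1 ≤ b)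
    (ha : ∀ d, d ∣ q ^ b → d ≡ 1 [MOD p] → d = 1) (hb' : (q ^ b).Coprime (p - 1)) : False := by
  obtain ⟨K, hK⟩ := Helper1.hall_exists (G := G) (p * q ^ b) r (by rw [hcard, hfac]) hcop
  have hpm : ¬ p ∣ q ^ b := fun h =>
    hpq ((Nat.prime_dvd_prime_iff_eq hp hq).1 (hp.dvd_of_dvd_pow h))
  obtain ⟨z, hz⟩ := exists_order_pq (K := K) hp hq hK hpm ha hb' (dvd_pow_self q (by omega))
  have h1 : p * q ∈ Set.range (orderOf : G → ℕ) := ⟨(z : G), by rw [Subgroup.orderOf_coe, hz]⟩
  rw [hspec] at h1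
  obtain ⟨σ, hσ⟩ := h1
  exact no_order_pq hp hq hpq hsum (σ : Equiv.Perm (Fin n)) (by rw [Subgroup.orderOf_coe, hσ])

theorem sq_not_dvd_factorial {n p : ℕ} (hp : p.Prime) (hpn : p ≤ n) (hn2 : n < 2 * p) :
    ¬ p * p ∣ n.factorial := by
  intro h
  have h1 : p ^ 2 ∣ n.factorial := by rw [pow_two]; exact h
  have hlog : Nat.log p n < 2 := by
    apply Nat.log_lt_of_lt_pow (by omega)
    rw [pow_two]
    calc n < 2 * p := hn2
      _ ≤ p * p := Nat.mul_le_mul_right p hp.two_le
  rw [hp.pow_dvd_factorial_iff hlog] at h1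
  have h2 : Finset.Ico 1 2 = {1} := by decide
  rw [h2, Finset.sum_singleton, pow_one] at h1
  have h3 : n / p = 1 := Nat.div_eq_of_lt_le (by omega) (by omega)
  omega

/-- The order of `A_n` factors as `p * q * r` with `r` prime to `p * q` for odd primes
`n / 2 < q < p ≤ n`. -/
theorem factor_lemma (n p q : ℕ) (hn : 2 ≤ n) (hp : p.Prime) (hq : q.Prime) (hqp : q < p)
    (hq2 : 2 < q) (hpn : p ≤ n) (hqn : n < 2 * q) :
    ∃ r, Nat.card ↥(alternatingGroup (Fin n)) = (p * q ^ 1) * r ∧ (p * q ^ 1).Coprime r := by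
  haveI : Nontrivial (Fin n) := Fin.nontrivial_iff_two_le.2 hn
  have h2N : 2 * Nat.card ↥(alternatingGroup (Fin n)) = n.factorial := by
    rw [two_mul_nat_card_alternatingGroup, Nat.card_eq_fintype_card, Fintype.card_perm,
      Fintype.card_fin]
  obtain ⟨N, hN⟩ : ∃ N, N = Nat.card ↥(alternatingGroup (Fin n)) := ⟨_, rfl⟩
  rw [← hN] at h2N ⊢
  have hNfac : N ∣ n.factorial := ⟨2, by rw [← h2N, mul_comm]⟩
  have hdvd : ∀ s : ℕ, s.Prime → 2 < s → s ≤ n → s ∣ N := by
    intro s hs hs2 hsn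
    have h1 : s ∣ 2 * N := by rw [h2N]; exact (hs.dvd_factorial).2 hsn
    rcases (Nat.Prime.dvd_mul hs).1 h1 with h | h
    · have := Nat.le_of_dvd (by norm_num) h
      omega
    · exact h
  have hpN := hdvd p hp (by omega) hpn
  have hqN := hdvd q hq hq2 (by omega)
  have hpq : p ≠ q := by omega
  have hpqN : p * q ∣ N := ((Nat.coprime_primes hp hq).2 hpq).mul_dvd_of_dvd_of_dvd hpN hqN
  obtain ⟨r, hr⟩ := hpqN
  refine ⟨r, by rw [pow_one]; exact hr, ?_⟩
  rw [pow_one]
  apply Nat.Coprime.mul_left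
  · rw [Nat.Prime.coprime_iff_not_dvd hp]
    rintro ⟨t, ht⟩
    apply sq_not_dvd_factorial hp hpn (by omega)
    apply Dvd.dvd.trans _ hNfac
    rw [hr, ht]
    exact ⟨q * t, by ring⟩
  · rw [Nat.Prime.coprime_iff_not_dvd hq]
    rintro ⟨t, ht⟩
    apply sq_not_dvd_factorial hq (by omega) hqn
    apply Dvd.dvd.trans _ hNfac
    rw [hr, ht]
    exact ⟨p * t, by ring⟩

/-- Two odd primes in `(n / 2, n]` for `n ≥ 5`, `n ≠ 6, 10`. -/
theorem exists_two_primes (n : ℕ) (hn : 5 ≤ n) (h6 : n ≠ 6) (h10 : n ≠ 10) :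
    ∃ p q : ℕ, p.Prime ∧ q.Prime ∧ q < p ∧ p ≤ n ∧ n < 2 * q := by
  by_cases h12 : 12 ≤ n
  · obtain ⟨p, q, hp, hq, hqp, hnq, hpn⟩ := two_primes (n / 2) (by omega)
    exact ⟨p, q, hp, hq, hqp, by omega, by omega⟩
  · have h : n = 5 ∨ n = 7 ∨ n = 8 ∨ n = 9 ∨ n = 11 := by omega
    rcases h with rfl | rfl | rfl | rfl | rfl
    · exact ⟨5, 3, by norm_num, by norm_num, by norm_num, by norm_num, by norm_num⟩
    · exact ⟨7, 5, by norm_num, by norm_num, by norm_num, by norm_num, by norm_num⟩
    · exact ⟨7, 5, by norm_num, by norm_num, by norm_num, by norm_num, by norm_num⟩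
    · exact ⟨7, 5, by norm_num, by norm_num, by norm_num, by norm_num, by norm_num⟩
    · exact ⟨11, 7, by norm_num, by norm_num, by norm_num, by norm_num, by norm_num⟩

theorem main {G : Type*} [Group G] [Finite G] (n : ℕ) (hn : 5 ≤ n)
    (hcard : Nat.card G = Nat.card ↥(alternatingGroup (Fin n)))
    (hspec : Set.range (orderOf : G → ℕ) =
      Set.range (orderOf : ↥(alternatingGroup (Fin n)) → ℕ)) :
    ¬ Group.IsSolvable G := by
  intro hsol
  haveI := hsol
  by_cases h6 : n = 6
  · subst h6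
    have hfac : Nat.card ↥(alternatingGroup (Fin 6)) = (5 * 3 ^ 2) * 8 := by
      rw [nat_card_alternatingGroup, Nat.card_eq_fintype_card, Fintype.card_fin]
      decide
    refine core 6 hcard hspec (p := 5) (q := 3) (b := 2) (r := 8) (by norm_num) (by norm_num)
      (by norm_num) (by norm_num) hfac (by decide) (by norm_num) ?_ (by decide)
    intro d hd hmod
    have hd9 : d ≤ 9 := Nat.le_of_dvd (by norm_num) hd
    have hm : d % 5 = 1 % 5 := hmod
    interval_cases d <;> omega
  by_cases h10 : n = 10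
  · subst h10
    have hfac : Nat.card ↥(alternatingGroup (Fin 10)) = (7 * 5 ^ 2) * 10368 := by
      rw [nat_card_alternatingGroup, Nat.card_eq_fintype_card, Fintype.card_fin]
      decide
    refine core 10 hcard hspec (p := 7) (q := 5) (b := 2) (r := 10368) (by norm_num)
      (by norm_num) (by norm_num) (by norm_num) hfac (by decide) (by norm_num) ?_ (by decide)
    intro d hd hmod
    have hd9 : d ≤ 25 := Nat.le_of_dvd (by norm_num) hd
    have hm : d % 7 = 1 % 7 := hmod
    interval_cases d <;> omega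
  obtain ⟨p, q, hp, hq, hqp, hpn, hqn⟩ := exists_two_primes n hn h6 h10
  have hq2 : 2 < q := by omega
  obtain ⟨r, hfac, hcop⟩ := factor_lemma n p q (by omega) hp hq hqp hq2 hpn hqn
  refine core n hcard hspec hp hq (by omega) (by omega) hfac hcop le_rfl ?_ ?_
  · intro d hd hmod
    rw [pow_one] at hd
    rcases (Nat.dvd_prime hq).1 hd with h | h
    · exact h
    · exfalso
      have hm : d % p = 1 % p := hmod
      rw [h, Nat.mod_eq_of_lt hqp, Nat.mod_eq_of_lt hp.one_lt] at hm
      omega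
  · rw [pow_one, Nat.Prime.coprime_iff_not_dvd hq]
    rintro ⟨t, ht⟩
    have hpodd : p % 2 = 1 := by
      rcases hp.eq_two_or_odd with h | h
      · omega
      · exact h
    have hqodd : q % 2 = 1 := by
      rcases hq.eq_two_or_odd with h | h
      · omega
      · exact h
    have hp1 : 1 < p := hp.one_lt
    rcases Nat.lt_or_ge t 2 with h | h
    · interval_cases t
      · omega
      · omega
    · have h1 : q * 2 ≤ q * t := Nat.mul_le_mul_left q h
      omega

end Cfsg.Agent.Lib.Helper7.TP
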