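import Mathlib

/-! Helper7: group lemmas for the "simple section" theorem: elements of order `r * s` from a
Frattini argument, the largest normal `p'`-subgroup, elements of order `p` in normal subgroups. -/

set_option autoImplicit false
set_option linter.unusedSectionVars false
set_option linter.style.haveILetI false

namespace Cfsg.Agent.Lib.Helper7.TP

/-- An element of prime order `s` normalizing a subgroup `R` of prime order `r`, with
`s ∤ r - 1`, yields an element of order `r * s`. -/
theorem exists_order_rs_of_normalizer {X : Type*} [Group X] [Finite X] (R : Subgroup X)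
    {r s : ℕ} (hr : r.Prime) (hs : s.Prime) (hR : Nat.card R = r) (x : X)
    (hxN : x ∈ Subgroup.normalizer (R : Set X)) (hxs : orderOf x = s) (hrs : r ≠ s)
    (hsr : ¬ s ∣ r - 1) : ∃ z : X, orderOf z = r * s := by
  haveI : Fact r.Prime := ⟨hr⟩
  haveI hRn : (R.subgroupOf (Subgroup.normalizer (R : Set X))).Normal :=
    Subgroup.normal_in_normalizer
  have hR' : Nat.card (R.subgroupOf (Subgroup.normalizer (R : Set X))) = r := by
    rw [← hR]
    exact Nat.card_congr (Subgroup.subgroupOfEquivOfLe Subgroup.le_normalizer).toEquiv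
  haveI : IsCyclic (R.subgroupOf (Subgroup.normalizer (R : Set X))) := isCyclic_of_prime_card hR'
  have haut : Nat.card (MulAut (R.subgroupOf (Subgroup.normalizer (R : Set X)))) = r - 1 := by
    rw [IsCyclic.card_mulAut, hR', Nat.totient_prime hr]
  obtain ⟨y, hy⟩ := exists_prime_orderOf_dvd_card'
    (G := (R.subgroupOf (Subgroup.normalizer (R : Set X)))) r (by rw [hR'])
  obtain ⟨xK, hxKdef⟩ : ∃ xK : Subgroup.normalizer (R : Set X), xK = ⟨x, hxN⟩ := ⟨_, rfl⟩
  have hxK : orderOf xK = s := by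
    rw [← hxs, hxKdef]
    exact Subgroup.orderOf_mk x hxN
  have hκ : MulAut.conjNormal (H := R.subgroupOf (Subgroup.normalizer (R : Set X))) xK = 1 := by
    rw [← orderOf_eq_one_iff]
    have h1 : orderOf (MulAut.conjNormal
        (H := R.subgroupOf (Subgroup.normalizer (R : Set X))) xK) ∣ s := by
      rw [← hxK]
      exact orderOf_map_dvd _ xK
    have h2 : orderOf (MulAut.conjNormal
        (H := R.subgroupOf (Subgroup.normalizer (R : Set X))) xK) ∣ r - 1 := by
      rw [← haut]
      exact orderOf_dvd_natCard _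
    rcases (Nat.dvd_prime hs).1 h1 with h | h
    · exact h
    · exfalso
      rw [h] at h2
      exact hsr h2
  have hcomm : Commute xK (y : Subgroup.normalizer (R : Set X)) := by
    have h3 := congrArg (fun e : MulAut (R.subgroupOf (Subgroup.normalizer (R : Set X))) =>
      ((e y : R.subgroupOf (Subgroup.normalizer (R : Set X))) :
        Subgroup.normalizer (R : Set X))) hκ
    simp only [MulAut.conjNormal_apply, MulAut.one_apply] at h3
    rw [mul_inv_eq_iff_eq_mul] at h3
    exact h3
  have h4 : orderOf ((y : Subgroup.normalizer (R : Set X)) * xK) = r * s := by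
    rw [hcomm.symm.orderOf_mul_eq_mul_orderOf_of_coprime, Subgroup.orderOf_coe, hy, hxK]
    rw [Subgroup.orderOf_coe, hy, hxK]
    exact (Nat.coprime_primes hr hs).2 hrs
  refine ⟨(((y : Subgroup.normalizer (R : Set X)) * xK : Subgroup.normalizer (R : Set X)) : X),
    ?_⟩
  rw [Subgroup.orderOf_coe, h4]

/-- Frattini form: `Y ⊲ X` with Sylow `r`-subgroups of order `r`, `s` dividing the index,
`s ∤ r - 1`: there is an element of order `r * s`. -/
theorem exists_order_rs_frattini {X : Type*} [Group X] [Finite X] (Y : Subgroup X) [Y.Normal]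
    {r s : ℕ} (hr : r.Prime) (hs : s.Prime) (hrs : r ≠ s) (hrY : r ∣ Nat.card Y)
    (hrY2 : ¬ r * r ∣ Nat.card Y) (hsY : s ∣ Y.index) (hsr : ¬ s ∣ r - 1) :
    ∃ z : X, orderOf z = r * s := by
  haveI : Fact r.Prime := ⟨hr⟩
  haveI : Fact s.Prime := ⟨hs⟩
  obtain ⟨P⟩ : Nonempty (Sylow r Y) := inferInstance
  have hfac : (Nat.card Y).factorization r = 1 := by
    have hne : Nat.card Y ≠ 0 := Nat.card_pos.ne'
    have h1 : 1 ≤ (Nat.card Y).factorization r := by
      rw [← hr.pow_dvd_iff_le_factorization hne, pow_one]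
      exact hrY
    have h2 : ¬ 2 ≤ (Nat.card Y).factorization r := by
      rw [← hr.pow_dvd_iff_le_factorization hne, pow_two]
      exact hrY2
    omega
  have hPcard : Nat.card (P : Subgroup Y) = r := by
    rw [Sylow.card_eq_multiplicity, hfac, pow_one]
  obtain ⟨R, hRdef⟩ : ∃ R : Subgroup X, R = (P : Subgroup Y).map Y.subtype := ⟨_, rfl⟩
  have hR : Nat.card R = r := by
    rw [hRdef, Subgroup.card_map_of_injective Y.subtype_injective, hPcard]
  have hfr := Sylow.normalizer_sup_eq_top P
  rw [← hRdef] at hfr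
  have hs' : s ∣ Nat.card (Subgroup.normalizer (R : Set X)) := by
    have h1 : Y.relIndex (Subgroup.normalizer (R : Set X) ⊔ Y) =
        Y.relIndex (Subgroup.normalizer (R : Set X)) := Subgroup.relIndex_sup_right _ _
    rw [hfr, Subgroup.relIndex_top_right] at h1
    rw [h1] at hsY
    exact hsY.trans (Subgroup.index_dvd_card _)
  obtain ⟨x, hx⟩ := exists_prime_orderOf_dvd_card'
    (G := Subgroup.normalizer (R : Set X)) s hs'
  exact exists_order_rs_of_normalizer R hr hs hR x.1 x.2 (by rw [Subgroup.orderOf_coe, hx])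
    hrs hsr

/-- The join of two normal subgroups of order prime to `p` has order prime to `p`. -/
theorem not_dvd_card_sup {X : Type*} [Group X] [Finite X] {p : ℕ} (hp : p.Prime)
    (M₁ M₂ : Subgroup X) [M₁.Normal] [M₂.Normal] (h1 : ¬ p ∣ Nat.card M₁)
    (h2 : ¬ p ∣ Nat.card M₂) : ¬ p ∣ Nat.card (M₁ ⊔ M₂ : Subgroup X) := by
  haveI : Fact p.Prime := ⟨hp⟩
  intro hdiv
  obtain ⟨z, hz⟩ := exists_prime_orderOf_dvd_card' (G := (M₁ ⊔ M₂ : Subgroup X)) p hdiv
  have hz' : orderOf (z : X) = p := by rw [Subgroup.orderOf_coe, hz]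
  have hzmem : QuotientGroup.mk' M₁ (z : X) ∈ (M₁ ⊔ M₂).map (QuotientGroup.mk' M₁) :=
    Subgroup.mem_map_of_mem _ z.2
  rw [Subgroup.map_sup, QuotientGroup.map_mk'_self, bot_sup_eq, Subgroup.mem_map] at hzmem
  obtain ⟨m, hm, hmz⟩ := hzmem
  have ho1 : orderOf (QuotientGroup.mk' M₁ (z : X)) ∣ p := by
    rw [← hz']
    exact orderOf_map_dvd _ _
  have ho2 : orderOf (QuotientGroup.mk' M₁ (z : X)) ∣ Nat.card M₂ := by
    rw [← hmz]
    refine (orderOf_map_dvd _ m).trans ?_
    rw [← Subgroup.orderOf_mk m hm]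
    exact orderOf_dvd_natCard _
  have ho3 : orderOf (QuotientGroup.mk' M₁ (z : X)) = 1 := by
    rcases (Nat.dvd_prime hp).1 ho1 with h | h
    · exact h
    · exfalso
      rw [h] at ho2
      exact h2 ho2
  rw [orderOf_eq_one_iff] at ho3
  have hzM : (z : X) ∈ M₁ := (QuotientGroup.eq_one_iff (z : X)).1 ho3
  apply h1
  rw [← hz', ← Subgroup.orderOf_mk (z : X) hzM]
  exact orderOf_dvd_natCard _

/-- The largest normal subgroup of order prime to `p`. -/
theorem exists_pprime_core (X : Type*) [Group X] [Finite X] {p : ℕ} (hp : p.Prime) :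
    ∃ O : Subgroup X, O.Normal ∧ ¬ p ∣ Nat.card O ∧
      (∀ L : Subgroup X, L.Normal → ¬ p ∣ Nat.card L → L ≤ O) := by
  obtain ⟨O, ⟨hOn, hOp⟩, hOmax⟩ := Set.exists_max_image
    {M : Subgroup X | M.Normal ∧ ¬ p ∣ Nat.card M} (fun M => Nat.card M) (Set.toFinite _)
    ⟨⊥, inferInstance, by
      rw [Subgroup.card_bot]
      exact hp.one_lt.ne' ∘ Nat.dvd_one.1⟩
  refine ⟨O, hOn, hOp, ?_⟩
  intro L hLn hLp
  haveI := hLn
  haveI := hOn
  have h1 : ¬ p ∣ Nat.card (L ⊔ O : Subgroup X) := not_dvd_card_sup hp L O hLp hOp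
  have h2 := hOmax (L ⊔ O) ⟨Subgroup.sup_normal L O, h1⟩
  have h3 : O = L ⊔ O := Subgroup.eq_of_le_of_card_ge le_sup_right h2
  rw [h3]
  exact le_sup_left

/-- The largest normal `p'`-subgroup is invariant under automorphisms. -/
theorem pprime_core_map {X : Type*} [Group X] [Finite X] {p : ℕ} (O : Subgroup X)
    (hOn : O.Normal) (hOp : ¬ p ∣ Nat.card O)
    (hO : ∀ L : Subgroup X, L.Normal → ¬ p ∣ Nat.card L → L ≤ O) (φ : X ≃* X) :
    O.map φ.toMonoidHom ≤ O := by
  apply hO
  · exact hOn.map _ φ.surjective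
  · rw [Subgroup.card_map_of_injective φ.injective]
    exact hOp

/-- In a group whose order is not divisible by `p ^ 2`, a normal subgroup of order divisible
by `p` contains all elements of order `p`. -/
theorem mem_of_orderOf_eq {X : Type*} [Group X] [Finite X] {p : ℕ} (hp : p.Prime)
    (L : Subgroup X) [L.Normal] (hpL : p ∣ Nat.card L) (hsq : ¬ p * p ∣ Nat.card X) (x : X)
    (hx : orderOf x = p) : x ∈ L := by
  have hcard := Subgroup.card_eq_card_quotient_mul_card_subgroup L
  have hq : ¬ p ∣ Nat.card (X ⧸ L) := by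
    intro h
    apply hsq
    rw [hcard]
    exact Nat.mul_dvd_mul h hpL
  have ho1 : orderOf (QuotientGroup.mk' L x) ∣ p := by
    rw [← hx]
    exact orderOf_map_dvd _ _
  have ho2 : orderOf (QuotientGroup.mk' L x) ∣ Nat.card (X ⧸ L) := orderOf_dvd_natCard _
  have ho3 : orderOf (QuotientGroup.mk' L x) = 1 := by
    rcases (Nat.dvd_prime hp).1 ho1 with h | h
    · exact h
    · exfalso
      rw [h] at ho2
      exact hq ho2
  rw [orderOf_eq_one_iff] at ho3
  exact (QuotientGroup.eq_one_iff x).1 ho3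

end Cfsg.Agent.Lib.Helper7.TP
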