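import Mathlib
import Cfsg.Agent.Lib.Helper7.TPb
import Cfsg.Agent.Lib.Helper7.TPc

/-! Helper7: a group with the order and spectrum of `A_n`, `n ≥ 11`, has a nonabelian simple
section (between normal subgroups) divisible by every prime in `(n/2, n]`. -/

set_option autoImplicit false
set_option linter.unusedSectionVars false
set_option linter.style.haveILetI false

namespace Cfsg.Agent.Lib.Helper7.TP

theorem two_mul_card_alt {n : ℕ} (hn : 2 ≤ n) :
    2 * Nat.card ↥(alternatingGroup (Fin n)) = n.factorial := by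
  haveI : Nontrivial (Fin n) := Fin.nontrivial_iff_two_le.2 hn
  rw [two_mul_nat_card_alternatingGroup, Nat.card_eq_fintype_card, Fintype.card_perm,
    Fintype.card_fin]

theorem prime_dvd_card_alt {n p : ℕ} (hn : 2 ≤ n) (hp : p.Prime) (hp2 : 2 < p) (hpn : p ≤ n) :
    p ∣ Nat.card ↥(alternatingGroup (Fin n)) := by
  have h1 : p ∣ 2 * Nat.card ↥(alternatingGroup (Fin n)) := by
    rw [two_mul_card_alt hn]
    exact (hp.dvd_factorial).2 hpn
  rcases (Nat.Prime.dvd_mul hp).1 h1 with h | h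
  · have := Nat.le_of_dvd (by norm_num) h
    omega
  · exact h

theorem sq_not_dvd_card_alt {n p : ℕ} (hn : 2 ≤ n) (hp : p.Prime) (hpn : p ≤ n)
    (hn2 : n < 2 * p) : ¬ p * p ∣ Nat.card ↥(alternatingGroup (Fin n)) := by
  intro h
  apply sq_not_dvd_factorial hp hpn hn2
  rw [← two_mul_card_alt hn]
  exact h.trans (dvd_mul_left _ 2)

theorem main3420 {G : Type*} [Group G] [Finite G] (n : ℕ) (hn : 11 ≤ n)
    (hcard : Nat.card G = Nat.card ↥(alternatingGroup (Fin n)))
    (hspec : Set.range (orderOf : G → ℕ) =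
      Set.range (orderOf : ↥(alternatingGroup (Fin n)) → ℕ)) :
    ∃ (N H : Subgroup G) (_ : N.Normal), H.Normal ∧ N < H ∧
      IsSimpleGroup (↥H ⧸ N.subgroupOf H) ∧ ¬ IsMulCommutative (↥H ⧸ N.subgroupOf H) ∧
      ∀ p : ℕ, p.Prime → n < 2 * p → p ≤ n → p ∣ Nat.card (↥H ⧸ N.subgroupOf H) := by
  have hπdvd : ∀ p : ℕ, p.Prime → n < 2 * p → p ≤ n → p ∣ Nat.card G := by
    intro p hp h1 h2
    rw [hcard]
    exact prime_dvd_card_alt (by omega) hp (by omega) h2
  have hπsq : ∀ p : ℕ, p.Prime → n < 2 * p → p ≤ n → ¬ p * p ∣ Nat.card G := by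
    intro p hp h1 h2
    rw [hcard]
    exact sq_not_dvd_card_alt (by omega) hp h2 h1
  have hπpq : ∀ p q : ℕ, p.Prime → q.Prime → n < 2 * p → n < 2 * q → p ≠ q →
      ∀ z : G, orderOf z ≠ p * q := by
    intro p q hp hq h1 h2 hpq z hz
    have h3 : p * q ∈ Set.range (orderOf : G → ℕ) := ⟨z, hz⟩
    rw [hspec] at h3
    obtain ⟨σ, hσ⟩ := h3
    exact no_order_pq hp hq hpq (by omega) (σ : Equiv.Perm (Fin n))
      (by rw [Subgroup.orderOf_coe, hσ])
  have hπdiv : ∀ p q : ℕ, p.Prime → q.Prime → n < 2 * p → p ≤ n → n < 2 * q → q ≤ n → p ≠ q →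
      ¬ q ∣ p - 1 := by
    intro p q hp hq h1 h2 h3 h4 hpq
    rintro ⟨t, ht⟩
    have hpodd : p % 2 = 1 := by
      rcases hp.eq_two_or_odd with h | h
      · omega
      · exact h
    have hqodd : q % 2 = 1 := by
      rcases hq.eq_two_or_odd with h | h
      · omega
      · exact h
    have hp1 := hp.one_lt
    rcases Nat.lt_or_ge t 2 with h | h
    · interval_cases t
      · omega
      · omega
    · have h5 := Nat.mul_le_mul_left q h
      omega
  obtain ⟨p₀, q₀, hp₀, hq₀, hqp, hp₀n, hq₀n⟩ :=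
    exists_two_primes n (by omega) (by omega) (by omega)
  have hp₀π : n < 2 * p₀ := by omega
  have hq₀le : q₀ ≤ n := by omega
  haveI : Fact p₀.Prime := ⟨hp₀⟩
  obtain ⟨H, ⟨hHn, hHp⟩, hHmin⟩ := Set.exists_min_image
    {M : Subgroup G | M.Normal ∧ p₀ ∣ Nat.card M} (fun M => Nat.card M) (Set.toFinite _)
    ⟨⊤, inferInstance, by rw [Subgroup.card_top]; exact hπdvd p₀ hp₀ hp₀π hp₀n⟩
  haveI := hHn
  have hHsq : ¬ p₀ * p₀ ∣ Nat.card H := fun h =>
    hπsq p₀ hp₀ hp₀π hp₀n (h.trans (Subgroup.card_subgroup_dvd_card H))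
  obtain ⟨O, hOn, hOp, hOmax⟩ := exists_pprime_core (↥H) hp₀
  haveI := hOn
  obtain ⟨N, hNdef⟩ : ∃ N : Subgroup G, N = O.map H.subtype := ⟨_, rfl⟩
  have hNH : N ≤ H := by
    rw [hNdef]
    exact Subgroup.map_subtype_le O
  have hNO : N.subgroupOf H = O := by
    rw [hNdef]
    exact Subgroup.comap_map_eq_self_of_injective H.subtype_injective O
  have hNcard : Nat.card N = Nat.card O := by
    rw [hNdef]
    exact Subgroup.card_map_of_injective H.subtype_injective
  have hNn : N.Normal := by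
    constructor
    intro m hm g
    rw [hNdef, Subgroup.mem_map] at hm ⊢
    obtain ⟨o, ho, rfl⟩ := hm
    refine ⟨MulAut.conjNormal (H := H) g o, ?_, MulAut.conjNormal_apply g o⟩
    exact pprime_core_map O hOn hOp hOmax (MulAut.conjNormal (H := H) g)
      (Subgroup.mem_map_of_mem _ ho)
  haveI := hNn
  have hNp : ¬ p₀ ∣ Nat.card N := by
    rw [hNcard]
    exact hOp
  have hNlt : N < H := by
    refine lt_of_le_of_ne hNH ?_
    intro h
    rw [h] at hNp
    exact hNp hHp
  have hA : ∀ L : Subgroup ↥H, L.Normal → p₀ ∣ Nat.card L → L = ⊤ := by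
    intro L hLn hpL
    haveI := hLn
    obtain ⟨x, hx⟩ := exists_prime_orderOf_dvd_card' (G := ↥H) p₀ hHp
    have hxC : (x : G) ∈ (L.map H.subtype).normalCore := by
      show ∀ b : G, b * (x : G) * b⁻¹ ∈ L.map H.subtype
      intro b
      have h1 : orderOf (MulAut.conjNormal (H := H) b x) = p₀ := by
        rw [MulEquiv.orderOf_eq, hx]
      have h2 : MulAut.conjNormal (H := H) b x ∈ L := mem_of_orderOf_eq hp₀ L hpL hHsq _ h1
      exact Subgroup.mem_map.2 ⟨_, h2, MulAut.conjNormal_apply b x⟩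
    have hCp : p₀ ∣ Nat.card (L.map H.subtype).normalCore := by
      have h3 : orderOf (⟨(x : G), hxC⟩ : (L.map H.subtype).normalCore) = p₀ := by
        rw [Subgroup.orderOf_mk, Subgroup.orderOf_coe, hx]
      rw [← h3]
      exact orderOf_dvd_natCard _
    have hCle : (L.map H.subtype).normalCore ≤ H :=
      (Subgroup.normalCore_le _).trans (Subgroup.map_subtype_le L)
    have hCcard := hHmin _ ⟨Subgroup.normalCore_normal _, hCp⟩
    have hCeq : (L.map H.subtype).normalCore = H := Subgroup.eq_of_le_of_card_ge hCle hCcard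
    rw [eq_top_iff]
    intro y _
    have h4 : (y : G) ∈ L.map H.subtype := by
      apply Subgroup.normalCore_le
      rw [hCeq]
      exact y.2
    obtain ⟨l, hl, hly⟩ := Subgroup.mem_map.1 h4
    have h5 : l = y := Subtype.ext hly
    rw [← h5]
    exact hl
  have hB : ∀ L : Subgroup ↥H, L.Normal → ¬ p₀ ∣ Nat.card L → L ≤ N.subgroupOf H := by
    intro L hLn hpL
    rw [hNO]
    exact hOmax L hLn hpL
  have hclaim : ∀ q : ℕ, q.Prime → n < 2 * q → q ≤ n →
      q ∣ Nat.card H ∧ ¬ q ∣ Nat.card N := by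
    intro q hq h1 h2
    by_cases hqp₀ : q = p₀
    · rw [hqp₀]
      exact ⟨hHp, hNp⟩
    constructor
    · by_contra hqH
      have hsY : q ∣ H.index := by
        have h3 := H.card_mul_index
        have h4 : q ∣ Nat.card H * H.index := by
          rw [h3]
          exact hπdvd q hq h1 h2
        exact ((Nat.Prime.dvd_mul hq).1 h4).resolve_left hqH
      obtain ⟨z, hz⟩ := exists_order_rs_frattini H hp₀ hq (Ne.symm hqp₀) hHp hHsq hsY
        (hπdiv p₀ q hp₀ hq hp₀π hp₀n h1 h2 (Ne.symm hqp₀))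
      exact hπpq p₀ q hp₀ hq hp₀π h1 (Ne.symm hqp₀) z hz
    · intro hqN
      have hsY : p₀ ∣ N.index := by
        have h3 := N.card_mul_index
        have h4 : p₀ ∣ Nat.card N * N.index := by
          rw [h3]
          exact hπdvd p₀ hp₀ hp₀π hp₀n
        exact ((Nat.Prime.dvd_mul hp₀).1 h4).resolve_left hNp
      have hNsq : ¬ q * q ∣ Nat.card N := fun h =>
        hπsq q hq h1 h2 (h.trans (Subgroup.card_subgroup_dvd_card N))
      obtain ⟨z, hz⟩ := exists_order_rs_frattini N hq hp₀ hqp₀ hqN hNsq hsY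
        (hπdiv q p₀ hq hp₀ h1 h2 hp₀π hp₀n hqp₀)
      exact hπpq q p₀ hq hp₀ h1 hp₀π hqp₀ z hz
  have hQdvd : ∀ q : ℕ, q.Prime → n < 2 * q → q ≤ n →
      q ∣ Nat.card (↥H ⧸ N.subgroupOf H) := by
    intro q hq h1 h2
    obtain ⟨hqH, hqN⟩ := hclaim q hq h1 h2
    have h3 := Subgroup.card_eq_card_quotient_mul_card_subgroup (N.subgroupOf H)
    have h4 : Nat.card (N.subgroupOf H) = Nat.card N := by rw [hNO, hNcard]
    rw [h4] at h3
    have h5 : q ∣ Nat.card (↥H ⧸ N.subgroupOf H) * Nat.card N := by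
      rw [← h3]
      exact hqH
    exact ((Nat.Prime.dvd_mul hq).1 h5).resolve_right hqN
  have hp₀Q := hQdvd p₀ hp₀ hp₀π hp₀n
  have hsimple : IsSimpleGroup (↥H ⧸ N.subgroupOf H) := by
    haveI : Nontrivial (↥H ⧸ N.subgroupOf H) := by
      rw [← Finite.one_lt_card_iff_nontrivial]
      exact lt_of_lt_of_le hp₀.one_lt (Nat.le_of_dvd Nat.card_pos hp₀Q)
    refine ⟨fun Lb hLb => ?_⟩
    haveI := hLb
    have hLn : (Lb.comap (QuotientGroup.mk' (N.subgroupOf H))).Normal := inferInstance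
    by_cases hpL : p₀ ∣ Nat.card (Lb.comap (QuotientGroup.mk' (N.subgroupOf H)))
    · right
      have hLtop := hA _ hLn hpL
      rw [eq_top_iff]
      intro y _
      obtain ⟨x, rfl⟩ := QuotientGroup.mk'_surjective (N.subgroupOf H) y
      have hx : x ∈ Lb.comap (QuotientGroup.mk' (N.subgroupOf H)) := by
        rw [hLtop]
        trivial
      exact hx
    · left
      have hLle := hB _ hLn hpL
      rw [eq_bot_iff]
      intro y hy
      obtain ⟨x, rfl⟩ := QuotientGroup.mk'_surjective (N.subgroupOf H) y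
      have hx : x ∈ Lb.comap (QuotientGroup.mk' (N.subgroupOf H)) := hy
      rw [Subgroup.mem_bot]
      exact (QuotientGroup.eq_one_iff x).2 (hLle hx)
  have hnc : ¬ IsMulCommutative (↥H ⧸ N.subgroupOf H) := by
    intro hc
    letI : CommGroup (↥H ⧸ N.subgroupOf H) :=
      { (inferInstance : Group (↥H ⧸ N.subgroupOf H)) with mul_comm := hc.is_comm.comm }
    have hprime : (Nat.card (↥H ⧸ N.subgroupOf H)).Prime := IsSimpleGroup.prime_card
    have h1 := (Nat.prime_dvd_prime_iff_eq hp₀ hprime).1 hp₀Q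
    have h2 := (Nat.prime_dvd_prime_iff_eq hq₀ hprime).1 (hQdvd q₀ hq₀ hq₀n hq₀le)
    omega
  exact ⟨N, H, hNn, hHn, hNlt, hsimple, hnc, hQdvd⟩

end Cfsg.Agent.Lib.Helper7.TP
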