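import Mathlib
import Cfsg.Prelude.Def_Solvable
import Cfsg.Agent.Lib.Helper1.Fitting
import Cfsg.Agent.Lib.Helper1.FittingCentralizer
import Cfsg.Agent.Lib.Helper1.RT7
import Cfsg.Agent.Lib.Helper7.PCore

/-!
# Squares of elements of order 4 in solvable linear groups over `ZMod 2` are not transvections
-/

set_option linter.style.haveILetI false
set_option linter.unusedSectionVars false
set_option linter.deprecated false

namespace Cfsg.Agent.Lib.Helper7.TV

variable {V : Type*} [AddCommGroup V] [Module (ZMod 2) V]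

/-- the linear automorphisms moving every vector by an element of `U`. -/
def shiftGroup (U : Submodule (ZMod 2) V) : Subgroup (V ≃ₗ[ZMod 2] V) where
  carrier := {g | ∀ v, g v - v ∈ U}
  mul_mem' := by
    intro g h hg hh v
    have h1 : (g * h) v - v = (g (h v) - h v) + (h v - v) := by
      rw [LinearEquiv.mul_apply]
      abel
    rw [h1]
    exact U.add_mem (hg (h v)) (hh v)
  one_mem' := by
    intro v
    simp
  inv_mem' := by
    intro g hg v
    have h1 := hg (g⁻¹ v)
    have h2 : g (g⁻¹ v) = v := by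
      rw [← LinearEquiv.mul_apply, mul_inv_cancel]
      rfl
    rw [h2] at h1
    have h3 : g⁻¹ v - v = -(v - g⁻¹ v) := by abel
    rw [h3]
    exact U.neg_mem h1

theorem mem_shiftGroup {U : Submodule (ZMod 2) V} {g : V ≃ₗ[ZMod 2] V} :
    g ∈ shiftGroup U ↔ ∀ v, g v - v ∈ U := Iff.rfl

theorem shiftGroup_mono {U U' : Submodule (ZMod 2) V} (h : U ≤ U') :
    shiftGroup U ≤ shiftGroup U' := fun _ hg v => h (hg v)

theorem apply_mem {U : Submodule (ZMod 2) V} {g : V ≃ₗ[ZMod 2] V} (hg : g ∈ shiftGroup U)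
    {u : V} (hu : u ∈ U) : g u ∈ U := by
  have h1 : g u = (g u - u) + u := by abel
  rw [h1]
  exact U.add_mem (hg u) hu

theorem sq_eq_one_of_fix {U : Submodule (ZMod 2) V} {g : V ≃ₗ[ZMod 2] V} (hg : g ∈ shiftGroup U)
    (hfix : ∀ u ∈ U, g u = u) : g * g = 1 := by
  apply LinearEquiv.ext
  intro v
  rw [LinearEquiv.mul_apply]
  have h1 : g (g v - v) = g v - v := hfix _ (hg v)
  rw [map_sub] at h1
  -- h1 : g (g v) - g v = g v - v
  have h2 : g (g v) = g v + (g v - v) := by
    rw [← h1]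
    abel
  rw [h2, ZModModule.sub_eq_add, ← add_assoc, ZModModule.add_self, zero_add]
  rfl

theorem eq_one_of_sq_of_odd {G : Type*} [Group G] {g : G} (h2 : g * g = 1) (hodd : Odd (orderOf g)) :
    g = 1 := by
  have h3 : orderOf g ∣ 2 := by
    apply orderOf_dvd_of_pow_eq_one
    rw [pow_two, h2]
  have h4 : (orderOf g).Coprime 2 := Nat.Coprime.symm (Nat.coprime_two_left.2 hodd)
  have h5 : orderOf g = 1 := Nat.Coprime.eq_one_of_dvd h4 h3
  exact orderOf_eq_one_iff.1 h5

/-- the restriction homomorphism to permutations of `U`. -/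
def permHom (K : Subgroup (V ≃ₗ[ZMod 2] V)) (U : Submodule (ZMod 2) V) (hK : K ≤ shiftGroup U) :
    K →* Equiv.Perm U where
  toFun k :=
    { toFun := fun u => ⟨(k : V ≃ₗ[ZMod 2] V) u, apply_mem (hK k.2) u.2⟩
      invFun := fun u => ⟨((k : V ≃ₗ[ZMod 2] V)⁻¹) u, apply_mem (hK (inv_mem k.2)) u.2⟩
      left_inv := by
        intro u
        apply Subtype.ext
        show ((k : V ≃ₗ[ZMod 2] V)⁻¹) ((k : V ≃ₗ[ZMod 2] V) u) = u
        rw [← LinearEquiv.mul_apply, inv_mul_cancel]
        rfl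
      right_inv := by
        intro u
        apply Subtype.ext
        show (k : V ≃ₗ[ZMod 2] V) (((k : V ≃ₗ[ZMod 2] V)⁻¹) u) = u
        rw [← LinearEquiv.mul_apply, mul_inv_cancel]
        rfl }
  map_one' := by
    apply Equiv.ext
    intro u
    apply Subtype.ext
    rfl
  map_mul' := by
    intro k k'
    apply Equiv.ext
    intro u
    apply Subtype.ext
    rfl

theorem card_dvd_factorial [Finite V] (K : Subgroup (V ≃ₗ[ZMod 2] V)) (hodd : Odd (Nat.card K))
    (U : Submodule (ZMod 2) V) (hK : K ≤ shiftGroup U) :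
    Nat.card K ∣ (Nat.card U).factorial := by
  haveI : Finite (V ≃ₗ[ZMod 2] V) :=
    Finite.of_injective (fun g : V ≃ₗ[ZMod 2] V => (g : V → V)) DFunLike.coe_injective
  have hinj : Function.Injective (permHom K U hK) := by
    rw [injective_iff_map_eq_one]
    intro k hk
    have hfix : ∀ u ∈ U, (k : V ≃ₗ[ZMod 2] V) u = u := by
      intro u hu
      have h1 := congrArg (fun σ : Equiv.Perm U => ((σ ⟨u, hu⟩ : U) : V)) hk
      exact h1
    have h2 : (k : V ≃ₗ[ZMod 2] V) * (k : V ≃ₗ[ZMod 2] V) = 1 := sq_eq_one_of_fix (hK k.2) hfix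
    have h3 : k * k = 1 := Subtype.ext h2
    have h4 : Odd (orderOf k) := Odd.of_dvd_nat hodd (orderOf_dvd_natCard k)
    exact eq_one_of_sq_of_odd h3 h4
  have h1 := Subgroup.card_dvd_of_injective (permHom K U hK) hinj
  rwa [Nat.card_perm] at h1

theorem card_span_pair_le [Finite V] (a b : V) :
    Nat.card (Submodule.span (ZMod 2) ({a, b} : Set V)) ≤ 4 := by
  have hs : Function.Surjective (fun c : ZMod 2 × ZMod 2 =>
      (⟨c.1 • a + c.2 • b, Submodule.mem_span_pair.2 ⟨c.1, c.2, rfl⟩⟩ :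
        Submodule.span (ZMod 2) ({a, b} : Set V))) := by
    rintro ⟨w, hw⟩
    obtain ⟨α, β, h⟩ := Submodule.mem_span_pair.1 hw
    exact ⟨(α, β), Subtype.ext h⟩
  have h1 := Nat.card_le_card_of_surjective _ hs
  rwa [Nat.card_prod, Nat.card_zmod] at h1

theorem card_span_triple_le [Finite V] (a b c : V) :
    Nat.card (Submodule.span (ZMod 2) ({a, b, c} : Set V)) ≤ 8 := by
  have hs : Function.Surjective (fun d : ZMod 2 × ZMod 2 × ZMod 2 =>
      (⟨d.1 • a + d.2.1 • b + d.2.2 • c, Submodule.mem_span_triple.2 ⟨d.1, d.2.1, d.2.2, rfl⟩⟩ :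
        Submodule.span (ZMod 2) ({a, b, c} : Set V))) := by
    rintro ⟨w, hw⟩
    obtain ⟨α, β, γ, h⟩ := Submodule.mem_span_triple.1 hw
    exact ⟨(α, β, γ), Subtype.ext h⟩
  have h1 := Nat.card_le_card_of_surjective _ hs
  rwa [Nat.card_prod, Nat.card_prod, Nat.card_zmod] at h1

theorem conj_mem_shiftGroup {a : V} {g z : V ≃ₗ[ZMod 2] V}
    (hg : g ∈ shiftGroup (Submodule.span (ZMod 2) ({a} : Set V))) :
    z⁻¹ * g * z ∈ shiftGroup (Submodule.span (ZMod 2) ({z⁻¹ a} : Set V)) := by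
  intro v
  have h1 : (z⁻¹ * g * z) v - v = z⁻¹ (g (z v) - z v) := by
    rw [LinearEquiv.mul_apply, LinearEquiv.mul_apply, map_sub]
    congr 1
    rw [← LinearEquiv.mul_apply, inv_mul_cancel]
    rfl
  rw [h1]
  obtain ⟨α, hα⟩ := Submodule.mem_span_singleton.1 (hg (z v))
  rw [← hα, map_smul]
  exact Submodule.smul_mem _ _ (Submodule.subset_span rfl)

/-- the key lemma on an odd-order element inverted by a transvection-like involution. -/
theorem key_M [Finite V] (t z : V ≃ₗ[ZMod 2] V) (a : V)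
    (ht : t ∈ shiftGroup (Submodule.span (ZMod 2) ({a} : Set V)))
    (htt : t * t = 1) (hinv : t * z * t⁻¹ = z⁻¹) (hodd : Odd (orderOf z)) (hz : z ≠ 1) :
    z ∈ shiftGroup (Submodule.span (ZMod 2) ({a, z⁻¹ a} : Set V)) ∧ orderOf z = 3 ∧ z a ≠ a := by
  have ht' : t⁻¹ = t := inv_eq_of_mul_eq_one_left htt
  have h1 : t * z⁻¹ * t⁻¹ = z := by
    have : t * z⁻¹ * t⁻¹ = (t * z * t⁻¹)⁻¹ := by group
    rw [this, hinv, inv_inv]
  have hg : z * z = t * (z⁻¹ * t * z) := by
    have : t * (z⁻¹ * t * z) = (t * z⁻¹ * t⁻¹) * z := by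
      rw [ht']
      group
    rw [this, h1]
  have hU1 : Submodule.span (ZMod 2) ({a} : Set V) ≤
      Submodule.span (ZMod 2) ({a, z⁻¹ a} : Set V) := by
    apply Submodule.span_mono
    intro w hw
    rw [Set.mem_singleton_iff] at hw
    rw [hw]
    exact Set.mem_insert _ _
  have hU2 : Submodule.span (ZMod 2) ({z⁻¹ a} : Set V) ≤
      Submodule.span (ZMod 2) ({a, z⁻¹ a} : Set V) := by
    apply Submodule.span_mono
    intro w hw
    rw [Set.mem_singleton_iff] at hw
    rw [hw]
    exact Set.mem_insert_of_mem _ rfl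
  have hgU : z * z ∈ shiftGroup (Submodule.span (ZMod 2) ({a, z⁻¹ a} : Set V)) := by
    rw [hg]
    exact mul_mem (shiftGroup_mono hU1 ht) (shiftGroup_mono hU2 (conj_mem_shiftGroup ht))
  have hzU : z ∈ shiftGroup (Submodule.span (ZMod 2) ({a, z⁻¹ a} : Set V)) := by
    obtain ⟨k, hk⟩ := hodd
    have h2 : (z * z) ^ (k + 1) = z := by
      rw [← pow_two, ← pow_mul]
      have : 2 * (k + 1) = orderOf z + 1 := by omega
      rw [this, pow_succ, pow_orderOf_eq_one, one_mul]
    have h3 := pow_mem hgU (k + 1)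
    rwa [h2] at h3
  have hne1 : orderOf z ≠ 1 := fun h => hz (orderOf_eq_one_iff.1 h)
  refine ⟨hzU, ?_, ?_⟩
  · have hK : Subgroup.zpowers z ≤ shiftGroup (Submodule.span (ZMod 2) ({a, z⁻¹ a} : Set V)) :=
      Subgroup.zpowers_le.2 hzU
    have hcard : Nat.card (Subgroup.zpowers z) = orderOf z := Nat.card_zpowers z
    have h2 := card_dvd_factorial (Subgroup.zpowers z) (by rw [hcard]; exact hodd) _ hK
    rw [hcard] at h2
    have h3 : orderOf z ∣ Nat.factorial 4 :=
      dvd_trans h2 (Nat.factorial_dvd_factorial (card_span_pair_le a (z⁻¹ a)))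
    have h4 : orderOf z ∣ 8 * 3 := by
      have : Nat.factorial 4 = 8 * 3 := by decide
      rwa [this] at h3
    have h5 : (orderOf z).Coprime 8 := by
      have : (orderOf z).Coprime 2 := Nat.Coprime.symm (Nat.coprime_two_left.2 hodd)
      exact Nat.Coprime.pow_right 3 this
    have h6 : orderOf z ∣ 3 := Nat.Coprime.dvd_of_dvd_mul_left h5 h4
    rcases (Nat.dvd_prime Nat.prime_three).1 h6 with h | h
    · exact absurd h hne1
    · exact h
  · intro hza
    have hza' : z⁻¹ a = a := by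
      have h7 : z⁻¹ (z a) = z⁻¹ a := congrArg (⇑z⁻¹) hza
      rw [← LinearEquiv.mul_apply, inv_mul_cancel] at h7
      exact h7.symm
    have hfix : ∀ u ∈ Submodule.span (ZMod 2) ({a, z⁻¹ a} : Set V), z u = u := by
      intro u hu
      obtain ⟨α, β, h⟩ := Submodule.mem_span_pair.1 hu
      rw [← h, map_add, map_smul, map_smul, hza', hza]
    exact hz (eq_one_of_sq_of_odd (sq_eq_one_of_fix hzU hfix) hodd)

end Cfsg.Agent.Lib.Helper7.TV
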