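import Mathlib
import Cfsg.Prelude.Def_Solvable
import Cfsg.Agent.Lib.Helper1.Fitting
import Cfsg.Agent.Lib.Helper1.FittingCentralizer
import Cfsg.Agent.Lib.Helper1.RT7
import Cfsg.Agent.Lib.Helper7.PCore
import Cfsg.Agent.Lib.Helper7.TV1

/-!
# Squares of elements of order 4 in solvable linear groups over `ZMod 2` with `O₂ = 1`
are not transvections
-/

set_option linter.style.haveILetI false
set_option linter.unusedSectionVars false
set_option linter.deprecated false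

namespace Cfsg.Agent.Lib.Helper7.TV

open Cfsg

section GroupPart

variable {G : Type*} [Group G] [Finite G]

/-- an involution of a solvable group with `O₂ = 1` inverts a nontrivial element of some `O_r`,
`r` odd. -/
theorem exists_inverted [Group.IsSolvable G] (hO2 : Cfsg.pCore 2 G = ⊥) (t : G) (htt : t * t = 1)
    (ht1 : t ≠ 1) :
    ∃ r : ℕ, r.Prime ∧ r ≠ 2 ∧ ∃ x ∈ Cfsg.pCore r G, x ≠ 1 ∧ t * x * t⁻¹ = x⁻¹ := by
  have ht' : t⁻¹ = t := inv_eq_of_mul_eq_one_left htt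
  haveI hFn : (Cfsg.fittingSubgroup G).Normal := Cfsg.Agent.Lib.Helper1.fittingSubgroup_normal
  have hnc : t ∉ Subgroup.centralizer (Cfsg.fittingSubgroup G : Set G) := by
    intro hc
    have hF : t ∈ Cfsg.fittingSubgroup G :=
      Cfsg.Agent.Lib.Helper1.centralizer_fittingSubgroup_le hc
    let A : Subgroup G :=
      { carrier := {z | z ∈ Cfsg.fittingSubgroup G ∧
          z ∈ Subgroup.centralizer (Cfsg.fittingSubgroup G : Set G) ∧ z * z = 1}
        mul_mem' := by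
          rintro z w ⟨hzF, hzC, hz2⟩ ⟨hwF, hwC, hw2⟩
          refine ⟨mul_mem hzF hwF, mul_mem hzC hwC, ?_⟩
          have hcomm : w * z = z * w := Subgroup.mem_centralizer_iff.1 hzC w hwF
          calc z * w * (z * w) = z * (w * z) * w := by group
            _ = z * (z * w) * w := by rw [hcomm]
            _ = (z * z) * (w * w) := by group
            _ = 1 := by rw [hz2, hw2, one_mul]
        one_mem' := ⟨one_mem _, one_mem _, one_mul 1⟩
        inv_mem' := by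
          rintro z ⟨hzF, hzC, hz2⟩
          refine ⟨inv_mem hzF, inv_mem hzC, ?_⟩
          have : z⁻¹ = z := inv_eq_of_mul_eq_one_left hz2
          rw [this, hz2] }
    have hAn : A.Normal := by
      constructor
      rintro n ⟨hnF, hnC, hn2⟩ g
      refine ⟨hFn.conj_mem n hnF g, (Subgroup.normal_centralizer).conj_mem n hnC g, ?_⟩
      calc g * n * g⁻¹ * (g * n * g⁻¹) = g * (n * n) * g⁻¹ := by group
        _ = 1 := by rw [hn2, mul_one, mul_inv_cancel]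
    have hAp : IsPGroup 2 A := by
      rintro ⟨z, hzF, hzC, hz2⟩
      refine ⟨1, ?_⟩
      apply Subtype.ext
      show z ^ (2 ^ 1) = 1
      rw [pow_one, pow_two, hz2]
    have hle : A ≤ Cfsg.pCore 2 G := Cfsg.Agent.Lib.Helper7.le_pCore hAn hAp
    have htA : t ∈ A := ⟨hF, hc, htt⟩
    have := hle htA
    rw [hO2, Subgroup.mem_bot] at this
    exact ht1 this
  have hex : ∃ r : Nat.Primes, t ∉ Subgroup.centralizer (Cfsg.pCore (r : ℕ) G : Set G) := by
    by_contra hall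
    apply hnc
    apply Cfsg.Agent.Lib.Helper1.RT.mem_centralizer_fitting_of_forall
    intro r
    by_contra hr
    exact hall ⟨r, hr⟩
  obtain ⟨r, hr⟩ := hex
  have hr2 : (r : ℕ) ≠ 2 := by
    intro h2
    apply hr
    rw [h2, hO2, Subgroup.mem_centralizer_iff]
    intro h hh
    have : h = 1 := hh
    rw [this, one_mul, mul_one]
  have hey : ∃ y ∈ Cfsg.pCore (r : ℕ) G, y * t ≠ t * y := by
    by_contra hall
    apply hr
    rw [Subgroup.mem_centralizer_iff]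
    intro y hy
    by_contra hne
    exact hall ⟨y, hy, hne⟩
  obtain ⟨y, hy, hyt⟩ := hey
  have hRn : (Cfsg.pCore (r : ℕ) G).Normal := Cfsg.Agent.Lib.Helper7.pCore_normal _ G
  refine ⟨r, r.2, hr2, y⁻¹ * (t * y * t⁻¹), mul_mem (inv_mem hy) (hRn.conj_mem y hy t), ?_, ?_⟩
  · intro h1
    apply hyt
    have h2 : t * y * t⁻¹ = y := by
      have := congrArg (fun w => y * w) h1
      simp only [mul_inv_cancel_left, mul_one] at this
      exact this
    have h3 : t * y = y * t := mul_inv_eq_iff_eq_mul.1 h2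
    exact h3.symm
  · have e1 : t * (y⁻¹ * (t * y * t⁻¹)) * t⁻¹ = t * y⁻¹ * t * y * (t⁻¹ * t⁻¹) := by group
    have e2 : (y⁻¹ * (t * y * t⁻¹))⁻¹ = t * y⁻¹ * t⁻¹ * y := by group
    rw [e1, e2, ht', htt, mul_one]

end GroupPart

theorem zmod3_sq_add_one_ne_zero : ∀ c : ZMod 3, c * c + 1 ≠ 0 := by decide

variable {V : Type*} [AddCommGroup V] [Module (ZMod 2) V]

/-- the main lemma. -/
theorem no_transvection_square [Finite V] (S : Subgroup (V ≃ₗ[ZMod 2] V))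
    (hS : Group.IsSolvable ↥S) (hO2 : Cfsg.pCore 2 ↥S = ⊥) (P : V ≃ₗ[ZMod 2] V) (hPS : P ∈ S)
    (hP4 : orderOf P = 4) (a : V)
    (ha : P * P ∈ shiftGroup (Submodule.span (ZMod 2) ({a} : Set V))) : False := by
  haveI : Finite (V ≃ₗ[ZMod 2] V) :=
    Finite.of_injective (fun g : V ≃ₗ[ZMod 2] V => (g : V → V)) DFunLike.coe_injective
  haveI : Finite ↥S := inferInstance
  obtain ⟨P0, hP0⟩ : ∃ P0 : ↥S, P0 = ⟨P, hPS⟩ := ⟨_, rfl⟩
  have hP0v : (P0 : V ≃ₗ[ZMod 2] V) = P := by rw [hP0]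
  have hP4' : P ^ 4 = 1 := by
    rw [← hP4]
    exact pow_orderOf_eq_one P
  obtain ⟨t0, ht0⟩ : ∃ t0 : ↥S, t0 = P0 * P0 := ⟨_, rfl⟩
  have htt0 : t0 * t0 = 1 := by
    rw [ht0]
    apply Subtype.ext
    show (P0 : V ≃ₗ[ZMod 2] V) * P0 * ((P0 : V ≃ₗ[ZMod 2] V) * P0) = 1
    rw [hP0v, ← hP4']
    simp only [pow_succ, pow_zero, one_mul, mul_assoc]
  have ht10 : t0 ≠ 1 := by
    intro h
    rw [ht0] at h
    have h1 : P * P = 1 := by
      have := congrArg Subtype.val h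
      rw [← hP0v]
      exact this
    have h2 : orderOf P ∣ 2 := by
      apply orderOf_dvd_of_pow_eq_one
      rw [pow_two, h1]
    rw [hP4] at h2
    omega
  have ha0 : ((t0 : ↥S) : V ≃ₗ[ZMod 2] V) ∈
      shiftGroup (Submodule.span (ZMod 2) ({a} : Set V)) := by
    rw [ht0]
    show (P0 : V ≃ₗ[ZMod 2] V) * P0 ∈ _
    rw [hP0v]
    exact ha
  obtain ⟨r, hr, hr2, x0, hx0R, hx01, hx0inv⟩ := exists_inverted hO2 t0 htt0 ht10
  haveI : Fact r.Prime := ⟨hr⟩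
  have hRp : IsPGroup r (Cfsg.pCore r ↥S) := Cfsg.Agent.Lib.Helper7.pCore_isPGroup r _
  have hoddr : Odd r := hr.odd_of_ne_two hr2
  have M : ∀ y0 : ↥S, y0 ∈ Cfsg.pCore r ↥S → y0 ≠ 1 → t0 * y0 * t0⁻¹ = y0⁻¹ →
      (y0 : V ≃ₗ[ZMod 2] V) ∈ shiftGroup (Submodule.span (ZMod 2)
        ({a, (y0 : V ≃ₗ[ZMod 2] V)⁻¹ a} : Set V)) ∧ orderOf y0 = 3 ∧
        (y0 : V ≃ₗ[ZMod 2] V) a ≠ a := by
    intro y0 hy0 hy1 hyinv
    obtain ⟨k, hk⟩ := hRp ⟨y0, hy0⟩
    have hk' : y0 ^ (r ^ k) = 1 := by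
      have := congrArg Subtype.val hk
      exact this
    have hord : Odd (orderOf y0) :=
      Odd.of_dvd_nat (hoddr.pow) (orderOf_dvd_of_pow_eq_one hk')
    have hordc : orderOf (y0 : V ≃ₗ[ZMod 2] V) = orderOf y0 := Subgroup.orderOf_coe y0
    have h := key_M ((t0 : ↥S) : V ≃ₗ[ZMod 2] V) (y0 : V ≃ₗ[ZMod 2] V) a ha0
      (congrArg Subtype.val htt0) (congrArg Subtype.val hyinv) (by rw [hordc]; exact hord)
      (fun h => hy1 (Subtype.ext h))
    rw [hordc] at h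
    exact h
  obtain ⟨hxU, hx3, hxa⟩ := M x0 hx0R hx01 hx0inv
  have hr3 : r = 3 := by
    obtain ⟨k, hk⟩ := hRp ⟨x0, hx0R⟩
    have hk' : x0 ^ (r ^ k) = 1 := congrArg Subtype.val hk
    have h1 : 3 ∣ r ^ k := by
      rw [← hx3]
      exact orderOf_dvd_of_pow_eq_one hk'
    have h2 : 3 ∣ r := Nat.Prime.dvd_of_dvd_pow Nat.prime_three h1
    exact ((Nat.prime_dvd_prime_iff_eq Nat.prime_three hr).1 h2).symm
  subst hr3
  have hRn : (Cfsg.pCore 3 ↥S).Normal := Cfsg.Agent.Lib.Helper7.pCore_normal _ _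
  have hx0'R : P0 * x0 * P0⁻¹ ∈ Cfsg.pCore 3 ↥S := hRn.conj_mem x0 hx0R P0
  have hx0'1 : P0 * x0 * P0⁻¹ ≠ 1 := fun h => hx01 (conj_eq_one_iff.1 h)
  have hx0'inv : t0 * (P0 * x0 * P0⁻¹) * t0⁻¹ = (P0 * x0 * P0⁻¹)⁻¹ := by
    have e1 : t0 * (P0 * x0 * P0⁻¹) * t0⁻¹ = P0 * (t0 * x0 * t0⁻¹) * P0⁻¹ := by
      rw [ht0]
      group
    rw [e1, hx0inv]
    group
  obtain ⟨hx'U, hx'3, hx'a⟩ := M (P0 * x0 * P0⁻¹) hx0'R hx0'1 hx0'inv
  obtain ⟨x0', hx0'⟩ : ∃ x0' : ↥S, x0' = P0 * x0 * P0⁻¹ := ⟨_, rfl⟩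
  rw [← hx0'] at hx0'R hx0'1 hx0'inv hx'U hx'3 hx'a
  -- the subgroup generated by x0, x0'
  obtain ⟨K0, hK0⟩ : ∃ K0 : Subgroup ↥S, K0 = Subgroup.closure ({x0, x0'} : Set ↥S) := ⟨_, rfl⟩
  have hx0K : x0 ∈ K0 := by
    rw [hK0]
    exact Subgroup.subset_closure (Set.mem_insert _ _)
  have hx0'K : x0' ∈ K0 := by
    rw [hK0]
    exact Subgroup.subset_closure (Set.mem_insert_of_mem _ rfl)
  have hK0R : K0 ≤ Cfsg.pCore 3 ↥S := by
    rw [hK0, Subgroup.closure_le]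
    rintro y (rfl | rfl)
    · exact hx0R
    · exact hx0'R
  have hK0p : IsPGroup 3 K0 := hRp.to_le hK0R
  obtain ⟨U', hU'⟩ : ∃ U' : Submodule (ZMod 2) V, U' = Submodule.span (ZMod 2)
      ({a, (x0 : V ≃ₗ[ZMod 2] V)⁻¹ a, (x0' : V ≃ₗ[ZMod 2] V)⁻¹ a} : Set V) := ⟨_, rfl⟩
  have haU' : a ∈ U' := by
    rw [hU']
    exact Submodule.subset_span (Set.mem_insert _ _)
  have hU1 : Submodule.span (ZMod 2) ({a, (x0 : V ≃ₗ[ZMod 2] V)⁻¹ a} : Set V) ≤ U' := by
    rw [hU']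
    apply Submodule.span_mono
    exact Set.insert_subset_insert (Set.singleton_subset_iff.2 (Set.mem_insert _ _))
  have hU2 : Submodule.span (ZMod 2) ({a, (x0' : V ≃ₗ[ZMod 2] V)⁻¹ a} : Set V) ≤ U' := by
    rw [hU']
    apply Submodule.span_mono
    exact Set.insert_subset_insert (Set.subset_insert _ _)
  have hKU : K0.map S.subtype ≤ shiftGroup U' := by
    rw [Subgroup.map_le_iff_le_comap, hK0, Subgroup.closure_le]
    rintro y (rfl | rfl)
    · exact shiftGroup_mono hU1 hxU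
    · exact shiftGroup_mono hU2 hx'U
  have hcardmap : Nat.card (K0.map S.subtype) = Nat.card K0 :=
    Subgroup.card_map_of_injective S.subtype_injective
  haveI : Fact (Nat.Prime 3) := ⟨Nat.prime_three⟩
  obtain ⟨j, hj⟩ := IsPGroup.iff_card.1 hK0p
  have hodd : Odd (Nat.card (K0.map S.subtype)) := by
    rw [hcardmap, hj]
    exact Odd.pow (by decide)
  have hdvd := card_dvd_factorial _ hodd U' hKU
  rw [hcardmap, hj] at hdvd
  have hU'8 : Nat.card U' ≤ 8 := by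
    rw [hU']
    exact card_span_triple_le _ _ _
  have hdvd8 : 3 ^ j ∣ Nat.factorial 8 := dvd_trans hdvd (Nat.factorial_dvd_factorial hU'8)
  have hj2 : j ≤ 2 := by
    by_contra h
    have h3 : 3 ≤ j := by omega
    have h27 : 3 ^ 3 ∣ Nat.factorial 8 := dvd_trans (pow_dvd_pow 3 h3) hdvd8
    revert h27
    decide
  have hzle : Subgroup.zpowers x0 ≤ K0 := Subgroup.zpowers_le.2 hx0K
  have hzcard : Nat.card (Subgroup.zpowers x0) = 3 := by rw [Nat.card_zpowers, hx3]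
  have hj0 : j ≠ 0 := by
    intro h0
    have h1 : Nat.card (Subgroup.zpowers x0) ∣ Nat.card K0 := Subgroup.card_dvd_of_le hzle
    rw [hzcard, hj, h0, pow_zero] at h1
    omega
  have hj' : j = 1 ∨ j = 2 := by omega
  rcases hj' with hj1 | hj2'
  · -- K0 = ⟨x0⟩
    have hzp : Subgroup.zpowers x0 = K0 := by
      apply Subgroup.eq_of_le_of_card_ge hzle
      rw [hzcard, hj, hj1, pow_one]
    have hmem : x0' ∈ Subgroup.zpowers x0 := by
      rw [hzp]
      exact hx0'K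
    obtain ⟨i, hi⟩ := Subgroup.mem_zpowers_iff.1 hmem
    have h1 : P0 * x0' * P0⁻¹ = x0⁻¹ := by
      have e : P0 * x0' * P0⁻¹ = t0 * x0 * t0⁻¹ := by
        rw [hx0', ht0]
        group
      rw [e]
      exact hx0inv
    have h2 : P0 * x0' * P0⁻¹ = x0 ^ (i * i) := by
      rw [← hi, ← conj_zpow, ← hx0', ← hi, ← zpow_mul]
    have h3 : x0 ^ (i * i + 1) = 1 := by
      rw [zpow_add, zpow_one, ← h2, h1, inv_mul_cancel]
    have h4 : ((orderOf x0 : ℕ) : ℤ) ∣ i * i + 1 := orderOf_dvd_iff_zpow_eq_one.2 h3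
    rw [hx3] at h4
    have h5 : ((i * i + 1 : ℤ) : ZMod 3) = 0 := (ZMod.intCast_zmod_eq_zero_iff_dvd _ 3).2 h4
    push_cast at h5
    exact zmod3_sq_add_one_ne_zero _ h5
  · -- card K0 = 9
    have hj9 : Nat.card K0 = 3 ^ 2 := by rw [hj, hj2']
    have hcomm : ∀ u w : K0, u * w = w * u := IsPGroup.commutative_of_card_eq_prime_sq hj9
    have hall : ∀ y ∈ K0, t0 * y * t0⁻¹ = y⁻¹ := by
      intro y hy
      rw [hK0] at hy
      induction hy using Subgroup.closure_induction with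
      | mem y hy =>
        rcases hy with rfl | rfl
        · exact hx0inv
        · exact hx0'inv
      | one => group
      | mul y1 y2 h1 h2 ih1 ih2 =>
        have hc : y1 * y2 = y2 * y1 :=
          congrArg Subtype.val (hcomm ⟨y1, hK0 ▸ h1⟩ ⟨y2, hK0 ▸ h2⟩)
        calc t0 * (y1 * y2) * t0⁻¹
            = (t0 * y1 * t0⁻¹) * (t0 * y2 * t0⁻¹) := by group
          _ = y1⁻¹ * y2⁻¹ := by rw [ih1, ih2]
          _ = (y1 * y2)⁻¹ := by rw [hc, mul_inv_rev]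
      | inv y h ih =>
        calc t0 * y⁻¹ * t0⁻¹ = (t0 * y * t0⁻¹)⁻¹ := by group
          _ = (y⁻¹)⁻¹ := by rw [ih]
    have hmemU : ∀ y : K0, ((y : ↥S) : V ≃ₗ[ZMod 2] V) a ∈ U' :=
      fun y => apply_mem (hKU (Subgroup.mem_map_of_mem _ y.2)) haU'
    have hinj : Function.Injective (fun y : K0 => (⟨((y : ↥S) : V ≃ₗ[ZMod 2] V) a, hmemU y⟩ : U')) := by
      intro y1 y2 h
      have h1 : ((y1 : ↥S) : V ≃ₗ[ZMod 2] V) a = ((y2 : ↥S) : V ≃ₗ[ZMod 2] V) a :=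
        congrArg Subtype.val h
      by_contra hne
      have hyK : (y2 : ↥S)⁻¹ * (y1 : ↥S) ∈ K0 := mul_mem (inv_mem y2.2) y1.2
      have hy1 : (y2 : ↥S)⁻¹ * (y1 : ↥S) ≠ 1 := by
        intro h2
        apply hne
        apply Subtype.ext
        have := inv_mul_eq_one.1 h2
        exact this.symm
      have h3 := (M _ (hK0R hyK) hy1 (hall _ hyK)).2.2
      apply h3
      show (((y2 : ↥S) : V ≃ₗ[ZMod 2] V)⁻¹ * ((y1 : ↥S) : V ≃ₗ[ZMod 2] V)) a = a
      rw [LinearEquiv.mul_apply, h1, ← LinearEquiv.mul_apply, inv_mul_cancel]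
      rfl
    have h9 := Nat.card_le_card_of_injective _ hinj
    rw [hj9] at h9
    omega

end Cfsg.Agent.Lib.Helper7.TV
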