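import Cfsg.Agent.Lib.Helper7.ThompsonFunctor3

/-!
# Thompson's normal `p`-complement argument with the hypothesis "`N(W(S))/C(W(S))` is a `p`-group"
-/

set_option autoImplicit false

namespace Cfsg.Agent.Lib.Helper7

open Cfsg
open scoped Pointwise

universe u

section

variable {X : Type*} [Group X]

/-- The `p'`-elements of `M` centralize `U`. -/
def PC (p : ℕ) (M U : Subgroup X) : Prop :=
  ∀ g ∈ M, (orderOf g).Coprime p → g ∈ Subgroup.centralizer (U : Set X)

theorem PC.mono {p : ℕ} {M₁ M₂ U : Subgroup X} (h : PC p M₂ U) (hle : M₁ ≤ M₂) : PC p M₁ U :=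
  fun g hg => h g (hle hg)

theorem pc_of_pn [Finite X] {p : ℕ} [Fact p.Prime] {M U : Subgroup X} (h : PN p M)
    (hUM : U ≤ M) (hU : IsPGroup p ↥U) (hMU : M ≤ Subgroup.normalizer (U : Set X)) :
    PC p M U :=
  fun _ hg hgo => h.centralizes hUM hU hg (hMU hg) hgo

end

/-- "If `Y` is constrained, `Y/O_p(Y)` is `p`-nilpotent and the Sylow `p`-subgroup `T` of `Y` is
a maximal subgroup or is normal, then `W(T)` is normal in `Y` and no nontrivial `p'`-element
centralizes it." -/
def MaxSylowFaithful (W : ∀ (Q : Type u) [Group Q], Subgroup Q) (p : ℕ) (Y : Type u)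
    [Group Y] : Prop :=
  Finite Y → Subgroup.centralizer ((pCore p Y : Subgroup Y) : Set Y) ≤ pCore p Y →
    HasNormalPComplement p (Y ⧸ pCore p Y) →
    ∀ T : Subgroup Y, IsPGroup p ↥T → ¬ p ∣ T.index → (IsCoatom T ∨ T.Normal) →
      (inducedFunctor (G := Y) W T).Normal ∧
        ∀ d : Y, (orderOf d).Coprime p →
          d ∈ Subgroup.centralizer ((inducedFunctor (G := Y) W T : Subgroup Y) : Set Y) → d = 1

theorem maxSylowFaithful_of_mulEquiv {W : ∀ (Q : Type u) [Group Q], Subgroup Q} {p : ℕ}
    [Fact p.Prime] (hW : IsCharPFunctor.{u} p W) (Y Z : Type u) [Group Y] [Group Z] (e : Y ≃* Z)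
    (h : MaxSylowFaithful W p Y) : MaxSylowFaithful W p Z := by
  intro hZ hcon hnil T hTp hTidx hTco
  haveI : Finite Y := Finite.of_equiv Z e.symm.toEquiv
  set T' : Subgroup Y := T.map e.symm.toMonoidHom with hT'
  have hT'p : IsPGroup p ↥T' := hTp.map _
  have hT'idx : ¬ p ∣ T'.index := by
    rw [hT']
    have := Subgroup.index_map_equiv (H := T) e.symm
    rw [show (e.symm.toMonoidHom : Z →* Y) = ((e.symm : Z ≃* Y) : Z →* Y) from rfl, this]
    exact hTidx
  have hT'co : IsCoatom T' ∨ T'.Normal := by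
    rcases hTco with hTco | hTn
    · left
      have := (OrderIso.isCoatom_iff (MulEquiv.mapSubgroup e.symm) T).mpr hTco
      exact this
    · right
      exact Subgroup.Normal.map hTn _ e.symm.surjective
  have hq : (Y ⧸ pCore p Y) ≃* (Z ⧸ pCore p Z) :=
    QuotientGroup.congr (pCore p Y) (pCore p Z) e (pCore_map_mulEquiv p e)
  obtain ⟨h1, h1'⟩ := h inferInstance (charP_of_mulEquiv e.symm hcon)
    (hasNormalPComplement_of_mulEquiv hq.symm hnil) T' hT'p hT'idx hT'co
  have hmap : T'.map e.toMonoidHom = T := by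
    rw [hT', Subgroup.map_map]
    have : e.toMonoidHom.comp e.symm.toMonoidHom = MonoidHom.id Z := by
      ext z; simp
    rw [this, Subgroup.map_id]
  have h2 := inducedFunctor_map_of_injective hW e.toMonoidHom e.injective T' hT'p
  rw [hmap] at h2
  rw [← h2]
  refine ⟨Subgroup.Normal.map h1 _ e.surjective, ?_⟩
  intro d hdc hd
  have h3 : e.symm d = 1 := by
    apply h1' (e.symm d)
    · rw [MulEquiv.orderOf_eq]; exact hdc
    · rw [Subgroup.mem_centralizer_iff] at hd ⊢
      intro u hu
      have := hd (e u) (Subgroup.mem_map_of_mem e.toMonoidHom hu)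
      have h4 := congrArg e.symm this
      simpa using h4
  simpa using congrArg e h3

variable {W : ∀ (Q : Type u) [Group Q], Subgroup Q} {p : ℕ} [Fact p.Prime]
  {X : Type u} [Group X] [Finite X]

/-- The centralizing hypothesis for the normalizers `N(W(S))` passes to the quotient by a normal
`p'`-subgroup. -/
theorem pc_normalizer_quotient_coprime (hW : IsCharPFunctor.{u} p W) (O : Subgroup X) [O.Normal]
    (hO : (Nat.card ↥O).Coprime p)
    (ha : ∀ S : Sylow p X,
      PC p (Subgroup.normalizer ((inducedFunctor (G := X) W (S : Subgroup X) : Subgroup X) : Set X))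
        (inducedFunctor (G := X) W (S : Subgroup X))) :
    ∀ Sb : Sylow p (X ⧸ O),
      PC p (Subgroup.normalizer
        ((inducedFunctor (G := X ⧸ O) W (Sb : Subgroup (X ⧸ O)) : Subgroup (X ⧸ O)) :
          Set (X ⧸ O))) (inducedFunctor (G := X ⧸ O) W (Sb : Subgroup (X ⧸ O))) := by
  intro Sb
  set π : X →* X ⧸ O := QuotientGroup.mk' O with hπ
  have hπs : Function.Surjective π := QuotientGroup.mk'_surjective O
  have hker : π.ker = O := QuotientGroup.ker_mk' O
  obtain ⟨S, rfl⟩ := Sylow.mapSurjective_surjective hπs p Sb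
  rw [Sylow.coe_mapSurjective]
  have hSp : IsPGroup p ↥(S : Subgroup X) := S.isPGroup'
  have hinj : ∀ a ∈ (S : Subgroup X), π a = 1 → a = 1 := by
    intro a ha h1
    apply sylow_inf_eq_bot_of_coprime S hO a ha
    rw [← hker]; exact h1
  have hmap := inducedFunctor_map_of_injOn hW π (S : Subgroup X) hSp hinj
  rw [← hmap]
  set U : Subgroup X := inducedFunctor (G := X) W (S : Subgroup X) with hU
  have hUp : IsPGroup p ↥U := hSp.to_le (inducedFunctor_le W _)
  intro yb hyb hybo
  obtain ⟨y, rfl⟩ := hπs yb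
  have h1 : y ∈ (Subgroup.normalizer ((U.map π : Subgroup (X ⧸ O)) : Set (X ⧸ O))).comap π := hyb
  rw [Subgroup.comap_normalizer_eq_of_surjective _ hπs, Subgroup.comap_map_eq, hker] at h1
  obtain ⟨o, ho, hoy⟩ := exists_mul_mem_normalizer_of_coprime hUp hO h1
  have ho1 : π o = 1 := by
    rw [← MonoidHom.mem_ker, hker]; exact ho
  have hπoy : π (o * y) = π y := by rw [map_mul, ho1, one_mul]
  obtain ⟨x, hx, hfx, hxc, _⟩ := exists_coprime_lift π _ hoy (by rw [hπoy]; exact hybo)
  have hxC := ha S x hx hxc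
  rw [← hπoy, ← hfx]
  rw [Subgroup.mem_centralizer_iff] at hxC ⊢
  rintro _ ⟨u, hu, rfl⟩
  rw [← map_mul, ← map_mul, hxC u hu]

/-- The centralizing hypothesis for the normalizers `N(W(T))` transported to a subgroup `M`. -/
theorem pc_normalizer_subgroup (hW : IsCharPFunctor.{u} p W) (M : Subgroup X)
    (h : ∀ T : Subgroup X, IsSylowIn p T M →
      PC p (M ⊓ Subgroup.normalizer ((inducedFunctor (G := X) W T : Subgroup X) : Set X))
        (inducedFunctor (G := X) W T)) :
    ∀ T' : Sylow p ↥M,
      PC p (Subgroup.normalizer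
        ((inducedFunctor (G := ↥M) W (T' : Subgroup ↥M) : Subgroup ↥M) : Set ↥M))
        (inducedFunctor (G := ↥M) W (T' : Subgroup ↥M)) := by
  intro T'
  set T : Subgroup X := (T' : Subgroup ↥M).map M.subtype with hT
  have hT'p : IsPGroup p ↥(T' : Subgroup ↥M) := T'.isPGroup'
  have hsyl : IsSylowIn p T M := by
    refine ⟨Subgroup.map_subtype_le _, hT'p.map _, ?_⟩
    show ¬ p ∣ (((T' : Subgroup ↥M).map M.subtype).comap M.subtype).index
    rw [Subgroup.comap_map_eq_self_of_injective M.subtype_injective]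
    exact T'.not_dvd_index
  have h1 := h T hsyl
  have h2 := inducedFunctor_map_of_injective hW M.subtype M.subtype_injective
    (T' : Subgroup ↥M) hT'p
  intro g hg hgo
  have hg' : (g : X) ∈ M ⊓ Subgroup.normalizer
      ((inducedFunctor (G := X) W T : Subgroup X) : Set X) := by
    have h4 := map_normalizer_of_injective M.subtype M.subtype_injective
      (inducedFunctor (G := ↥M) W (T' : Subgroup ↥M))
    rw [Subgroup.range_subtype, h2] at h4
    rw [← h4]
    exact Subgroup.mem_map_of_mem M.subtype hg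
  have hgo' : (orderOf (g : X)).Coprime p := by
    rw [Subgroup.orderOf_coe]; exact hgo
  have h3 := h1 (g : X) hg' hgo'
  rw [Subgroup.mem_centralizer_iff] at h3 ⊢
  intro u hu
  apply Subtype.ext
  rw [Subgroup.coe_mul, Subgroup.coe_mul]
  apply h3
  rw [← h2]
  exact Subgroup.mem_map_of_mem M.subtype hu

/-- If `W(S)` is normal, is centralized by no nontrivial `p'`-element, and is centralized by
all `p'`-elements of its normalizer, then the group is a `p`-group, hence `p`-nilpotent. -/
theorem pn_top_of_normal_faithful {U : Subgroup X} (hUn : U.Normal)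
    (hf : ∀ d : X, (orderOf d).Coprime p → d ∈ Subgroup.centralizer (U : Set X) → d = 1)
    (hc : PC p (Subgroup.normalizer (U : Set X)) U) : PN p (⊤ : Subgroup X) := by
  have h1 : ∀ d : X, (orderOf d).Coprime p → d = 1 := by
    intro d hd
    apply hf d hd
    apply hc d _ hd
    rw [Subgroup.normalizer_eq_top_iff.mpr hUn]; exact Subgroup.mem_top d
  intro a _ b _ hao hbo
  rw [h1 a hao, h1 b hbo, one_mul, orderOf_one]
  exact Nat.coprime_one_left p

end Cfsg.Agent.Lib.Helper7
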