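import Mathlib
import Cfsg.Prelude
import Cfsg.Agent.Lib.Helper5.OmegaSimple
import Cfsg.Agent.Lib.Helper5.MaxTS
import Cfsg.Agent.Lib.Helper9.AOR27

/-! Automorphisms of `PΩ(Q)` that permute the Eichler groups ("good" automorphisms): closure
properties and the normalisation step (adapted from helper9's `AOR12`). -/

set_option autoImplicit false
set_option linter.unusedSectionVars false
set_option linter.unusedVariables false
open Cfsg

namespace Cfsg.Agent.Lib.Helper7.Tr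

open Matrix QuadraticMap Cfsg.Agent.Lib.Helper5.CartanDieudonne Cfsg.Agent.Lib.Helper5.Refl
  Cfsg.Agent.Lib.Helper5.OrthCard Cfsg.Agent.Lib.Helper5.Siegel Cfsg.Agent.Lib.Helper5.QuadIsom
  Cfsg.Agent.Lib.Helper5.ReflGen Cfsg.Agent.Lib.Helper5.Eichler Cfsg.Agent.Lib.Helper5.SingGeom
  Cfsg.Agent.Lib.Helper5.OmegaGen Cfsg.Agent.Lib.Helper5.OmegaSimple
  Cfsg.Agent.Lib.Helper9.AOR

variable {ι : Type} [Fintype ι] [DecidableEq ι] {F : Type*} [Field F] [Fintype F]
  (Q : QuadraticForm F (ι → F))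

section good
open scoped LinearAlgebra.Projectivization Pointwise
open Cfsg.Agent.Lib.Helper5.MaxTS Module
attribute [local instance 2000] omSMul omAction omSMulComm singSMul singAction

/-- `β` maps every Eichler group onto an Eichler group -/
def Good (β : POmega F ⇑Q ≃* POmega F ⇑Q) : Prop :=
  ∀ u : ι → F, u ≠ 0 → Q u = 0 → ∃ u' : ι → F, u' ≠ 0 ∧ Q u' = 0 ∧ Bm Q β u u'

variable {Q}

theorem Good.trans {β γ : POmega F ⇑Q ≃* POmega F ⇑Q} (h : Good Q β) (h' : Good Q γ) :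
    Good Q (β.trans γ) := by
  intro u hu0 hu
  obtain ⟨u', hu0', hu', hB⟩ := h u hu0 hu
  obtain ⟨u'', hu0'', hu'', hB'⟩ := h' u' hu0' hu'
  exact ⟨u'', hu0'', hu'', Bm_mul hB hB'⟩

theorem good_conj (g : ↥(Omega F ⇑Q)) : Good Q (MulAut.conj (pr Q g)) := by
  intro u hu0 hu
  refine ⟨act Q g.1 u, (smul_ne_zero_iff_ne g).mpr hu0, ?_, Bm_conj g u hu⟩
  rw [quad_act]; exact hu

theorem good_refl : Good Q (MulEquiv.refl (POmega F ⇑Q)) := by
  intro u hu0 hu
  exact ⟨u, hu0, hu, fun x => Iff.rfl⟩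

theorem good_semiAut (H : Hyp Q) (g : Matrix.GeneralLinearGroup ι F) (σ : F ≃+* F) (c : F)
    (hc : c ≠ 0) (hg : ∀ v, Q (sm g σ v) = c * σ (Q v)) : Good Q (semiAut g σ c hg) := by
  intro u hu0 hu
  refine ⟨sm g σ u, ?_, ?_, Bm_semiAut g σ c hg H hc u hu⟩
  · intro h0
    apply hu0
    apply sm_injective g σ
    rw [h0]
    have := sm_smul g σ (0 : F) (0 : ι → F)
    rw [zero_smul, map_zero, zero_smul] at this
    exact this.symm
  · rw [hg, hu, map_zero, mul_zero]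

theorem good_semiAut_symm (H : Hyp Q) (g : Matrix.GeneralLinearGroup ι F) (σ : F ≃+* F) (c : F)
    (hc : c ≠ 0) (hg : ∀ v, Q (sm g σ v) = c * σ (Q v)) :
    Good Q (semiAut g σ c hg : POmega F ⇑Q ≃* POmega F ⇑Q).symm := by
  intro u' hu0' hu'
  obtain ⟨u, rfl⟩ := sm_surj g σ u'
  have hu : Q u = 0 := by
    have h1 := hg u
    rw [hu'] at h1
    rcases mul_eq_zero.mp h1.symm with h2 | h2
    · exact absurd h2 hc
    · exact (map_eq_zero σ).mp h2
  have hu0 : u ≠ 0 := by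
    rintro rfl
    apply hu0'
    have := sm_smul g σ (0 : F) (0 : ι → F)
    rw [zero_smul, map_zero, zero_smul] at this
    exact this
  exact ⟨u, hu0, hu, Bm_symm (Bm_semiAut g σ c hg H hc u hu)⟩

/-- normalisation: after an inner automorphism, a good `β` fixes the groups of `e` and `f` -/
theorem exists_normalise_rel (p : ℕ) [Fact p.Prime] [CharP F p] (H : Hyp Q)
    (β : POmega F ⇑Q ≃* POmega F ⇑Q) (hLag : Good Q β) (e f : ι → F) (he : Q e = 0)
    (hf : Q f = 0) (hef : polar ⇑Q e f = 1) :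
    ∃ g : ↥(Omega F ⇑Q), Bm Q (β.trans (MulAut.conj (pr Q g))) e e ∧
      Bm Q (β.trans (MulAut.conj (pr Q g))) f f := by
  have he0 : e ≠ 0 := by
    rintro rfl
    simp [polar] at hef
  have hf0 : f ≠ 0 := ne_zero_of_polar_ne (by rw [hef]; exact one_ne_zero)
  obtain ⟨e', he0', he', hBe⟩ := hLag e he0 he
  obtain ⟨f', hf0', hf', hBf⟩ := hLag f hf0 hf
  have hnef : ¬ ∃ t : F, f = t • e := by
    rintro ⟨t, rfl⟩
    rw [polar_smul_right, polar_self_of_sing Q e he, smul_zero] at hef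
    exact zero_ne_one hef
  obtain ⟨h1, h2⟩ := Bm_perp p H he0 hf0 he hf he0' hf0' he' hf' hBe hBf
  have hne' : polar ⇑Q e' f' ≠ 0 := by
    intro hc
    have := (h2 hnef).mpr hc
    rw [hef] at this
    exact one_ne_zero this
  obtain ⟨g1, hg1, a, ha, hg1e⟩ := move H e' e he0' he0 he' he
  have hf'' : Q (act Q g1 f') = 0 := by rw [quad_act]; exact hf'
  have hpol : polar ⇑Q e (act Q g1 f') ≠ 0 := by
    have h3 := polar_act Q g1 e' f'
    rw [hg1e, polar_smul_left, smul_eq_mul] at h3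
    intro hc
    rw [hc, mul_zero] at h3
    exact hne' h3.symm
  obtain ⟨g2, hg2, hg2e, a', ha', hg2f⟩ := move_nonorth_stab H e (act Q g1 f') f he hf'' hf hpol
    (by rw [hef]; exact one_ne_zero)
  refine ⟨⟨g2 * g1, mul_mem hg2 hg1⟩, ?_, ?_⟩
  · have h3 := Bm_conj (⟨g2 * g1, mul_mem hg2 hg1⟩ : ↥(Omega F ⇑Q)) e' he'
    have h4 : act Q (g2 * g1) e' = a • e := by
      rw [act_mul, hg1e, act_smul, hg2e]
    have h5 : Bm Q (MulAut.conj (pr Q ⟨g2 * g1, mul_mem hg2 hg1⟩)) e' (a • e) := by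
      rw [← h4]; exact h3
    exact Bm_mul hBe (Bm_smul_right he a ha h5)
  · have h3 := Bm_conj (⟨g2 * g1, mul_mem hg2 hg1⟩ : ↥(Omega F ⇑Q)) f' hf'
    have h4 : act Q (g2 * g1) f' = a' • f := by
      rw [act_mul, hg2f]
    have h5 : Bm Q (MulAut.conj (pr Q ⟨g2 * g1, mul_mem hg2 hg1⟩)) f' (a' • f) := by
      rw [← h4]; exact h3
    exact Bm_mul hBf (Bm_smul_right hf a' ha' h5)

end good
end Cfsg.Agent.Lib.Helper7.Tr
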