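import Mathlib
import Cfsg.Prelude
import Cfsg.Agent.Lib.Helper5.OmegaSimple
import Cfsg.Agent.Lib.Helper5.MaxTS
import Cfsg.Agent.Lib.Helper9.AOR27
import Cfsg.Agent.Lib.Helper7.TrA

set_option autoImplicit false
set_option linter.unusedSectionVars false
set_option linter.unusedVariables false
open Cfsg

/-! Adapted from helper9's `AOR15`, relative to a single good automorphism. -/

namespace Cfsg.Agent.Lib.Helper7.Tr

open Cfsg.Agent.Lib.Helper9.AOR

open Matrix QuadraticMap Cfsg.Agent.Lib.Helper5.CartanDieudonne Cfsg.Agent.Lib.Helper5.Refl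
  Cfsg.Agent.Lib.Helper5.OrthCard Cfsg.Agent.Lib.Helper5.Siegel Cfsg.Agent.Lib.Helper5.QuadIsom
  Cfsg.Agent.Lib.Helper5.ReflGen Cfsg.Agent.Lib.Helper5.Eichler Cfsg.Agent.Lib.Helper5.SingGeom
  Cfsg.Agent.Lib.Helper5.OmegaGen Cfsg.Agent.Lib.Helper5.OmegaSimple

variable {ι : Type} [Fintype ι] [DecidableEq ι] {F : Type*} [Field F] [Fintype F]
  (Q : QuadraticForm F (ι → F))

/-! The image of a singular point of `⟨e,f⟩^⊥`; `ψ` preserves orthogonality to singular vectors. -/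

section gstep
open scoped LinearAlgebra.Projectivization Pointwise
open Cfsg.Agent.Lib.Helper5.MaxTS Module
attribute [local instance 2000] omSMul omAction omSMulComm singSMul singAction

variable {Q}

theorem pe_mem_right (H : Hyp Q) (u v : ι → F) (hu : Q u = 0) (hv : Q v = 0)
    (h : polar ⇑Q u v = 0) : pe H u v ∈ QBT Q v := by
  have h1 := eo_swap H u v hu hv h 1
  have h2 : pe H u v = pe H v ((-1 : F) • u) := by
    unfold pe
    rw [eoT_eq H u v hu h, eoT_eq H v ((-1 : F) • u) hv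
      (by rw [polar_smul_right, polar_comm, h, smul_zero])]
    have h3 : eo H u v hu h = eo H u ((1 : F) • v) hu
        (by rw [polar_smul_right, h, smul_zero]) := eo_congr H rfl (one_smul F v).symm _ _ _ _
    rw [h3, h1]
  rw [h2]
  exact pe_mem H v _ hv (by rw [polar_smul_right, polar_comm, h, smul_zero])

section
variable {β : POmega F ⇑Q ≃* POmega F ⇑Q} {e f : ι → F} (N : Norm Q β e f)
include N

theorem not_smul_e_of_perp (z : ι → F) (hfz : polar ⇑Q f z = 0) (hz0 : z ≠ 0) :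
    ¬ ∃ t : F, z = t • e := by
  rintro ⟨t, ht⟩
  rw [ht, polar_smul_right, N.hfe, smul_eq_mul, mul_one] at hfz
  rw [hfz, zero_smul] at ht
  exact hz0 ht

theorem Bm_psi (p : ℕ) [Fact p.Prime] [CharP F p] (H : Hyp Q) (h7 : 7 ≤ Fintype.card ι)
    (hLag : Good Q β)
    (z : ι → F) (hz : polar ⇑Q e z = 0) (hfz : polar ⇑Q f z = 0) (hz0 : z ≠ 0) (hQz : Q z = 0) :
    Bm Q β z (psi H N z) := by
  obtain ⟨h1, h2, h3⟩ := psi_spec H N z hz
  have hpz0 : psi H N z ≠ 0 := fun h => hz0 (psi_eq_zero p H N z hz hfz h)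
  have hpze := not_smul_e_of_perp N (psi H N z) h2 hpz0
  obtain ⟨z₁, hz₁0, hQz₁, hB⟩ := hLag z hz0 hQz
  have hze := not_smul_e_of_perp N z hfz hz0
  have hz₁e : ¬ ∃ t : F, z₁ = t • e := fun hc =>
    hze ((Bm_perp p H N.he0 hz0 N.he hQz N.he0 hz₁0 N.he hQz₁ N.be hB).1.mpr hc)
  have hmem1 : pe H e (psi H N z) ∈ QBT Q z₁ := by
    rw [← h3]
    exact (hB _).mp (pe_mem_right H e z N.he hQz hz)
  obtain ⟨z'', hz'', h4⟩ := (mem_QBT_iff H z₁ hQz₁ _).mp hmem1
  unfold pe at h4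
  rw [eoT_eq H e _ N.he h1, eoT_eq H z₁ z'' hQz₁ hz''] at h4
  have h5 := pr_eq_of_pow p H _ _ (eo_pow_char p H e _ N.he h1)
    (eo_pow_char p H z₁ z'' hQz₁ hz'') h4
  rcases eichSub_inf H e z₁ N.he0 hz₁0 N.he hQz₁ hz₁e (eo H e (psi H N z) N.he h1)
    (eo_mem H e _ N.he h1) (by rw [h5]; exact eo_mem H z₁ z'' hQz₁ hz'') with h6 | ⟨h6, t, ht, h7'⟩
  · exact absurd ((eo_eq_one_iff H e _ N.he h1 N.he0).mp h6) hpze
  · obtain ⟨s, hs⟩ := (eo_eq_eo_iff H e _ _ N.he h1 ht N.he0).mp h7'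
    have ht0 : t ≠ 0 := by
      rintro rfl
      rw [zero_smul, zero_add] at hs
      exact hpze ⟨s, hs⟩
    have hB' : Bm Q β z (t • z₁) := by
      intro x
      rw [hB x, QBT_smul z₁ hQz₁ t ht0]
    have htz0 : t • z₁ ≠ 0 := smul_ne_zero ht0 hz₁0
    have hQtz : Q (t • z₁) = 0 := by rw [QuadraticMap.map_smul, hQz₁, smul_zero]
    have hfz' : ¬ ∃ t' : F, f = t' • z := by
      rintro ⟨t', ht'⟩
      have := N.hef
      rw [ht', polar_smul_right, hz, smul_zero] at this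
      exact zero_ne_one this
    have h8 := (Bm_perp p H hz0 N.hf0 hQz N.hf htz0 N.hf0 hQtz N.hf hB' N.bf).2 hfz'
    have h9 : polar ⇑Q (t • z₁) f = 0 := h8.mp (by rw [polar_comm]; exact hfz)
    have h10 : t • z₁ = psi H N z - s • e := by rw [hs]; abel
    rw [h10, polar_sub_left, polar_smul_left, N.hef, polar_comm (⇑Q) (psi H N z) f, h2] at h9
    have hs0 : s = 0 := by simpa using h9
    rw [h10, hs0, zero_smul, sub_zero] at hB'
    exact hB'

theorem psi_polar_iff (p : ℕ) [Fact p.Prime] [CharP F p] (H : Hyp Q) (h7 : 7 ≤ Fintype.card ι)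
    (hLag : Good Q β)
    (z : ι → F) (hz : polar ⇑Q e z = 0) (hfz : polar ⇑Q f z = 0) (hz0 : z ≠ 0) (hQz : Q z = 0)
    (z' : ι → F) (hz' : polar ⇑Q e z' = 0) (hfz' : polar ⇑Q f z' = 0) :
    polar ⇑Q z z' = 0 ↔ polar ⇑Q (psi H N z) (psi H N z') = 0 := by
  obtain ⟨h1, h2, h3⟩ := psi_spec H N z hz
  obtain ⟨h1', h2', h3'⟩ := psi_spec H N z' hz'
  have hpz0 : psi H N z ≠ 0 := fun h => hz0 (psi_eq_zero p H N z hz hfz h)
  have hQpz : Q (psi H N z) = 0 := (psi_sing_iff N p H z hz hfz).mp hQz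
  have hB := Bm_psi N p H h7 hLag z hz hfz hz0 hQz
  have hB' := Bm_xv N p H z' hz' hfz'
  have hne : ¬ ∃ t : F, xv Q e f z' = t • z := by
    rintro ⟨t, ht⟩
    have := polar_e_xv N z' hz'
    rw [ht, polar_smul_right, hz, smul_zero] at this
    exact zero_ne_one this
  have h4 := (Bm_perp p H hz0 (xv_ne_zero N z' hz') hQz (quad_xv N z' hz' hfz') hpz0
    (xv_ne_zero N _ h1') hQpz (quad_xv N _ h1' h2') hB hB').2 hne
  rw [polar_xv_perp N z' z hz hfz, polar_xv_perp N _ _ h1 h2] at h4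
  exact h4

end

end gstep
end Cfsg.Agent.Lib.Helper7.Tr
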