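import Mathlib
import Cfsg.Prelude
import Cfsg.Agent.Lib.Helper5.OmegaSimple
import Cfsg.Agent.Lib.Helper5.MaxTS
import Cfsg.Agent.Lib.Helper9.AOR27
import Cfsg.Agent.Lib.Helper7.TrB17

set_option autoImplicit false
set_option linter.unusedSectionVars false
set_option linter.unusedVariables false
open Cfsg

/-! Adapted from helper9's `AOR18`, relative to a single good automorphism. -/

namespace Cfsg.Agent.Lib.Helper7.Tr

open Cfsg.Agent.Lib.Helper9.AOR

open Matrix QuadraticMap Cfsg.Agent.Lib.Helper5.CartanDieudonne Cfsg.Agent.Lib.Helper5.Refl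
  Cfsg.Agent.Lib.Helper5.OrthCard Cfsg.Agent.Lib.Helper5.Siegel Cfsg.Agent.Lib.Helper5.QuadIsom
  Cfsg.Agent.Lib.Helper5.ReflGen Cfsg.Agent.Lib.Helper5.Eichler Cfsg.Agent.Lib.Helper5.SingGeom
  Cfsg.Agent.Lib.Helper5.OmegaGen Cfsg.Agent.Lib.Helper5.OmegaSimple

variable {ι : Type} [Fintype ι] [DecidableEq ι] {F : Type*} [Field F] [Fintype F]
  (Q : QuadraticForm F (ι → F))

/-! The similarity factor: `Q (ψ z) = c σ(Q z)` on `⟨e,f⟩^⊥`. -/

section factor
open scoped LinearAlgebra.Projectivization Pointwise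
open Cfsg.Agent.Lib.Helper5.MaxTS Module
attribute [local instance 2000] omSMul omAction omSMulComm singSMul singAction

variable {Q}

theorem quad_three (s A B : ι → F) : Q (s + A + B) =
    Q s + Q A + Q B + polar ⇑Q s A + polar ⇑Q s B + polar ⇑Q A B := by
  rw [quad_add', quad_add', polar_add_left]
  ring

section
variable {β : POmega F ⇑Q ≃* POmega F ⇑Q} {e f : ι → F} (N : Norm Q β e f)
  (p : ℕ) [Fact p.Prime] [CharP F p] (H : Hyp Q) (h7 : 7 ≤ Fintype.card ι)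
  (hLag : Good Q β)

theorem sgm_neg (t : F) : sgm N p H h7 hLag (-t) = -sgm N p H h7 hLag t :=
  map_neg (sgmHom N p H h7 hLag) t

theorem exists_factor : ∃ c : F, c ≠ 0 ∧ ∀ x : ι → F, polar ⇑Q e x = 0 → polar ⇑Q f x = 0 →
    Q (psi H N x) = c * sgm N p H h7 hLag (Q x) := by
  obtain ⟨z₀, hz, hfz, hz0, hQz⟩ := exists_base N h7
  obtain ⟨f₂, hQf₂, hf₂z, hef₂, hff₂⟩ := exists_partner_in Q H.nondeg e f z₀ N.he N.hf N.hef hz0 hQz
    hz hfz
  have hzf₂ : polar ⇑Q z₀ f₂ = 1 := by rw [polar_comm]; exact hf₂z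
  have hf₂0 : f₂ ≠ 0 := by
    rintro rfl
    rw [polar_zero_right'] at hzf₂
    exact zero_ne_one hzf₂
  have hzz : polar ⇑Q z₀ z₀ = 0 := polar_self_of_sing Q z₀ hQz
  have hf₂f₂ : polar ⇑Q f₂ f₂ = 0 := polar_self_of_sing Q f₂ hQf₂
  have hQpz : Q (psi H N z₀) = 0 := (psi_sing_iff N p H z₀ hz hfz).mp hQz
  have hQpf : Q (psi H N f₂) = 0 := (psi_sing_iff N p H f₂ hef₂ hff₂).mp hQf₂
  refine ⟨polar ⇑Q (psi H N z₀) (psi H N f₂), ?_, ?_⟩
  · intro hc
    have := (psi_polar_iff N p H h7 hLag z₀ hz hfz hz0 hQz f₂ hef₂ hff₂).mpr hc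
    rw [hzf₂] at this
    exact one_ne_zero this
  -- vectors orthogonal to z₀ and f₂
  have hperp : ∀ s : ι → F, polar ⇑Q e s = 0 → polar ⇑Q f s = 0 → polar ⇑Q z₀ s = 0 →
      polar ⇑Q f₂ s = 0 → Q (psi H N s) =
        polar ⇑Q (psi H N z₀) (psi H N f₂) * sgm N p H h7 hLag (Q s) := by
    intro s hes hfs hzs hf₂s
    have h1 : polar ⇑Q (psi H N z₀) (psi H N s) = 0 :=
      (psi_polar_iff N p H h7 hLag z₀ hz hfz hz0 hQz s hes hfs).mp hzs
    have h2 : polar ⇑Q (psi H N f₂) (psi H N s) = 0 :=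
      (psi_polar_iff N p H h7 hLag f₂ hef₂ hff₂ hf₂0 hQf₂ s hes hfs).mp hf₂s
    have hea : polar ⇑Q e ((-(Q s)) • z₀) = 0 := by rw [polar_smul_right, hz, smul_zero]
    have hfa : polar ⇑Q f ((-(Q s)) • z₀) = 0 := by rw [polar_smul_right, hfz, smul_zero]
    have hes' : polar ⇑Q e (s + (-(Q s)) • z₀ + f₂) = 0 := by
      rw [polar_add_right, polar_add_right, hes, hea, hef₂]; simp
    have hfs' : polar ⇑Q f (s + (-(Q s)) • z₀ + f₂) = 0 := by
      rw [polar_add_right, polar_add_right, hfs, hfa, hff₂]; simp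
    have hQs' : Q (s + (-(Q s)) • z₀ + f₂) = 0 := by
      rw [quad_three, QuadraticMap.map_smul, hQz, hQf₂, polar_smul_right, polar_smul_left,
        polar_comm (⇑Q) s z₀, hzs, polar_comm (⇑Q) s f₂, hf₂s, hzf₂]
      simp
    have h3 := (psi_sing_iff N p H _ hes' hfs').mp hQs'
    rw [psi_add p H N _ _ (by rw [polar_add_right, hes, hea, add_zero]) hef₂,
      psi_add p H N _ _ hes hea, psi_smul N p H h7 hLag _ z₀ hz hfz, quad_three,
      QuadraticMap.map_smul, hQpz, hQpf, polar_smul_right, polar_smul_left,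
      polar_comm (⇑Q) (psi H N s) (psi H N z₀), h1, polar_comm (⇑Q) (psi H N s) (psi H N f₂), h2,
      sgm_neg] at h3
    simp only [smul_eq_mul, mul_zero, add_zero] at h3
    linear_combination h3
  intro x hex hfx
  obtain ⟨s, hsdef⟩ : ∃ s : ι → F, s = x - polar ⇑Q f₂ x • z₀ - polar ⇑Q z₀ x • f₂ := ⟨_, rfl⟩
  have hes : polar ⇑Q e s = 0 := by
    rw [hsdef, polar_sub_right, polar_sub_right, polar_smul_right, polar_smul_right, hex, hz, hef₂]
    simp
  have hfs : polar ⇑Q f s = 0 := by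
    rw [hsdef, polar_sub_right, polar_sub_right, polar_smul_right, polar_smul_right, hfx, hfz, hff₂]
    simp
  have hzs : polar ⇑Q z₀ s = 0 := by
    rw [hsdef, polar_sub_right, polar_sub_right, polar_smul_right, polar_smul_right, hzz, hzf₂]
    simp
  have hf₂s : polar ⇑Q f₂ s = 0 := by
    rw [hsdef, polar_sub_right, polar_sub_right, polar_smul_right, polar_smul_right, hf₂f₂, hf₂z]
    simp
  have hx : x = s + polar ⇑Q f₂ x • z₀ + polar ⇑Q z₀ x • f₂ := by rw [hsdef]; abel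
  have h1 : polar ⇑Q (psi H N z₀) (psi H N s) = 0 :=
    (psi_polar_iff N p H h7 hLag z₀ hz hfz hz0 hQz s hes hfs).mp hzs
  have h2 : polar ⇑Q (psi H N f₂) (psi H N s) = 0 :=
    (psi_polar_iff N p H h7 hLag f₂ hef₂ hff₂ hf₂0 hQf₂ s hes hfs).mp hf₂s
  have hea : polar ⇑Q e (polar ⇑Q f₂ x • z₀) = 0 := by rw [polar_smul_right, hz, smul_zero]
  have heb : polar ⇑Q e (polar ⇑Q z₀ x • f₂) = 0 := by rw [polar_smul_right, hef₂, smul_zero]
  have hQx : Q x = Q s + polar ⇑Q f₂ x * polar ⇑Q z₀ x := by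
    conv_lhs => rw [hx]
    rw [quad_three, QuadraticMap.map_smul, QuadraticMap.map_smul, hQz, hQf₂, polar_smul_right,
      polar_smul_right, polar_smul_left, polar_smul_right, polar_comm (⇑Q) s z₀, hzs,
      polar_comm (⇑Q) s f₂, hf₂s, hzf₂]
    simp only [smul_eq_mul, mul_zero, add_zero, mul_one]
  have hpx : psi H N x = psi H N s + sgm N p H h7 hLag (polar ⇑Q f₂ x) • psi H N z₀ +
      sgm N p H h7 hLag (polar ⇑Q z₀ x) • psi H N f₂ := by
    conv_lhs => rw [hx]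
    rw [psi_add p H N _ _ (by rw [polar_add_right, hes, hea, add_zero]) heb,
      psi_add p H N _ _ hes hea, psi_smul N p H h7 hLag _ z₀ hz hfz,
      psi_smul N p H h7 hLag _ f₂ hef₂ hff₂]
  rw [hpx, quad_three, QuadraticMap.map_smul, QuadraticMap.map_smul, hQpz, hQpf, polar_smul_right,
    polar_smul_right, polar_smul_left, polar_smul_right,
    polar_comm (⇑Q) (psi H N s) (psi H N z₀), h1, polar_comm (⇑Q) (psi H N s) (psi H N f₂), h2,
    hperp s hes hfs hzs hf₂s, hQx, sgm_add, sgm_mul]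
  simp only [smul_eq_mul, mul_zero, add_zero]
  ring

end

end factor
end Cfsg.Agent.Lib.Helper7.Tr
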