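import Mathlib
import Cfsg.Prelude
import Cfsg.Agent.Lib.Helper5.OmegaSimple
import Cfsg.Agent.Lib.Helper5.MaxTS
import Cfsg.Agent.Lib.Helper9.AOR27
import Cfsg.Agent.Lib.Helper7.TrB18

set_option autoImplicit false
set_option linter.unusedSectionVars false
set_option linter.unusedVariables false
open Cfsg

/-! Adapted from helper9's `AOR19`, relative to a single good automorphism. -/

namespace Cfsg.Agent.Lib.Helper7.Tr

open Cfsg.Agent.Lib.Helper9.AOR

open Matrix QuadraticMap Cfsg.Agent.Lib.Helper5.CartanDieudonne Cfsg.Agent.Lib.Helper5.Refl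
  Cfsg.Agent.Lib.Helper5.OrthCard Cfsg.Agent.Lib.Helper5.Siegel Cfsg.Agent.Lib.Helper5.QuadIsom
  Cfsg.Agent.Lib.Helper5.ReflGen Cfsg.Agent.Lib.Helper5.Eichler Cfsg.Agent.Lib.Helper5.SingGeom
  Cfsg.Agent.Lib.Helper5.OmegaGen Cfsg.Agent.Lib.Helper5.OmegaSimple

variable {ι : Type} [Fintype ι] [DecidableEq ι] {F : Type*} [Field F] [Fintype F]
  (Q : QuadraticForm F (ι → F))

/-! The semisimilarity attached to a normalised automorphism. -/

section gmap
open scoped LinearAlgebra.Projectivization Pointwise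
open Cfsg.Agent.Lib.Helper5.MaxTS Module
attribute [local instance 2000] omSMul omAction omSMulComm singSMul singAction

/-- coordinatewise field automorphism -/
def vm (σ : F ≃+* F) (v : ι → F) : ι → F := fun i => σ (v i)

omit [Fintype ι] [DecidableEq ι] [Fintype F] in
theorem vm_add (σ : F ≃+* F) (u v : ι → F) : vm σ (u + v) = vm σ u + vm σ v := by
  ext i; simp [vm]

omit [Fintype ι] [DecidableEq ι] [Fintype F] in
theorem vm_smul (σ : F ≃+* F) (a : F) (v : ι → F) : vm σ (a • v) = σ a • vm σ v := by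
  ext i; simp [vm]

omit [Fintype ι] [DecidableEq ι] [Fintype F] in
theorem vm_symm (σ : F ≃+* F) (v : ι → F) : vm σ.symm (vm σ v) = v := by
  ext i; simp [vm]

omit [Fintype ι] [DecidableEq ι] [Fintype F] in
theorem vm_symm' (σ : F ≃+* F) (v : ι → F) : vm σ (vm σ.symm v) = v := by
  ext i; simp [vm]

/-- projection to `⟨e,f⟩^⊥` -/
def prW (e f x : ι → F) : ι → F := x - polar ⇑Q f x • e - polar ⇑Q e x • f

variable {Q}

section
variable {β : POmega F ⇑Q ≃* POmega F ⇑Q} {e f : ι → F} (N : Norm Q β e f)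
  (p : ℕ) [Fact p.Prime] [CharP F p] (H : Hyp Q) (h7 : 7 ≤ Fintype.card ι)
  (hLag : Good Q β)

include N in
theorem polar_e_prW (x : ι → F) : polar ⇑Q e (prW Q e f x) = 0 := by
  unfold prW
  rw [polar_sub_right, polar_sub_right, polar_smul_right, polar_smul_right, N.hee, N.hef]
  simp

include N in
theorem polar_f_prW (x : ι → F) : polar ⇑Q f (prW Q e f x) = 0 := by
  unfold prW
  rw [polar_sub_right, polar_sub_right, polar_smul_right, polar_smul_right, N.hff, N.hfe]
  simp

theorem prW_add (x y : ι → F) : prW Q e f (x + y) = prW Q e f x + prW Q e f y := by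
  unfold prW
  rw [polar_add_right, polar_add_right]
  module

theorem prW_smul (a : F) (x : ι → F) : prW Q e f (a • x) = a • prW Q e f x := by
  unfold prW
  rw [polar_smul_right, polar_smul_right]
  simp only [smul_eq_mul]
  module

theorem prW_of_mem (x : ι → F) (hx : polar ⇑Q e x = 0) (hfx : polar ⇑Q f x = 0) :
    prW Q e f x = x := by
  unfold prW
  rw [hx, hfx]
  simp

theorem eq_prW_add (x : ι → F) :
    x = prW Q e f x + polar ⇑Q f x • e + polar ⇑Q e x • f := by
  unfold prW
  abel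

include N in
theorem quad_decomp (w : ι → F) (hw : polar ⇑Q e w = 0) (hfw : polar ⇑Q f w = 0) (a b : F) :
    Q (w + a • e + b • f) = Q w + a * b := by
  rw [quad_three, QuadraticMap.map_smul, QuadraticMap.map_smul, N.he, N.hf, polar_smul_right,
    polar_smul_right, polar_smul_left, polar_smul_right, polar_comm (⇑Q) w e, hw,
    polar_comm (⇑Q) w f, hfw, N.hef]
  simp

/-- the semisimilarity -/
noncomputable def gmap (c : F) (x : ι → F) : ι → F :=
  psi H N (prW Q e f x) + (c * sgm N p H h7 hLag (polar ⇑Q f x)) • e +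
    sgm N p H h7 hLag (polar ⇑Q e x) • f

theorem gmap_add (c : F) (x y : ι → F) :
    gmap N p H h7 hLag c (x + y) = gmap N p H h7 hLag c x + gmap N p H h7 hLag c y := by
  unfold gmap
  rw [prW_add, psi_add p H N _ _ (polar_e_prW N x) (polar_e_prW N y), polar_add_right,
    polar_add_right, sgm_add, sgm_add]
  module

theorem gmap_smul (c a : F) (x : ι → F) :
    gmap N p H h7 hLag c (a • x) = sgm N p H h7 hLag a • gmap N p H h7 hLag c x := by
  unfold gmap
  rw [prW_smul, psi_smul N p H h7 hLag a _ (polar_e_prW N x) (polar_f_prW N x), polar_smul_right,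
    polar_smul_right]
  simp only [smul_eq_mul]
  rw [sgm_mul, sgm_mul]
  module

theorem gmap_zero (c : F) : gmap N p H h7 hLag c 0 = 0 := by
  have := gmap_smul N p H h7 hLag c 0 0
  rwa [zero_smul, sgm_zero, zero_smul] at this

theorem quad_gmap (c : F)
    (hc : ∀ x : ι → F, polar ⇑Q e x = 0 → polar ⇑Q f x = 0 →
      Q (psi H N x) = c * sgm N p H h7 hLag (Q x)) (x : ι → F) :
    Q (gmap N p H h7 hLag c x) = c * sgm N p H h7 hLag (Q x) := by
  obtain ⟨h1, h2, -⟩ := psi_spec H N (prW Q e f x) (polar_e_prW N x)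
  unfold gmap
  rw [quad_decomp N _ h1 h2, hc _ (polar_e_prW N x) (polar_f_prW N x)]
  conv_rhs => rw [eq_prW_add (Q := Q) (e := e) (f := f) x,
    quad_decomp N _ (polar_e_prW N x) (polar_f_prW N x), sgm_add, sgm_mul]
  ring

theorem polar_gmap (c : F)
    (hc : ∀ x : ι → F, polar ⇑Q e x = 0 → polar ⇑Q f x = 0 →
      Q (psi H N x) = c * sgm N p H h7 hLag (Q x)) (x y : ι → F) :
    polar ⇑Q (gmap N p H h7 hLag c x) (gmap N p H h7 hLag c y) =
      c * sgm N p H h7 hLag (polar ⇑Q x y) := by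
  unfold polar
  rw [← gmap_add, quad_gmap N p H h7 hLag c hc, quad_gmap N p H h7 hLag c hc,
    quad_gmap N p H h7 hLag c hc]
  have h1 : sgm N p H h7 hLag (Q (x + y) - Q x - Q y) =
      sgm N p H h7 hLag (Q (x + y)) - sgm N p H h7 hLag (Q x) - sgm N p H h7 hLag (Q y) := by
    rw [sub_eq_add_neg, sub_eq_add_neg, sgm_add, sgm_add, sgm_neg, sgm_neg]
    ring
  rw [h1]
  ring

theorem gmap_e (c : F) : gmap N p H h7 hLag c e = c • e := by
  unfold gmap
  have h1 : prW Q e f e = 0 := by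
    unfold prW
    rw [N.hfe, N.hee]
    simp
  rw [h1, psi_zero p H N, N.hfe, N.hee, sgm_one, sgm_zero]
  simp

theorem gmap_f (c : F) : gmap N p H h7 hLag c f = f := by
  unfold gmap
  have h1 : prW Q e f f = 0 := by
    unfold prW
    rw [N.hff, N.hef]
    simp
  rw [h1, psi_zero p H N, N.hff, N.hef, sgm_one, sgm_zero]
  simp

theorem gmap_of_mem (c : F) (w : ι → F) (hw : polar ⇑Q e w = 0) (hfw : polar ⇑Q f w = 0) :
    gmap N p H h7 hLag c w = psi H N w := by
  unfold gmap
  rw [prW_of_mem w hw hfw, hw, hfw, sgm_zero]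
  simp

/-- the matrix of the semisimilarity -/
theorem exists_GL (c : F) (hc0 : c ≠ 0)
    (hc : ∀ x : ι → F, polar ⇑Q e x = 0 → polar ⇑Q f x = 0 →
      Q (psi H N x) = c * sgm N p H h7 hLag (Q x)) :
    ∃ g : Matrix.GeneralLinearGroup ι F, ∀ v : ι → F,
      (g : Matrix ι ι F) *ᵥ vm (sgmEquiv N p H h7 hLag) v = gmap N p H h7 hLag c v := by
  let L : (ι → F) →ₗ[F] (ι → F) :=
    { toFun := fun x => gmap N p H h7 hLag c (vm (sgmEquiv N p H h7 hLag).symm x)
      map_add' := by
        intro u v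
        rw [vm_add, gmap_add]
      map_smul' := by
        intro a v
        rw [vm_smul, gmap_smul, ← sgmEquiv_apply, RingEquiv.apply_symm_apply, RingHom.id_apply] }
  have hL : ∀ x, L x = gmap N p H h7 hLag c (vm (sgmEquiv N p H h7 hLag).symm x) := fun x => rfl
  have hinj : Function.Injective L := by
    intro u v huv
    have h1 : vm (sgmEquiv N p H h7 hLag).symm (u - v) = 0 := by
      apply H.nondeg.1
      intro y
      have h2 := polar_gmap N p H h7 hLag c hc (vm (sgmEquiv N p H h7 hLag).symm (u - v)) y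
      have h3 : gmap N p H h7 hLag c (vm (sgmEquiv N p H h7 hLag).symm (u - v)) = 0 := by
        rw [← hL, map_sub, huv, sub_self]
      rw [h3, polar_zero_left'] at h2
      rcases mul_eq_zero.mp h2.symm with h4 | h4
      · exact absurd h4 hc0
      · have h5 : sgm N p H h7 hLag (polar ⇑Q (vm (sgmEquiv N p H h7 hLag).symm (u - v)) y) =
            sgm N p H h7 hLag 0 := by rw [h4, sgm_zero]
        exact (sgmHom N p H h7 hLag).injective h5
    have h6 : u - v = 0 := by
      have := congrArg (vm (sgmEquiv N p H h7 hLag)) h1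
      rw [vm_symm'] at this
      rw [this]
      ext i
      simp [vm]
    exact sub_eq_zero.mp h6
  obtain ⟨Le, hLe⟩ : ∃ Le : (ι → F) ≃ₗ[F] (ι → F), ∀ v, Le v = L v :=
    ⟨LinearEquiv.ofInjectiveEndo L hinj, fun v => rfl⟩
  have hcomp1 : (Le : (ι → F) →ₗ[F] (ι → F)) ∘ₗ (Le.symm : (ι → F) →ₗ[F] (ι → F)) =
      LinearMap.id := by
    ext v; simp
  have hcomp2 : (Le.symm : (ι → F) →ₗ[F] (ι → F)) ∘ₗ (Le : (ι → F) →ₗ[F] (ι → F)) =
      LinearMap.id := by
    ext v; simp
  refine ⟨⟨LinearMap.toMatrix' (Le : (ι → F) →ₗ[F] (ι → F)),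
    LinearMap.toMatrix' (Le.symm : (ι → F) →ₗ[F] (ι → F)),
    by rw [← LinearMap.toMatrix'_comp, hcomp1, LinearMap.toMatrix'_id],
    by rw [← LinearMap.toMatrix'_comp, hcomp2, LinearMap.toMatrix'_id]⟩, fun v => ?_⟩
  show LinearMap.toMatrix' (Le : (ι → F) →ₗ[F] (ι → F)) *ᵥ _ = _
  rw [LinearMap.toMatrix'_mulVec]
  show Le _ = _
  rw [hLe, hL, vm_symm]

end

end gmap
end Cfsg.Agent.Lib.Helper7.Tr
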