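import Mathlib
import Cfsg.Prelude
import Cfsg.Agent.Lib.Helper5.OmegaSimple
import Cfsg.Agent.Lib.Helper5.MaxTS
import Cfsg.Agent.Lib.Helper9.AOR27
import Cfsg.Agent.Lib.Helper7.TrB19

set_option autoImplicit false
set_option linter.unusedSectionVars false
set_option linter.unusedVariables false
open Cfsg

/-! Adapted from helper9's `AOR22`, relative to a single good automorphism. -/

namespace Cfsg.Agent.Lib.Helper7.Tr

open Cfsg.Agent.Lib.Helper9.AOR

open Matrix QuadraticMap Cfsg.Agent.Lib.Helper5.CartanDieudonne Cfsg.Agent.Lib.Helper5.Refl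
  Cfsg.Agent.Lib.Helper5.OrthCard Cfsg.Agent.Lib.Helper5.Siegel Cfsg.Agent.Lib.Helper5.QuadIsom
  Cfsg.Agent.Lib.Helper5.ReflGen Cfsg.Agent.Lib.Helper5.Eichler Cfsg.Agent.Lib.Helper5.SingGeom
  Cfsg.Agent.Lib.Helper5.OmegaGen Cfsg.Agent.Lib.Helper5.OmegaSimple

variable {ι : Type} [Fintype ι] [DecidableEq ι] {F : Type*} [Field F] [Fintype F]
  (Q : QuadraticForm F (ι → F))

/-! An automorphism fixing the Eichler group of `e` elementwise and that of `f` fixes all. -/

section fixall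
open scoped LinearAlgebra.Projectivization Pointwise
open Cfsg.Agent.Lib.Helper5.MaxTS Module Cfsg.Agent.Lib.Helper5.OAut
attribute [local instance 2000] omSMul omAction omSMulComm singSMul singAction

variable {Q}

theorem sep_adjust (e u u' v : ι → F) (he : Q e = 0) (heu : polar ⇑Q e u = 0)
    (heu' : polar ⇑Q e u' = 0) (hev : polar ⇑Q e v ≠ 0) (huv : polar ⇑Q u v = 0)
    (hu'v : polar ⇑Q u' v ≠ 0) :
    ∃ y : ι → F, Q y = 0 ∧ polar ⇑Q e y ≠ 0 ∧ polar ⇑Q u y = 0 ∧ polar ⇑Q u' y ≠ 0 := by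
  refine ⟨v + (-(Q v) * (polar ⇑Q e v)⁻¹) • e, ?_, ?_, ?_, ?_⟩
  · rw [quad_add', QuadraticMap.map_smul, he, polar_smul_right, polar_comm (⇑Q) v e]
    simp only [smul_eq_mul, mul_zero, add_zero]
    rw [mul_assoc, inv_mul_cancel₀ hev]
    ring
  · rw [polar_add_right, polar_smul_right, polar_self_of_sing Q e he, smul_zero, add_zero]
    exact hev
  · rw [polar_add_right, polar_smul_right, polar_comm (⇑Q) u e, heu, smul_zero, add_zero]
    exact huv
  · rw [polar_add_right, polar_smul_right, polar_comm (⇑Q) u' e, heu', smul_zero, add_zero]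
    exact hu'v

theorem exists_sep (hQ : (polarBilin Q).Nondegenerate) (e u u' : ι → F) (he0 : e ≠ 0)
    (he : Q e = 0) (heu : polar ⇑Q e u = 0) (heu' : polar ⇑Q e u' = 0) (hu0 : u ≠ 0)
    (hue : ¬ ∃ t : F, u = t • e) (hu'u : ¬ ∃ t : F, u' = t • u) :
    ∃ y : ι → F, Q y = 0 ∧ polar ⇑Q e y ≠ 0 ∧ polar ⇑Q u y = 0 ∧ polar ⇑Q u' y ≠ 0 := by
  have li1 : LinearIndependent F ![u, u'] := by
    rw [LinearIndependent.pair_iff' hu0]
    intro a ha
    exact hu'u ⟨a, ha.symm⟩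
  have li2 : LinearIndependent F ![e, u] := by
    rw [LinearIndependent.pair_iff' he0]
    intro a ha
    exact hue ⟨a, ha.symm⟩
  obtain ⟨v₁, hv₁⟩ := exists_polar_eq Q hQ ![u, u'] li1 ![0, 1]
  obtain ⟨v₂, hv₂⟩ := exists_polar_eq Q hQ ![e, u] li2 ![1, 0]
  have h1 : polar ⇑Q u v₁ = 0 := hv₁ 0
  have h2 : polar ⇑Q u' v₁ = 1 := hv₁ 1
  have h3 : polar ⇑Q e v₂ = 1 := hv₂ 0
  have h4 : polar ⇑Q u v₂ = 0 := hv₂ 1
  by_cases hc1 : polar ⇑Q e v₁ = 0
  · by_cases hc2 : polar ⇑Q u' v₂ = 0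
    · apply sep_adjust e u u' (v₁ + v₂) he heu heu'
      · rw [polar_add_right, hc1, h3, zero_add]; exact one_ne_zero
      · rw [polar_add_right, h1, h4, add_zero]
      · rw [polar_add_right, h2, hc2, add_zero]; exact one_ne_zero
    · exact sep_adjust e u u' v₂ he heu heu' (by rw [h3]; exact one_ne_zero) h4 hc2
  · exact sep_adjust e u u' v₁ he heu heu' hc1 h1 (by rw [h2]; exact one_ne_zero)

section
variable {β : POmega F ⇑Q ≃* POmega F ⇑Q} {e f : ι → F} (N : Norm Q β e f)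
  (p : ℕ) [Fact p.Prime] [CharP F p] (H : Hyp Q) (h7 : 7 ≤ Fintype.card ι)
  (hLag : Good Q β)
  (hψ : ∀ z : ι → F, polar ⇑Q e z = 0 → polar ⇑Q f z = 0 → psi H N z = z)
include N hψ p

theorem Bm_self_nonperp (u : ι → F) (hu : Q u = 0) (heu : polar ⇑Q e u ≠ 0) : Bm Q β u u := by
  obtain ⟨u₁, hu₁⟩ : ∃ u₁ : ι → F, u₁ = (polar ⇑Q e u)⁻¹ • u := ⟨_, rfl⟩
  have hQu₁ : Q u₁ = 0 := by rw [hu₁, QuadraticMap.map_smul, hu, smul_zero]
  have heu₁ : polar ⇑Q e u₁ = 1 := by
    rw [hu₁, polar_smul_right, smul_eq_mul, inv_mul_cancel₀ heu]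
  have hez := polar_e_prW N u₁
  have hfz := polar_f_prW N u₁
  have h1 := eq_prW_add (Q := Q) (e := e) (f := f) u₁
  have h2 : Q u₁ = Q (prW Q e f u₁) + polar ⇑Q f u₁ * polar ⇑Q e u₁ := by
    conv_lhs => rw [h1]
    exact quad_decomp N _ hez hfz _ _
  rw [hQu₁, heu₁, mul_one] at h2
  have h3 : polar ⇑Q f u₁ = -Q (prW Q e f u₁) := by linear_combination -h2
  have h4 : u₁ = xv Q e f (prW Q e f u₁) := by
    unfold xv
    conv_lhs => rw [h1, heu₁, h3]
    module
  have hB := Bm_xv N p H (prW Q e f u₁) hez hfz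
  rw [hψ _ hez hfz, ← h4] at hB
  have hu_eq : u = polar ⇑Q e u • u₁ := by
    rw [hu₁, smul_smul, mul_inv_cancel₀ heu, one_smul]
  intro x
  rw [hu_eq, QBT_smul u₁ hQu₁ _ heu]
  exact hB x

include h7 hLag in
theorem Bm_self_of_psi_id (u : ι → F) (hu0 : u ≠ 0) (hu : Q u = 0) : Bm Q β u u := by
  by_cases heu : polar ⇑Q e u = 0
  · by_cases hue : ∃ t : F, u = t • e
    · obtain ⟨t, rfl⟩ := hue
      have ht : t ≠ 0 := by
        rintro rfl
        rw [zero_smul] at hu0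
        exact hu0 rfl
      intro x
      rw [QBT_smul e N.he t ht]
      exact N.be x
    · obtain ⟨u', hu0', hu', hB⟩ := hLag u hu0 hu
      have h1 := Bm_perp p H N.he0 hu0 N.he hu N.he0 hu0' N.he hu' N.be hB
      have hue' : ¬ ∃ t : F, u' = t • e := fun hc => hue (h1.1.mpr hc)
      have heu' : polar ⇑Q e u' = 0 := (h1.2 hue).mp heu
      by_cases hprop : ∃ t : F, u' = t • u
      · obtain ⟨t, rfl⟩ := hprop
        have ht : t ≠ 0 := by
          rintro rfl
          rw [zero_smul] at hu0'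
          exact hu0' rfl
        exact Bm_smul_right hu t ht hB
      · exfalso
        obtain ⟨y, hQy, hey, huy, hu'y⟩ := exists_sep H.nondeg e u u' N.he0 N.he heu heu' hu0 hue
          hprop
        have hy0 : y ≠ 0 := by
          rintro rfl
          rw [polar_zero_right'] at hey
          exact hey rfl
        have hBy : Bm Q β y y := Bm_self_nonperp N p H hψ y hQy hey
        have hyu : ¬ ∃ t : F, y = t • u := by
          rintro ⟨t, rfl⟩
          rw [polar_smul_right, heu, smul_zero] at hey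
          exact hey rfl
        have h2 := (Bm_perp p H hu0 hy0 hu hQy hu0' hy0 hu' hQy hB hBy).2 hyu
        exact hu'y (h2.mp huy)
  · exact Bm_self_nonperp N p H hψ u hu heu

end

end fixall
end Cfsg.Agent.Lib.Helper7.Tr
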