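import Mathlib
import Cfsg.Prelude
import Cfsg.Agent.Lib.Helper5.OmegaSimple
import Cfsg.Agent.Lib.Helper5.MaxTS
import Cfsg.Agent.Lib.Helper9.AOR27
import Cfsg.Agent.Lib.Helper7.TrB22

/-! Structure of the good automorphisms of `PΩ(Q)`: each is an inner automorphism times the
automorphism induced by a semisimilarity (adapted from helper9's `AOR23`). -/

set_option autoImplicit false
set_option linter.unusedSectionVars false
set_option linter.unusedVariables false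
open Cfsg

namespace Cfsg.Agent.Lib.Helper7.Tr

open Cfsg.Agent.Lib.Helper9.AOR

open Matrix QuadraticMap Cfsg.Agent.Lib.Helper5.CartanDieudonne Cfsg.Agent.Lib.Helper5.Refl
  Cfsg.Agent.Lib.Helper5.OrthCard Cfsg.Agent.Lib.Helper5.Siegel Cfsg.Agent.Lib.Helper5.QuadIsom
  Cfsg.Agent.Lib.Helper5.ReflGen Cfsg.Agent.Lib.Helper5.Eichler Cfsg.Agent.Lib.Helper5.SingGeom
  Cfsg.Agent.Lib.Helper5.OmegaGen Cfsg.Agent.Lib.Helper5.OmegaSimple

variable {ι : Type} [Fintype ι] [DecidableEq ι] {F : Type*} [Field F] [Fintype F]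
  (Q : QuadraticForm F (ι → F))

section final
open scoped LinearAlgebra.Projectivization Pointwise
open Cfsg.Agent.Lib.Helper5.MaxTS Module Cfsg.Agent.Lib.Helper5.OAut
attribute [local instance 2000] omSMul omAction omSMulComm singSMul singAction

variable {Q}

/-- every good automorphism is inner times semisimilarity-induced -/
theorem good_eq (p : ℕ) [Fact p.Prime] [CharP F p] (H : Hyp Q) (h7 : 7 ≤ Fintype.card ι)
    (β : MulAut (POmega F ⇑Q)) (hG : Good Q β) :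
    ∃ (g₀ : ↥(Omega F ⇑Q)) (M : Matrix.GeneralLinearGroup ι F) (σ : F ≃+* F) (c : F)
      (hc0 : c ≠ 0) (hg : ∀ v, Q (sm M σ v) = c * σ (Q v)),
      β = MulAut.conj (pr Q g₀) * semiAut M σ c hg := by
  obtain ⟨e, f, he, hf, hef⟩ := exists_hyp_pair H
  obtain ⟨g₀, hBe, hBf⟩ := exists_normalise_rel p H β hG e f he hf hef
  obtain ⟨β₁, hβ₁⟩ : ∃ β₁ : POmega F ⇑Q ≃* POmega F ⇑Q,
      β₁ = β.trans (MulAut.conj (pr Q g₀)) := ⟨_, rfl⟩
  have hG₁ : Good Q β₁ := by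
    rw [hβ₁]
    exact Good.trans hG (good_conj g₀)
  rw [← hβ₁] at hBe hBf
  have N : Norm Q β₁ e f := ⟨he, hf, hef, hBe, hBf⟩
  obtain ⟨c, hc0, hc⟩ := exists_factor N p H h7 hG₁
  obtain ⟨M, hM⟩ := exists_GL N p H h7 hG₁ c hc0 hc
  obtain ⟨σ, hσ⟩ : ∃ σ : F ≃+* F, σ = sgmEquiv N p H h7 hG₁ := ⟨_, rfl⟩
  rw [← hσ] at hM
  have hsm : ∀ v, sm M σ v = gmap N p H h7 hG₁ c v := fun v => hM v
  have hg : ∀ v, Q (sm M σ v) = c * σ (Q v) := by
    intro v
    rw [hsm, quad_gmap N p H h7 hG₁ c hc, hσ]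
    rfl
  obtain ⟨γ, hγ⟩ : ∃ γ : POmega F ⇑Q ≃* POmega F ⇑Q, γ = semiAut M σ c hg := ⟨_, rfl⟩
  have hsme : sm M σ e = c • e := by rw [hsm, gmap_e]
  have hsmf : sm M σ f = f := by rw [hsm, gmap_f]
  have hγe : Bm Q γ e e := by
    have h1 := Bm_semiAut M σ c hg H hc0 e he
    rw [hsme, ← hγ] at h1
    exact Bm_smul_right he c hc0 h1
  have hγf : Bm Q γ f f := by
    have h1 := Bm_semiAut M σ c hg H hc0 f hf
    rw [hsmf, ← hγ] at h1
    exact h1
  have hGγ : Good Q γ.symm := by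
    rw [hγ]
    exact good_semiAut_symm H M σ c hc0 hg
  have hG' : Good Q (β₁.trans γ.symm) := Good.trans hG₁ hGγ
  have N' : Norm Q (β₁.trans γ.symm) e f :=
    ⟨he, hf, hef, Bm_mul N.be (Bm_symm hγe), Bm_mul N.bf (Bm_symm hγf)⟩
  have hψ' : ∀ z : ι → F, polar ⇑Q e z = 0 → polar ⇑Q f z = 0 → psi H N' z = z := by
    intro z hz hfz
    apply psi_unique p H N' z z hz hz hfz
    obtain ⟨h1, h2, h3⟩ := psi_spec H N z hz
    rw [MulEquiv.trans_apply, h3]
    apply γ.injective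
    rw [MulEquiv.apply_symm_apply, hγ, semiAut_pe M σ c hg H hc0 e z he hz, hsme,
      hsm z, gmap_of_mem N p H h7 hG₁ c z hz hfz,
      pe_smul_left H e _ he (by rw [polar_smul_right, h1, smul_zero]) c, smul_smul,
      mul_inv_cancel₀ hc0, one_smul]
  have hall := Bm_self_of_psi_id N' p H h7 hG' hψ'
  have hid := eq_id_of_Bm_self p H (β₁.trans γ.symm) hall
  have hβγ : ∀ x, β₁ x = γ x := by
    intro x
    have h1 := hid x
    rw [MulEquiv.trans_apply] at h1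
    have h2 := congrArg γ h1
    rwa [MulEquiv.apply_symm_apply] at h2
  refine ⟨g₀⁻¹, M, σ, c, hc0, hg, ?_⟩
  apply MulEquiv.ext
  intro x
  have h1 := hβγ x
  rw [hβ₁, MulEquiv.trans_apply, MulAut.conj_apply] at h1
  rw [MulAut.mul_apply, MulAut.conj_apply, ← hγ, ← h1, map_inv]
  group

/-- conversely -/
theorem good_of_eq (H : Hyp Q) (g₀ : ↥(Omega F ⇑Q)) (M : Matrix.GeneralLinearGroup ι F)
    (σ : F ≃+* F) (c : F) (hc0 : c ≠ 0) (hg : ∀ v, Q (sm M σ v) = c * σ (Q v)) :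
    Good Q (MulAut.conj (pr Q g₀) * semiAut M σ c hg) :=
  Good.trans (good_semiAut H M σ c hc0 hg) (good_conj g₀)

theorem good_symm_of_eq (H : Hyp Q) (g₀ : ↥(Omega F ⇑Q)) (M : Matrix.GeneralLinearGroup ι F)
    (σ : F ≃+* F) (c : F) (hc0 : c ≠ 0) (hg : ∀ v, Q (sm M σ v) = c * σ (Q v)) :
    Good Q (MulAut.conj (pr Q g₀) * semiAut M σ c hg)⁻¹ := by
  have h1 : (MulAut.conj (pr Q g₀) * semiAut M σ c hg)⁻¹ =
      (MulAut.conj (pr Q g₀⁻¹) : POmega F ⇑Q ≃* POmega F ⇑Q).trans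
        (semiAut M σ c hg : POmega F ⇑Q ≃* POmega F ⇑Q).symm := by
    rw [_root_.mul_inv_rev, map_inv, map_inv]
    rfl
  rw [h1]
  exact Good.trans (good_conj g₀⁻¹) (good_semiAut_symm H M σ c hc0 hg)

/-- the inverse of a good automorphism is good -/
theorem Good.inv (p : ℕ) [Fact p.Prime] [CharP F p] (H : Hyp Q) (h7 : 7 ≤ Fintype.card ι)
    {β : MulAut (POmega F ⇑Q)} (hG : Good Q β) : Good Q β⁻¹ := by
  obtain ⟨g₀, M, σ, c, hc0, hg, rfl⟩ := good_eq p H h7 β hG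
  exact good_symm_of_eq H g₀ M σ c hc0 hg

end final
end Cfsg.Agent.Lib.Helper7.Tr
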