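import Mathlib
import Cfsg.Prelude
import Cfsg.Agent.Lib.Helper5.OmegaSimple
import Cfsg.Agent.Lib.Helper5.MaxTS
import Cfsg.Agent.Lib.Helper9.AOR27
import Cfsg.Agent.Lib.Helper7.TrB23

/-! The subgroup of good automorphisms of `PΩ(Q)` and its order (adapted from helper9's
`AOR26`, `AOR27`). -/

set_option autoImplicit false
set_option linter.unusedSectionVars false
set_option linter.unusedVariables false
open Cfsg

namespace Cfsg.Agent.Lib.Helper7.Tr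

open Cfsg.Agent.Lib.Helper9.AOR

open Matrix QuadraticMap Cfsg.Agent.Lib.Helper5.CartanDieudonne Cfsg.Agent.Lib.Helper5.Refl
  Cfsg.Agent.Lib.Helper5.OrthCard Cfsg.Agent.Lib.Helper5.Siegel Cfsg.Agent.Lib.Helper5.QuadIsom
  Cfsg.Agent.Lib.Helper5.ReflGen Cfsg.Agent.Lib.Helper5.Eichler Cfsg.Agent.Lib.Helper5.SingGeom
  Cfsg.Agent.Lib.Helper5.OmegaGen Cfsg.Agent.Lib.Helper5.OmegaSimple

variable {ι : Type} [Fintype ι] [DecidableEq ι] {F : Type*} [Field F] [Fintype F]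
  (Q : QuadraticForm F (ι → F))

section count
open scoped LinearAlgebra.Projectivization Pointwise
open Cfsg.Agent.Lib.Helper5.MaxTS Module Cfsg.Agent.Lib.Helper5.OAut
attribute [local instance 2000] omSMul omAction omSMulComm singSMul singAction

/-- the automorphisms induced by semisimilarities -/
def goodSub : Subgroup (MulAut (POmega F ⇑Q)) where
  carrier := {β | ∃ σ : F ≃+* F, SR Q β σ}
  one_mem' := ⟨_, SR_one⟩
  mul_mem' := by
    rintro a b ⟨σ, hσ⟩ ⟨σ', hσ'⟩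
    exact ⟨_, SR_mul hσ hσ'⟩
  inv_mem' := by
    rintro a ⟨σ, hσ⟩
    exact SR_inv hσ

variable {Q}

theorem mem_goodSub (β : MulAut (POmega F ⇑Q)) : β ∈ goodSub Q ↔ ∃ σ : F ≃+* F, SR Q β σ :=
  Iff.rfl

theorem good_of_SR (H : Hyp Q) {β : MulAut (POmega F ⇑Q)} {σ : F ≃+* F} (h : SR Q β σ) :
    Good Q β := by
  obtain ⟨g, c, hc, hg, rfl⟩ := h
  exact good_semiAut H g σ c hc hg

theorem SR_conj (g : ↥(Omega F ⇑Q)) : SR Q (MulAut.conj (pr Q g)) (RingEquiv.refl F) := by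
  obtain ⟨g', σ, hp, hi⟩ := conj_gen g
  refine SR_of_induced (g.1.1 : Matrix.GeneralLinearGroup ι F) (RingEquiv.refl F) ⟨1, fun v => ?_⟩ _ ?_
  · have h1 := (mem_isometryGroup_iff (⇑Q) g.1.1).mp g.1.2 v
    simp only [RingEquiv.refl_apply, Units.val_one, one_mul]
    exact h1
  · intro s s' hs
    rw [MulAut.conj_apply]
    show pr Q g * pr Q s * (pr Q g)⁻¹ = pr Q s'
    rw [← map_inv, ← map_mul, ← map_mul]
    congr 1
    apply Subtype.ext
    apply Subtype.ext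
    apply Units.ext
    rw [hs, Cfsg.Agent.Lib.Helper5.OAut.map_refl]
    rfl

theorem SR_of_good (p : ℕ) [Fact p.Prime] [CharP F p] (H : Hyp Q) (h7 : 7 ≤ Fintype.card ι)
    {β : MulAut (POmega F ⇑Q)} (hG : Good Q β) : ∃ σ : F ≃+* F, SR Q β σ := by
  obtain ⟨g₀, M, σ, c, hc0, hg, rfl⟩ := good_eq p H h7 β hG
  exact ⟨_, SR_mul (SR_conj g₀) ⟨M, c, hc0, hg, rfl⟩⟩

theorem mem_goodSub_iff (p : ℕ) [Fact p.Prime] [CharP F p] (H : Hyp Q)
    (h7 : 7 ≤ Fintype.card ι) (β : MulAut (POmega F ⇑Q)) : β ∈ goodSub Q ↔ Good Q β :=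
  ⟨fun ⟨σ, hσ⟩ => good_of_SR H hσ, fun h => SR_of_good p H h7 h⟩

/-- the field automorphism of a good automorphism -/
noncomputable def tauG (p : ℕ) [Fact p.Prime] [CharP F p] (H : Hyp Q) :
    ↥(goodSub Q) →* RingAut F where
  toFun β := Classical.choose β.2
  map_one' := SR_unique p H (Classical.choose_spec (1 : ↥(goodSub Q)).2) SR_one
  map_mul' β β' := SR_unique p H (Classical.choose_spec (β * β').2)
    (SR_mul (Classical.choose_spec β.2) (Classical.choose_spec β'.2))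

theorem tauG_spec (p : ℕ) [Fact p.Prime] [CharP F p] (H : Hyp Q) (β : ↥(goodSub Q)) :
    SR Q β.1 (tauG p H β) :=
  Classical.choose_spec β.2

theorem tauG_eq (p : ℕ) [Fact p.Prime] [CharP F p] (H : Hyp Q) {β : ↥(goodSub Q)}
    {σ : F ≃+* F} (h : SR Q β.1 σ) : tauG p H β = σ :=
  SR_unique p H (tauG_spec p H β) h

theorem tauG_surjective (p : ℕ) [Fact p.Prime] [CharP F p] (H : Hyp Q)
    (hfield : ∀ σ : F ≃+* F, ∃ (g : Matrix.GeneralLinearGroup ι F) (c : F), c ≠ 0 ∧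
      ∀ v, Q (sm g σ v) = c * σ (Q v)) : Function.Surjective (tauG p H) := by
  intro σ
  obtain ⟨g, c, hc, hg⟩ := hfield σ
  have hSR : SR Q (semiAut g σ c hg) σ := ⟨g, c, hc, hg, rfl⟩
  exact ⟨⟨semiAut g σ c hg, ⟨σ, hSR⟩⟩, tauG_eq p H hSR⟩

theorem conjGO_mem_goodSub (g : ↥(Geo.quadSimilarityGroup (F := F) ⇑Q)) :
    conjGO Q g ∈ goodSub Q := ⟨_, SR_conjGO g⟩

theorem card_ker_tauG (p : ℕ) [Fact p.Prime] [CharP F p] (H : Hyp Q) :
    Nat.card ↥(tauG p H).ker = Nat.card ↥(conjGO Q).range := by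
  apply Nat.card_congr
  refine ⟨fun x => ⟨x.1.1, ?_⟩, fun y => ⟨⟨y.1, ?_⟩, ?_⟩, fun x => rfl, fun y => rfl⟩
  · have hx := x.2
    rw [MonoidHom.mem_ker] at hx
    have h1 := tauG_spec p H x.1
    rw [hx] at h1
    obtain ⟨g, c, hc, hg, h2⟩ := h1
    have hmem : g ∈ Geo.quadSimilarityGroup (F := F) ⇑Q := ⟨Units.mk0 c hc, fun v => hg v⟩
    refine ⟨⟨g, hmem⟩, ?_⟩
    rw [h2]
    exact eq_semiAut_of_induced _ _ _ hg _ (conjGO_induced ⟨g, hmem⟩)
  · obtain ⟨g, hg⟩ := y.2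
    rw [← hg]
    exact conjGO_mem_goodSub g
  · rw [MonoidHom.mem_ker]
    obtain ⟨g, hg⟩ := y.2
    apply tauG_eq p H
    show SR Q y.1 (RingEquiv.refl F)
    rw [← hg]
    exact SR_conjGO g

theorem card_goodSub (p : ℕ) [Fact p.Prime] [CharP F p] (H : Hyp Q)
    (hfield : ∀ σ : F ≃+* F, ∃ (g : Matrix.GeneralLinearGroup ι F) (c : F), c ≠ 0 ∧
      ∀ v, Q (sm g σ v) = c * σ (Q v)) :
    Nat.card ↥(goodSub Q) = Nat.card ↥(conjGO Q).range * Nat.card (RingAut F) := by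
  rw [card_of_surj _ (tauG_surjective p H hfield), card_ker_tauG]

end count
end Cfsg.Agent.Lib.Helper7.Tr
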