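import Mathlib
import Cfsg.Prelude
import Cfsg.Agent.Lib.Helper5.OmegaSimple
import Cfsg.Agent.Lib.Helper5.MaxTS
import Cfsg.Agent.Lib.Helper9.AOR27
import Cfsg.Agent.Lib.Helper7.TrC

/-! Subgroups of `PΩ⁺₈(q)` with property `PP`: they are Eichler groups or lie in the pointwise
stabiliser of a maximal totally singular subspace (adapted from helper9's `AOR7`, `AOR10`). -/

set_option autoImplicit false
set_option linter.unusedSectionVars false
set_option linter.unusedVariables false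
open Cfsg

namespace Cfsg.Agent.Lib.Helper7.Tr

open Cfsg.Agent.Lib.Helper9.AOR

open Matrix QuadraticMap Cfsg.Agent.Lib.Helper5.CartanDieudonne Cfsg.Agent.Lib.Helper5.Refl
  Cfsg.Agent.Lib.Helper5.OrthCard Cfsg.Agent.Lib.Helper5.Siegel Cfsg.Agent.Lib.Helper5.QuadIsom
  Cfsg.Agent.Lib.Helper5.ReflGen Cfsg.Agent.Lib.Helper5.Eichler Cfsg.Agent.Lib.Helper5.SingGeom
  Cfsg.Agent.Lib.Helper5.OmegaGen Cfsg.Agent.Lib.Helper5.OmegaSimple

variable {ι : Type} [Fintype ι] [DecidableEq ι] {F : Type*} [Field F] [Fintype F]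
  (Q : QuadraticForm F (ι → F))

section chr8
open scoped LinearAlgebra.Projectivization Pointwise
open Cfsg.Agent.Lib.Helper5.MaxTS Module
attribute [local instance 2000] omSMul omAction omSMulComm singSMul singAction

/-- the pointwise stabiliser of a subspace in `Ω` -/
def UY (Y : Submodule F (ι → F)) : Subgroup ↥(Omega F ⇑Q) where
  carrier := {g | ∀ y ∈ Y, act Q g.1 y = y}
  one_mem' := fun y _ => act_one' Q y
  mul_mem' := by
    intro g h hg hh y hy
    show act Q (g * h).1 y = y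
    rw [Subgroup.coe_mul, act_mul, hh y hy, hg y hy]
  inv_mem' := by
    intro g hg y hy
    show act Q (g⁻¹ : ↥(Omega F ⇑Q)).1 y = y
    have h1 := hg y hy
    have h2 : act Q (g⁻¹ : ↥(Omega F ⇑Q)).1 (act Q g.1 y) = y := by
      rw [← act_mul, ← Subgroup.coe_mul, inv_mul_cancel]
      exact act_one' Q y
    rw [h1] at h2
    exact h2

/-- its image in `PΩ` -/
def UB (Y : Submodule F (ι → F)) : Subgroup (POmega F ⇑Q) :=
  (UY Q Y).map (QuotientGroup.mk' (Subgroup.center ↥(Omega F ⇑Q)))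

variable {Q}

theorem mem_UY (Y : Submodule F (ι → F)) (g : ↥(Omega F ⇑Q)) :
    g ∈ UY Q Y ↔ ∀ y ∈ Y, act Q g.1 y = y := Iff.rfl

/-- the pointwise stabiliser of a subspace containing its perp is commutative -/
theorem UY_comm (Y : Submodule F (ι → F)) (hY : orth Q Y ≤ Y) (g h : ↥(Omega F ⇑Q))
    (hg : g ∈ UY Q Y) (hh : h ∈ UY Q Y) : g * h = h * g := by
  have key : ∀ (a b : ↥(Omega F ⇑Q)), a ∈ UY Q Y → b ∈ UY Q Y → ∀ x : ι → F,
      act Q b.1 (act Q a.1 x) = act Q b.1 x + act Q a.1 x - x := by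
    intro a b ha hb x
    have hn : act Q a.1 x - x ∈ Y := by
      apply hY
      rw [mem_orth]
      intro w hw
      rw [polar_sub_right]
      have h1 := polar_act Q a.1 w x
      rw [ha w hw] at h1
      rw [h1, sub_self]
    have h2 := hb _ hn
    have h3 : act Q b.1 (act Q a.1 x) = act Q b.1 (act Q a.1 x - x) + act Q b.1 x := by
      rw [← act_add, sub_add_cancel]
    rw [h3, h2]
    abel
  apply Subtype.ext
  apply ext_act
  intro x
  rw [Subgroup.coe_mul, Subgroup.coe_mul, act_mul, act_mul, key h g hh hg x, key g h hg hh x]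
  abel

theorem UB_comm (Y : Submodule F (ι → F)) (hY : orth Q Y ≤ Y) (a b : POmega F ⇑Q)
    (ha : a ∈ UB Q Y) (hb : b ∈ UB Q Y) : a * b = b * a := by
  obtain ⟨g, hg, rfl⟩ := Subgroup.mem_map.mp ha
  obtain ⟨h, hh, rfl⟩ := Subgroup.mem_map.mp hb
  rw [← map_mul, ← map_mul, UY_comm Y hY g h hg hh]

/-- two `PP` subgroups inside the same commutative subgroup coincide -/
theorem PP_eq_of_le_comm {p N q : ℕ} {X : Type*} [Group X] [Finite X] (B B' K : Subgroup X)
    (hB : PP p N q B) (hB' : PP p N q B') (hle : B ≤ K) (hle' : B' ≤ K)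
    (hK : ∀ a b : X, a ∈ K → b ∈ K → a * b = b * a) : B' = B := by
  apply Subgroup.eq_of_le_of_card_ge
  · intro x hx
    apply hB.cent
    rw [Subgroup.mem_centralizer_iff]
    intro b hb
    exact hK b x (hle hb) (hle' hx)
  · rw [hB.card, hB'.card]

theorem char_case_two8 (p : ℕ) [Fact p.Prime] [CharP F p] (H : Hyp Q)
    (h8 : Fintype.card ι = 8)
    (A : Subgroup ↥(Omega F ⇑Q)) (hA : IsPGroup p ↥A)
    (hC : ∀ g : ↥(Omega F ⇑Q), (∀ a ∈ A, a * g = g * a) → g ^ p = 1 → g ∈ A)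
    (hN : ∀ x ∈ A, x ≠ 1 → ∀ K : Subgroup ↥(Omega F ⇑Q), x ∈ K →
      (∀ g ∈ Subgroup.normalizer (A : Set ↥(Omega F ⇑Q)), ∀ k ∈ K, g * k * g⁻¹ ∈ K) → A ≤ K)
    (b b' : ι → F) (hb0 : b ≠ 0) (hb : Q b = 0) (hb' : Q b' = 0)
    (hfixb : ∀ a ∈ A, act Q a.1 b = b) (hfixb' : ∀ a ∈ A, act Q a.1 b' = b')
    (hnb' : ¬ ∃ t : F, b' = t • b) :
    ∃ Y : Submodule F (ι → F), IsMaxTS Q 4 Y ∧ A ≤ UY Q Y := by
  have hb0' : b' ≠ 0 := by
    rintro rfl
    exact hnb' ⟨0, by simp⟩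
  have hperp := fun b b' h1 h2 h3 h4 h5 h6 => fixed_perp p H A hA hC b b' h1 h2 h3 h4 h5 h6
  have hbb' : polar ⇑Q b b' = 0 := hperp b b' hb0 hb0' hb hb' hfixb hfixb'
  obtain ⟨Y, hYdef⟩ : ∃ Y : Submodule F (ι → F), Y = fixSp A := ⟨_, rfl⟩
  have hbY : b ∈ Y := by rw [hYdef]; exact Submodule.subset_span ⟨hb, hfixb⟩
  have hb'Y : b' ∈ Y := by rw [hYdef]; exact Submodule.subset_span ⟨hb', hfixb'⟩
  have hYpolar : ∀ y y' : ι → F, y ∈ Y → y' ∈ Y → polar ⇑Q y y' = 0 := by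
    intro y y' hy hy'
    rw [hYdef] at hy hy'
    exact fixSp_polar A hperp y y' hy hy'
  have hYsing : ∀ y ∈ Y, Q y = 0 := by
    intro y hy
    rw [hYdef] at hy
    exact fixSp_sing A (fun y y' h h' => fixSp_polar A hperp y y' h h') y hy
  have hYfix : ∀ y ∈ Y, ∀ a ∈ A, act Q a.1 y = y := by
    intro y hy a ha
    rw [hYdef] at hy
    exact fixSp_fixed A y hy a ha
  have hYnorm : ∀ g ∈ Subgroup.normalizer (A : Set ↥(Omega F ⇑Q)), ∀ y ∈ Y,
      act Q g.1 y ∈ Y := by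
    intro g hg y hy
    rw [hYdef] at hy ⊢
    exact fixSp_normalizer A g hg y hy
  have hinvact : ∀ (g : ↥(Omega F ⇑Q)) (y : ι → F),
      act Q g.1 (act Q (g⁻¹ : ↥(Omega F ⇑Q)).1 y) = y := by
    intro g y
    rw [← act_mul, ← Subgroup.coe_mul, mul_inv_cancel]
    exact act_one' Q y
  have horthnorm : ∀ g ∈ Subgroup.normalizer (A : Set ↥(Omega F ⇑Q)), ∀ y ∈ orth Q Y,
      act Q g.1 y ∈ orth Q Y := by
    intro g hg y hy
    rw [mem_orth] at hy ⊢
    intro w hw
    have h1 := hYnorm g⁻¹ (inv_mem hg) w hw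
    have h2 := hy _ h1
    have h3 := polar_act Q g.1 (act Q (g⁻¹ : ↥(Omega F ⇑Q)).1 w) y
    rw [h2, hinvact g w] at h3
    exact h3
  let K : Subgroup ↥(Omega F ⇑Q) :=
    { carrier := {g | ∀ y ∈ orth Q Y, act Q g.1 y = y}
      one_mem' := fun y _ => act_one' Q y
      mul_mem' := by
        intro g h hg hh y hy
        show act Q (g * h).1 y = y
        rw [Subgroup.coe_mul, act_mul, hh y hy, hg y hy]
      inv_mem' := by
        intro g hg y hy
        show act Q (g⁻¹ : ↥(Omega F ⇑Q)).1 y = y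
        have h1 := hg y hy
        have h2 := hinvact g⁻¹ y
        rw [inv_inv, h1] at h2
        exact h2 }
  have hKmem : ∀ g, g ∈ K ↔ ∀ y ∈ orth Q Y, act Q g.1 y = y := fun g => Iff.rfl
  have hxc : ∀ a ∈ A, a * eo H b b' hb hbb' = eo H b b' hb hbb' * a := by
    intro a ha
    apply commute_of_conj
    rw [conj_eo]
    exact eo_congr H (hfixb a ha) (hfixb' a ha) _ _ _ _
  have hxA := hC _ hxc (eo_pow_char p H b b' hb hbb')
  have hx1 : eo H b b' hb hbb' ≠ 1 := fun h => hnb' ((eo_eq_one_iff H b b' hb hbb' hb0).mp h)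
  have hxK : eo H b b' hb hbb' ∈ K := by
    rw [hKmem]
    intro y hy
    rw [mem_orth] at hy
    rw [eo_val, act_eich_perp Q b b' hb hbb' y (hy b hbY), hy b' hb'Y]
    simp
  have hKnorm : ∀ g ∈ Subgroup.normalizer (A : Set ↥(Omega F ⇑Q)), ∀ k ∈ K,
      g * k * g⁻¹ ∈ K := by
    intro g hg k hk
    rw [hKmem] at hk ⊢
    intro y hy
    have h1 := horthnorm g⁻¹ (inv_mem hg) y hy
    have h2 := hk _ h1
    rw [Subgroup.coe_mul, Subgroup.coe_mul, act_mul, act_mul, h2]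
    exact hinvact g y
  have hAK : A ≤ K := hN _ hxA hx1 K hxK hKnorm
  have hcz : ∀ (c z : ι → F) (hc : Q c = 0) (hcz : polar ⇑Q c z = 0), c ∈ Y → z ∈ orth Q Y →
      eo H c z hc hcz ∈ A := by
    intro c z hc hcz hcY hzY
    apply hC _ _ (eo_pow_char p H c z hc hcz)
    intro a ha
    apply commute_of_conj
    rw [conj_eo]
    exact eo_congr H (hYfix c hcY a ha) ((hKmem a).mp (hAK ha) z hzY) _ _ _ _
  have hoo : ∀ z ∈ orth Q Y, ∀ y ∈ orth Q Y, polar ⇑Q z y = 0 := by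
    intro z hz y hy
    have hbz : polar ⇑Q b z = 0 := (mem_orth Q Y z).mp hz b hbY
    have hby : polar ⇑Q b y = 0 := (mem_orth Q Y y).mp hy b hbY
    have hmem := (hKmem _).mp (hAK (hcz b z hb hbz hbY hz)) y hy
    rw [eo_val, act_eich_perp Q b z hb hbz y hby] at hmem
    have h1 : polar ⇑Q z y • b = 0 := by linear_combination (norm := module) -hmem
    rcases smul_eq_zero.mp h1 with h | h
    · exact h
    · exact absurd h hb0
  have hYle : Y ≤ orth Q Y := le_orth_of_ts Q Y hYsing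
  have hfr1 := finrank_orth Q H.nondeg Y
  have hfr2 := finrank_orth Q H.nondeg (orth Q Y)
  have hoole : orth Q Y ≤ orth Q (orth Q Y) := by
    intro z hz
    rw [mem_orth]
    intro w hw
    exact hoo w hw z hz
  have hn : finrank F (ι → F) = Fintype.card ι := Module.finrank_fintype_fun_eq_card F
  have h4 := Submodule.finrank_le Y
  have hYeq : Y = orth Q Y := by
    apply Submodule.eq_of_le_of_finrank_le hYle
    have h3 := Submodule.finrank_mono hoole
    omega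
  refine ⟨Y, ⟨?_, hYsing⟩, ?_⟩
  · rw [← hYeq] at hfr1
    omega
  · intro a ha
    rw [mem_UY]
    exact fun y hy => hYfix y hy a ha

/-- **Characterisation in dimension eight.** -/
theorem char_main8 (p : ℕ) [Fact p.Prime] [CharP F p] (H : Hyp Q) (h8 : Fintype.card ι = 8)
    (A : Subgroup ↥(Omega F ⇑Q)) (hA : IsPGroup p ↥A)
    (hcard : ∀ (u : ι → F) (hu : Q u = 0), u ≠ 0 → Nat.card ↥(eichSub Q u hu) ≤ Nat.card ↥A)
    (hC : ∀ g : ↥(Omega F ⇑Q), (∀ a ∈ A, a * g = g * a) → g ^ p = 1 → g ∈ A)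
    (hN : ∀ x ∈ A, x ≠ 1 → ∀ K : Subgroup ↥(Omega F ⇑Q), x ∈ K →
      (∀ g ∈ Subgroup.normalizer (A : Set ↥(Omega F ⇑Q)), ∀ k ∈ K, g * k * g⁻¹ ∈ K) → A ≤ K) :
    (∃ (b : ι → F) (hb0 : b ≠ 0) (hb : Q b = 0), A = eichSub Q b hb) ∨
      ∃ Y : Submodule F (ι → F), IsMaxTS Q 4 Y ∧ A ≤ UY Q Y := by
  obtain ⟨x₀, hx₀⟩ := exists_fixed_pt p H A hA
  obtain ⟨b, hb0, hb, hfix⟩ : ∃ (b : ι → F) (hb0 : b ≠ 0) (hb : Q b = 0),
      ∀ a ∈ A, a • pt Q b hb0 hb = pt Q b hb0 hb := by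
    revert hx₀
    induction x₀ using pt_ind with
    | h v hv hQv =>
      intro h
      exact ⟨v, hv, hQv, h⟩
  have hfixb : ∀ a ∈ A, act Q a.1 b = b := by
    intro a ha
    obtain ⟨l, hl⟩ := (smul_pt_iff a b hb0 hb).mp (hfix a ha)
    obtain ⟨k, hk⟩ := hA ⟨a, ha⟩
    have hk' : a.1 ^ (p ^ k) = 1 := by
      have h1 := congrArg (fun x : ↥A => ((x : ↥(Omega F ⇑Q)) : ↥(isometryGroup F ⇑Q))) hk
      simpa using h1
    rw [hl, eigen_one_of_pow p a.1 k hk' b hb0 l hl, one_smul]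
  by_cases hcase : ∀ v : ι → F, Q v = 0 → (∀ a ∈ A, act Q a.1 v = v) → ∃ t : F, v = t • b
  · exact Or.inl ⟨b, hb0, hb, char_case_one p H A hA hcard hC hN b hb0 hb hfixb hcase⟩
  · push Not at hcase
    obtain ⟨b', hb', hfixb', hnb'⟩ := hcase
    exact Or.inr (char_case_two8 p H h8 A hA hC hN b b' hb0 hb hb' hfixb hfixb'
      (by push Not; exact hnb'))

/-- a subgroup of `PΩ` with property `PP` is the image of an Eichler group or lies in the image
of the pointwise stabiliser of a maximal totally singular subspace -/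
theorem PP_dich (p : ℕ) [Fact p.Prime] [CharP F p] (H : Hyp Q) (h8 : Fintype.card ι = 8)
    (u₀ : ι → F) (hu₀0 : u₀ ≠ 0) (hu₀ : Q u₀ = 0) (B : Subgroup (POmega F ⇑Q))
    (hB : PP p (Nat.card ↥(eichSub Q u₀ hu₀)) (Fintype.card F) B) :
    (∃ (b : ι → F) (hb0 : b ≠ 0) (hb : Q b = 0), B = QB b hb) ∨
      ∃ Y : Submodule F (ι → F), IsMaxTS Q 4 Y ∧ B ≤ UB Q Y := by
  obtain ⟨A, hA, rfl⟩ := exists_lift p (hZ_Omega p H) B hB.pgroup
  have hcardA : Nat.card ↥A = Nat.card ↥(eichSub Q u₀ hu₀) := by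
    rw [← card_map_mk p (hZ_Omega p H) A hA]
    exact hB.card
  rcases char_main8 p H h8 A hA
    (by
      intro u hu hu0
      rw [hcardA, card_eichSub_eq H u u₀ hu0 hu₀0 hu hu₀])
    (by
      intro g hg hgp
      have h1 : QuotientGroup.mk' (Subgroup.center ↥(Omega F ⇑Q)) g ∈
          Subgroup.centralizer ((A.map (QuotientGroup.mk' (Subgroup.center ↥(Omega F ⇑Q))) :
            Subgroup _) : Set _) := by
        rw [Subgroup.mem_centralizer_iff]
        intro y hy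
        obtain ⟨a, ha, rfl⟩ := Subgroup.mem_map.mp hy
        rw [← map_mul, ← map_mul, hg a ha]
      obtain ⟨a, ha, h2⟩ := Subgroup.mem_map.mp (hB.cent h1)
      obtain ⟨k, hk⟩ := hA ⟨a, ha⟩
      have hk' : a ^ (p ^ k) = 1 := by
        have := congrArg Subtype.val hk
        simpa using this
      have h3 := eq_of_mk_eq_of_pow p (hZ_Omega p H) a g k 1 hk' (by rw [pow_one]; exact hgp) h2
      rw [← h3]
      exact ha)
    (by
      intro x hx hx1 K hxK hK
      have hx1' : QuotientGroup.mk' (Subgroup.center ↥(Omega F ⇑Q)) x ≠ 1 := by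
        intro h0
        apply hx1
        exact mk_injOn_pgroup p (hZ_Omega p H) A hA x 1 hx (one_mem A) (by rw [h0, map_one])
      have h1 := hB.ncl _ (Subgroup.mem_map_of_mem _ hx) hx1'
        ((K ⊓ A).map (QuotientGroup.mk' (Subgroup.center ↥(Omega F ⇑Q))))
        (Subgroup.mem_map_of_mem _ ⟨hxK, hx⟩)
        (by
          intro y hy k hk
          obtain ⟨g, rfl⟩ := QuotientGroup.mk'_surjective (Subgroup.center ↥(Omega F ⇑Q)) y
          obtain ⟨k', hk', rfl⟩ := Subgroup.mem_map.mp hk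
          have hgN := mem_normalizer_of_mk p (hZ_Omega p H) A hA g hy
          rw [← map_inv, ← map_mul, ← map_mul]
          apply Subgroup.mem_map_of_mem
          refine ⟨hK g hgN k' hk'.1, ?_⟩
          rw [Subgroup.mem_normalizer_iff] at hgN
          exact (hgN k').mp hk'.2)
      intro a ha
      obtain ⟨k, hk, h2⟩ := Subgroup.mem_map.mp (h1 (Subgroup.mem_map_of_mem _ ha))
      have h3 := mk_injOn_pgroup p (hZ_Omega p H) A hA k a hk.2 ha h2
      rw [← h3]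
      exact hk.1) with ⟨b, hb0, hb, hAb⟩ | ⟨Y, hY, hAY⟩
  · left
    refine ⟨b, hb0, hb, ?_⟩
    rw [hAb]
    rfl
  · right
    exact ⟨Y, hY, Subgroup.map_mono hAY⟩

end chr8
end Cfsg.Agent.Lib.Helper7.Tr
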