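import Mathlib
import Cfsg.Prelude
import Cfsg.Agent.Lib.Helper5.OmegaSimple
import Cfsg.Agent.Lib.Helper5.MaxTS
import Cfsg.Agent.Lib.Helper5.OmegaTrans
import Cfsg.Agent.Lib.Helper9.AOR27
import Cfsg.Agent.Lib.Helper7.TrD1

/-! In dimension eight the good automorphisms of `PΩ⁺` have index at most three in the full
automorphism group. -/

set_option autoImplicit false
set_option linter.unusedSectionVars false
set_option linter.unusedVariables false
open Cfsg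

namespace Cfsg.Agent.Lib.Helper7.Tr

open Cfsg.Agent.Lib.Helper9.AOR

open Matrix QuadraticMap Cfsg.Agent.Lib.Helper5.CartanDieudonne Cfsg.Agent.Lib.Helper5.Refl
  Cfsg.Agent.Lib.Helper5.OrthCard Cfsg.Agent.Lib.Helper5.Siegel Cfsg.Agent.Lib.Helper5.QuadIsom
  Cfsg.Agent.Lib.Helper5.ReflGen Cfsg.Agent.Lib.Helper5.Eichler Cfsg.Agent.Lib.Helper5.SingGeom
  Cfsg.Agent.Lib.Helper5.OmegaGen Cfsg.Agent.Lib.Helper5.OmegaSimple

variable {ι : Type} [Fintype ι] [DecidableEq ι] {F : Type*} [Field F] [Fintype F]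
  (Q : QuadraticForm F (ι → F))

section types
open scoped LinearAlgebra.Projectivization Pointwise
open Cfsg.Agent.Lib.Helper5.MaxTS Module Cfsg.Agent.Lib.Helper5.OrthParity
attribute [local instance 2000] omSMul omAction omSMulComm singSMul singAction

/-- the image of the Eichler group of `u` under `β` -/
noncomputable def imQ (β : MulAut (POmega F ⇑Q)) (u : ι → F) : Subgroup (POmega F ⇑Q) :=
  (QBT Q u).comap (MulEquiv.symm β).toMonoidHom

variable {Q}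

theorem mem_imQ (β : MulAut (POmega F ⇑Q)) (u : ι → F) (x : POmega F ⇑Q) :
    x ∈ imQ Q β u ↔ (MulEquiv.symm β) x ∈ QBT Q u := Iff.rfl

theorem PP_imQ (p : ℕ) [Fact p.Prime] [CharP F p] (H : Hyp Q) (h7 : 7 ≤ Fintype.card ι)
    (u₀ : ι → F) (hu₀0 : u₀ ≠ 0) (hu₀ : Q u₀ = 0) (β : MulAut (POmega F ⇑Q)) (u : ι → F)
    (hu0 : u ≠ 0) (hu : Q u = 0) :
    PP p (Nat.card ↥(eichSub Q u₀ hu₀)) (Fintype.card F) (imQ Q β u) := by
  have h1 := (PP_QB p H h7 u₀ hu₀0 hu₀ u hu0 hu).comap (MulEquiv.symm β)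
  unfold imQ
  rw [QBT_eq u hu]
  exact h1

theorem Bm_of_imQ_eq (β : MulAut (POmega F ⇑Q)) (u b : ι → F)
    (h : imQ Q β u = QBT Q b) : Bm Q β u b := by
  intro x
  rw [← h, mem_imQ, MulEquiv.symm_apply_apply]

theorem imQ_eq_of_Bm (β : MulAut (POmega F ⇑Q)) (u b : ι → F) (h : Bm Q β u b) :
    imQ Q β u = QBT Q b := by
  ext x
  rw [mem_imQ, h, MulEquiv.apply_symm_apply]

/-- the dichotomy for an automorphism in dimension eight -/
theorem dich (p : ℕ) [Fact p.Prime] [CharP F p] (H : Hyp Q) (h8 : Fintype.card ι = 8)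
    (u₀ : ι → F) (hu₀0 : u₀ ≠ 0) (hu₀ : Q u₀ = 0) (β : MulAut (POmega F ⇑Q)) :
    (∃ b : ι → F, b ≠ 0 ∧ Q b = 0 ∧ Bm Q β u₀ b) ∨
      ∃ Y : Submodule F (ι → F), IsMaxTS Q 4 Y ∧ imQ Q β u₀ ≤ UB Q Y := by
  have hPP := PP_imQ p H (by omega) u₀ hu₀0 hu₀ β u₀ hu₀0 hu₀
  rcases PP_dich p H h8 u₀ hu₀0 hu₀ _ hPP with ⟨b, hb0, hb, hB⟩ | h
  · left
    refine ⟨b, hb0, hb, Bm_of_imQ_eq β u₀ b ?_⟩
    rw [hB, QBT_eq b hb]
  · right
    exact h

/-- an automorphism mapping one Eichler group to an Eichler group is good -/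
theorem good_of_Bm (H : Hyp Q) (u₀ b : ι → F) (hu₀0 : u₀ ≠ 0) (hu₀ : Q u₀ = 0) (hb0 : b ≠ 0)
    (hb : Q b = 0) (β : MulAut (POmega F ⇑Q)) (hB : Bm Q β u₀ b) : Good Q β := by
  intro u hu0 hu
  obtain ⟨g1, hg1, a, ha, hg1e⟩ := move H u₀ u hu₀0 hu0 hu₀ hu
  obtain ⟨g, hg⟩ : ∃ g : ↥(Omega F ⇑Q), g = ⟨g1, hg1⟩ := ⟨_, rfl⟩
  have hgu : act Q g.1 u₀ = a • u := by rw [hg]; exact hg1e
  obtain ⟨g', hg'⟩ := pr_surjective (Q := Q) (β (pr Q g))
  have h1 := Bm_conj g u₀ hu₀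
  have h2 := Bm_conj g' b hb
  have h3 := Bm_mul (Bm_symm h1) (Bm_mul hB h2)
  have hb0' : act Q g'.1 b ≠ 0 := (smul_ne_zero_iff_ne g').mpr hb0
  have hb' : Q (act Q g'.1 b) = 0 := by rw [quad_act]; exact hb
  refine ⟨act Q g'.1 b, hb0', hb', ?_⟩
  intro x
  have h4 := h3 x
  rw [hgu, QBT_smul u hu a ha] at h4
  rw [h4]
  have h5 : ((MulAut.conj (pr Q g) : POmega F ⇑Q ≃* POmega F ⇑Q).symm.trans
      ((β : POmega F ⇑Q ≃* POmega F ⇑Q).trans (MulAut.conj (pr Q g')))) x = β x := by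
    rw [MulEquiv.trans_apply, MulEquiv.trans_apply, MulAut.conj_apply, MulAut.conj_symm_apply,
      hg', map_mul, map_mul, map_inv]
    group
  rw [h5]

theorem isMaxTS_img (g : ↥(isometryGroup F ⇑Q)) (Y : Submodule F (ι → F))
    (hY : IsMaxTS Q 4 Y) : IsMaxTS Q 4 (img Q g Y) := by
  refine ⟨by rw [finrank_img]; exact hY.1, ?_⟩
  intro w hw
  obtain ⟨u, hu, rfl⟩ := (mem_img Q g Y w).mp hw
  rw [quad_act]
  exact hY.2 u hu

/-- composing with an inner automorphism moves the subspace -/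
theorem imQ_conj_mul (β : MulAut (POmega F ⇑Q)) (u : ι → F) (Y : Submodule F (ι → F))
    (h : imQ Q β u ≤ UB Q Y) (g : ↥(Omega F ⇑Q)) :
    imQ Q (MulAut.conj (pr Q g) * β) u ≤ UB Q (img Q g.1 Y) := by
  intro x hx
  rw [mem_imQ] at hx
  have h1 : (MulEquiv.symm (MulAut.conj (pr Q g) * β)) x =
      (MulEquiv.symm β) ((pr Q g)⁻¹ * x * pr Q g) := rfl
  rw [h1] at hx
  have h2 : (pr Q g)⁻¹ * x * pr Q g ∈ imQ Q β u := hx
  obtain ⟨k, hk, hkx⟩ := Subgroup.mem_map.mp (h h2)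
  have hx' : x = pr Q (g * k * g⁻¹) := by
    rw [map_mul, map_mul, map_inv]
    show x = pr Q g * QuotientGroup.mk' (Subgroup.center ↥(Omega F ⇑Q)) k * (pr Q g)⁻¹
    rw [hkx]
    group
  rw [hx']
  apply Subgroup.mem_map_of_mem
  rw [mem_UY]
  intro y' hy'
  obtain ⟨y, hy, rfl⟩ := (mem_img Q g.1 Y y').mp hy'
  rw [Subgroup.coe_mul, Subgroup.coe_mul, act_mul, act_mul, ← act_mul Q (g⁻¹ : ↥(Omega F ⇑Q)).1,
    ← Subgroup.coe_mul, inv_mul_cancel]
  have h3 : act Q ((1 : ↥(Omega F ⇑Q)) : ↥(isometryGroup F ⇑Q)) y = y := act_one' Q y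
  rw [h3, (mem_UY Y k).mp hk y hy]

theorem conj_mul_conj (β : MulAut (POmega F ⇑Q)) (x : POmega F ⇑Q) :
    β⁻¹ * MulAut.conj x * β = MulAut.conj (β⁻¹ x) := by
  apply MulEquiv.ext
  intro y
  rw [MulAut.mul_apply, MulAut.mul_apply, MulAut.conj_apply, MulAut.conj_apply, map_mul, map_mul,
    map_inv, MulAut.inv_apply_self]

theorem conj_mem_goodSub (x : POmega F ⇑Q) : MulAut.conj x ∈ goodSub Q := by
  obtain ⟨g, rfl⟩ := pr_surjective (Q := Q) x
  exact ⟨_, SR_conj g⟩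

/-- automorphisms whose subspaces lie in the same class differ by a good automorphism -/
theorem same_class (p : ℕ) [Fact p.Prime] [CharP F p] (H : Hyp Q) (h8 : Fintype.card ι = 8)
    (u₀ : ι → F) (hu₀0 : u₀ ≠ 0) (hu₀ : Q u₀ = 0) (β β' : MulAut (POmega F ⇑Q))
    (Y Y' : Submodule F (ι → F)) (hY : IsMaxTS Q 4 Y) (hY' : IsMaxTS Q 4 Y')
    (hβ : imQ Q β u₀ ≤ UB Q Y) (hβ' : imQ Q β' u₀ ≤ UB Q Y')
    (hev : Even (4 - finrank F ↥(Y ⊓ Y'))) : β⁻¹ * β' ∈ goodSub Q := by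
  have hV : finrank F (ι → F) = 2 * 4 := by
    rw [Module.finrank_fintype_fun_eq_card, h8]
  obtain ⟨g1, hg1, himg⟩ := Cfsg.Agent.Lib.Helper5.OmegaTrans.trans_max Q H.nondeg
    (fun h4 => by omega) 4 (by omega) hV Y Y' hY hY' hev
  obtain ⟨g, hg⟩ : ∃ g : ↥(Omega F ⇑Q), g = ⟨g1, hg1⟩ := ⟨_, rfl⟩
  have himg' : img Q g.1 Y = Y' := by rw [hg]; exact himg
  have h1 := imQ_conj_mul β u₀ Y hβ g
  rw [himg'] at h1
  have hPP1 := PP_imQ p H (by omega) u₀ hu₀0 hu₀ (MulAut.conj (pr Q g) * β) u₀ hu₀0 hu₀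
  have hPP2 := PP_imQ p H (by omega) u₀ hu₀0 hu₀ β' u₀ hu₀0 hu₀
  have horth : orth Q Y' ≤ Y' := le_of_eq (orth_eq_of_max Q H.nondeg 4 hV Y' hY')
  have heq : imQ Q (MulAut.conj (pr Q g) * β) u₀ = imQ Q β' u₀ :=
    PP_eq_of_le_comm _ _ (UB Q Y') hPP2 hPP1 hβ' h1 (fun a b ha hb => UB_comm Y' horth a b ha hb)
  obtain ⟨δ, hδ⟩ : ∃ δ : MulAut (POmega F ⇑Q), δ = β'⁻¹ * (MulAut.conj (pr Q g) * β) := ⟨_, rfl⟩
  have hBδ : Bm Q δ u₀ u₀ := by
    apply Bm_of_imQ_eq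
    ext x
    rw [mem_imQ]
    have h2 : (MulEquiv.symm δ) x =
        (MulEquiv.symm (MulAut.conj (pr Q g) * β)) (β' x) := by rw [hδ]; rfl
    rw [h2, ← mem_imQ, heq, mem_imQ, MulEquiv.symm_apply_apply]
  have hGδ : Good Q δ := good_of_Bm H u₀ u₀ hu₀0 hu₀ hu₀0 hu₀ δ hBδ
  have hδmem : δ ∈ goodSub Q := (mem_goodSub_iff p H (by omega) δ).mpr hGδ
  have h3 : β⁻¹ * β' = (β⁻¹ * MulAut.conj (pr Q g) * β) * δ⁻¹ := by
    rw [hδ]
    group
  rw [h3, conj_mul_conj]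
  exact mul_mem (conj_mem_goodSub _) (inv_mem hδmem)

/-- the class of an automorphism -/
noncomputable def cls (u₀ : ι → F) (Y₀ : Submodule F (ι → F)) (β : MulAut (POmega F ⇑Q)) :
    Fin 3 := by
  classical
  exact if β ∈ goodSub Q then 0 else
    if h : ∃ Y : Submodule F (ι → F), IsMaxTS Q 4 Y ∧ imQ Q β u₀ ≤ UB Q Y then
      (if Even (4 - finrank F ↥(Classical.choose h ⊓ Y₀)) then 1 else 2)
    else 0

theorem cls_eq (p : ℕ) [Fact p.Prime] [CharP F p] (H : Hyp Q) (h8 : Fintype.card ι = 8)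
    (u₀ : ι → F) (hu₀0 : u₀ ≠ 0) (hu₀ : Q u₀ = 0) (Y₀ : Submodule F (ι → F))
    (hY₀ : IsMaxTS Q 4 Y₀) (β β' : MulAut (POmega F ⇑Q))
    (h : cls u₀ Y₀ β = cls u₀ Y₀ β') : β⁻¹ * β' ∈ goodSub Q := by
  classical
  have hV : finrank F (ι → F) = 2 * 4 := by
    rw [Module.finrank_fintype_fun_eq_card, h8]
  have hex : ∀ γ : MulAut (POmega F ⇑Q), γ ∉ goodSub Q →
      ∃ Y : Submodule F (ι → F), IsMaxTS Q 4 Y ∧ imQ Q γ u₀ ≤ UB Q Y := by
    intro γ hγ
    rcases dich p H h8 u₀ hu₀0 hu₀ γ with ⟨b, hb0, hb, hB⟩ | h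
    · exact absurd ((mem_goodSub_iff p H (by omega) γ).mpr
        (good_of_Bm H u₀ b hu₀0 hu₀ hb0 hb γ hB)) hγ
    · exact h
  by_cases hβ : β ∈ goodSub Q
  · by_cases hβ' : β' ∈ goodSub Q
    · exact mul_mem (inv_mem hβ) hβ'
    · exfalso
      have hx := hex β' hβ'
      unfold cls at h
      simp only [hβ, hβ', hx, if_true, if_false, dif_pos] at h
      split_ifs at h <;> exact absurd h (by decide)
  · by_cases hβ' : β' ∈ goodSub Q
    · exfalso
      have hx := hex β hβ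
      unfold cls at h
      simp only [hβ, hβ', hx, if_true, if_false, dif_pos] at h
      split_ifs at h <;> exact absurd h (by decide)
    · have hx := hex β hβ
      have hx' := hex β' hβ'
      have hs := Classical.choose_spec hx
      have hs' := Classical.choose_spec hx'
      unfold cls at h
      simp only [hβ, hβ', hx, hx', if_false, dif_pos] at h
      have hpar : Even (4 - finrank F ↥(Classical.choose hx ⊓ Y₀)) ↔
          Even (4 - finrank F ↥(Classical.choose hx' ⊓ Y₀)) := by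
        by_cases h1 : Even (4 - finrank F ↥(Classical.choose hx ⊓ Y₀)) <;>
          by_cases h2 : Even (4 - finrank F ↥(Classical.choose hx' ⊓ Y₀))
        · exact ⟨fun _ => h2, fun _ => h1⟩
        · simp only [if_pos h1, if_neg h2] at h
          exact absurd h (by decide)
        · simp only [if_neg h1, if_pos h2] at h
          exact absurd h (by decide)
        · exact ⟨fun a => absurd a h1, fun a => absurd a h2⟩
      have hsum := even_sum Q H.nondeg 4 hV (Classical.choose hx) Y₀ (Classical.choose hx')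
        hs.1 hY₀ hs'.1
      rw [inf_comm Y₀ (Classical.choose hx')] at hsum
      have hev : Even (4 - finrank F ↥(Classical.choose hx ⊓ Classical.choose hx')) := by
        rw [Nat.even_add, Nat.even_add] at hsum
        exact hsum.mp hpar
      exact same_class p H h8 u₀ hu₀0 hu₀ β β' _ _ hs.1 hs'.1 hs.2 hs'.2 hev

/-- the index of the good automorphisms is at most three -/
theorem index_le_three (p : ℕ) [Fact p.Prime] [CharP F p] (H : Hyp Q) (h8 : Fintype.card ι = 8)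
    (Y₀ : Submodule F (ι → F)) (hY₀ : IsMaxTS Q 4 Y₀) : (goodSub Q).index ≤ 3 := by
  obtain ⟨e, f, he, hf, hef⟩ := exists_hyp_pair H
  have he0 : e ≠ 0 := by
    rintro rfl
    simp [polar] at hef
  have hinj : Function.Injective
      (fun q : MulAut (POmega F ⇑Q) ⧸ goodSub Q => cls e Y₀ (Quotient.out q)) := by
    intro q q' hqq'
    have h1 := cls_eq p H h8 e he0 he Y₀ hY₀ _ _ hqq'
    have h2 : (QuotientGroup.mk (Quotient.out q) : MulAut (POmega F ⇑Q) ⧸ goodSub Q) =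
        QuotientGroup.mk (Quotient.out q') := QuotientGroup.eq.mpr h1
    rw [QuotientGroup.out_eq', QuotientGroup.out_eq'] at h2
    exact h2
  have h3 := Nat.card_le_card_of_injective _ hinj
  rw [Nat.card_fin] at h3
  exact h3

end types
end Cfsg.Agent.Lib.Helper7.Tr
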