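import Mathlib
import Cfsg.Prelude
import Cfsg.Agent.Lib.Helper5.OmegaSimple
import Cfsg.Agent.Lib.Helper5.MaxTS
import Cfsg.Agent.Lib.Helper9.AOR27
import Cfsg.Agent.Lib.Helper7.TrA

/-! An Eichler element of `PΩ` lying in the Eichler group of a singular vector `b`: then `b` lies
on the line of the element. -/

set_option autoImplicit false
set_option linter.unusedSectionVars false
set_option linter.unusedVariables false
open Cfsg

namespace Cfsg.Agent.Lib.Helper7.Tr

open Cfsg.Agent.Lib.Helper9.AOR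

open Matrix QuadraticMap Cfsg.Agent.Lib.Helper5.CartanDieudonne Cfsg.Agent.Lib.Helper5.Refl
  Cfsg.Agent.Lib.Helper5.OrthCard Cfsg.Agent.Lib.Helper5.Siegel Cfsg.Agent.Lib.Helper5.QuadIsom
  Cfsg.Agent.Lib.Helper5.ReflGen Cfsg.Agent.Lib.Helper5.Eichler Cfsg.Agent.Lib.Helper5.SingGeom
  Cfsg.Agent.Lib.Helper5.OmegaGen Cfsg.Agent.Lib.Helper5.OmegaSimple

variable {ι : Type} [Fintype ι] [DecidableEq ι] {F : Type*} [Field F] [Fintype F]
  {Q : QuadraticForm F (ι → F)}

section line
open scoped LinearAlgebra.Projectivization Pointwise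
open Cfsg.Agent.Lib.Helper5.MaxTS Module
attribute [local instance 2000] omSMul omAction omSMulComm singSMul singAction

theorem span_of_pe_mem (p : ℕ) [Fact p.Prime] [CharP F p] (H : Hyp Q) (u z b : ι → F)
    (hu0 : u ≠ 0) (hb0 : b ≠ 0) (hu : Q u = 0) (hb : Q b = 0) (huz : polar ⇑Q u z = 0)
    (hz : ¬ ∃ t : F, z = t • u) (hmem : pe H u z ∈ QBT Q b) :
    ∃ s t : F, b = s • u + t • z := by
  obtain ⟨z'', hz'', h4⟩ := (mem_QBT_iff H b hb _).mp hmem
  unfold pe at h4
  rw [eoT_eq H u z hu huz, eoT_eq H b z'' hb hz''] at h4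
  have h5 := pr_eq_of_pow p H _ _ (eo_pow_char p H u z hu huz)
    (eo_pow_char p H b z'' hb hz'') h4
  by_cases hbu : ∃ t : F, b = t • u
  · obtain ⟨t, rfl⟩ := hbu
    exact ⟨t, 0, by simp⟩
  · rcases eichSub_inf H u b hu0 hb0 hu hb hbu (eo H u z hu huz) (eo_mem H u z hu huz)
      (by rw [h5]; exact eo_mem H b z'' hb hz'') with h6 | ⟨h6, t, ht, h7⟩
    · exact absurd ((eo_eq_one_iff H u z hu huz hu0).mp h6) hz
    · obtain ⟨s, hs⟩ := (eo_eq_eo_iff H u z (t • b) hu huz ht hu0).mp h7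
      have ht0 : t ≠ 0 := by
        rintro rfl
        rw [zero_smul, zero_add] at hs
        exact hz ⟨s, hs⟩
      refine ⟨-(t⁻¹ * s), t⁻¹, ?_⟩
      rw [hs, smul_add, smul_smul, smul_smul, inv_mul_cancel₀ ht0, one_smul]
      module

/-- an Eichler element along a singular `z` also lies in the group of `z` -/
theorem pe_mem_right' (H : Hyp Q) (u v : ι → F) (hu : Q u = 0) (hv : Q v = 0)
    (h : polar ⇑Q u v = 0) (c : F) : pe H u (c • v) ∈ QBT Q v := by
  by_cases hc : c = 0
  · rw [hc, zero_smul]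
    have h1 : pe H u 0 = 1 := by
      have := pe_mul H u 0 0 hu (by simp [polar]) (by simp [polar])
      rw [add_zero] at this
      exact mul_eq_left.mp this
    rw [h1]
    exact one_mem _
  · have hcv : Q (c • v) = 0 := by rw [QuadraticMap.map_smul, hv, smul_zero]
    have h1 := pe_mem_right H u (c • v) hu hcv (by rw [polar_smul_right, h, smul_zero])
    rw [QBT_smul v hv c hc] at h1
    exact h1

end line
end Cfsg.Agent.Lib.Helper7.Tr
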