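import Mathlib
import Cfsg.Prelude
import Cfsg.Agent.Lib.Helper5.D4Orth.Final
import Cfsg.Agent.Lib.Helper5.ChevGraph
import Cfsg.Agent.Lib.Helper5.ChevChk.GraphData
import Cfsg.Agent.Lib.Helper5.QuadStd

/-! The triality automorphism of `PΩ⁺₈(F)`, transported from the graph automorphism of the
Chevalley group `D₄(F)` through helper5's isomorphism (`Lib/Helper5/D4Orth`). -/

set_option autoImplicit false
set_option linter.unusedSectionVars false
set_option linter.unusedVariables false
open Cfsg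

namespace Cfsg.Agent.Lib.Helper7.Tr

open Cfsg.Lie Matrix Cfsg.Agent.Lib.Helper5 Cfsg.Agent.Lib.Helper5.StPres
  Cfsg.Agent.Lib.Helper5.ChevStruct Cfsg.Agent.Lib.Helper5.IsomReindex
  Cfsg.Agent.Lib.Helper5.B2Orth Cfsg.Agent.Lib.Helper5.D4Orth Cfsg.Agent.Lib.Helper5.ChevSym

/-- two central quotients of the same group, with the isomorphism made explicit -/
theorem exists_equiv_of_central_quotients {S G₀ K : Type*} [Group S] [Group G₀] [Group K]
    (θ : S →* G₀) (hθ : Function.Surjective θ) (hker : θ.ker = Subgroup.center S)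
    (hsimple : IsSimpleGroup G₀)
    (H : Subgroup K) (ψ : S →* K) (hrange : ψ.range = H) (hH : ∃ x y : H, x * y ≠ y * x) :
    ∃ e : G₀ ≃* H ⧸ Subgroup.center H, ∀ (s : S) (hs : ψ s ∈ H),
      e (θ s) = QuotientGroup.mk (⟨ψ s, hs⟩ : H) := by
  have hmem : ∀ s, ψ s ∈ H := fun s => by rw [← hrange]; exact ⟨s, rfl⟩
  let φ : S →* H := ψ.codRestrict H hmem
  have hφ : Function.Surjective φ := by
    rintro ⟨h, hh⟩
    rw [← hrange] at hh
    obtain ⟨s, rfl⟩ := hh
    exact ⟨s, rfl⟩
  let ρ : S →* H ⧸ Subgroup.center H := (QuotientGroup.mk' (Subgroup.center H)).comp φ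
  have hρ : Function.Surjective ρ := (QuotientGroup.mk'_surjective _).comp hφ
  have hρker : ∀ s, s ∈ ρ.ker ↔ φ s ∈ Subgroup.center H := by
    intro s
    rw [MonoidHom.mem_ker]
    show (QuotientGroup.mk (φ s) : H ⧸ Subgroup.center H) = 1 ↔ _
    rw [QuotientGroup.eq_one_iff]
  have hcen : ∀ z ∈ Subgroup.center S, φ z ∈ Subgroup.center H := by
    intro z hz
    rw [Subgroup.mem_center_iff]
    intro h
    obtain ⟨s, rfl⟩ := hφ h
    rw [← map_mul, ← map_mul, (Subgroup.mem_center_iff.1 hz s)]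
  have hkk : ρ.ker = θ.ker := by
    apply le_antisymm
    · have hN : (ρ.ker.map θ).Normal := Subgroup.Normal.map inferInstance θ hθ
      rcases hN.eq_bot_or_eq_top with hb | ht
      · intro s hs
        rw [MonoidHom.mem_ker]
        have : θ s ∈ ρ.ker.map θ := ⟨s, hs, rfl⟩
        rw [hb] at this
        exact Subgroup.mem_bot.1 this
      · exfalso
        obtain ⟨x, y, hxy⟩ := hH
        apply hxy
        have hall : ∀ h : H, h ∈ Subgroup.center H := by
          intro h
          obtain ⟨s, rfl⟩ := hφ h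
          have : θ s ∈ ρ.ker.map θ := by rw [ht]; exact Subgroup.mem_top _
          obtain ⟨n, hn, hns⟩ := this
          have hz : s * n⁻¹ ∈ Subgroup.center S := by
            rw [← hker, MonoidHom.mem_ker, map_mul, map_inv, hns, mul_inv_cancel]
          have e : s = (s * n⁻¹) * n := by group
          rw [e, map_mul]
          exact mul_mem (hcen _ hz) ((hρker n).1 hn)
        exact Subgroup.mem_center_iff.1 (hall y) x
    · rw [hker]
      intro z hz
      exact (hρker z).2 (hcen z hz)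
  refine ⟨(QuotientGroup.quotientKerEquivOfSurjective θ hθ).symm.trans
    ((QuotientGroup.quotientMulEquivOfEq hkk.symm).trans
      (QuotientGroup.quotientKerEquivOfSurjective ρ hρ)), fun s hs => ?_⟩
  have h1 : (QuotientGroup.quotientKerEquivOfSurjective θ hθ).symm (θ s) =
      (QuotientGroup.mk s : S ⧸ θ.ker) := by
    rw [MulEquiv.symm_apply_eq]
    rfl
  rw [MulEquiv.trans_apply, h1]
  rfl

variable {F : Type*} [Field F]

theorem plusForm_eq_Q8 (v : Fin 4 ⊕ Fin 4 → F) : plusForm 4 F v = Q8 (v ∘ sig8) := by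
  rw [plusForm_apply]
  exact quadFormPlus_eq v

/-- the isometry groups in the two coordinate systems -/
noncomputable def o8E (F : Type*) [Field F] : O8 F ≃* ↥(isometryGroup F ⇑(plusForm 4 F)) :=
  isometryGroupReindexMul sig8 (Q8 (F := F)) (⇑(plusForm 4 F)) plusForm_eq_Q8

theorem o8E_mem (z : O8 F) (hz : z ∈ E8 F) : o8E F z ∈ Omega F ⇑(plusForm 4 F) := by
  show _ ∈ commutator _
  rw [← map_commutator_equiv (o8E F), commutator_eq_E8]
  exact ⟨z, hz, rfl⟩

/-- the root elements in `Ω` -/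
noncomputable def xOm (r : ℕ) (t : F) : ↥(Omega F ⇑(plusForm 4 F)) :=
  ⟨o8E F (xO r t), o8E_mem _ (xO_mem r t)⟩

/-- the root elements in `PΩ` -/
noncomputable def Xr (r : ℕ) (t : F) : POmega F ⇑(plusForm 4 F) := QuotientGroup.mk (xOm r t)

theorem hD4 : chevD4 ∈ Seven := by simp

/-- the Steinberg parametrisation of `PΩ⁺₈(F)` -/
theorem exists_param : ∃ (θ : chevD4.SteinbergGroup F →* ↥(chevD4.group F))
    (e : ↥(chevD4.group F) ≃* POmega F ⇑(plusForm 4 F)), Function.Surjective θ ∧
    (∀ (r : ℕ) (t : F), r < 24 →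
      ((θ (chevD4.stGen F r t) : GL chevD4.Idx F) : Matrix chevD4.Idx chevD4.Idx F)
        = chevD4.x F r t) ∧
    ∀ r < 24, ∀ t : F, e (θ (chevD4.stGen F r t)) = Xr r t := by
  obtain ⟨θ, hθ, hker, hθx⟩ := st_main chevD4 hD4 F
  have hsimple := (group_simple (F := F) chevD4 hD4 (by
    intro h
    exfalso
    rcases h with h | h
    · have := congrArg ChevalleyDatum.rank h
      revert this
      decide
    · have := congrArg ChevalleyDatum.rank h
      revert this
      decide)).1
  let ψ : chevD4.SteinbergGroup F →* ↥(isometryGroup F ⇑(plusForm 4 F)) :=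
    (o8E F).toMonoidHom.comp ((E8 F).subtype.comp (stToE F))
  have hrange : ψ.range = commutator ↥(isometryGroup F ⇑(plusForm 4 F)) := by
    rw [MonoidHom.range_comp, MonoidHom.range_comp, MonoidHom.range_eq_top.2 stToE_surjective,
      ← MonoidHom.range_eq_map, Subgroup.range_subtype, ← commutator_eq_E8,
      map_commutator_equiv]
  have hnc : ∃ x y : ↥(commutator ↥(isometryGroup F ⇑(plusForm 4 F))),
      x * y ≠ y * x := by
    obtain ⟨x, y, hxy⟩ := E8_not_comm (F := F)
    have mem : ∀ z : ↥(E8 F), (o8E F) (z : O8 F) ∈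
        commutator ↥(isometryGroup F ⇑(plusForm 4 F)) := fun z => o8E_mem _ z.2
    refine ⟨⟨_, mem x⟩, ⟨_, mem y⟩, fun h => hxy ?_⟩
    have h' := congrArg Subtype.val h
    simp only [Subgroup.coe_mul] at h'
    rw [← map_mul, ← map_mul] at h'
    apply Subtype.ext
    exact (o8E F).injective h'
  obtain ⟨e, he⟩ := exists_equiv_of_central_quotients θ hθ hker hsimple _ ψ hrange hnc
  have hX : ∀ r < 24, ∀ t : F, e (θ (chevD4.stGen F r t)) = Xr r t := by
    intro r hr t
    have hψ : ψ (chevD4.stGen F r t) = o8E F (xO r t) := by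
      show (o8E F) (((stToE F) (chevD4.stGen F r t) : ↥(E8 F)) : O8 F) = _
      rw [stToE_stGen r hr t]
      rfl
    have hs : ψ (chevD4.stGen F r t) ∈ commutator ↥(isometryGroup F ⇑(plusForm 4 F)) := by
      rw [hψ]
      exact o8E_mem _ (xO_mem r t)
    rw [he _ hs]
    unfold Xr xOm
    congr 1
    exact Subtype.ext hψ
  exact ⟨θ, e, hθ, fun r t hr => hθx r t hr, hX⟩

/-- a graph datum of `D₄` gives an automorphism of `PΩ⁺₈(F)` -/
theorem exists_graph (g : GraphData) (hp : checkGraphPerm chevD4 g = true)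
    (hc : ∀ r < 24, checkGraphAt chevD4 g r = true) :
    ∃ τ : MulAut (POmega F ⇑(plusForm 4 F)), ∀ r < 24, ∀ t : F,
      τ (Xr r t) = Xr (g.pr.getD r 0) (((g.eps.getD r 1 : ℤ) : F) * t) := by
  obtain ⟨θ, e, hθ, hθx, hX⟩ := exists_param (F := F)
  obtain ⟨α, hα⟩ := exists_graphAut_x (F := F) chevD4 g hp (fun r hr => hc r hr)
  refine ⟨e.symm.trans (α.trans e), fun r hr t => ?_⟩
  have hpr : g.pr.getD r 0 < 24 := (checkGraphPerm_root chevD4 g hp r hr).1
  rw [← hX r hr t, ← hX _ hpr]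
  rw [MulEquiv.trans_apply, MulEquiv.trans_apply, MulEquiv.symm_apply_apply]
  congr 1
  apply Subtype.ext
  apply Units.ext
  rw [hα _ r t hr (hθx r t hr), hθx _ _ hpr]

/-- **the triality automorphism** -/
theorem exists_triality : ∃ τ : MulAut (POmega F ⇑(plusForm 4 F)), ∀ r < 24, ∀ t : F,
    τ (Xr r t) = Xr (gD4a.pr.getD r 0) (((gD4a.eps.getD r 1 : ℤ) : F) * t) :=
  exists_graph gD4a chkGraphPerm_gD4a (fun r hr => chkGraph_gD4a r hr)

/-- homomorphisms out of `PΩ⁺₈(F)` are determined by their values on the root elements -/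
theorem hom_ext_Xr {K : Type*} [Group K] (φ ψ : POmega F ⇑(plusForm 4 F) →* K)
    (h : ∀ r < 24, ∀ t : F, φ (Xr r t) = ψ (Xr r t)) : φ = ψ := by
  obtain ⟨θ, e, hθ, hθx, hX⟩ := exists_param (F := F)
  have h1 : (φ.comp e.toMonoidHom).comp θ = (ψ.comp e.toMonoidHom).comp θ := by
    apply PresentedGroup.ext
    rintro ⟨⟨r, hr⟩, t⟩
    have e1 : (PresentedGroup.of (⟨⟨r, hr⟩, t⟩ : Fin chevD4.nroots × F) :
        PresentedGroup (chevD4.steinbergRels F)) = chevD4.stGen F r t := by
      unfold ChevalleyDatum.stGen ChevalleyDatum.stX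
      rw [dif_pos hr]
      rfl
    rw [e1]
    show φ (e (θ (chevD4.stGen F r t))) = ψ (e (θ (chevD4.stGen F r t)))
    rw [hX r hr t]
    exact h r hr t
  apply MonoidHom.ext
  intro x
  obtain ⟨y, rfl⟩ := e.surjective x
  obtain ⟨z, rfl⟩ := hθ y
  exact DFunLike.congr_fun h1 z

/-- automorphisms of `PΩ⁺₈(F)` are determined by their values on the root elements -/
theorem aut_ext_Xr (β₁ β₂ : MulAut (POmega F ⇑(plusForm 4 F)))
    (h : ∀ r < 24, ∀ t : F, β₁ (Xr r t) = β₂ (Xr r t)) : β₁ = β₂ := by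
  have h1 := hom_ext_Xr β₁.toMonoidHom β₂.toMonoidHom (fun r hr t => h r hr t)
  apply MulEquiv.ext
  intro x
  exact DFunLike.congr_fun h1 x

end Cfsg.Agent.Lib.Helper7.Tr
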