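import Mathlib
import Cfsg.Prelude
import Cfsg.Agent.Lib.Helper5.OmegaSimple
import Cfsg.Agent.Lib.Helper5.MaxTS
import Cfsg.Agent.Lib.Helper9.AOR32
import Cfsg.Agent.S0293
import Cfsg.Agent.Lib.Helper5.OAut.SimInst
import Cfsg.Agent.Lib.Helper5.OAut.Arith
import Cfsg.Agent.Lib.Helper7.TrC

/-! The order of the group of good automorphisms of `PΩ⁺_{2m}(q)`. -/

set_option autoImplicit false
set_option linter.unusedSectionVars false
set_option linter.unusedVariables false
open Cfsg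

namespace Cfsg.Agent.Lib.Helper7.Tr

open Cfsg.Agent.Lib.Helper9.AOR

open Matrix QuadraticMap Cfsg.Agent.Lib.Helper5 Cfsg.Agent.Lib.Helper5.CartanDieudonne
  Cfsg.Agent.Lib.Helper5.Refl
  Cfsg.Agent.Lib.Helper5.OrthCard Cfsg.Agent.Lib.Helper5.Siegel Cfsg.Agent.Lib.Helper5.QuadIsom
  Cfsg.Agent.Lib.Helper5.ReflGen Cfsg.Agent.Lib.Helper5.Eichler Cfsg.Agent.Lib.Helper5.SingGeom
  Cfsg.Agent.Lib.Helper5.OmegaGen Cfsg.Agent.Lib.Helper5.OmegaSimple

variable {F : Type*} [Field F] [Fintype F]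

section plusmain
open Cfsg.Agent.Lib.Helper5.SpinorHyp Cfsg.Agent.Lib.Helper5.SpinorHyp2
  Cfsg.Agent.Lib.Helper5.OAut Cfsg.Agent.Lib.Helper5.SpinorNorm Cfsg.Agent.Lib.Helper5.POmegaCard
  Cfsg.Agent.Lib.Helper5.SpinorDiag

/-- a vector of norm one -/
def w0plus (F : Type*) [Field F] (m : ℕ) (hm : 1 ≤ m) : Fin m ⊕ Fin m → F :=
  fun k => if k = Sum.inl ⟨0, by omega⟩ ∨ k = Sum.inr ⟨0, by omega⟩ then 1 else 0

omit [Fintype F] in
theorem plusForm_w0 (m : ℕ) (hm : 1 ≤ m) : plusForm m F (w0plus F m hm) = 1 := by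
  rw [plusForm_apply]
  unfold Cfsg.quadFormPlus w0plus
  rw [Finset.sum_eq_single (⟨0, by omega⟩ : Fin m)]
  · simp
  · intro b _ hb
    simp [hb]
  · intro h
    exact absurd (Finset.mem_univ _) h

omit [Fintype F] in
theorem plusForm_field (m : ℕ) (σ : F ≃+* F) (v : Fin m ⊕ Fin m → F) :
    plusForm m F (sm 1 σ v) = 1 * σ (plusForm m F v) := by
  unfold sm
  rw [Units.val_one, Matrix.one_mulVec, one_mul, plusForm_apply, plusForm_apply]
  simp [Cfsg.quadFormPlus, Cfsg.Agent.Lib.Helper9.AOR.vm, map_sum]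

theorem plus_Hyp (m : ℕ) (hm : 3 ≤ m) : Hyp (plusForm m F) := by
  have hQ := PlusGeom.plus_nondegenerate (F := F) m
  have hfam := Cfsg.Agent.S2613.plus_hypFamily (F := F) (le_refl m)
  exact Hyp.of_hypFamily hQ hfam hm (by rw [Fintype.card_sum, Fintype.card_fin]; omega)

theorem multHomO_surj_plus (m : ℕ) (hm : 1 ≤ m) :
    Function.Surjective (multHomO (plusForm_w0 (F := F) m hm)) := by
  intro ν
  obtain ⟨g, hg⟩ := exists_sim_plus (F := F) m (ν : F) ν.ne_zero
  refine ⟨⟨g, ⟨ν, fun w => hg w⟩⟩, ?_⟩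
  apply Units.ext
  rw [multHomO_coe]
  show plusForm m F _ = _
  rw [hg, plusForm_w0, mul_one]

theorem card_goodSub_plus (p f : ℕ) [Fact p.Prime] (hF : Fintype.card F = p ^ f) (m : ℕ)
    (hm : 3 ≤ m) :
    Nat.card ↥(goodSub (plusForm m F)) =
      f * Nat.card ↥(isometryGroup F ⇑(plusForm m F)) := by
  have := charP_of_card' p f hF
  have hQ := PlusGeom.plus_nondegenerate (F := F) m
  have hfam := Cfsg.Agent.S2613.plus_hypFamily (F := F) (le_refl m)
  have hn : Fintype.card (Fin m ⊕ Fin m) = 2 * m := by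
    simp only [Fintype.card_sum, Fintype.card_fin]; omega
  have H := plus_Hyp (F := F) m hm
  have hfield : ∀ σ : F ≃+* F, ∃ (g : Matrix.GeneralLinearGroup (Fin m ⊕ Fin m) F)
      (c : F), c ≠ 0 ∧ ∀ v, plusForm m F (sm g σ v) = c * σ (plusForm m F v) :=
    fun σ => ⟨1, 1, one_ne_zero, plusForm_field m σ⟩
  have hA := card_goodSub p H hfield
  rw [(ringAut_card_cyclic p f hF).2] at hA
  have hker : ∀ g ∈ (conjGO (plusForm m F)).ker, ∃ c : F,
      ((g : GL (Fin m ⊕ Fin m) F) :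
        Matrix (Fin m ⊕ Fin m) (Fin m ⊕ Fin m) F) = c • 1 := by
    intro g hg
    obtain ⟨c, _, hc⟩ := scalar_of_mem_ker_conjGO hQ hfam hm (by omega)
      (plusForm_w0 (F := F) m (by omega)) g hg
    exact ⟨c, hc⟩
  have : Nonempty (Fin m ⊕ Fin m) := ⟨Sum.inl ⟨0, by omega⟩⟩
  have hR := card_range_conjGO_mul (plusForm_w0 (F := F) m (by omega)) hker
  have hU : Nat.card Fˣ = Fintype.card F - 1 := by
    classical
    rw [Nat.card_eq_fintype_card, Fintype.card_units]
  rw [MonoidHom.range_eq_top.mpr (multHomO_surj_plus m (by omega)), Subgroup.card_top, hU] at hR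
  have hq : 0 < Fintype.card F - 1 := by
    have := Fintype.one_lt_card (α := F)
    omega
  have h5 := Nat.eq_of_mul_eq_mul_right hq hR
  rw [hA, h5, mul_comm]

theorem parity_aux_plus (q m : ℕ) (hq : Odd q) :
    Even (m * (q - 1) / 2) ↔ q ^ m % 4 = 1 := even_iff_pow_mod_four q m hq

/-- the order of the group of good automorphisms of the plus type group -/
theorem card_goodSub_plus' (p f : ℕ) [Fact p.Prime] (hF : Fintype.card F = p ^ f) (m : ℕ)
    (hm : 4 ≤ m) :
    Nat.card ↥(goodSub (plusForm m F)) =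
      (if p = 2 then 2 else (if Even (m * (p ^ f - 1) / 2) then 8 else 4)) * f *
        Nat.card (POmega F ⇑(plusForm m F)) := by
  have := charP_of_card' p f hF
  have hA := card_goodSub_plus (F := F) p f hF m (by omega)
  have hQ := PlusGeom.plus_nondegenerate (F := F) m
  have hfam := Cfsg.Agent.S2613.plus_hypFamily (F := F) (le_refl m)
  have hn : Fintype.card (Fin m ⊕ Fin m) = 2 * m := by
    simp only [Fintype.card_sum, Fintype.card_fin]; omega
  have : Nonempty (Fin m ⊕ Fin m) := ⟨Sum.inl ⟨0, by omega⟩⟩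
  by_cases hp2 : p = 2
  · rw [if_pos hp2]
    subst hp2
    have h2 : (2 : F) = 0 := by
      have := CharP.cast_eq_zero F 2
      exact_mod_cast this
    have h1 := card_of_char_two h2 hQ hfam (by omega) (by rw [hn]; omega)
    rw [hA, ← h1]
    ring
  · rw [if_neg hp2]
    have hpodd : Odd p := (Fact.out : p.Prime).odd_of_ne_two hp2
    have hqodd : Odd (p ^ f) := hpodd.pow
    have h2 : (2 : F) ≠ 0 := Cfsg.Agent.Lib.Helper5.two_ne_zero_of_odd_card (by rw [hF]; exact hqodd)
    have hiff := Cfsg.Agent.S0293.negOne_mem_iff (F := F) hF hqodd m (by omega)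
    rw [← parity_aux_plus _ _ hqodd] at hiff
    by_cases hev : Even (m * (p ^ f - 1) / 2)
    · rw [if_pos hev]
      have hneg := hiff.mpr hev
      have h1 := card_of_mem h2 hQ hfam (by omega) (by rw [hn]; omega) hneg
      rw [hA, ← h1]
      ring
    · rw [if_neg hev]
      have hneg : Cfsg.Agent.Lib.Helper5.SpinorDiag.negOne (plusForm m F) ∉
          Omega F ⇑(plusForm m F) := by
        rw [hiff]
        exact hev
      have h1 := card_of_not_mem h2 hQ hfam (by omega) (by rw [hn]; omega) hneg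
      rw [hA, ← h1]
      ring

end plusmain
end Cfsg.Agent.Lib.Helper7.Tr
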