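import Mathlib
import Cfsg.Prelude
import Cfsg.Agent.Lib.Helper7.TrE0
import Cfsg.Agent.Lib.Helper7.TrE1
import Cfsg.Agent.Lib.Helper7.TrF1

/-! The root elements of `PΩ⁺₈(F)` coming from `D₄(F)` are Eichler elements. -/

set_option autoImplicit false
set_option linter.unusedSectionVars false
set_option linter.unusedVariables false
open Cfsg

namespace Cfsg.Agent.Lib.Helper7.Tr

open Cfsg.Agent.Lib.Helper9.AOR

open Matrix QuadraticMap Cfsg.Agent.Lib.Helper5 Cfsg.Agent.Lib.Helper5.CartanDieudonne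
  Cfsg.Agent.Lib.Helper5.Refl
  Cfsg.Agent.Lib.Helper5.OrthCard Cfsg.Agent.Lib.Helper5.Siegel Cfsg.Agent.Lib.Helper5.QuadIsom
  Cfsg.Agent.Lib.Helper5.ReflGen Cfsg.Agent.Lib.Helper5.Eichler Cfsg.Agent.Lib.Helper5.SingGeom
  Cfsg.Agent.Lib.Helper5.OmegaGen Cfsg.Agent.Lib.Helper5.OmegaSimple
  Cfsg.Agent.Lib.Helper5.IsomReindex

variable {F : Type*} [Field F]

/-- the basis vectors in the coordinates of `D4Orth` -/
def ev (j : Fin 8) : Fin 4 ⊕ Fin 4 → F := Pi.single (D4Orth.sig8 j) 1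

theorem ev_apply (j k : Fin 8) : (ev j : Fin 4 ⊕ Fin 4 → F) (D4Orth.sig8 k) = if k = j then 1 else 0 := by
  unfold ev
  rw [Pi.single_apply]
  simp only [EmbeddingLike.apply_eq_iff_eq]

theorem polar_ev (j : Fin 8) (x : Fin 4 ⊕ Fin 4 → F) :
    polar ⇑(plusForm 4 F) (ev j) x = x (D4Orth.sig8 (D4Orth.cj j)) := by
  rw [polar_comm]
  unfold ev
  fin_cases j
  · exact PlusGeom.polar_single_inl 4 x 0
  · exact PlusGeom.polar_single_inl 4 x 1
  · exact PlusGeom.polar_single_inl 4 x 2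
  · exact PlusGeom.polar_single_inl 4 x 3
  · exact PlusGeom.polar_single_inr 4 x 0
  · exact PlusGeom.polar_single_inr 4 x 1
  · exact PlusGeom.polar_single_inr 4 x 2
  · exact PlusGeom.polar_single_inr 4 x 3

theorem quad_ev (j : Fin 8) : plusForm 4 F (ev j) = 0 := by
  unfold ev
  fin_cases j
  · exact PlusGeom.plus_single_inl 4 0 1
  · exact PlusGeom.plus_single_inl 4 1 1
  · exact PlusGeom.plus_single_inl 4 2 1
  · exact PlusGeom.plus_single_inl 4 3 1
  · exact PlusGeom.plus_single_inr 4 0 1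
  · exact PlusGeom.plus_single_inr 4 1 1
  · exact PlusGeom.plus_single_inr 4 2 1
  · exact PlusGeom.plus_single_inr 4 3 1

theorem ev_ne_zero (j : Fin 8) : (ev j : Fin 4 ⊕ Fin 4 → F) ≠ 0 := by
  intro h
  have h1 := congrFun h (D4Orth.sig8 j)
  rw [ev_apply, if_pos rfl] at h1
  exact one_ne_zero h1

theorem polar_ev_ev (j k : Fin 8) :
    polar ⇑(plusForm 4 F) (ev j) (ev k) = if D4Orth.cj j = k then 1 else 0 := by
  rw [polar_ev, ev_apply]

theorem act_o8E (g : D4Orth.O8 F) (x : Fin 4 ⊕ Fin 4 → F) (i : Fin 8) :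
    act (plusForm 4 F) (o8E F g) x (D4Orth.sig8 i) =
      (((g : GL (Fin 8) F) : Matrix (Fin 8) (Fin 8) F) *ᵥ (x ∘ D4Orth.sig8)) i := by
  unfold act o8E
  rw [isometryGroupReindexMul_coe, Matrix.reindex_apply, Matrix.submatrix_mulVec_equiv]
  simp

section fin
variable [Fintype F]

/-- the elementary isometries are Eichler elements -/
theorem o8E_TO (a b : Fin 8) (h1 : a ≠ b) (h2 : a ≠ D4Orth.cj b) (t : F)
    (hu : plusForm 4 F (ev (D4Orth.cj b)) = 0)
    (huz : polar ⇑(plusForm 4 F) (ev (D4Orth.cj b)) (t • ev a) = 0) :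
    o8E F (D4Orth.TO a b t) = eich (plusForm 4 F) (ev (D4Orth.cj b)) (t • ev a) hu huz := by
  apply ext_act
  intro x
  funext k
  obtain ⟨i, rfl⟩ := D4Orth.sig8.surjective k
  rw [act_o8E, D4Orth.TO_val a b h1 h2, D4Orth.Tm_mulVec, act_eich', polar_ev,
    polar_smul_left, polar_ev, QuadraticMap.map_smul, quad_ev, D4Orth.cj_cj]
  simp only [Pi.add_apply, Pi.smul_apply, ev_apply, smul_eq_mul, Function.comp_apply, mul_zero,
    zero_mul, add_zero]
  split_ifs <;> ring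

theorem valid_polar (a b : Fin 8) (h1 : a ≠ b) (t : F) :
    polar ⇑(plusForm 4 F) (ev (D4Orth.cj b)) (t • ev a) = 0 := by
  rw [polar_smul_right, polar_ev_ev, D4Orth.cj_cj, if_neg (Ne.symm h1), smul_zero]

/-- the root elements are Eichler elements -/
theorem xOm_eq (r : ℕ) (hr : r < 24) (t : F) :
    xOm r t = eo (plus_Hyp (F := F) 4 (by norm_num)) (ev (D4Orth.cj (D4Orth.bI r)))
      ((t * (D4Orth.epsZ r : F)) • ev (D4Orth.aI r)) (quad_ev _)
      (valid_polar _ _ (D4Orth.valid_tab r hr).1 _) := by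
  apply Subtype.ext
  unfold xOm
  rw [eo_val]
  show o8E F (D4Orth.xO r t) = _
  unfold D4Orth.xO
  rw [if_pos hr]
  exact o8E_TO _ _ (D4Orth.valid_tab r hr).1 (D4Orth.valid_tab r hr).2 _ _ _

theorem Xr_eq (r : ℕ) (hr : r < 24) (t : F) :
    Xr r t = pe (plus_Hyp (F := F) 4 (by norm_num)) (ev (D4Orth.cj (D4Orth.bI r)))
      ((t * (D4Orth.epsZ r : F)) • ev (D4Orth.aI r)) := by
  unfold Xr pe
  rw [eoT_eq _ _ _ (quad_ev _) (valid_polar _ _ (D4Orth.valid_tab r hr).1 _), ← xOm_eq r hr t]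
  rfl

theorem Xr_mem_right (r : ℕ) (hr : r < 24) (t : F) :
    Xr r t ∈ QBT (plusForm 4 F) (ev (D4Orth.aI r)) := by
  rw [Xr_eq r hr t]
  apply pe_mem_right' _ _ _ (quad_ev _) (quad_ev _)
  have := valid_polar (F := F) _ _ (D4Orth.valid_tab r hr).1 1
  rw [one_smul] at this
  exact this

theorem epsZ_ne_zero (r : ℕ) (hr : r < 24) : ((D4Orth.epsZ r : ℤ) : F) ≠ 0 := by
  intro h
  have h1 : ((D4Orth.epsZ r : ℤ) : F) * (D4Orth.epsZ r : F) = 1 := by
    rw [← Int.cast_mul, D4Orth.epsZ_sq r hr, Int.cast_one]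
  rw [h, zero_mul] at h1
  exact zero_ne_one h1

/-- if a nontrivial root element lies in the Eichler group of `b`, then `b` lies on its line -/
theorem span_of_Xr_mem (p : ℕ) [Fact p.Prime] [CharP F p] (r : ℕ) (hr : r < 24) (t : F)
    (ht : t ≠ 0) (b : Fin 4 ⊕ Fin 4 → F) (hb0 : b ≠ 0) (hb : plusForm 4 F b = 0)
    (hmem : Xr r t ∈ QBT (plusForm 4 F) b) :
    ∃ s s' : F, b = s • ev (D4Orth.cj (D4Orth.bI r)) + s' • ev (D4Orth.aI r) := by
  rw [Xr_eq r hr t] at hmem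
  have hv := D4Orth.valid_tab r hr
  have hc : t * (D4Orth.epsZ r : F) ≠ 0 := mul_ne_zero ht (epsZ_ne_zero r hr)
  obtain ⟨s, s', hs⟩ := span_of_pe_mem p (plus_Hyp (F := F) 4 (by norm_num))
    (ev (D4Orth.cj (D4Orth.bI r))) ((t * (D4Orth.epsZ r : F)) • ev (D4Orth.aI r)) b
    (ev_ne_zero _) hb0 (quad_ev _) hb (valid_polar _ _ hv.1 _)
    (by
      rintro ⟨c, hc'⟩
      have h1 := congrFun hc' (D4Orth.sig8 (D4Orth.aI r))
      rw [Pi.smul_apply, Pi.smul_apply, ev_apply, ev_apply, if_pos rfl, if_neg hv.2, smul_eq_mul,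
        smul_eq_mul, mul_one, mul_zero] at h1
      exact hc h1) hmem
  exact ⟨s, s' * (t * (D4Orth.epsZ r : F)), by rw [hs, smul_smul]⟩

end fin
end Cfsg.Agent.Lib.Helper7.Tr
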