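import Mathlib
import Cfsg.Prelude
import Cfsg.Agent.Lib.Helper7.TrE2
import Cfsg.Agent.Lib.Helper7.TrD2

/-! The triality automorphism of `PΩ⁺₈(q)` and its square are not good. -/

set_option autoImplicit false
set_option linter.unusedSectionVars false
set_option linter.unusedVariables false
open Cfsg

namespace Cfsg.Agent.Lib.Helper7.Tr

open Cfsg.Agent.Lib.Helper9.AOR

open Matrix QuadraticMap Cfsg.Agent.Lib.Helper5 Cfsg.Agent.Lib.Helper5.CartanDieudonne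
  Cfsg.Agent.Lib.Helper5.Refl
  Cfsg.Agent.Lib.Helper5.OrthCard Cfsg.Agent.Lib.Helper5.Siegel Cfsg.Agent.Lib.Helper5.QuadIsom
  Cfsg.Agent.Lib.Helper5.ReflGen Cfsg.Agent.Lib.Helper5.Eichler Cfsg.Agent.Lib.Helper5.SingGeom
  Cfsg.Agent.Lib.Helper5.OmegaGen Cfsg.Agent.Lib.Helper5.OmegaSimple
  Cfsg.Agent.Lib.Helper5.ChevSym

variable {F : Type*} [Field F] [Fintype F]

theorem card_idx8 : Fintype.card (Fin 4 ⊕ Fin 4) = 8 := by
  simp

/-- an automorphism mapping two root elements of the group of `e₁` to root elements on disjoint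
lines is not good -/
theorem not_good_of (p : ℕ) [Fact p.Prime] [CharP F p]
    (γ : MulAut (POmega F ⇑(plusForm 4 F))) (r1 r2 : ℕ) (hr1 : r1 < 24) (hr2 : r2 < 24)
    (c c' : F) (hc : c ≠ 0) (hc' : c' ≠ 0)
    (h1 : γ (Xr 18 1) = Xr r1 c) (h2 : γ (Xr 23 1) = Xr r2 c')
    (d1 : D4Orth.cj (D4Orth.bI r1) ≠ D4Orth.cj (D4Orth.bI r2))
    (d2 : D4Orth.cj (D4Orth.bI r1) ≠ D4Orth.aI r2)
    (d3 : D4Orth.aI r1 ≠ D4Orth.cj (D4Orth.bI r2))
    (d4 : D4Orth.aI r1 ≠ D4Orth.aI r2) : γ ∉ goodSub (plusForm 4 F) := by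
  intro hmem
  have H := plus_Hyp (F := F) 4 (by norm_num)
  have hG := (mem_goodSub_iff p H (by rw [card_idx8]; norm_num) γ).mp hmem
  obtain ⟨b, hb0, hb, hB⟩ := hG (ev 0) (ev_ne_zero 0) (quad_ev 0)
  have m1 : Xr 18 (1 : F) ∈ QBT (plusForm 4 F) (ev 0) := Xr_mem_right 18 (by norm_num) 1
  have m2 : Xr 23 (1 : F) ∈ QBT (plusForm 4 F) (ev 0) := Xr_mem_right 23 (by norm_num) 1
  have m1' := (hB _).mp m1
  have m2' := (hB _).mp m2
  rw [h1] at m1'
  rw [h2] at m2'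
  obtain ⟨s, s', hs⟩ := span_of_Xr_mem p r1 hr1 c hc b hb0 hb m1'
  obtain ⟨t, t', ht⟩ := span_of_Xr_mem p r2 hr2 c' hc' b hb0 hb m2'
  have hv1 := D4Orth.valid_tab r1 hr1
  have e1 : s = 0 := by
    have h3 := congrFun hs (D4Orth.sig8 (D4Orth.cj (D4Orth.bI r1)))
    have h4 := congrFun ht (D4Orth.sig8 (D4Orth.cj (D4Orth.bI r1)))
    rw [h4] at h3
    simp only [Pi.add_apply, Pi.smul_apply, ev_apply, smul_eq_mul, if_true, if_neg d1,
      if_neg d2, if_neg (Ne.symm hv1.2), mul_zero, mul_one, add_zero] at h3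
    exact h3.symm
  have e2 : s' = 0 := by
    have h3 := congrFun hs (D4Orth.sig8 (D4Orth.aI r1))
    have h4 := congrFun ht (D4Orth.sig8 (D4Orth.aI r1))
    rw [h4] at h3
    simp only [Pi.add_apply, Pi.smul_apply, ev_apply, smul_eq_mul, if_true, if_neg d3,
      if_neg d4, if_neg hv1.2, mul_zero, mul_one, add_zero, zero_add] at h3
    exact h3.symm
  apply hb0
  rw [hs, e1, e2, zero_smul, zero_smul, add_zero]

theorem gD4a_eps_sq : ∀ r < 24, gD4a.eps.getD r 1 * gD4a.eps.getD r 1 = 1 := by decide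

theorem gD4a_eps_ne (r : ℕ) (hr : r < 24) : ((gD4a.eps.getD r 1 : ℤ) : F) ≠ 0 := by
  intro h
  have h1 : ((gD4a.eps.getD r 1 : ℤ) : F) * ((gD4a.eps.getD r 1 : ℤ) : F) = 1 := by
    rw [← Int.cast_mul, gD4a_eps_sq r hr, Int.cast_one]
  rw [h, zero_mul] at h1
  exact zero_ne_one h1

/-- neither the triality automorphism nor its square is good -/
theorem triality_not_good (p : ℕ) [Fact p.Prime] [CharP F p]
    (τ : MulAut (POmega F ⇑(plusForm 4 F)))
    (hτ : ∀ r < 24, ∀ t : F,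
      τ (Xr r t) = Xr (gD4a.pr.getD r 0) (((gD4a.eps.getD r 1 : ℤ) : F) * t)) :
    τ ∉ goodSub (plusForm 4 F) ∧ τ * τ ∉ goodSub (plusForm 4 F) := by
  have a1 : τ (Xr 18 1) = Xr 13 (((gD4a.eps.getD 18 1 : ℤ) : F) * 1) := hτ 18 (by norm_num) 1
  have a2 : τ (Xr 23 1) = Xr 23 (((gD4a.eps.getD 23 1 : ℤ) : F) * 1) := hτ 23 (by norm_num) 1
  have b1 : τ (Xr 13 (((gD4a.eps.getD 18 1 : ℤ) : F) * 1)) =
      Xr 12 (((gD4a.eps.getD 13 1 : ℤ) : F) * (((gD4a.eps.getD 18 1 : ℤ) : F) * 1)) :=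
    hτ 13 (by norm_num) _
  have b2 : τ (Xr 23 (((gD4a.eps.getD 23 1 : ℤ) : F) * 1)) =
      Xr 23 (((gD4a.eps.getD 23 1 : ℤ) : F) * (((gD4a.eps.getD 23 1 : ℤ) : F) * 1)) :=
    hτ 23 (by norm_num) _
  have n18 := gD4a_eps_ne (F := F) 18 (by norm_num)
  have n23 := gD4a_eps_ne (F := F) 23 (by norm_num)
  have n13 := gD4a_eps_ne (F := F) 13 (by norm_num)
  refine ⟨?_, ?_⟩
  · exact not_good_of p τ 13 23 (by norm_num) (by norm_num) _ _
      (mul_ne_zero n18 one_ne_zero) (mul_ne_zero n23 one_ne_zero) a1 a2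
      (by decide) (by decide) (by decide) (by decide)
  · apply not_good_of p (τ * τ) 12 23 (by norm_num) (by norm_num) _ _
      (mul_ne_zero n13 (mul_ne_zero n18 one_ne_zero))
      (mul_ne_zero n23 (mul_ne_zero n23 one_ne_zero))
    · rw [MulAut.mul_apply, a1, b1]
    · rw [MulAut.mul_apply, a2, b2]
    · decide
    · decide
    · decide
    · decide

/-- there is an automorphism `τ` of `PΩ⁺₈(q)` such that neither `τ` nor `τ²` is good -/
theorem exists_not_good (p : ℕ) [Fact p.Prime] [CharP F p] :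
    ∃ τ : MulAut (POmega F ⇑(plusForm 4 F)), τ ∉ goodSub (plusForm 4 F) ∧
      τ * τ ∉ goodSub (plusForm 4 F) := by
  obtain ⟨τ, hτ⟩ := exists_triality (F := F)
  exact ⟨τ, triality_not_good p τ hτ⟩

end Cfsg.Agent.Lib.Helper7.Tr
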