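import Mathlib
import Cfsg.Prelude
import Cfsg.Agent.Lib.Helper7.TrE3

/-! The order of `Aut(PΩ⁺_{2m}(q))`, `m ≥ 4`. -/

set_option autoImplicit false
set_option linter.unusedSectionVars false
set_option linter.unusedVariables false
open Cfsg

namespace Cfsg.Agent.Lib.Helper7.Tr

open Cfsg.Agent.Lib.Helper9.AOR

open Matrix QuadraticMap Cfsg.Agent.Lib.Helper5 Cfsg.Agent.Lib.Helper5.CartanDieudonne
  Cfsg.Agent.Lib.Helper5.Refl
  Cfsg.Agent.Lib.Helper5.OrthCard Cfsg.Agent.Lib.Helper5.Siegel Cfsg.Agent.Lib.Helper5.QuadIsom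
  Cfsg.Agent.Lib.Helper5.ReflGen Cfsg.Agent.Lib.Helper5.Eichler Cfsg.Agent.Lib.Helper5.SingGeom
  Cfsg.Agent.Lib.Helper5.OmegaGen Cfsg.Agent.Lib.Helper5.OmegaSimple

variable {F : Type*} [Field F] [Fintype F]

/-- for `m ≥ 5` every automorphism is good -/
theorem goodSub_eq_top_plus (p : ℕ) [Fact p.Prime] [CharP F p] (m : ℕ) (hm : 5 ≤ m) :
    goodSub (plusForm m F) = ⊤ := by
  have H := plus_Hyp (F := F) m (by omega)
  have hn : Fintype.card (Fin m ⊕ Fin m) = 2 * m := by
    simp only [Fintype.card_sum, Fintype.card_fin]; omega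
  rw [eq_top_iff]
  intro β _
  rw [mem_goodSub_iff p H (by omega) β]
  intro u hu0 hu
  exact exists_Bm p H (by omega) (fun Y _ _ => by omega) β u hu0 hu

/-- the index of the good automorphisms in dimension eight -/
theorem index_goodSub_eight (p : ℕ) [Fact p.Prime] [CharP F p] :
    (goodSub (plusForm 4 F)).index = 3 := by
  have H := plus_Hyp (F := F) 4 (by norm_num)
  have hle := index_le_three p H card_idx8 (MaxTS.stdL 4) (MaxTS.stdL_max 4)
  obtain ⟨τ, h1, h2⟩ := exists_not_good (F := F) p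
  have hne0 : (goodSub (plusForm 4 F)).index ≠ 0 := Subgroup.index_ne_zero_of_finite
  have hne1 : (goodSub (plusForm 4 F)).index ≠ 1 := by
    intro h
    rw [Subgroup.index_eq_one] at h
    apply h1
    rw [h]
    exact Subgroup.mem_top _
  have hne2 : (goodSub (plusForm 4 F)).index ≠ 2 := by
    intro h
    exact h2 (Subgroup.mul_self_mem_of_index_two h τ)
  omega

theorem card_aut_plus (p f : ℕ) [Fact p.Prime] (hF : Fintype.card F = p ^ f) (m : ℕ)
    (hm : 4 ≤ m) :
    Nat.card (MulAut (POmega F ⇑(plusForm m F))) =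
      (if m = 4 then 3 else 1) *
        (if p = 2 then 2 else (if Even (m * (p ^ f - 1) / 2) then 8 else 4)) * f *
        Nat.card (POmega F ⇑(plusForm m F)) := by
  have := charP_of_card' p f hF
  have hG := card_goodSub_plus' (F := F) p f hF m hm
  by_cases h4 : m = 4
  · subst h4
    rw [if_pos rfl]
    have hidx := index_goodSub_eight (F := F) p
    have h1 := Subgroup.card_mul_index (goodSub (plusForm 4 F))
    rw [hidx, hG] at h1
    rw [← h1]
    ring
  · rw [if_neg h4, one_mul]
    have htop := goodSub_eq_top_plus (F := F) p m (by omega)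
    rw [htop, Subgroup.card_top] at hG
    exact hG

end Cfsg.Agent.Lib.Helper7.Tr
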