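import Mathlib
import Cfsg.Prelude
import Cfsg.Agent.Lib.Helper3.TTS7

/-! An abstract recognition lemma: a group of order `6 f` containing a copy of `S₃` (given by
generators with the Coxeter relations) centralised by an embedded cyclic group of order `f`
is `S₃ × C_f`. -/

set_option autoImplicit false
set_option linter.unusedSectionVars false
set_option linter.unusedVariables false
open Cfsg

namespace Cfsg.Agent.Lib.Helper7.Tr

open Cfsg.Agent.Lib.Helper3.TTS

theorem center_perm_three : ∀ z : Equiv.Perm (Fin 3),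
    (∀ w : Equiv.Perm (Fin 3), z * w = w * z) → z = 1 := by
  decide

theorem Rel6_map {G H : Type*} [Group G] [Group H] (φ : G →* H) {a b : G} (h : Rel6 a b) :
    Rel6 (φ a) (φ b) :=
  ⟨by rw [← map_mul, h.ha, map_one], by rw [← map_mul, h.hb, map_one],
    by rw [← map_mul, ← map_pow, h.hab, map_one]⟩

theorem exists_equiv_S3_cyclic {G R : Type*} [Group G] [Group R] [Finite G] (f : ℕ)
    (x y : G) (hrel : Rel6 x y) (hne : x ≠ y) (φ : R →* G) (hφ : Function.Injective φ)
    (hcx : ∀ r, φ r * x = x * φ r) (hcy : ∀ r, φ r * y = y * φ r)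
    (hR : IsCyclic R) (hRc : Nat.card R = f) (hG : Nat.card G = 6 * f) :
    Nonempty (G ≃* Equiv.Perm (Fin 3) × Multiplicative (ZMod f)) := by
  obtain ⟨S, hS⟩ : ∃ S : Subgroup G, S = Subgroup.closure {x, y} := ⟨_, rfl⟩
  have hS6 : Nat.card ↥S = 6 := by rw [hS]; exact hrel.card_closure_eq hne
  have hxS : x ∈ S := by rw [hS]; exact Subgroup.subset_closure (by simp)
  have hyS : y ∈ S := by rw [hS]; exact Subgroup.subset_closure (by simp)
  have hrel' : Rel6 (⟨x, hxS⟩ : ↥S) ⟨y, hyS⟩ :=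
    ⟨Subtype.ext hrel.ha, Subtype.ext hrel.hb, Subtype.ext (by
      rw [Subgroup.coe_pow, Subgroup.coe_mul]
      exact hrel.hab)⟩
  have hne' : (⟨x, hxS⟩ : ↥S) ≠ ⟨y, hyS⟩ := fun h => hne (congrArg Subtype.val h)
  have hcl' : Subgroup.closure ({⟨x, hxS⟩, ⟨y, hyS⟩} : Set ↥S) = ⊤ := by
    have h1 : ({⟨x, hxS⟩, ⟨y, hyS⟩} : Set ↥S) = ((↑) : ↥S → G) ⁻¹' {x, y} := by
      ext ⟨z, hz⟩
      simp only [Set.mem_insert_iff, Set.mem_singleton_iff, Set.mem_preimage, Subtype.mk.injEq]
    rw [h1]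
    subst hS
    exact Subgroup.closure_closure_coe_preimage
  obtain ⟨e⟩ := iso_S3 (⟨x, hxS⟩ : ↥S) ⟨y, hyS⟩ hrel' hne' hcl'
  have hcomm : ∀ (r : R) (s : G), s ∈ S → φ r * s = s * φ r := by
    intro r s hs
    rw [hS] at hs
    induction hs using Subgroup.closure_induction with
    | mem z hz =>
      rcases hz with rfl | hz
      · exact hcx r
      · rw [Set.mem_singleton_iff] at hz
        rw [hz]
        exact hcy r
    | one => rw [mul_one, one_mul]
    | mul a b _ _ ha hb =>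
      calc φ r * (a * b) = (φ r * a) * b := (mul_assoc _ _ _).symm
        _ = a * (φ r * b) := by rw [ha, mul_assoc]
        _ = a * b * φ r := by rw [hb, mul_assoc]
    | inv a _ ha =>
      calc φ r * a⁻¹ = a⁻¹ * (a * φ r) * a⁻¹ := by group
        _ = a⁻¹ * (φ r * a) * a⁻¹ := by rw [ha]
        _ = a⁻¹ * φ r := by group
  obtain ⟨Ψ, hΨ⟩ : ∃ Ψ : ↥S × R →* G, ∀ s r, Ψ (s, r) = (s : G) * φ r :=
    ⟨MonoidHom.noncommCoprod S.subtype φ (fun s r => (hcomm r s s.2).symm), fun s r => rfl⟩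
  have hinj : Function.Injective Ψ := by
    rw [injective_iff_map_eq_one]
    rintro ⟨s, r⟩ h
    rw [hΨ] at h
    have hs : (s : G) = (φ r)⁻¹ := eq_inv_of_mul_eq_one_left h
    have hcen : ∀ t : ↥S, s * t = t * s := by
      intro t
      apply Subtype.ext
      rw [Subgroup.coe_mul, Subgroup.coe_mul, hs]
      have h1 := hcomm r t t.2
      calc (φ r)⁻¹ * (t : G) = (φ r)⁻¹ * ((t : G) * φ r) * (φ r)⁻¹ := by group
        _ = (φ r)⁻¹ * (φ r * (t : G)) * (φ r)⁻¹ := by rw [h1]
        _ = (t : G) * (φ r)⁻¹ := by group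
    have hes : e s = 1 := by
      apply center_perm_three
      intro w
      obtain ⟨t, rfl⟩ := e.surjective w
      rw [← map_mul, ← map_mul, hcen t]
    have hs1 : s = 1 := by
      have := e.injective (hes.trans (map_one e).symm)
      exact this
    have hr1 : φ r = 1 := by
      rw [hs1, Subgroup.coe_one] at hs
      exact inv_eq_one.mp hs.symm
    have hr : r = 1 := hφ (hr1.trans (map_one φ).symm)
    rw [hs1, hr]
    rfl
  have hcard : Nat.card (↥S × R) = Nat.card G := by
    rw [Nat.card_prod, hS6, hRc, hG]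
  have hbij : Function.Bijective Ψ :=
    (Nat.bijective_iff_injective_and_card Ψ).mpr ⟨hinj, hcard⟩
  obtain ⟨eR⟩ : Nonempty (R ≃* Multiplicative (ZMod f)) := by
    have := (zmodCyclicMulEquiv hR).symm
    rw [hRc] at this
    exact ⟨this⟩
  exact ⟨(MulEquiv.ofBijective Ψ hbij).symm.trans (MulEquiv.prodCongr e eR)⟩

end Cfsg.Agent.Lib.Helper7.Tr
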