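import Mathlib
import Cfsg.Prelude
import Cfsg.Agent.Lib.Helper9.AOR23
import Cfsg.Agent.Lib.Helper9.AOR34
import Cfsg.Agent.Lib.Helper7.TrF2

/-! Field automorphisms of `PΩ⁺_{2m}(q)`; `Out(PΩ⁺_{2m}(2^f)) ≅ C₂ × C_f` for `m ≥ 5`. -/

set_option autoImplicit false
set_option linter.unusedSectionVars false
set_option linter.unusedVariables false
open Cfsg

namespace Cfsg.Agent.Lib.Helper7.Tr

open Cfsg.Agent.Lib.Helper9.AOR

open Matrix QuadraticMap Cfsg.Agent.Lib.Helper5 Cfsg.Agent.Lib.Helper5.CartanDieudonne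
  Cfsg.Agent.Lib.Helper5.Refl
  Cfsg.Agent.Lib.Helper5.OrthCard Cfsg.Agent.Lib.Helper5.Siegel Cfsg.Agent.Lib.Helper5.QuadIsom
  Cfsg.Agent.Lib.Helper5.ReflGen Cfsg.Agent.Lib.Helper5.Eichler Cfsg.Agent.Lib.Helper5.SingGeom
  Cfsg.Agent.Lib.Helper5.OmegaGen Cfsg.Agent.Lib.Helper5.OmegaSimple Cfsg.Agent.Lib.Helper5.OAut

variable {F : Type*} [Field F] [Fintype F]

/-- the field automorphisms of `PΩ⁺_{2m}(q)` -/
noncomputable def fPlus (m : ℕ) : RingAut F →* MulAut (POmega F ⇑(plusForm m F)) where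
  toFun σ := semiAut 1 σ 1 (plusForm_field m σ)
  map_one' := semiAut_one _
  map_mul' σ τ := by
    rw [semiAut_mul]
    apply semiAut_congr
    · rw [map_one, mul_one]
    · rfl
    · rw [map_one, mul_one]

theorem fPlus_apply (m : ℕ) (σ : RingAut F) :
    fPlus m σ = semiAut 1 σ 1 (plusForm_field m σ) := rfl

theorem SR_fPlus (m : ℕ) (σ : RingAut F) : SR (plusForm m F) (fPlus m σ) σ :=
  ⟨1, 1, one_ne_zero, plusForm_field m σ, rfl⟩

/-- a nontrivial field automorphism is not inner -/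
theorem fPlus_not_inn (p : ℕ) [Fact p.Prime] [CharP F p] (m : ℕ) (hm : 3 ≤ m) (σ : RingAut F)
    (h : fPlus m σ ∈ Inn (POmega F ⇑(plusForm m F))) : σ = 1 := by
  have H := plus_Hyp (F := F) m hm
  obtain ⟨x, hx⟩ := h
  obtain ⟨g, rfl⟩ := pr_surjective (Q := plusForm m F) x
  have h1 : SR (plusForm m F) (fPlus m σ) (RingEquiv.refl F) := by
    rw [← hx]
    exact SR_conj g
  exact SR_unique p H (SR_fPlus m σ) h1

/-- for `m ≥ 5` every automorphism of `PΩ⁺_{2m}(q)` is induced by a semisimilarity -/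
theorem gamma_eq_top_plus (p : ℕ) [Fact p.Prime] [CharP F p] (m : ℕ) (hm : 5 ≤ m) :
    gammaPOmega F ⇑(plusForm m F) = ⊤ := by
  have H := plus_Hyp (F := F) m (by omega)
  have hn : Fintype.card (Fin m ⊕ Fin m) = 2 * m := by
    simp only [Fintype.card_sum, Fintype.card_fin]; omega
  rw [eq_top_iff]
  intro β _
  have hmem : β ∈ goodSub (plusForm m F) := by
    rw [goodSub_eq_top_plus (F := F) p m hm]
    exact Subgroup.mem_top _
  have hG := (mem_goodSub_iff p H (by omega) β).mp hmem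
  obtain ⟨g₀, M, σ, c, hc0, hg, rfl⟩ := good_eq p H (by omega) β hG
  unfold gammaPOmega autSubgroupOf
  apply Subgroup.mul_mem
  · exact Subgroup.subset_closure (conj_gen g₀)
  · apply Subgroup.subset_closure
    exact ⟨M, σ, semi_pair M σ c hc0 hg, semiAut_induced M σ c hg⟩

/-- `Out(PΩ⁺_{2m}(2^f)) ≅ C₂ × C_f` for `m ≥ 5` -/
theorem out_plus_two_ge5 (f : ℕ) (hF : Fintype.card F = 2 ^ f) (hf : 1 ≤ f) (m : ℕ)
    (hm : 5 ≤ m) :
    Nonempty (Out (POmega F ⇑(plusForm m F)) ≃* Multiplicative (ZMod 2 × ZMod f)) := by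
  have := charP_of_card' 2 f hF
  have H := plus_Hyp (F := F) m (by omega)
  have hγ := gamma_eq_top_plus (F := F) 2 m hm
  have hfield : ∀ σ : F ≃+* F, ∃ (g : Matrix.GeneralLinearGroup (Fin m ⊕ Fin m) F)
      (c : F), c ≠ 0 ∧ ∀ v, plusForm m F (sm g σ v) = c * σ (plusForm m F v) :=
    fun σ => ⟨1, 1, one_ne_zero, plusForm_field m σ⟩
  have hA := card_aut_eq 2 H hγ hfield
  obtain ⟨hcyc, hcard⟩ := ringAut_card_cyclic 2 f hF
  rw [hcard, card_aut_plus 2 f hF m (by omega)] at hA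
  have h4 : m ≠ 4 := by omega
  rw [if_neg h4, if_pos rfl, one_mul] at hA
  have hP : 0 < Nat.card (POmega F ⇑(plusForm m F)) := Nat.card_pos
  have hrange : Nat.card ↥(conjGO (plusForm m F)).range =
      2 * Nat.card (POmega F ⇑(plusForm m F)) := by
    have h6 : f * (2 * Nat.card (POmega F ⇑(plusForm m F))) =
        f * Nat.card ↥(conjGO (plusForm m F)).range := by
      rw [mul_comm f (Nat.card ↥(conjGO (plusForm m F)).range), ← hA]; ring
    exact (Nat.eq_of_mul_eq_mul_left (by omega) h6).symm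
  have hk : Nat.card ↥(tauBar 2 H hγ).ker = 2 := by
    have h7 := card_ker_tauBar 2 H hγ
    rw [hrange] at h7
    exact Nat.eq_of_mul_eq_mul_right hP h7
  refine exists_equiv_two_cyclic f (tauBar 2 H hγ)
    ((QuotientGroup.mk' (Inn (POmega F ⇑(plusForm m F)))).comp (fPlus m)) ?_ hk hcyc hcard
  intro r
  show tauBar 2 H hγ (QuotientGroup.mk (fPlus m r)) = r
  rw [tauBar_mk]
  exact tauO_semiAut 2 H hγ 1 r 1 one_ne_zero (plusForm_field m r)

end Cfsg.Agent.Lib.Helper7.Tr
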