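import Mathlib
import Cfsg.Prelude
import Cfsg.Agent.Lib.Helper7.TrG1
import Cfsg.Agent.Lib.Helper7.TrG2

/-! `Out(PΩ⁺₈(2^f)) ≅ S₃ × C_f`: the graph automorphisms of `D₄` generate a copy of `S₃` in
`Aut(PΩ⁺₈(F))` centralised by the field automorphisms. -/

set_option autoImplicit false
set_option linter.unusedSectionVars false
set_option linter.unusedVariables false
open Cfsg

namespace Cfsg.Agent.Lib.Helper7.Tr

open Cfsg.Agent.Lib.Helper9.AOR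

open Matrix QuadraticMap Cfsg.Agent.Lib.Helper5 Cfsg.Agent.Lib.Helper5.CartanDieudonne
  Cfsg.Agent.Lib.Helper5.Refl
  Cfsg.Agent.Lib.Helper5.OrthCard Cfsg.Agent.Lib.Helper5.Siegel Cfsg.Agent.Lib.Helper5.QuadIsom
  Cfsg.Agent.Lib.Helper5.ReflGen Cfsg.Agent.Lib.Helper5.Eichler Cfsg.Agent.Lib.Helper5.SingGeom
  Cfsg.Agent.Lib.Helper5.OmegaGen Cfsg.Agent.Lib.Helper5.OmegaSimple Cfsg.Agent.Lib.Helper5.OAut
  Cfsg.Agent.Lib.Helper5.ChevSym Cfsg.Lie Cfsg.Agent.Lib.Helper3.TTS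

/-- the graph datum of `D4` for the node permutation `[0, 1, 3, 2]` -/
def gD4c : GraphData where
  rho := [0, 1, 3, 2]
  rhoInv := [0, 1, 3, 2]
  pr := [0, 1, 3, 2, 4, 5, 6, 8, 7, 9, 11, 10, 13, 12, 14, 16, 15, 17, 18, 19, 21, 20, 22, 23]
  prInv := [0, 1, 3, 2, 4, 5, 6, 8, 7, 9, 11, 10, 13, 12, 14, 16, 15, 17, 18, 19, 21, 20, 22, 23]
  eps := [1, 1, 1, 1, 1, 1, 1, 1, 1, 1, 1, 1, 1, 1, 1, 1, 1, 1, 1, 1, 1, 1, 1, 1]

set_option maxRecDepth 1000000 in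
theorem chkGraphPerm_gD4c : checkGraphPerm chevD4 gD4c = true := by
  decide +kernel

set_option maxRecDepth 1000000 in
theorem chkGraph_gD4c_0 : checkRange (checkGraphAt chevD4 gD4c) 0 24 = true := by
  decide +kernel

theorem chkGraph_gD4c (r : ℕ) (hr : r < 24) : checkGraphAt chevD4 gD4c r = true :=
  of_checkRange chkGraph_gD4c_0 r (by omega) (by omega)

set_option maxRecDepth 1000000 in
theorem gD4a_bd : ∀ r < 24, gD4a.pr.getD r 0 < 24 := by decide +kernel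

set_option maxRecDepth 1000000 in
theorem gD4a_bd2 : ∀ r < 24, gD4a.pr.getD (gD4a.pr.getD r 0) 0 < 24 := by decide +kernel

set_option maxRecDepth 1000000 in
theorem gD4c_bd : ∀ r < 24, gD4c.pr.getD r 0 < 24 := by decide +kernel

set_option maxRecDepth 1000000 in
theorem gD4ca_bd : ∀ r < 24, gD4c.pr.getD (gD4a.pr.getD r 0) 0 < 24 := by decide +kernel

set_option maxRecDepth 1000000 in
theorem gD4c_sq : ∀ r < 24, gD4c.pr.getD (gD4c.pr.getD r 0) 0 = r ∧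
    gD4c.eps.getD (gD4c.pr.getD r 0) 1 * gD4c.eps.getD r 1 = 1 := by decide +kernel

set_option maxRecDepth 1000000 in
theorem gD4a_cube : ∀ r < 24,
    gD4a.pr.getD (gD4a.pr.getD (gD4a.pr.getD r 0) 0) 0 = r ∧
    gD4a.eps.getD (gD4a.pr.getD (gD4a.pr.getD r 0) 0) 1 *
      (gD4a.eps.getD (gD4a.pr.getD r 0) 1 * gD4a.eps.getD r 1) = 1 := by decide +kernel

set_option maxRecDepth 1000000 in
theorem gD4ca_sq : ∀ r < 24,
    gD4c.pr.getD (gD4a.pr.getD (gD4c.pr.getD (gD4a.pr.getD r 0) 0) 0) 0 = r ∧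
    gD4c.eps.getD (gD4a.pr.getD (gD4c.pr.getD (gD4a.pr.getD r 0) 0) 0) 1 *
        gD4a.eps.getD (gD4c.pr.getD (gD4a.pr.getD r 0) 0) 1 *
      (gD4c.eps.getD (gD4a.pr.getD r 0) 1 * gD4a.eps.getD r 1) = 1 := by decide +kernel

variable {F : Type*} [Field F]

/-- `τ` acts on the root elements by the signed permutation `(ρ, ε)` -/
def IsSgn (τ : MulAut (POmega F ⇑(plusForm 4 F))) (ρ : ℕ → ℕ) (ε : ℕ → ℤ) : Prop :=
  ∀ r < 24, ∀ t : F, τ (Xr r t) = Xr (ρ r) (((ε r : ℤ) : F) * t)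

theorem IsSgn.mul {τ₁ τ₂ : MulAut (POmega F ⇑(plusForm 4 F))} {ρ₁ ρ₂ : ℕ → ℕ} {ε₁ ε₂ : ℕ → ℤ}
    (h₁ : IsSgn τ₁ ρ₁ ε₁) (h₂ : IsSgn τ₂ ρ₂ ε₂) (hb : ∀ r < 24, ρ₂ r < 24) :
    IsSgn (τ₁ * τ₂) (fun r => ρ₁ (ρ₂ r)) (fun r => ε₁ (ρ₂ r) * ε₂ r) := by
  intro r hr t
  show (τ₁ * τ₂) (Xr r t) = Xr (ρ₁ (ρ₂ r)) (((ε₁ (ρ₂ r) * ε₂ r : ℤ) : F) * t)
  rw [MulAut.mul_apply, h₂ r hr t, h₁ _ (hb r hr)]
  congr 1
  push_cast
  ring

theorem IsSgn.eq_one {τ : MulAut (POmega F ⇑(plusForm 4 F))} {ρ : ℕ → ℕ} {ε : ℕ → ℤ}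
    (h : IsSgn τ ρ ε) (hid : ∀ r < 24, ρ r = r ∧ ε r = 1) : τ = 1 := by
  apply aut_ext_Xr
  intro r hr t
  rw [h r hr t, (hid r hr).1, (hid r hr).2, Int.cast_one, one_mul, MulAut.one_apply]

section fin
variable [Fintype F]

theorem vm_ev (σ : F ≃+* F) (j : Fin 8) :
    Cfsg.Agent.Lib.Helper9.AOR.vm σ (ev j : Fin 4 ⊕ Fin 4 → F) = ev j := by
  funext k
  unfold Cfsg.Agent.Lib.Helper9.AOR.vm ev
  rw [Pi.single_apply]
  split_ifs <;> simp

theorem sm_one_ev (σ : F ≃+* F) (j : Fin 8) :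
    sm 1 σ (ev j : Fin 4 ⊕ Fin 4 → F) = ev j := by
  unfold sm
  rw [Units.val_one, Matrix.one_mulVec, vm_ev]

/-- the field automorphisms act on the parameters of the root elements -/
theorem fPlus_Xr (σ : RingAut F) (r : ℕ) (hr : r < 24) (t : F) :
    fPlus 4 σ (Xr r t) = Xr r (σ t) := by
  rw [Xr_eq r hr t, Xr_eq r hr (σ t), fPlus_apply,
    semiAut_pe 1 σ 1 (plusForm_field 4 σ) _ one_ne_zero _ _ (quad_ev _)
      (valid_polar _ _ (D4Orth.valid_tab r hr).1 _),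
    sm_one_ev, sm_smul, sm_one_ev, inv_one, one_smul, map_mul, map_intCast]

theorem IsSgn.comm_fPlus {τ : MulAut (POmega F ⇑(plusForm 4 F))} {ρ : ℕ → ℕ} {ε : ℕ → ℤ}
    (h : IsSgn τ ρ ε) (hb : ∀ r < 24, ρ r < 24) (σ : RingAut F) :
    fPlus 4 σ * τ = τ * fPlus 4 σ := by
  apply aut_ext_Xr
  intro r hr t
  rw [MulAut.mul_apply, MulAut.mul_apply, h r hr t, fPlus_Xr σ r hr t, fPlus_Xr σ _ (hb r hr),
    h r hr (σ t), map_mul, map_intCast]

/-- the graph automorphisms: a copy of `S₃` in `Aut(PΩ⁺₈(F))` -/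
theorem exists_graph_S3 : ∃ a b : MulAut (POmega F ⇑(plusForm 4 F)),
    IsSgn a (fun r => gD4a.pr.getD r 0) (fun r => gD4a.eps.getD r 1) ∧
    IsSgn b (fun r => gD4c.pr.getD r 0) (fun r => gD4c.eps.getD r 1) ∧
    Rel6 b (b * a) := by
  obtain ⟨a, ha⟩ := exists_triality (F := F)
  obtain ⟨b, hb⟩ := exists_graph (F := F) gD4c chkGraphPerm_gD4c chkGraph_gD4c
  have sa : IsSgn a (fun r => gD4a.pr.getD r 0) (fun r => gD4a.eps.getD r 1) := ha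
  have sb : IsSgn b (fun r => gD4c.pr.getD r 0) (fun r => gD4c.eps.getD r 1) := hb
  have hbb : b * b = 1 := (sb.mul sb gD4c_bd).eq_one gD4c_sq
  have sba := sb.mul sa gD4a_bd
  have hbaba : (b * a) * (b * a) = 1 := (sba.mul sba gD4ca_bd).eq_one gD4ca_sq
  have saa := sa.mul sa gD4a_bd
  have haaa : a * (a * a) = 1 := (sa.mul saa gD4a_bd2).eq_one gD4a_cube
  refine ⟨a, b, sa, sb, hbb, hbaba, ?_⟩
  rw [← mul_assoc, hbb, one_mul, pow_three]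
  exact haaa

/-- `Out(PΩ⁺₈(2^f)) ≅ S₃ × C_f` -/
theorem out_plus_two_eight (f : ℕ) (hF : Fintype.card F = 2 ^ f) (hf : 1 ≤ f) :
    Nonempty (Out (POmega F ⇑(plusForm 4 F)) ≃*
      Equiv.Perm (Fin 3) × Multiplicative (ZMod f)) := by
  have := charP_of_card' 2 f hF
  have H := plus_Hyp (F := F) 4 (by norm_num)
  obtain ⟨a, b, sa, sb, hrel⟩ := exists_graph_S3 (F := F)
  have sba := sb.mul sa gD4a_bd
  obtain ⟨π, hπ⟩ : ∃ π : MulAut (POmega F ⇑(plusForm 4 F)) →* Out (POmega F ⇑(plusForm 4 F)),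
      π = QuotientGroup.mk' (Inn (POmega F ⇑(plusForm 4 F))) := ⟨_, rfl⟩
  have hrel' := Rel6_map π hrel
  have hne : π b ≠ π (b * a) := by
    intro h
    rw [hπ] at h
    have h' : (QuotientGroup.mk b : Out (POmega F ⇑(plusForm 4 F))) =
        QuotientGroup.mk (b * a) := h
    have h1 := QuotientGroup.eq.mp h'
    rw [inv_mul_cancel_left] at h1
    obtain ⟨x, hx⟩ := h1
    have h2 := conj_mem_goodSub (Q := plusForm 4 F) x
    rw [hx] at h2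
    exact (triality_not_good 2 a sa).1 h2
  have hφ : Function.Injective (π.comp (fPlus 4)) := by
    rw [injective_iff_map_eq_one]
    intro σ hσ
    rw [hπ] at hσ
    have h1 : fPlus 4 σ ∈ Inn (POmega F ⇑(plusForm 4 F)) :=
      (QuotientGroup.eq_one_iff _).mp hσ
    exact fPlus_not_inn 2 4 (by norm_num) σ h1
  have hcx : ∀ σ, (π.comp (fPlus 4)) σ * π b = π b * (π.comp (fPlus 4)) σ := by
    intro σ
    show π (fPlus 4 σ) * π b = π b * π (fPlus 4 σ)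
    rw [← map_mul, ← map_mul, sb.comm_fPlus gD4c_bd σ]
  have hcy : ∀ σ, (π.comp (fPlus 4)) σ * π (b * a) = π (b * a) * (π.comp (fPlus 4)) σ := by
    intro σ
    show π (fPlus 4 σ) * π (b * a) = π (b * a) * π (fPlus 4 σ)
    rw [← map_mul, ← map_mul, sba.comm_fPlus gD4ca_bd σ]
  obtain ⟨hcyc, hcard⟩ := ringAut_card_cyclic 2 f hF
  have hG : Nat.card (Out (POmega F ⇑(plusForm 4 F))) = 6 * f := by
    have h1 := card_aut_plus (F := F) 2 f hF 4 (le_refl 4)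
    rw [if_pos rfl, if_pos rfl] at h1
    have h2 := Subgroup.card_eq_card_quotient_mul_card_subgroup
      (Inn (POmega F ⇑(plusForm 4 F)))
    rw [card_inn_POmega H, h1] at h2
    have hP : 0 < Nat.card (POmega F ⇑(plusForm 4 F)) := Nat.card_pos
    apply Nat.eq_of_mul_eq_mul_right hP
    rw [← h2]
  exact exists_equiv_S3_cyclic f (π b) (π (b * a)) hrel' hne (π.comp (fPlus 4)) hφ hcx hcy
    hcyc hcard hG

end fin
end Cfsg.Agent.Lib.Helper7.Tr
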