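import Mathlib
import Cfsg.Prelude
import Cfsg.Agent.Lib.Helper3.TTS7
import Cfsg.Agent.Lib.Helper5.S4Rec
import Cfsg.Agent.Lib.Helper5.OAut.SmallQuot
import Cfsg.Agent.Lib.Helper7.TrG1

/-! Abstract recognition lemmas used for `Out(PΩ⁺_{2m}(q))`, `q` odd:
split extensions with a central section, the dihedral kernel, and `S₄ × C_f`. -/

set_option autoImplicit false
set_option linter.unusedSectionVars false
set_option linter.unusedVariables false
set_option linter.deprecated false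
open Cfsg

namespace Cfsg.Agent.Lib.Helper7.Tr

open Cfsg.Agent.Lib.Helper3.TTS

/-- a split extension whose section centralises the kernel is a direct product -/
theorem exists_equiv_prod_of_central_section {G R A B : Type*} [Group G] [Group R] [Group A]
    [Group B] (τ : G →* R) (s : R →* G) (hs : ∀ r, τ (s r) = r)
    (hcen : ∀ k ∈ τ.ker, ∀ r, k * s r = s r * k) (eK : ↥τ.ker ≃* A) (eR : R ≃* B) :
    Nonempty (G ≃* A × B) := by
  obtain ⟨Ψ, hΨ⟩ : ∃ Ψ : ↥τ.ker × R →* G, ∀ k r, Ψ (k, r) = (k : G) * s r :=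
    ⟨MonoidHom.noncommCoprod τ.ker.subtype s (fun k r => hcen k k.2 r), fun k r => rfl⟩
  have hinj : Function.Injective Ψ := by
    rw [injective_iff_map_eq_one]
    rintro ⟨k, r⟩ h
    rw [hΨ] at h
    have h1 : τ ((k : G) * s r) = 1 := by rw [h, map_one]
    rw [map_mul, hs, MonoidHom.mem_ker.mp k.2, one_mul] at h1
    rw [h1, map_one, mul_one] at h
    have hk : k = 1 := Subtype.ext h
    rw [hk, h1]
    rfl
  have hsurj : Function.Surjective Ψ := by
    intro g
    have hk : g * (s (τ g))⁻¹ ∈ τ.ker := by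
      rw [MonoidHom.mem_ker, map_mul, map_inv, hs, mul_inv_cancel]
    refine ⟨(⟨_, hk⟩, τ g), ?_⟩
    rw [hΨ]
    exact inv_mul_cancel_right g (s (τ g))
  exact ⟨(MulEquiv.ofBijective Ψ ⟨hinj, hsurj⟩).symm.trans (MulEquiv.prodCongr eK eR)⟩

/-- an element commuting with two non-commuting elements of a group of order eight centralises
the group -/
theorem commute_of_card_eight {G : Type*} [Group G] (K : Subgroup G) (hK : Nat.card ↥K = 8)
    (y k₁ d : G) (hk₁ : k₁ ∈ K) (hd : d ∈ K) (hnc : k₁ * d ≠ d * k₁)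
    (h1 : y * k₁ = k₁ * y) (h2 : y * d = d * y) : ∀ k ∈ K, y * k = k * y := by
  have hfin : Finite ↥K := Nat.finite_of_card_ne_zero (by rw [hK]; norm_num)
  obtain ⟨C, hC⟩ : ∃ C : Subgroup ↥K, C = (Subgroup.centralizer {y}).subgroupOf K := ⟨_, rfl⟩
  have hmem : ∀ k : ↥K, k ∈ C ↔ y * (k : G) = (k : G) * y := by
    intro k
    rw [hC, Subgroup.mem_subgroupOf, Subgroup.mem_centralizer_iff]
    constructor
    · intro h
      exact h y rfl
    · intro h z hz
      rw [Set.mem_singleton_iff] at hz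
      rw [hz]
      exact h
  have hk₁C : (⟨k₁, hk₁⟩ : ↥K) ∈ C := (hmem _).mpr h1
  have hdC : (⟨d, hd⟩ : ↥K) ∈ C := (hmem _).mpr h2
  have hdvd : Nat.card ↥C ∣ 2 ^ 3 := by
    have := Subgroup.card_subgroup_dvd_card C
    rw [hK] at this
    exact this
  have hcomm_of : (∀ a b : ↥C, a * b = b * a) → False := by
    intro h
    have h3 := h ⟨⟨k₁, hk₁⟩, hk₁C⟩ ⟨⟨d, hd⟩, hdC⟩
    apply hnc
    exact congrArg (fun z : ↥C => ((z : ↥K) : G)) h3
  obtain ⟨n, hn, hcard⟩ := (Nat.dvd_prime_pow Nat.prime_two).mp hdvd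
  have htop : C = ⊤ := by
    have h2p : Fact (Nat.Prime 2) := ⟨Nat.prime_two⟩
    interval_cases n
    · exfalso
      apply hcomm_of
      intro a b
      rw [pow_zero] at hcard
      have hsub : Subsingleton ↥C := (Nat.card_eq_one_iff_unique.mp hcard).1
      exact Subsingleton.elim _ _
    · exfalso
      apply hcomm_of
      rw [pow_one] at hcard
      have hcyc : IsCyclic ↥C := isCyclic_of_prime_card (p := 2) hcard
      intro a b
      letI := IsCyclic.commGroup (α := ↥C)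
      exact mul_comm a b
    · exfalso
      apply hcomm_of
      exact IsPGroup.commutative_of_card_eq_prime_sq (p := 2) hcard
    · apply Subgroup.eq_top_of_card_eq
      rw [hcard, hK]
      norm_num
  intro k hk
  have : (⟨k, hk⟩ : ↥K) ∈ C := by
    rw [htop]
    exact Subgroup.mem_top _
  exact (hmem _).mp this

theorem d8_dichotomy : ∀ s d d' : DihedralGroup 4, s * s = 1 → s * d ≠ d * s → s * d' ≠ d' * s →
    (d * d = 1 ↔ d' * d' = 1) → d' = d ∨ d' = s * d * s := by
  decide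

theorem perm3_fact : ∀ σ c : Equiv.Perm (Fin 3), c ^ 3 = 1 → c ≠ 1 →
    σ = 1 ∨ σ = c ∨ σ = c⁻¹ ∨ σ * c * σ⁻¹ = c⁻¹ := by decide

/-- `C₂² × C_f` in the form of the statement -/
def kleinCyclicEquiv (f : ℕ) : Multiplicative (ZMod 2 × ZMod 2) × Multiplicative (ZMod f) ≃*
    Multiplicative (ZMod 2 × ZMod 2 × ZMod f) where
  toFun x := Multiplicative.ofAdd ((Multiplicative.toAdd x.1).1, (Multiplicative.toAdd x.1).2,
    Multiplicative.toAdd x.2)
  invFun y := (Multiplicative.ofAdd ((Multiplicative.toAdd y).1, (Multiplicative.toAdd y).2.1),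
    Multiplicative.ofAdd (Multiplicative.toAdd y).2.2)
  left_inv x := rfl
  right_inv y := rfl
  map_mul' x y := rfl

/-- a cyclic extension of a dihedral group of order eight, with a section whose generator fixes
a non-central involution, has a section centralising the kernel -/
theorem exists_central_section_D8 {G R : Type*} [Group G] [Group R] (f : ℕ)
    (τ : G →* R) (s : R →* G) (hs : ∀ r, τ (s r) = r)
    (e : ↥τ.ker ≃* DihedralGroup 4) (r₀ : R) (hr₀ : ∀ r, r ∈ Subgroup.zpowers r₀)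
    (hRc : Nat.card R = f) (k₁ d : G) (hk₁ : k₁ ∈ τ.ker) (hd : d ∈ τ.ker)
    (hk₁2 : k₁ * k₁ = 1) (hnc : k₁ * d ≠ d * k₁) (hx : s r₀ * k₁ = k₁ * s r₀) :
    ∃ s' : R →* G, (∀ r, τ (s' r) = r) ∧ ∀ k ∈ τ.ker, ∀ r, k * s' r = s' r * k := by
  have hK8 : Nat.card ↥τ.ker = 8 := by
    rw [Nat.card_congr e.toEquiv, DihedralGroup.nat_card]
  obtain ⟨x, hxdef⟩ : ∃ x : G, x = s r₀ := ⟨_, rfl⟩
  rw [← hxdef] at hx
  have hτx : τ x = r₀ := by rw [hxdef, hs]
  have hxf : x ^ f = 1 := by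
    rw [hxdef, ← map_pow, ← hRc, pow_card_eq_one', map_one]
  have key : ∃ y : G, τ y = r₀ ∧ y ^ f = 1 ∧ ∀ k ∈ τ.ker, y * k = k * y := by
    obtain ⟨d', hd'def⟩ : ∃ d' : G, d' = x * d * x⁻¹ := ⟨_, rfl⟩
    have hd' : d' ∈ τ.ker := by
      rw [hd'def]
      exact (MonoidHom.normal_ker τ).conj_mem d hd x
    have hk₁inv : x⁻¹ * k₁ * x = k₁ := by rw [mul_assoc, ← hx, inv_mul_cancel_left]
    have hnc' : k₁ * d' ≠ d' * k₁ := by
      intro h
      apply hnc
      have e1 : k₁ * d = x⁻¹ * (k₁ * d') * x := by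
        rw [hd'def]
        calc k₁ * d = (x⁻¹ * k₁ * x) * d := by rw [hk₁inv]
          _ = x⁻¹ * (k₁ * (x * d * x⁻¹)) * x := by group
      have e2 : d * k₁ = x⁻¹ * (d' * k₁) * x := by
        rw [hd'def]
        calc d * k₁ = d * (x⁻¹ * k₁ * x) := by rw [hk₁inv]
          _ = x⁻¹ * (x * d * x⁻¹ * k₁) * x := by group
      rw [e1, e2, h]
    have hsq : d' * d' = x * (d * d) * x⁻¹ := by
      rw [hd'def]
      group
    have hsqiff : d * d = 1 ↔ d' * d' = 1 := by
      rw [hsq]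
      constructor
      · intro h
        rw [h, mul_one, mul_inv_cancel]
      · intro h
        have h3 : d * d = x⁻¹ * (x * (d * d) * x⁻¹) * x := by group
        rw [h3, h, mul_one, inv_mul_cancel]
    have t1 : e ⟨k₁, hk₁⟩ * e ⟨k₁, hk₁⟩ = 1 := by
      rw [← map_mul]
      have h3 : (⟨k₁, hk₁⟩ : ↥τ.ker) * ⟨k₁, hk₁⟩ = 1 := Subtype.ext hk₁2
      rw [h3, map_one]
    have t2 : e ⟨k₁, hk₁⟩ * e ⟨d, hd⟩ ≠ e ⟨d, hd⟩ * e ⟨k₁, hk₁⟩ := by
      intro h
      rw [← map_mul, ← map_mul] at h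
      exact hnc (congrArg Subtype.val (e.injective h))
    have t3 : e ⟨k₁, hk₁⟩ * e ⟨d', hd'⟩ ≠ e ⟨d', hd'⟩ * e ⟨k₁, hk₁⟩ := by
      intro h
      rw [← map_mul, ← map_mul] at h
      exact hnc' (congrArg Subtype.val (e.injective h))
    have aux : ∀ (z : G) (hz : z ∈ τ.ker), e ⟨z, hz⟩ * e ⟨z, hz⟩ = 1 ↔ z * z = 1 := by
      intro z hz
      rw [← map_mul, MulEquiv.map_eq_one_iff]
      constructor
      · intro h
        exact congrArg Subtype.val h
      · intro h
        exact Subtype.ext h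
    have t4 : e ⟨d, hd⟩ * e ⟨d, hd⟩ = 1 ↔ e ⟨d', hd'⟩ * e ⟨d', hd'⟩ = 1 := by
      rw [aux d hd, aux d' hd']
      exact hsqiff
    rcases d8_dichotomy _ _ _ t1 t2 t3 t4 with h | h
    · have hdd : d' = d := congrArg Subtype.val (e.injective h)
      have hxd : x * d = d * x := by
        rw [hd'def] at hdd
        calc x * d = x * d * x⁻¹ * x := by group
          _ = d * x := by rw [hdd]
      exact ⟨x, hτx, hxf, commute_of_card_eight τ.ker hK8 x k₁ d hk₁ hd hnc hx hxd⟩
    · have hdd : d' = k₁ * d * k₁ := by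
        have h' : e ⟨d', hd'⟩ = e (⟨k₁, hk₁⟩ * ⟨d, hd⟩ * ⟨k₁, hk₁⟩) := by
          rw [map_mul, map_mul]
          exact h
        exact congrArg Subtype.val (e.injective h')
      obtain ⟨y, hydef⟩ : ∃ y : G, y = k₁ * x := ⟨_, rfl⟩
      have hyk : y * k₁ = k₁ * y := by rw [hydef, mul_assoc, hx]
      have hyd : y * d = d * y := by
        rw [hd'def] at hdd
        calc y * d = k₁ * (x * d * x⁻¹) * x := by rw [hydef]; group
          _ = k₁ * (k₁ * d * k₁) * x := by rw [hdd]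
          _ = (k₁ * k₁) * d * (k₁ * x) := by group
          _ = d * y := by rw [hk₁2, one_mul, hydef]
      have hycen := commute_of_card_eight τ.ker hK8 y k₁ d hk₁ hd hnc hyk hyd
      have hτy : τ y = r₀ := by
        rw [hydef, map_mul, MonoidHom.mem_ker.mp hk₁, one_mul, hτx]
      have hyf : y ^ f = k₁ ^ f := by
        rw [hydef, (show Commute k₁ x from hx.symm).mul_pow, hxf, mul_one]
      rcases Nat.even_or_odd f with hev | hodd
      · obtain ⟨j, hj⟩ := hev
        refine ⟨y, hτy, ?_, hycen⟩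
        rw [hyf, hj, ← two_mul, pow_mul, pow_two, hk₁2, one_pow]
      · exfalso
        obtain ⟨j, hj⟩ := hodd
        have hk : k₁ ^ f = k₁ := by
          rw [hj, pow_succ, pow_mul, pow_two, hk₁2, one_pow, one_mul]
        have h3 : Commute (y ^ f) d := (show Commute y d from hyd).pow_left f
        rw [hyf, hk] at h3
        exact hnc h3
  obtain ⟨y, hτy, hyf, hycen⟩ := key
  have hord : orderOf y ∣ orderOf r₀ := by
    rw [orderOf_eq_card_of_forall_mem_zpowers hr₀, hRc]
    exact orderOf_dvd_of_pow_eq_one hyf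
  refine ⟨monoidHomOfForallMemZpowers hr₀ hord, ?_, ?_⟩
  · intro r
    obtain ⟨n, hn⟩ := Subgroup.mem_zpowers_iff.mp (hr₀ r)
    rw [← hn, map_zpow, monoidHomOfForallMemZpowers_apply_gen, map_zpow, hτy]
  · intro k hk r
    obtain ⟨n, hn⟩ := Subgroup.mem_zpowers_iff.mp (hr₀ r)
    rw [← hn, map_zpow, monoidHomOfForallMemZpowers_apply_gen]
    exact ((show Commute y k from hycen k hk).zpow_left n).eq.symm

end Cfsg.Agent.Lib.Helper7.Tr
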