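import Mathlib
import Cfsg.Prelude
import Cfsg.Agent.Lib.Helper7.TrH1

/-! Abstract recognition of `S₄ × C_f`: a group of order `24 f` generated by an elementary
abelian group `D` (the image of a commutative group), a copy of `S₃` normalising `D`, and a
central cyclic group of order `f`. -/

set_option autoImplicit false
set_option linter.unusedSectionVars false
set_option linter.unusedVariables false
set_option maxHeartbeats 1600000
open Cfsg

namespace Cfsg.Agent.Lib.Helper7.Tr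

open Cfsg.Agent.Lib.Helper3.TTS

theorem exists_equiv_S4_cyclic {G T R : Type*} [Group G] [CommGroup T] [Group R] [Finite G]
    (f : ℕ) (hG : Nat.card G = 24 * f) (a b : G) (hrel : Rel6 b (b * a)) (hne : b ≠ b * a)
    (Θ : T →* G) (φ : R →* G) (hφ : Function.Injective φ) (hR : IsCyclic R)
    (hRc : Nat.card R = f)
    (hφa : ∀ r, φ r * a = a * φ r) (hφb : ∀ r, φ r * b = b * φ r)
    (hφΘ : ∀ r t, φ r * Θ t = Θ t * φ r)
    (α β : T → T) (hα : ∀ t, a * Θ t * a⁻¹ = Θ (α t)) (hβ : ∀ t, b * Θ t * b⁻¹ = Θ (β t))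
    (Γ : Subgroup G) (hΓ : ∀ t r, Θ t * φ r ∈ Γ) (haΓ : a ∉ Γ) (haΓ' : a⁻¹ ∉ Γ)
    (hΘφ : ∀ t r, Θ t = φ r → r = 1)
    (hsq : ∀ t, Θ t * Θ t = 1) (t₀ : T) (ht₀ : Θ t₀ ≠ 1) (ht₀' : Θ (α t₀) ≠ Θ t₀) :
    Nonempty (G ≃* Equiv.Perm (Fin 4) × Multiplicative (ZMod f)) := by
  have hbb : b * b = 1 := hrel.ha
  have hbaba : (b * a) * (b * a) = 1 := hrel.hb
  have ha3 : a ^ 3 = 1 := by
    have h := hrel.hab
    rwa [← mul_assoc, hbb, one_mul] at h
  have ha1 : a ≠ 1 := by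
    intro h
    apply hne
    rw [h, mul_one]
  have hbinv : b⁻¹ = b := inv_eq_of_mul_eq_one_right hbb
  have hbainv : (b * a)⁻¹ = b * a := inv_eq_of_mul_eq_one_right hbaba
  have hainv : a⁻¹ = a * a := by
    apply inv_eq_of_mul_eq_one_right
    rw [← pow_three]
    exact ha3
  have hRfin : Finite R := Finite.of_injective φ hφ
  have hfpos : 0 < f := by
    rw [← hRc]
    exact Nat.card_pos
  -- the copy of `S₃`
  obtain ⟨S3, hS3⟩ : ∃ S3 : Subgroup G, S3 = Subgroup.closure {b, b * a} := ⟨_, rfl⟩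
  have hbS : b ∈ S3 := by rw [hS3]; exact Subgroup.subset_closure (by simp)
  have hbaS : b * a ∈ S3 := by rw [hS3]; exact Subgroup.subset_closure (by simp)
  have haS : a ∈ S3 := by
    have h : a = b * (b * a) := by rw [← mul_assoc, hbb, one_mul]
    rw [h]
    exact S3.mul_mem hbS hbaS
  have hS6 : Nat.card ↥S3 = 6 := by rw [hS3]; exact hrel.card_closure_eq hne
  have hrel' : Rel6 (⟨b, hbS⟩ : ↥S3) ⟨b * a, hbaS⟩ :=
    ⟨Subtype.ext hrel.ha, Subtype.ext hrel.hb, Subtype.ext (by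
      rw [Subgroup.coe_pow, Subgroup.coe_mul]
      exact hrel.hab)⟩
  have hne' : (⟨b, hbS⟩ : ↥S3) ≠ ⟨b * a, hbaS⟩ := fun h => hne (congrArg Subtype.val h)
  have hcl' : Subgroup.closure ({⟨b, hbS⟩, ⟨b * a, hbaS⟩} : Set ↥S3) = ⊤ := by
    have h1 : ({⟨b, hbS⟩, ⟨b * a, hbaS⟩} : Set ↥S3) = ((↑) : ↥S3 → G) ⁻¹' {b, b * a} := by
      ext ⟨z, hz⟩
      simp only [Set.mem_insert_iff, Set.mem_singleton_iff, Set.mem_preimage, Subtype.mk.injEq]
    rw [h1]
    subst hS3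
    exact Subgroup.closure_closure_coe_preimage
  obtain ⟨e3⟩ := iso_S3 (⟨b, hbS⟩ : ↥S3) ⟨b * a, hbaS⟩ hrel' hne' hcl'
  have hcls : ∀ s ∈ S3, s = 1 ∨ s = a ∨ s = a⁻¹ ∨ s * a * s⁻¹ = a⁻¹ := by
    intro s hs
    have hc3 : (e3 ⟨a, haS⟩) ^ 3 = 1 := by
      rw [← map_pow]
      have h : (⟨a, haS⟩ : ↥S3) ^ 3 = 1 := Subtype.ext (by rw [Subgroup.coe_pow]; exact ha3)
      rw [h, map_one]
    have hc1 : e3 ⟨a, haS⟩ ≠ 1 := by
      intro h
      have h' := e3.injective (h.trans (map_one e3).symm)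
      exact ha1 (congrArg Subtype.val h')
    rcases perm3_fact (e3 ⟨s, hs⟩) (e3 ⟨a, haS⟩) hc3 hc1 with h | h | h | h
    · left
      have h' := e3.injective (h.trans (map_one e3).symm)
      exact congrArg Subtype.val h'
    · right; left
      exact congrArg Subtype.val (e3.injective h)
    · right; right; left
      rw [← map_inv] at h
      exact congrArg Subtype.val (e3.injective h)
    · right; right; right
      rw [← map_inv, ← map_inv, ← map_mul, ← map_mul] at h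
      exact congrArg Subtype.val (e3.injective h)
  -- the cyclic group centralises `S₃`
  have hφS : ∀ r, ∀ s ∈ S3, φ r * s = s * φ r := by
    intro r s hs
    rw [hS3] at hs
    induction hs using Subgroup.closure_induction with
    | mem z hz =>
      rcases hz with h | h
      · rw [h]
        exact hφb r
      · rw [Set.mem_singleton_iff] at h
        rw [h, ← mul_assoc, hφb, mul_assoc, hφa, ← mul_assoc]
    | one => rw [mul_one, one_mul]
    | mul x y _ _ hx hy =>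
      calc φ r * (x * y) = (φ r * x) * y := (mul_assoc _ _ _).symm
        _ = x * (φ r * y) := by rw [hx, mul_assoc]
        _ = x * y * φ r := by rw [hy, mul_assoc]
    | inv x _ hx =>
      calc φ r * x⁻¹ = x⁻¹ * (x * φ r) * x⁻¹ := by group
        _ = x⁻¹ * (φ r * x) * x⁻¹ := by rw [hx]
        _ = x⁻¹ * φ r := by group
  -- `S₃` normalises the image of `Θ`
  obtain ⟨N, hN⟩ : ∃ N : Subgroup G, ∀ g, g ∈ N ↔
      ((∀ t, ∃ t', g * Θ t * g⁻¹ = Θ t') ∧ (∀ t, ∃ t', g⁻¹ * Θ t * g = Θ t')) := by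
    refine ⟨{ carrier := {g | (∀ t, ∃ t', g * Θ t * g⁻¹ = Θ t') ∧
        (∀ t, ∃ t', g⁻¹ * Θ t * g = Θ t')}
              one_mem' := ⟨fun t => ⟨t, by rw [one_mul, inv_one, mul_one]⟩,
                fun t => ⟨t, by rw [inv_one, one_mul, mul_one]⟩⟩
              mul_mem' := by
                intro g h hg hh
                obtain ⟨hg1, hg2⟩ := hg
                obtain ⟨hh1, hh2⟩ := hh
                constructor
                · intro t
                  obtain ⟨t1, ht1⟩ := hh1 t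
                  obtain ⟨t2, ht2⟩ := hg1 t1
                  refine ⟨t2, ?_⟩
                  rw [← ht2, ← ht1]
                  group
                · intro t
                  obtain ⟨t1, ht1⟩ := hg2 t
                  obtain ⟨t2, ht2⟩ := hh2 t1
                  refine ⟨t2, ?_⟩
                  rw [← ht2, ← ht1]
                  group
              inv_mem' := by
                intro g hg
                obtain ⟨hg1, hg2⟩ := hg
                refine ⟨fun t => ?_, fun t => ?_⟩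
                · obtain ⟨t', ht'⟩ := hg2 t
                  exact ⟨t', by rw [inv_inv]; exact ht'⟩
                · obtain ⟨t', ht'⟩ := hg1 t
                  exact ⟨t', by rw [inv_inv]; exact ht'⟩ },
      fun g => Iff.rfl⟩
  have hbN : b ∈ N := by
    rw [hN]
    refine ⟨fun t => ⟨β t, hβ t⟩, fun t => ⟨β t, ?_⟩⟩
    rw [← hβ t, hbinv]
  have hbaN : b * a ∈ N := by
    rw [hN]
    have h1 : ∀ t, (b * a) * Θ t * (b * a)⁻¹ = Θ (β (α t)) := by
      intro t
      rw [← hβ, ← hα]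
      group
    refine ⟨fun t => ⟨β (α t), h1 t⟩, fun t => ⟨β (α t), ?_⟩⟩
    rw [← h1 t, hbainv]
  have hSN : S3 ≤ N := by
    rw [hS3, Subgroup.closure_le]
    intro z hz
    rcases hz with h | h
    · rw [h]
      exact hbN
    · rw [Set.mem_singleton_iff] at h
      rw [h]
      exact hbaN
  have hnorm : ∀ s ∈ S3, ∀ t, ∃ t', s * Θ t * s⁻¹ = Θ t' :=
    fun s hs => ((hN s).mp (hSN hs)).1
  -- the first claim
  have claim1 : ∀ t, ∀ s ∈ S3, ∀ r, Θ t * s * φ r = 1 → s = 1 ∧ Θ t = 1 ∧ r = 1 := by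
    intro t s hs r h
    have hs_eq : s = Θ t⁻¹ * φ r⁻¹ := by
      rw [map_inv, map_inv]
      calc s = (Θ t)⁻¹ * (Θ t * s * φ r) * (φ r)⁻¹ := by group
        _ = (Θ t)⁻¹ * (φ r)⁻¹ := by rw [h, mul_one]
    have hs1 : s = 1 := by
      rcases hcls s hs with h1 | h1 | h1 | h1
      · exact h1
      · exfalso
        apply haΓ
        rw [← h1, hs_eq]
        exact hΓ _ _
      · exfalso
        apply haΓ'
        rw [← h1, hs_eq]
        exact hΓ _ _
      · exfalso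
        apply haΓ'
        have h3 : s * a⁻¹ * s⁻¹ = a := by
          have h4 : s * a⁻¹ * s⁻¹ = (s * a * s⁻¹)⁻¹ := by group
          rw [h4, h1, inv_inv]
        have h2 : a⁻¹ = a * s * a⁻¹ * s⁻¹ := by
          have h4 : a * s * a⁻¹ * s⁻¹ = a * (s * a⁻¹ * s⁻¹) := by group
          rw [h4, h3, hainv]
        have hc : φ r⁻¹ * a⁻¹ = a⁻¹ * φ r⁻¹ := by
          have h5 := hφa r⁻¹
          calc φ r⁻¹ * a⁻¹ = a⁻¹ * (a * φ r⁻¹) * a⁻¹ := by group
            _ = a⁻¹ * (φ r⁻¹ * a) * a⁻¹ := by rw [h5]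
            _ = a⁻¹ * φ r⁻¹ := by group
        have h6 : a * s * a⁻¹ * s⁻¹ = Θ (α t⁻¹ * (t⁻¹)⁻¹) * φ 1 := by
          rw [map_one, mul_one, map_mul, ← hα, hs_eq]
          calc a * (Θ t⁻¹ * φ r⁻¹) * a⁻¹ * (Θ t⁻¹ * φ r⁻¹)⁻¹
              = a * Θ t⁻¹ * (φ r⁻¹ * a⁻¹) * (φ r⁻¹)⁻¹ * (Θ t⁻¹)⁻¹ := by group
            _ = a * Θ t⁻¹ * (a⁻¹ * φ r⁻¹) * (φ r⁻¹)⁻¹ * (Θ t⁻¹)⁻¹ := by rw [hc]
            _ = a * Θ t⁻¹ * a⁻¹ * (Θ t⁻¹)⁻¹ := by group
            _ = a * Θ t⁻¹ * a⁻¹ * Θ (t⁻¹)⁻¹ := by rw [map_inv Θ t⁻¹]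
        rw [h2, h6]
        exact hΓ _ _
    rw [hs1, mul_one] at h
    have h5 : Θ t = φ r⁻¹ := by
      rw [map_inv]
      exact eq_inv_of_mul_eq_one_left h
    have hr : r = 1 := inv_eq_one.mp (hΘφ t r⁻¹ h5)
    refine ⟨hs1, ?_, hr⟩
    rw [h5, hr, inv_one, map_one]
  -- the subgroup `D S₃`
  obtain ⟨S, hSmem⟩ : ∃ S : Subgroup G, ∀ g, g ∈ S ↔ ∃ t, ∃ s ∈ S3, g = Θ t * s := by
    refine ⟨{ carrier := {g | ∃ t, ∃ s ∈ S3, g = Θ t * s}
              one_mem' := ⟨1, 1, S3.one_mem, by rw [map_one, one_mul]⟩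
              mul_mem' := by
                intro g h hg hh
                obtain ⟨t, s, hs, rfl⟩ := hg
                obtain ⟨t', s', hs', rfl⟩ := hh
                obtain ⟨t'', ht''⟩ := hnorm s hs t'
                refine ⟨t * t'', s * s', S3.mul_mem hs hs', ?_⟩
                rw [map_mul, ← ht'']
                group
              inv_mem' := by
                intro g hg
                obtain ⟨t, s, hs, rfl⟩ := hg
                obtain ⟨t'', ht''⟩ := hnorm s⁻¹ (S3.inv_mem hs) t⁻¹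
                refine ⟨t'', s⁻¹, S3.inv_mem hs, ?_⟩
                rw [← ht'', map_inv]
                group },
      fun g => Iff.rfl⟩
  have hDS : Θ.range ≤ S := by
    rintro g ⟨t, rfl⟩
    rw [hSmem]
    exact ⟨t, 1, S3.one_mem, by rw [mul_one]⟩
  have hS3S : S3 ≤ S := by
    intro s hs
    rw [hSmem]
    exact ⟨1, s, hs, by rw [map_one, one_mul]⟩
  -- the central product
  have hφSS : ∀ (g : ↥S) (r : R), (g : G) * φ r = φ r * (g : G) := by
    intro g r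
    obtain ⟨t, s, hs, hg⟩ := (hSmem _).mp g.2
    rw [hg, mul_assoc, ← hφS r s hs, ← mul_assoc, ← hφΘ r t, mul_assoc]
  obtain ⟨Ψ, hΨ⟩ : ∃ Ψ : ↥S × R →* G, ∀ g r, Ψ (g, r) = (g : G) * φ r :=
    ⟨MonoidHom.noncommCoprod S.subtype φ (fun g r => hφSS g r), fun g r => rfl⟩
  have hΨinj : Function.Injective Ψ := by
    rw [injective_iff_map_eq_one]
    rintro ⟨g, r⟩ h
    rw [hΨ] at h
    obtain ⟨t, s, hs, hg⟩ := (hSmem _).mp g.2
    rw [hg] at h
    obtain ⟨h1, h2, h3⟩ := claim1 t s hs r h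
    have hg1 : g = 1 := by
      apply Subtype.ext
      rw [hg, h1, h2, mul_one]
      rfl
    rw [hg1, h3]
    rfl
  -- the injection `D × S₃ → S`
  have hι : Function.Injective (fun x : ↥Θ.range × ↥S3 =>
      (⟨(x.1 : G) * (x.2 : G), S.mul_mem (hDS x.1.2) (hS3S x.2.2)⟩ : ↥S)) := by
    rintro ⟨⟨d, hd⟩, ⟨s, hs⟩⟩ ⟨⟨d', hd'⟩, ⟨s', hs'⟩⟩ h
    have h0 : d * s = d' * s' := congrArg Subtype.val h
    obtain ⟨t, rfl⟩ := hd
    obtain ⟨t', rfl⟩ := hd'
    have h1 : Θ (t'⁻¹ * t) * (s * s'⁻¹) * φ 1 = 1 := by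
      rw [map_one, mul_one, map_mul, map_inv]
      calc (Θ t')⁻¹ * Θ t * (s * s'⁻¹) = (Θ t')⁻¹ * (Θ t * s) * s'⁻¹ := by group
        _ = 1 := by rw [h0]; group
    obtain ⟨h2, h3, -⟩ := claim1 (t'⁻¹ * t) (s * s'⁻¹) (S3.mul_mem hs (S3.inv_mem hs')) 1 h1
    have hss : s = s' := by
      calc s = s * s'⁻¹ * s' := by group
        _ = s' := by rw [h2, one_mul]
    have hdd : Θ t = Θ t' := by
      rw [map_mul, map_inv] at h3
      calc Θ t = Θ t' * ((Θ t')⁻¹ * Θ t) := by group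
        _ = Θ t' := by rw [h3, mul_one]
    exact Prod.ext (Subtype.ext hdd) (Subtype.ext hss)
  have hc1 : Nat.card ↥Θ.range * 6 ≤ Nat.card ↥S := by
    have h := Nat.card_le_card_of_injective _ hι
    rwa [Nat.card_prod, hS6] at h
  have hc2 : Nat.card ↥S * f ≤ 24 * f := by
    have h := Nat.card_le_card_of_injective _ hΨinj
    rwa [Nat.card_prod, hRc, hG] at h
  have hc3 : Nat.card ↥S ≤ 24 := Nat.le_of_mul_le_mul_right hc2 hfpos
  -- the image of `Θ` has order four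
  have hD4 : 4 ≤ Nat.card ↥Θ.range := by
    have hp : IsPGroup 2 ↥Θ.range := by
      rintro ⟨_, t, rfl⟩
      refine ⟨1, ?_⟩
      apply Subtype.ext
      rw [pow_one, Subgroup.coe_pow, pow_two]
      exact hsq t
    have h2p : Fact (Nat.Prime 2) := ⟨Nat.prime_two⟩
    obtain ⟨n, hn⟩ := hp.exists_card_eq
    have h3 : 2 < Nat.card ↥Θ.range := by
      have hft : Fintype ↥Θ.range := Fintype.ofFinite _
      rw [Nat.card_eq_fintype_card, Fintype.two_lt_card_iff]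
      refine ⟨1, ⟨Θ t₀, t₀, rfl⟩, ⟨Θ (α t₀), α t₀, rfl⟩, ?_, ?_, ?_⟩
      · intro h
        exact ht₀ (congrArg Subtype.val h).symm
      · intro h
        have h4 : Θ (α t₀) = 1 := (congrArg Subtype.val h).symm
        rw [← hα] at h4
        apply ht₀
        calc Θ t₀ = a⁻¹ * (a * Θ t₀ * a⁻¹) * a := by group
          _ = 1 := by rw [h4]; group
      · intro h
        exact ht₀' (congrArg Subtype.val h).symm
    rw [hn] at h3 ⊢
    rcases n with _ | _ | n
    · norm_num at h3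
    · norm_num at h3
    · rw [pow_succ, pow_succ]
      have : 1 ≤ 2 ^ n := Nat.one_le_two_pow
      omega
  have hDcard : Nat.card ↥Θ.range = 4 := by omega
  have hScard : Nat.card ↥S = 24 := by omega
  have hΨbij : Function.Bijective Ψ := by
    rw [Nat.bijective_iff_injective_and_card]
    refine ⟨hΨinj, ?_⟩
    rw [Nat.card_prod, hScard, hRc, hG]
  -- `S ≅ S₄`
  obtain ⟨V, hV⟩ : ∃ V : Subgroup ↥S, V = Θ.range.subgroupOf S := ⟨_, rfl⟩
  have hVmem : ∀ g : ↥S, g ∈ V ↔ ∃ t, (g : G) = Θ t := by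
    intro g
    rw [hV, Subgroup.mem_subgroupOf, MonoidHom.mem_range]
    constructor
    · rintro ⟨t, ht⟩
      exact ⟨t, ht.symm⟩
    · rintro ⟨t, ht⟩
      exact ⟨t, ht.symm⟩
  have hVn : V.Normal := by
    constructor
    intro v hv g
    obtain ⟨t', ht'⟩ := (hVmem v).mp hv
    obtain ⟨t, s, hs, hg⟩ := (hSmem _).mp g.2
    obtain ⟨t'', ht''⟩ := hnorm s hs t'
    rw [hVmem]
    refine ⟨t * t'' * t⁻¹, ?_⟩
    rw [map_mul, map_mul, map_inv, ← ht'']
    show (g : G) * (v : G) * (g : G)⁻¹ = _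
    rw [hg, ht']
    group
  have hVcard : Nat.card ↥V = 4 := by
    rw [hV, Nat.card_congr (Subgroup.subgroupOfEquivOfLe hDS).toEquiv, hDcard]
  obtain ⟨v₁, hv₁⟩ : ∃ v₁ : ↥S, (v₁ : G) = Θ t₀ := ⟨⟨Θ t₀, hDS ⟨t₀, rfl⟩⟩, rfl⟩
  obtain ⟨v₂, hv₂⟩ : ∃ v₂ : ↥S, (v₂ : G) = Θ (α t₀) := ⟨⟨Θ (α t₀), hDS ⟨α t₀, rfl⟩⟩, rfl⟩
  have hv₁V : v₁ ∈ V := (hVmem v₁).mpr ⟨t₀, hv₁⟩
  have hv₂V : v₂ ∈ V := (hVmem v₂).mpr ⟨α t₀, hv₂⟩
  have hKlein : IsKleinFour ↥V := by
    refine Cfsg.Agent.Lib.Helper5.OAut.isKleinFour_of hVcard ⟨v₁, hv₁V⟩ ⟨v₂, hv₂V⟩ ?_ ?_ ?_ ?_ ?_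
    · intro h
      have h1 : (v₁ : G) = 1 := congrArg (fun z : ↥V => ((z : ↥S) : G)) h
      rw [hv₁] at h1
      exact ht₀ h1
    · intro h
      have h1 : (v₂ : G) = 1 := congrArg (fun z : ↥V => ((z : ↥S) : G)) h
      rw [hv₂, ← hα] at h1
      apply ht₀
      calc Θ t₀ = a⁻¹ * (a * Θ t₀ * a⁻¹) * a := by group
        _ = 1 := by rw [h1]; group
    · intro h
      have h1 : (v₁ : G) = (v₂ : G) := congrArg (fun z : ↥V => ((z : ↥S) : G)) h
      rw [hv₁, hv₂] at h1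
      exact ht₀' h1.symm
    · apply Subtype.ext
      apply Subtype.ext
      show (v₁ : G) * (v₁ : G) = 1
      rw [hv₁]
      exact hsq _
    · apply Subtype.ext
      apply Subtype.ext
      show (v₂ : G) * (v₂ : G) = 1
      rw [hv₂]
      exact hsq _
  have hΘcomm : ∀ t t', Θ t * Θ t' = Θ t' * Θ t := by
    intro t t'
    rw [← map_mul, ← map_mul, mul_comm]
  have hself : ∀ g : ↥S, (∀ v ∈ V, g * v = v * g) → g ∈ V := by
    intro g hg
    obtain ⟨t, s, hs, hgeq⟩ := (hSmem _).mp g.2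
    have hsc : ∀ t', s * Θ t' = Θ t' * s := by
      intro t'
      have h1 := hg ⟨Θ t', hDS ⟨t', rfl⟩⟩ ((hVmem _).mpr ⟨t', rfl⟩)
      have h2 : (g : G) * Θ t' = Θ t' * (g : G) := congrArg Subtype.val h1
      rw [hgeq] at h2
      calc s * Θ t' = (Θ t)⁻¹ * (Θ t * s * Θ t') := by group
        _ = (Θ t)⁻¹ * (Θ t' * (Θ t * s)) := by rw [h2]
        _ = (Θ t)⁻¹ * (Θ t' * Θ t) * s := by group
        _ = (Θ t)⁻¹ * (Θ t * Θ t') * s := by rw [hΘcomm t' t]
        _ = Θ t' * s := by group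
    have hs1 : s = 1 := by
      rcases hcls s hs with h1 | h1 | h1 | h1
      · exact h1
      · exfalso
        apply ht₀'
        rw [← hα]
        have h2 := hsc t₀
        rw [h1] at h2
        rw [h2]
        group
      · exfalso
        apply ht₀'
        rw [← hα]
        have h2 := hsc t₀
        rw [h1] at h2
        calc a * Θ t₀ * a⁻¹ = a * (Θ t₀ * a⁻¹) := by group
          _ = a * (a⁻¹ * Θ t₀) := by rw [h2]
          _ = Θ t₀ := by group
      · exfalso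
        apply ht₀'
        have hsv : s * Θ t₀ * s⁻¹ = Θ t₀ := by
          rw [hsc t₀]
          group
        have hsw : s * Θ (α t₀) * s⁻¹ = Θ (α t₀) := by
          rw [hsc (α t₀)]
          group
        have h6 : s * Θ (α t₀) * s⁻¹ =
            (s * a * s⁻¹) * (s * Θ t₀ * s⁻¹) * (s * a * s⁻¹)⁻¹ := by
          rw [← hα]
          group
        rw [hsw, h1, hsv, inv_inv, ← hα] at h6
        -- h6 : a * Θ t₀ * a⁻¹ = a⁻¹ * Θ t₀ * a
        have h7 : Θ t₀ = a⁻¹ * (a * Θ t₀ * a⁻¹) * a := by group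
        rw [h6] at h7
        have h8 : a⁻¹ * (a⁻¹ * Θ t₀ * a) * a = (a * a)⁻¹ * Θ t₀ * (a * a) := by group
        rw [h8, ← hainv, inv_inv] at h7
        rw [← hα]
        exact h7.symm
    rw [hVmem]
    exact ⟨t, by rw [hgeq, hs1, mul_one]⟩
  obtain ⟨eS⟩ := Cfsg.Agent.Lib.Helper5.S4Rec.nonempty_mulEquiv_perm hScard V hKlein hself
  obtain ⟨eR⟩ : Nonempty (R ≃* Multiplicative (ZMod f)) := by
    have h := (zmodCyclicMulEquiv hR).symm
    rw [hRc] at h
    exact ⟨h⟩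
  exact ⟨(MulEquiv.ofBijective Ψ hΨbij).symm.trans (MulEquiv.prodCongr eS eR)⟩

end Cfsg.Agent.Lib.Helper7.Tr
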