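import Mathlib
import Cfsg.Prelude
import Cfsg.Agent.Lib.Helper9.AOR42
import Cfsg.Agent.Lib.Helper5.OAut.PgoInn
import Cfsg.Agent.Lib.Helper5.OAut.Arith
import Cfsg.Agent.Lib.Helper5.OAut.SimInst
import Cfsg.Agent.S0293
import Cfsg.Agent.Lib.Helper7.TrG2
import Cfsg.Agent.Lib.Helper7.TrH1

/-! `Out(PΩ⁺_{2m}(q))` for `q` odd and `m ≥ 5`. -/

set_option autoImplicit false
set_option linter.unusedSectionVars false
set_option linter.unusedVariables false
open Cfsg

namespace Cfsg.Agent.Lib.Helper7.Tr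

open Cfsg.Agent.Lib.Helper9.AOR

open Matrix QuadraticMap Cfsg.Agent.Lib.Helper5 Cfsg.Agent.Lib.Helper5.CartanDieudonne
  Cfsg.Agent.Lib.Helper5.Refl
  Cfsg.Agent.Lib.Helper5.OrthCard Cfsg.Agent.Lib.Helper5.Siegel Cfsg.Agent.Lib.Helper5.QuadIsom
  Cfsg.Agent.Lib.Helper5.ReflGen Cfsg.Agent.Lib.Helper5.Eichler Cfsg.Agent.Lib.Helper5.SingGeom
  Cfsg.Agent.Lib.Helper5.OmegaGen Cfsg.Agent.Lib.Helper5.OmegaSimple Cfsg.Agent.Lib.Helper5.OAut
  Cfsg.Agent.Lib.Helper5.SpinorNorm Cfsg.Agent.Lib.Helper5.SpinorDiag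

variable {F : Type*} [Field F] [Fintype F]

omit [Fintype F] in
theorem w0plus_fix (m : ℕ) (hm : 1 ≤ m) (σ : F ≃+* F) (k : Fin m ⊕ Fin m) :
    σ (w0plus F m hm k) = w0plus F m hm k := by
  unfold w0plus
  split_ifs <;> simp

omit [Fintype F] in
theorem polarVec_w0 (m : ℕ) (hm : 1 ≤ m) (σ : F ≃+* F) (j : Fin m ⊕ Fin m) :
    σ (polarVec ⇑(plusForm m F) (w0plus F m hm) j) =
      polarVec ⇑(plusForm m F) (w0plus F m hm) j := by
  unfold polarVec
  rcases j with j | j
  · rw [PlusGeom.polar_single_inl]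
    exact w0plus_fix m hm σ _
  · rw [PlusGeom.polar_single_inr]
    exact w0plus_fix m hm σ _

omit [Fintype F] in
/-- the reflection in the standard vector is defined over the prime field -/
theorem map_reflection_w0 (m : ℕ) (hm : 1 ≤ m) (σ : F ≃+* F)
    (hw : plusForm m F (w0plus F m hm) ≠ 0) :
    Matrix.GeneralLinearGroup.map (σ : F →+* F)
      ((reflection (plusForm m F) (w0plus F m hm) hw : ↥(isometryGroup F ⇑(plusForm m F))) :
        GL (Fin m ⊕ Fin m) F) =
      ((reflection (plusForm m F) (w0plus F m hm) hw : ↥(isometryGroup F ⇑(plusForm m F))) :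
        GL (Fin m ⊕ Fin m) F) := by
  apply Units.ext
  ext i j
  show σ (reflectionMatrix ⇑(plusForm m F) (w0plus F m hm) i j) =
    reflectionMatrix ⇑(plusForm m F) (w0plus F m hm) i j
  unfold reflectionMatrix
  rw [Matrix.sub_apply, Matrix.smul_apply, Matrix.vecMulVec_apply, Matrix.one_apply,
    plusForm_w0, inv_one, one_smul, map_sub, map_mul, polarVec_w0, w0plus_fix]
  split_ifs <;> simp

/-- the field automorphisms commute with the standard reflection -/
theorem fPlus_comm_refl (m : ℕ) (hm : 1 ≤ m) (σ : RingAut F)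
    (hw : plusForm m F (w0plus F m hm) ≠ 0) :
    fPlus m σ * conjO (plusForm m F) (reflection (plusForm m F) (w0plus F m hm) hw) =
      conjO (plusForm m F) (reflection (plusForm m F) (w0plus F m hm) hw) * fPlus m σ := by
  have h1 := conjSim_semiAut (Q := plusForm m F) 1 σ 1 one_ne_zero (plusForm_field m σ)
    (plusForm_w0 (F := F) m hm)
    (inclO (plusForm m F) (reflection (plusForm m F) (w0plus F m hm) hw))
  have h2 : conjSim (Q := plusForm m F) 1 σ 1 one_ne_zero (plusForm_field m σ)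
      (plusForm_w0 (F := F) m hm)
      (inclO (plusForm m F) (reflection (plusForm m F) (w0plus F m hm) hw)) =
      inclO (plusForm m F) (reflection (plusForm m F) (w0plus F m hm) hw) := by
    apply Subtype.ext
    rw [conjSim_coe, one_mul, inv_one, mul_one, inclO_coe]
    exact map_reflection_w0 m hm σ hw
  rw [h2] at h1
  have h3 : conjGO (plusForm m F)
      (inclO (plusForm m F) (reflection (plusForm m F) (w0plus F m hm) hw)) =
      conjO (plusForm m F) (reflection (plusForm m F) (w0plus F m hm) hw) := by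
    rw [← conjGO_comp_inclO]
    rfl
  rw [h3] at h1
  rw [fPlus_apply]
  exact h1

set_option maxHeartbeats 1600000 in
/-- `Out(PΩ⁺_{2m}(q))`, `q` odd, `m ≥ 5` -/
theorem out_plus_odd_ge5 (p f : ℕ) [Fact p.Prime] (hF : Fintype.card F = p ^ f) (hf : 1 ≤ f)
    (hp : p ≠ 2) (m : ℕ) (hm : 5 ≤ m) :
    if p ^ f % 4 = 3 ∧ Odd m then
      Nonempty (Out (POmega F ⇑(plusForm m F)) ≃* Multiplicative (ZMod 2 × ZMod 2 × ZMod f))
    else Nonempty (Out (POmega F ⇑(plusForm m F)) ≃*
      DihedralGroup 4 × Multiplicative (ZMod f)) := by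
  haveI := charP_of_card' p f hF
  have hpodd : Odd p := (Fact.out : p.Prime).odd_of_ne_two hp
  have hqodd : Odd (p ^ f) := hpodd.pow
  have h2 : (2 : F) ≠ 0 :=
    Cfsg.Agent.Lib.Helper5.two_ne_zero_of_odd_card (by rw [hF]; exact hqodd)
  have hQ := PlusGeom.plus_nondegenerate (F := F) m
  have hfam := Cfsg.Agent.S2613.plus_hypFamily (F := F) (le_refl m)
  have hn : Fintype.card (Fin m ⊕ Fin m) = 2 * m := by
    simp only [Fintype.card_sum, Fintype.card_fin]; omega
  have h5 : 5 ≤ Fintype.card (Fin m ⊕ Fin m) := by rw [hn]; omega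
  have H := plus_Hyp (F := F) m (by omega)
  have hγ := gamma_eq_top_plus (F := F) p m hm
  have hm1 : 1 ≤ m := by omega
  have hw₀ := plusForm_w0 (F := F) m hm1
  obtain ⟨π, hπ⟩ : ∃ π : MulAut (POmega F ⇑(plusForm m F)) →* Out (POmega F ⇑(plusForm m F)),
      π = QuotientGroup.mk' (Inn (POmega F ⇑(plusForm m F))) := ⟨_, rfl⟩
  obtain ⟨s, hsdef⟩ : ∃ s : RingAut F →* Out (POmega F ⇑(plusForm m F)),
      s = π.comp (fPlus m) := ⟨_, rfl⟩
  have hs : ∀ r, tauBar p H hγ (s r) = r := by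
    intro r
    rw [hsdef, hπ]
    show tauBar p H hγ (QuotientGroup.mk (fPlus m r)) = r
    rw [tauBar_mk]
    exact tauO_semiAut p H hγ 1 r 1 one_ne_zero (plusForm_field m r)
  obtain ⟨hRcyc, hRcard⟩ := ringAut_card_cyclic p f hF
  obtain ⟨eR⟩ : Nonempty (RingAut F ≃* Multiplicative (ZMod f)) := by
    have h := (zmodCyclicMulEquiv hRcyc).symm
    rw [hRcard] at h
    exact ⟨h⟩
  have hns : ∃ g₁ : ↥(Geo.quadSimilarityGroup (F := F) ⇑(plusForm m F)),
      ¬ IsSquare (mult (plusForm m F) (w0plus F m hm1) (g₁ : GL (Fin m ⊕ Fin m) F)) := by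
    obtain ⟨ν, hν0, hν⟩ := exists_nonsquare (F := F) h2
    obtain ⟨g, hg⟩ := exists_sim_plus (F := F) m ν hν0
    refine ⟨⟨g, ⟨Units.mk0 ν hν0, hg⟩⟩, ?_⟩
    unfold mult
    rw [hg, hw₀, mul_one]
    exact hν
  have hiff : negOne (plusForm m F) ∈ Omega F ⇑(plusForm m F) ↔ ¬ (Odd m ∧ p ^ f % 4 = 3) := by
    rw [Cfsg.Agent.S0293.negOne_mem_iff (F := F) hF hqodd m hm1,
      pow_mod_four_eq_one_iff _ _ hqodd]
  have hkerG : ∀ g : ↥(Geo.quadSimilarityGroup (F := F) ⇑(plusForm m F)),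
      π (conjGO (plusForm m F) g) ∈ (tauBar p H hγ).ker := by
    intro g
    rw [hπ, MonoidHom.mem_ker]
    show tauBar p H hγ (QuotientGroup.mk (conjGO (plusForm m F) g)) = 1
    rw [tauBar_mk]
    have h1 : conjGO (plusForm m F) g ∈ (tauO p H hγ).ker := by
      rw [tauO_ker p H hγ]
      exact ⟨g, rfl⟩
    exact h1
  by_cases hneg : negOne (plusForm m F) ∈ Omega F ⇑(plusForm m F)
  · have hcond : ¬ (p ^ f % 4 = 3 ∧ Odd m) := fun h => hiff.mp hneg ⟨h.2, h.1⟩
    rw [if_neg hcond]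
    obtain ⟨φ, hφs, hφk⟩ := exists_pgo_mod_inn_dihedral h2 hQ hfam (by omega) h5
      (w0plus F m hm1) hw₀ m hn hns hneg
    obtain ⟨e⟩ := ker_tauBar_equiv p H hγ φ hφs hφk
    obtain ⟨g₁, hg₁⟩ := hns
    have hw₀' : plusForm m F (w0plus F m hm1) ≠ 0 := by
      rw [hw₀]
      exact one_ne_zero
    obtain ⟨ρ, hρ⟩ : ∃ ρ : ↥(isometryGroup F ⇑(plusForm m F)),
        ρ = reflection (plusForm m F) (w0plus F m hm1) hw₀' := ⟨_, rfl⟩
    have hρρ : ρ * ρ = 1 := by
      rw [hρ]
      exact reflection_mul_self' _ hw₀'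
    have hrep : IsRep (plusForm m F) ρ [w0plus F m hm1] := by
      rw [hρ]
      exact isRep_reflection _ _ hw₀'
    have hGO : conjGO (plusForm m F) (inclO (plusForm m F) ρ) = conjO (plusForm m F) ρ := by
      rw [← conjGO_comp_inclO]
      rfl
    have hcomm_ne : conjGO (plusForm m F)
        (inclO (plusForm m F) ρ * g₁ * (inclO (plusForm m F) ρ)⁻¹ * g₁⁻¹) ∉
        Inn (POmega F ⇑(plusForm m F)) := by
      intro h3
      have h5' : inclO (plusForm m F) ρ * g₁ * (inclO (plusForm m F) ρ)⁻¹ * g₁⁻¹ =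
          inclO (plusForm m F) (ρ * (simConjO (plusForm m F) g₁ ρ)⁻¹) := by
        apply Subtype.ext
        show ((ρ : ↥(isometryGroup F ⇑(plusForm m F))) : GL (Fin m ⊕ Fin m) F) *
          (g₁ : GL (Fin m ⊕ Fin m) F) *
          ((ρ : ↥(isometryGroup F ⇑(plusForm m F))) : GL (Fin m ⊕ Fin m) F)⁻¹ *
          (g₁ : GL (Fin m ⊕ Fin m) F)⁻¹ =
          ((ρ : ↥(isometryGroup F ⇑(plusForm m F))) : GL (Fin m ⊕ Fin m) F) *
            ((g₁ : GL (Fin m ⊕ Fin m) F) *
              ((ρ : ↥(isometryGroup F ⇑(plusForm m F))) : GL (Fin m ⊕ Fin m) F) *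
              (g₁ : GL (Fin m ⊕ Fin m) F)⁻¹)⁻¹
        group
      rw [h5'] at h3
      have h6 : conjGO (plusForm m F)
          (inclO (plusForm m F) (ρ * (simConjO (plusForm m F) g₁ ρ)⁻¹)) =
          conjO (plusForm m F) (ρ * (simConjO (plusForm m F) g₁ ρ)⁻¹) := by
        rw [← conjGO_comp_inclO]
        rfl
      rw [h6] at h3
      have h7 := mem_Omega_of_conjO_mem_inn hQ hfam (by omega) h5 hneg _ h3
      rw [comm_mem_Omega_iff h2 hQ (by omega) hw₀ g₁ ρ [w0plus F m hm1] hrep] at h7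
      apply hg₁
      rw [List.length_singleton, pow_one] at h7
      exact h7
    obtain ⟨k₁, hk₁def⟩ : ∃ k₁ : Out (POmega F ⇑(plusForm m F)),
        k₁ = π (conjGO (plusForm m F) (inclO (plusForm m F) ρ)) := ⟨_, rfl⟩
    obtain ⟨d, hddef⟩ : ∃ d : Out (POmega F ⇑(plusForm m F)),
        d = π (conjGO (plusForm m F) g₁) := ⟨_, rfl⟩
    have hk₁ : k₁ ∈ (tauBar p H hγ).ker := by
      rw [hk₁def]
      exact hkerG _
    have hd : d ∈ (tauBar p H hγ).ker := by
      rw [hddef]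
      exact hkerG _
    have hk₁2 : k₁ * k₁ = 1 := by
      rw [hk₁def, ← map_mul, ← map_mul, ← map_mul, hρρ, map_one, map_one, map_one]
    have hnc : k₁ * d ≠ d * k₁ := by
      intro h
      apply hcomm_ne
      have h1 : π (conjGO (plusForm m F)
          (inclO (plusForm m F) ρ * g₁ * (inclO (plusForm m F) ρ)⁻¹ * g₁⁻¹)) = 1 := by
        rw [map_mul, map_mul, map_mul, map_inv, map_inv, map_mul, map_mul, map_mul, map_inv,
          map_inv, ← hk₁def, ← hddef, h]
        group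
      rw [hπ] at h1
      exact (QuotientGroup.eq_one_iff _).mp h1
    obtain ⟨r₀, hr₀def⟩ : ∃ r₀ : RingAut F, r₀ = phiK (F := F) p 1 := ⟨_, rfl⟩
    have hpow : ∀ k : ℕ, r₀ ^ k = phiK (F := F) p k := by
      intro k
      induction k with
      | zero =>
        rw [pow_zero]
        ext z
        rw [phiK_apply, pow_zero, pow_one]
        rfl
      | succ k ih =>
        rw [pow_succ, ih, hr₀def]
        ext z
        show phiK p k (phiK p 1 z) = phiK p (k + 1) z
        rw [phiK_apply, phiK_apply, phiK_apply, pow_one, ← pow_mul, ← pow_succ']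
    have hgen : ∀ r : RingAut F, r ∈ Subgroup.zpowers r₀ := by
      intro r
      obtain ⟨k, hk'⟩ := exists_frob_pow p (r : F ≃+* F)
      refine ⟨(k : ℤ), ?_⟩
      show r₀ ^ (k : ℤ) = r
      rw [zpow_natCast, hpow]
      ext z
      rw [phiK_apply]
      exact (hk' z).symm
    have hx : s r₀ * k₁ = k₁ * s r₀ := by
      rw [hsdef, hk₁def, hGO]
      show π (fPlus m r₀) * π (conjO (plusForm m F) ρ) =
        π (conjO (plusForm m F) ρ) * π (fPlus m r₀)
      rw [← map_mul, ← map_mul, hρ, fPlus_comm_refl m hm1 r₀ hw₀']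
    obtain ⟨s', hs', hcen⟩ := exists_central_section_D8 f (tauBar p H hγ) s hs e r₀ hgen hRcard
      k₁ d hk₁ hd hk₁2 hnc hx
    exact exists_equiv_prod_of_central_section (tauBar p H hγ) s' hs' hcen e eR
  · have hcond : p ^ f % 4 = 3 ∧ Odd m := by
      by_contra h
      apply hneg
      rw [hiff]
      exact fun h' => h ⟨h'.2, h'.1⟩
    rw [if_pos hcond]
    obtain ⟨φ, hφs, hφk⟩ := exists_pgo_mod_inn_klein h2 hQ hfam (by omega) h5
      (w0plus F m hm1) hw₀ m hn hns hneg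
    obtain ⟨e⟩ := ker_tauBar_equiv p H hγ φ hφs hφk
    have hcen : ∀ k ∈ (tauBar p H hγ).ker, ∀ r, k * s r = s r * k := by
      intro k hk r
      obtain ⟨g, rfl⟩ := exists_conjGO_of_mem_ker p H hγ k hk
      rw [hsdef, hπ]
      show (QuotientGroup.mk (conjGO (plusForm m F) g) : Out (POmega F ⇑(plusForm m F))) *
        QuotientGroup.mk (fPlus m r) =
        QuotientGroup.mk (fPlus m r) * QuotientGroup.mk (conjGO (plusForm m F) g)
      rw [← QuotientGroup.mk_mul, ← QuotientGroup.mk_mul, fPlus_apply,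
        conjSim_semiAut 1 r 1 one_ne_zero (plusForm_field m r) hw₀ g, QuotientGroup.mk_mul,
        QuotientGroup.mk_mul]
      congr 1
      apply mk_conjGO_eq_of_chi h2 hQ hfam (by omega) h5 hw₀ m hn hneg
      exact (chi_conjSim 1 r 1 one_ne_zero (plusForm_field m r) hw₀ g h2 hQ m hn).symm
    obtain ⟨E⟩ := exists_equiv_prod_of_central_section (tauBar p H hγ) s hs hcen e eR
    exact ⟨E.trans (kleinCyclicEquiv f)⟩

end Cfsg.Agent.Lib.Helper7.Tr
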