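import Mathlib
import Cfsg.Prelude
import Cfsg.Agent.Lib.Helper5.OAut.InndiagPlusMain
import Cfsg.Agent.Lib.Helper9.AOR41
import Cfsg.Agent.Lib.Helper7.TrG3

/-! The diagonal similarities of the hyperbolic form in dimension eight, their action on the root
elements of `PΩ⁺₈(F)`, and their conjugates under the graph automorphisms. -/

set_option autoImplicit false
set_option linter.unusedSectionVars false
set_option linter.unusedVariables false
open Cfsg

namespace Cfsg.Agent.Lib.Helper7.Tr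

open Cfsg.Agent.Lib.Helper9.AOR

open Matrix QuadraticMap Cfsg.Agent.Lib.Helper5 Cfsg.Agent.Lib.Helper5.CartanDieudonne
  Cfsg.Agent.Lib.Helper5.Refl
  Cfsg.Agent.Lib.Helper5.OrthCard Cfsg.Agent.Lib.Helper5.Siegel Cfsg.Agent.Lib.Helper5.QuadIsom
  Cfsg.Agent.Lib.Helper5.ReflGen Cfsg.Agent.Lib.Helper5.Eichler Cfsg.Agent.Lib.Helper5.SingGeom
  Cfsg.Agent.Lib.Helper5.OmegaGen Cfsg.Agent.Lib.Helper5.OmegaSimple Cfsg.Agent.Lib.Helper5.OAut
  Cfsg.Agent.Lib.Helper5.ChevSym Cfsg.Lie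

variable {F : Type*} [Field F]

/-- exponent vectors of the diagonal entries of the torus, in the parameters
`(a₀, a₁, a₂, a₃, λ)` -/
def gexp (j : Fin 8) : Fin 5 → ℤ :=
  ![![1, 0, 0, 0, 0], ![0, 1, 0, 0, 0], ![0, 0, 1, 0, 0], ![0, 0, 0, 1, 0],
    ![-1, 0, 0, 0, 1], ![0, -1, 0, 0, 1], ![0, 0, -1, 0, 1], ![0, 0, 0, -1, 1]] j

/-- monomials in the torus parameters -/
def mono (t : Fin 5 → Fˣ) (v : Fin 5 → ℤ) : Fˣ := ∏ k, t k ^ v k

theorem mono_mul (t t' : Fin 5 → Fˣ) (v : Fin 5 → ℤ) :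
    mono (t * t') v = mono t v * mono t' v := by
  unfold mono
  rw [← Finset.prod_mul_distrib]
  apply Finset.prod_congr rfl
  intro k _
  rw [Pi.mul_apply, _root_.mul_zpow]

theorem mono_one (v : Fin 5 → ℤ) : mono (1 : Fin 5 → Fˣ) v = 1 := by
  unfold mono
  apply Finset.prod_eq_one
  intro k _
  rw [Pi.one_apply, _root_.one_zpow]

theorem mono_add (t : Fin 5 → Fˣ) (v w : Fin 5 → ℤ) :
    mono t (v + w) = mono t v * mono t w := by
  unfold mono
  rw [← Finset.prod_mul_distrib]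
  apply Finset.prod_congr rfl
  intro k _
  rw [Pi.add_apply, _root_.zpow_add]

theorem mono_neg (t : Fin 5 → Fˣ) (v : Fin 5 → ℤ) : mono t (-v) = (mono t v)⁻¹ := by
  unfold mono
  rw [← Finset.prod_inv_distrib]
  apply Finset.prod_congr rfl
  intro k _
  rw [Pi.neg_apply, _root_.zpow_neg]

theorem mono_single (t : Fin 5 → Fˣ) (k : Fin 5) : mono t (Pi.single k 1) = t k := by
  unfold mono
  rw [Finset.prod_eq_single k]
  · rw [Pi.single_eq_same, _root_.zpow_one]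
  · intro j _ hj
    rw [Pi.single_eq_of_ne hj, _root_.zpow_zero]
  · intro h
    exact absurd (Finset.mem_univ k) h

theorem zpow_finsum {G : Type*} [CommGroup G] (a : G) {ι : Type*} (s : Finset ι) (e : ι → ℤ) :
    a ^ (∑ i ∈ s, e i) = ∏ i ∈ s, a ^ e i := by
  classical
  refine Finset.induction_on s ?_ ?_
  · rw [Finset.sum_empty, Finset.prod_empty, _root_.zpow_zero]
  · intro i s hi ih
    rw [Finset.sum_insert hi, Finset.prod_insert hi, _root_.zpow_add, ih]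

theorem mono_comp (t : Fin 5 → Fˣ) (M : Fin 5 → Fin 5 → ℤ) (v : Fin 5 → ℤ) :
    mono (fun k => mono t (M k)) v = mono t (fun j => ∑ k, v k * M k j) := by
  unfold mono
  calc ∏ k, (∏ j, t j ^ M k j) ^ v k = ∏ k, ∏ j, (t j ^ M k j) ^ v k := by
        apply Finset.prod_congr rfl
        intro k _
        rw [Finset.prod_zpow]
    _ = ∏ j, ∏ k, (t j ^ M k j) ^ v k := Finset.prod_comm
    _ = ∏ j, t j ^ (∑ k, v k * M k j) := by
        apply Finset.prod_congr rfl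
        intro j _
        rw [zpow_finsum]
        apply Finset.prod_congr rfl
        intro k _
        rw [← _root_.zpow_mul, mul_comm]

theorem gexp_cj : ∀ j : Fin 8, gexp j + gexp (D4Orth.cj j) = Pi.single 4 1 := by decide

/-- the diagonal entries -/
def dU (t : Fin 5 → Fˣ) : Fin 4 ⊕ Fin 4 → Fˣ := fun k => mono t (gexp (D4Orth.sig8.symm k))

theorem dU_sig8 (t : Fin 5 → Fˣ) (j : Fin 8) : dU t (D4Orth.sig8 j) = mono t (gexp j) := by
  unfold dU
  rw [Equiv.symm_apply_apply]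

theorem sig8_symm_inr : ∀ i : Fin 4,
    D4Orth.sig8.symm (Sum.inr i) = D4Orth.cj (D4Orth.sig8.symm (Sum.inl i)) := by decide

theorem dU_pair (t : Fin 5 → Fˣ) (i : Fin 4) : dU t (Sum.inl i) * dU t (Sum.inr i) = t 4 := by
  unfold dU
  rw [sig8_symm_inr, ← mono_add, gexp_cj, mono_single]

/-- the diagonal entries as a homomorphism -/
def dUhom : (Fin 5 → Fˣ) →* (Fin 4 ⊕ Fin 4 → Fˣ) where
  toFun := dU
  map_one' := by
    funext k
    exact mono_one _
  map_mul' t t' := by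
    funext k
    exact mono_mul t t' _

/-- invertible diagonal matrices -/
noncomputable def diagGL (ι : Type) [Fintype ι] [DecidableEq ι] (F : Type*) [Field F] :
    (ι → Fˣ) →* GL ι F :=
  (Units.map (Matrix.diagonalRingHom ι F).toMonoidHom).comp
    (MulEquiv.piUnits (M := fun _ : ι => F)).symm.toMonoidHom

theorem diagGL_coe {ι : Type} [Fintype ι] [DecidableEq ι] (d : ι → Fˣ) :
    ((diagGL ι F d : GL ι F) : Matrix ι ι F) = Matrix.diagonal (fun k => (d k : F)) := rfl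

theorem plus_diag (t : Fin 5 → Fˣ) (v : Fin 4 ⊕ Fin 4 → F) :
    plusForm 4 F (Matrix.diagonal (fun k => (dU t k : F)) *ᵥ v) = (t 4 : F) * plusForm 4 F v := by
  rw [plusForm_apply, plusForm_apply]
  unfold Cfsg.quadFormPlus
  rw [Finset.mul_sum]
  apply Finset.sum_congr rfl
  intro i _
  rw [Matrix.mulVec_diagonal, Matrix.mulVec_diagonal, ← dU_pair t i, Units.val_mul]
  ring

/-- the diagonal similarities -/
noncomputable def dS : (Fin 5 → Fˣ) →* ↥(Geo.quadSimilarityGroup (F := F) ⇑(plusForm 4 F)) :=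
  MonoidHom.codRestrict ((diagGL (Fin 4 ⊕ Fin 4) F).comp dUhom) _
    (fun t => ⟨t 4, fun v => plus_diag t v⟩)

theorem dS_coe (t : Fin 5 → Fˣ) :
    (((dS t : ↥(Geo.quadSimilarityGroup (F := F) ⇑(plusForm 4 F))) : GL (Fin 4 ⊕ Fin 4) F) :
      Matrix (Fin 4 ⊕ Fin 4) (Fin 4 ⊕ Fin 4) F) = Matrix.diagonal (fun k => (dU t k : F)) := rfl

theorem mult_dS (w₀ : Fin 4 ⊕ Fin 4 → F) (hw₀ : plusForm 4 F w₀ = 1) (t : Fin 5 → Fˣ) :
    mult (plusForm 4 F) w₀ ((dS t : ↥(Geo.quadSimilarityGroup (F := F) ⇑(plusForm 4 F))) :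
      GL (Fin 4 ⊕ Fin 4) F) = (t 4 : F) := by
  unfold mult
  rw [dS_coe, plus_diag, hw₀, mul_one]

theorem detRatio_dS (w₀ : Fin 4 ⊕ Fin 4 → F) (hw₀ : plusForm 4 F w₀ = 1) (t : Fin 5 → Fˣ) :
    detRatio (Q := plusForm 4 F) w₀ 4
      ((dS t : ↥(Geo.quadSimilarityGroup (F := F) ⇑(plusForm 4 F))) :
        GL (Fin 4 ⊕ Fin 4) F) = 1 := by
  unfold detRatio
  rw [mult_dS w₀ hw₀, dS_coe, Matrix.det_diagonal, Fintype.prod_sum_type,
    ← Finset.prod_mul_distrib]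
  have h : ∀ i : Fin 4, (dU t (Sum.inl i) : F) * (dU t (Sum.inr i) : F) = (t 4 : F) := by
    intro i
    rw [← Units.val_mul, dU_pair]
  rw [Finset.prod_congr rfl (fun i _ => h i), Finset.prod_const, Finset.card_univ,
    Fintype.card_fin, ← mul_pow, mul_inv_cancel₀ (Units.ne_zero _), one_pow]

/-- the action of a field automorphism on the torus -/
def frobT (σ : F ≃+* F) (t : Fin 5 → Fˣ) : Fin 5 → Fˣ :=
  fun k => Units.map ((σ : F →+* F) : F →* F) (t k)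

theorem mono_frobT (σ : F ≃+* F) (t : Fin 5 → Fˣ) (v : Fin 5 → ℤ) :
    mono (frobT σ t) v = Units.map ((σ : F →+* F) : F →* F) (mono t v) := by
  unfold mono frobT
  rw [map_prod]
  apply Finset.prod_congr rfl
  intro k _
  rw [map_zpow]

/-- the exponent vector of the character by which the torus acts on the root element `r` -/
def Cv (r : ℕ) : Fin 5 → ℤ :=
  gexp (D4Orth.aI r) + gexp (D4Orth.cj (D4Orth.bI r)) + -Pi.single 4 1

theorem mono_Cv (t : Fin 5 → Fˣ) (r : ℕ) :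
    mono t (Cv r) = mono t (gexp (D4Orth.aI r)) * mono t (gexp (D4Orth.cj (D4Orth.bI r))) *
      (t 4)⁻¹ := by
  unfold Cv
  rw [mono_add, mono_add, mono_neg, mono_single]

/-- the action of the triality on the torus -/
def MaT : Fin 5 → Fin 5 → ℤ :=
  ![![1, 1, 1, 1, -1], ![1, 1, 0, 0, 0], ![1, 0, 1, 0, 0], ![0, 1, 1, 0, 0], ![1, 1, 1, 1, 0]]

/-- the action of the graph involution on the torus -/
def McT : Fin 5 → Fin 5 → ℤ :=
  ![![1, 0, 0, 0, 0], ![0, 1, 0, 0, 0], ![0, 0, 1, 0, 0], ![0, 0, 0, -1, 1], ![0, 0, 0, 0, 1]]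

set_option maxRecDepth 1000000 in
theorem chkA : ∀ r < 24, (fun j => ∑ k, Cv (gD4a.pr.getD r 0) k * MaT k j) = Cv r := by
  decide +kernel

set_option maxRecDepth 1000000 in
theorem chkC : ∀ r < 24, (fun j => ∑ k, Cv (gD4c.pr.getD r 0) k * McT k j) = Cv r := by
  decide +kernel

def alphaT (t : Fin 5 → Fˣ) : Fin 5 → Fˣ := fun k => mono t (MaT k)

def betaT (t : Fin 5 → Fˣ) : Fin 5 → Fˣ := fun k => mono t (McT k)

theorem mono_alphaT (t : Fin 5 → Fˣ) (r : ℕ) (hr : r < 24) :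
    mono (alphaT t) (Cv (gD4a.pr.getD r 0)) = mono t (Cv r) := by
  unfold alphaT
  rw [mono_comp, chkA r hr]

theorem mono_betaT (t : Fin 5 → Fˣ) (r : ℕ) (hr : r < 24) :
    mono (betaT t) (Cv (gD4c.pr.getD r 0)) = mono t (Cv r) := by
  unfold betaT
  rw [mono_comp, chkC r hr]

section fin
variable [Fintype F]

theorem conjSim_dS (σ : F ≃+* F) (w₀ : Fin 4 ⊕ Fin 4 → F) (hw₀ : plusForm 4 F w₀ = 1)
    (t : Fin 5 → Fˣ) :
    conjSim (Q := plusForm 4 F) 1 σ 1 one_ne_zero (plusForm_field 4 σ) hw₀ (dS t) =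
      dS (frobT σ t) := by
  apply Subtype.ext
  rw [conjSim_coe, one_mul, inv_one, mul_one]
  apply Units.ext
  show (Matrix.diagonal (fun k => (dU t k : F))).map σ =
    Matrix.diagonal (fun k => (dU (frobT σ t) k : F))
  rw [Matrix.diagonal_map (map_zero σ)]
  congr 1
  funext k
  unfold dU
  rw [mono_frobT]
  rfl

theorem dS_sm (t : Fin 5 → Fˣ) (v : Fin 4 ⊕ Fin 4 → F) :
    plusForm 4 F (sm ((dS t : ↥(Geo.quadSimilarityGroup (F := F) ⇑(plusForm 4 F))) :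
      GL (Fin 4 ⊕ Fin 4) F) (RingEquiv.refl F) v) =
      (t 4 : F) * (RingEquiv.refl F) (plusForm 4 F v) := plus_diag t v

theorem sm_dS_ev (t : Fin 5 → Fˣ) (j : Fin 8) :
    sm ((dS t : ↥(Geo.quadSimilarityGroup (F := F) ⇑(plusForm 4 F))) :
      GL (Fin 4 ⊕ Fin 4) F) (RingEquiv.refl F) (ev j) =
      ((mono t (gexp j) : Fˣ) : F) • (ev j : Fin 4 ⊕ Fin 4 → F) := by
  show Matrix.diagonal (fun k => (dU t k : F)) *ᵥ (ev j : Fin 4 ⊕ Fin 4 → F) = _
  funext k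
  rw [Matrix.mulVec_diagonal, Pi.smul_apply, smul_eq_mul]
  unfold ev
  by_cases hk : k = D4Orth.sig8 j
  · rw [hk, dU_sig8]
  · rw [Pi.single_eq_of_ne hk, mul_zero, mul_zero]

/-- the torus acts on the root elements by characters -/
theorem conjGO_dS_Xr (t : Fin 5 → Fˣ) (r : ℕ) (hr : r < 24) (s : F) :
    conjGO (plusForm 4 F) (dS t) (Xr r s) = Xr r (((mono t (Cv r) : Fˣ) : F) * s) := by
  have e1 : conjGO (plusForm 4 F) (dS t) =
      semiAut ((dS t : ↥(Geo.quadSimilarityGroup (F := F) ⇑(plusForm 4 F))) :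
        GL (Fin 4 ⊕ Fin 4) F) (RingEquiv.refl F) (t 4 : F) (dS_sm t) :=
    eq_semiAut_of_induced _ _ _ (dS_sm t) _ (conjGO_induced (dS t))
  have hu := quad_ev (F := F) (D4Orth.cj (D4Orth.bI r))
  have h2 : (t 4 : F)⁻¹ • sm ((dS t : ↥(Geo.quadSimilarityGroup (F := F) ⇑(plusForm 4 F))) :
      GL (Fin 4 ⊕ Fin 4) F) (RingEquiv.refl F)
      ((s * (D4Orth.epsZ r : F)) • (ev (D4Orth.aI r) : Fin 4 ⊕ Fin 4 → F)) =
      ((t 4 : F)⁻¹ * ((s * (D4Orth.epsZ r : F)) * ((mono t (gexp (D4Orth.aI r)) : Fˣ) : F))) •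
        (ev (D4Orth.aI r) : Fin 4 ⊕ Fin 4 → F) := by
    rw [sm_smul, sm_dS_ev, smul_smul, smul_smul]
    congr 1
    show (t 4 : F)⁻¹ * (s * (D4Orth.epsZ r : F)) * ((mono t (gexp (D4Orth.aI r)) : Fˣ) : F) = _
    ring
  rw [e1, Xr_eq r hr s, Xr_eq r hr _,
    semiAut_pe _ (RingEquiv.refl F) (t 4 : F) (dS_sm t) _ (Units.ne_zero _) _ _ hu
      (valid_polar _ _ (D4Orth.valid_tab r hr).1 _),
    sm_dS_ev, h2, pe_smul_left _ _ _ hu (valid_polar _ _ (D4Orth.valid_tab r hr).1 _), smul_smul]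
  congr 2
  have hC : ((mono t (Cv r) : Fˣ) : F) = ((mono t (gexp (D4Orth.aI r)) : Fˣ) : F) *
      ((mono t (gexp (D4Orth.cj (D4Orth.bI r))) : Fˣ) : F) * (t 4 : F)⁻¹ := by
    rw [mono_Cv, Units.val_mul, Units.val_mul, Units.val_inv_eq_inv_val]
  rw [hC]
  ring

/-- conjugating the torus by an automorphism permuting the root elements -/
theorem IsSgn.conj_torus {τ : MulAut (POmega F ⇑(plusForm 4 F))} {ρ : ℕ → ℕ} {ε : ℕ → ℤ}
    (h : IsSgn τ ρ ε) (hb : ∀ r < 24, ρ r < 24) (t t' : Fin 5 → Fˣ)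
    (hχ : ∀ r < 24, mono t' (Cv (ρ r)) = mono t (Cv r)) :
    τ * conjGO (plusForm 4 F) (dS t) = conjGO (plusForm 4 F) (dS t') * τ := by
  apply aut_ext_Xr
  intro r hr s
  rw [MulAut.mul_apply, MulAut.mul_apply, conjGO_dS_Xr t r hr, h r hr, h r hr,
    conjGO_dS_Xr t' _ (hb r hr), hχ r hr]
  congr 1
  ring

theorem triality_conj_torus {a : MulAut (POmega F ⇑(plusForm 4 F))}
    (sa : IsSgn a (fun r => gD4a.pr.getD r 0) (fun r => gD4a.eps.getD r 1))
    (t : Fin 5 → Fˣ) :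
    a * conjGO (plusForm 4 F) (dS t) * a⁻¹ = conjGO (plusForm 4 F) (dS (alphaT t)) := by
  rw [mul_inv_eq_iff_eq_mul]
  exact sa.conj_torus gD4a_bd t (alphaT t) (fun r hr => mono_alphaT t r hr)

theorem graph_conj_torus {b : MulAut (POmega F ⇑(plusForm 4 F))}
    (sb : IsSgn b (fun r => gD4c.pr.getD r 0) (fun r => gD4c.eps.getD r 1))
    (t : Fin 5 → Fˣ) :
    b * conjGO (plusForm 4 F) (dS t) * b⁻¹ = conjGO (plusForm 4 F) (dS (betaT t)) := by
  rw [mul_inv_eq_iff_eq_mul]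
  exact sb.conj_torus gD4c_bd t (betaT t) (fun r hr => mono_betaT t r hr)

theorem fPlus_conj_torus (σ : RingAut F) (t : Fin 5 → Fˣ) :
    fPlus 4 σ * conjGO (plusForm 4 F) (dS t) =
      conjGO (plusForm 4 F) (dS (frobT σ t)) * fPlus 4 σ := by
  rw [fPlus_apply, conjSim_semiAut 1 σ 1 one_ne_zero (plusForm_field 4 σ)
    (plusForm_w0 (F := F) 4 (by norm_num)) (dS t), conjSim_dS]

end fin

end Cfsg.Agent.Lib.Helper7.Tr
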