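import Mathlib
import Cfsg.Prelude
import Cfsg.Agent.Lib.Helper5.OAut.Arith
import Cfsg.Agent.S0293
import Cfsg.Agent.Lib.Helper7.TrH2
import Cfsg.Agent.Lib.Helper7.TrH4

/-! `Out(PΩ⁺₈(q)) ≅ S₄ × C_f` for `q = p^f` odd. -/

set_option autoImplicit false
set_option linter.unusedSectionVars false
set_option linter.unusedVariables false
open Cfsg

namespace Cfsg.Agent.Lib.Helper7.Tr

open Cfsg.Agent.Lib.Helper9.AOR

open Matrix QuadraticMap Cfsg.Agent.Lib.Helper5 Cfsg.Agent.Lib.Helper5.CartanDieudonne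
  Cfsg.Agent.Lib.Helper5.Refl
  Cfsg.Agent.Lib.Helper5.OrthCard Cfsg.Agent.Lib.Helper5.Siegel Cfsg.Agent.Lib.Helper5.QuadIsom
  Cfsg.Agent.Lib.Helper5.ReflGen Cfsg.Agent.Lib.Helper5.Eichler Cfsg.Agent.Lib.Helper5.SingGeom
  Cfsg.Agent.Lib.Helper5.OmegaGen Cfsg.Agent.Lib.Helper5.OmegaSimple Cfsg.Agent.Lib.Helper5.OAut
  Cfsg.Agent.Lib.Helper5.ChevSym Cfsg.Lie Cfsg.Agent.Lib.Helper3.TTS
  Cfsg.Agent.Lib.Helper5.SpinorNorm Cfsg.Agent.Lib.Helper5.SpinorDiag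

variable {F : Type*} [Field F] [Fintype F]

theorem klein_sq : ∀ z : Multiplicative (ZMod 2 × ZMod 2), z * z = 1 := by decide

set_option maxHeartbeats 3200000 in
/-- `Out(PΩ⁺₈(q)) ≅ S₄ × C_f`, `q` odd -/
theorem out_plus_odd_eight (p f : ℕ) [Fact p.Prime] (hF : Fintype.card F = p ^ f) (hf : 1 ≤ f)
    (hp : p ≠ 2) :
    Nonempty (Out (POmega F ⇑(plusForm 4 F)) ≃*
      Equiv.Perm (Fin 4) × Multiplicative (ZMod f)) := by
  have hchar := charP_of_card' p f hF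
  have hpodd : Odd p := (Fact.out : p.Prime).odd_of_ne_two hp
  have hqodd : Odd (p ^ f) := hpodd.pow
  have h2 : (2 : F) ≠ 0 :=
    Cfsg.Agent.Lib.Helper5.two_ne_zero_of_odd_card (by rw [hF]; exact hqodd)
  have hQ := PlusGeom.plus_nondegenerate (F := F) 4
  have hfam := Cfsg.Agent.S2613.plus_hypFamily (F := F) (le_refl 4)
  have hn : Fintype.card (Fin 4 ⊕ Fin 4) = 2 * 4 := by
    simp only [Fintype.card_sum, Fintype.card_fin]
  have h5 : 5 ≤ Fintype.card (Fin 4 ⊕ Fin 4) := by rw [hn]; norm_num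
  have H := plus_Hyp (F := F) 4 (by norm_num)
  have hw₀ := plusForm_w0 (F := F) 4 (by norm_num)
  obtain ⟨w₀, hw₀def⟩ : ∃ w₀ : Fin 4 ⊕ Fin 4 → F, w₀ = w0plus F 4 (by norm_num) := ⟨_, rfl⟩
  rw [← hw₀def] at hw₀
  obtain ⟨a, b, sa, sb, hrel⟩ := exists_graph_S3 (F := F)
  obtain ⟨π, hπ⟩ : ∃ π : MulAut (POmega F ⇑(plusForm 4 F)) →* Out (POmega F ⇑(plusForm 4 F)),
      π = QuotientGroup.mk' (Inn (POmega F ⇑(plusForm 4 F))) := ⟨_, rfl⟩
  have hπ1 : ∀ x, π x = 1 ↔ x ∈ Inn (POmega F ⇑(plusForm 4 F)) := by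
    intro x
    rw [hπ]
    exact QuotientGroup.eq_one_iff x
  have hinn_good : ∀ x ∈ Inn (POmega F ⇑(plusForm 4 F)), x ∈ goodSub (plusForm 4 F) := by
    intro x hx
    obtain ⟨y, hy⟩ := hx
    rw [← hy]
    exact conj_mem_goodSub (Q := plusForm 4 F) y
  -- the order
  have hG : Nat.card (Out (POmega F ⇑(plusForm 4 F))) = 24 * f := by
    have h1 := card_aut_plus (F := F) p f hF 4 (le_refl 4)
    have hev : Even (4 * (p ^ f - 1) / 2) := ⟨p ^ f - 1, by omega⟩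
    rw [if_pos rfl, if_neg hp, if_pos hev] at h1
    have h3 := Subgroup.card_eq_card_quotient_mul_card_subgroup
      (Inn (POmega F ⇑(plusForm 4 F)))
    rw [card_inn_POmega H, h1] at h3
    have hP : 0 < Nat.card (POmega F ⇑(plusForm 4 F)) := Nat.card_pos
    apply Nat.eq_of_mul_eq_mul_right hP
    rw [← h3]
  obtain ⟨hRcyc, hRcard⟩ := ringAut_card_cyclic p f hF
  -- the maps
  obtain ⟨Θ, hΘ⟩ : ∃ Θ : (Fin 5 → Fˣ) →* Out (POmega F ⇑(plusForm 4 F)),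
      ∀ t, Θ t = π (conjGO (plusForm 4 F) (dS t)) :=
    ⟨π.comp ((conjGO (plusForm 4 F)).comp dS), fun t => rfl⟩
  obtain ⟨φ, hφdef⟩ : ∃ φ : RingAut F →* Out (POmega F ⇑(plusForm 4 F)),
      ∀ r, φ r = π (fPlus 4 r) := ⟨π.comp (fPlus 4), fun r => rfl⟩
  have hφ : Function.Injective φ := by
    rw [injective_iff_map_eq_one]
    intro σ hσ
    rw [hφdef, hπ1] at hσ
    exact fPlus_not_inn p 4 (by norm_num) σ hσ
  have hφa : ∀ r, φ r * π a = π a * φ r := by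
    intro r
    rw [hφdef, ← map_mul, ← map_mul, sa.comm_fPlus gD4a_bd r]
  have hφb : ∀ r, φ r * π b = π b * φ r := by
    intro r
    rw [hφdef, ← map_mul, ← map_mul, sb.comm_fPlus gD4c_bd r]
  -- squares of diagonal automorphisms are inner
  have hneg : negOne (plusForm 4 F) ∈ Omega F ⇑(plusForm 4 F) := by
    rw [Cfsg.Agent.S0293.negOne_mem_iff (F := F) hF hqodd 4 (by norm_num),
      pow_mod_four_eq_one_iff _ _ hqodd]
    intro h
    exact absurd h.1 (by decide)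
  obtain ⟨φd, hφds, hφdk⟩ := (exists_inndiag_plus (F := F) 4 h2 (by norm_num)).2.2 hneg
    (by decide)
  have hmem : ∀ t : Fin 5 → Fˣ,
      conjGO (plusForm 4 F) (dS t) ∈ inndiagGen ⇑(plusForm 4 F) := by
    intro t
    rw [inndiagGen_eq h2 hQ w₀ hw₀ 4 hn (plus_crit 4 h2 hw₀ hn)]
    exact ⟨dS t, (mem_goZero_iff h2 hQ w₀ hw₀ 4 hn _).mpr (detRatio_dS w₀ hw₀ t), rfl⟩
  have hsq : ∀ t, Θ t * Θ t = 1 := by
    intro t
    rw [hΘ, ← map_mul, hπ1]
    obtain ⟨x, hx⟩ : ∃ x : ↥(inndiagGen ⇑(plusForm 4 F)),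
        (x : MulAut (POmega F ⇑(plusForm 4 F))) = conjGO (plusForm 4 F) (dS t) :=
      ⟨⟨_, hmem t⟩, rfl⟩
    have h1 : x * x ∈ φd.ker := by
      rw [MonoidHom.mem_ker, map_mul]
      exact klein_sq _
    rw [hφdk, Subgroup.mem_subgroupOf, Subgroup.coe_mul, hx] at h1
    exact h1
  have hΘpow : ∀ (t : Fin 5 → Fˣ) (n : ℕ), Odd n → Θ (t ^ n) = Θ t := by
    intro t n hn
    obtain ⟨j, hj⟩ := hn
    rw [map_pow, hj, pow_succ, pow_mul, pow_two, hsq, one_pow, one_mul]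
  have hφΘ : ∀ r t, φ r * Θ t = Θ t * φ r := by
    intro r t
    rw [hφdef, hΘ t, ← map_mul, fPlus_conj_torus, map_mul, ← hΘ, ← hΘ t]
    congr 1
    obtain ⟨k, hk⟩ := exists_frob_pow p (r : F ≃+* F)
    have h1 : frobT r t = t ^ (p ^ k) := by
      funext i
      apply Units.ext
      show r ((t i : Fˣ) : F) = (((t ^ (p ^ k)) i : Fˣ) : F)
      rw [Pi.pow_apply, Units.val_pow_eq_pow_val]
      exact hk _
    rw [h1]
    exact hΘpow t _ hpodd.pow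
  have hα : ∀ t, π a * Θ t * (π a)⁻¹ = Θ (alphaT t) := by
    intro t
    rw [hΘ, hΘ, ← map_inv, ← map_mul, ← map_mul, triality_conj_torus sa t]
  have hβ : ∀ t, π b * Θ t * (π b)⁻¹ = Θ (betaT t) := by
    intro t
    rw [hΘ, hΘ, ← map_inv, ← map_mul, ← map_mul, graph_conj_torus sb t]
  -- the good automorphisms
  obtain ⟨Γ, hΓdef⟩ : ∃ Γ : Subgroup (Out (POmega F ⇑(plusForm 4 F))),
      Γ = (goodSub (plusForm 4 F)).map π := ⟨_, rfl⟩
  have hΓ : ∀ t r, Θ t * φ r ∈ Γ := by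
    intro t r
    rw [hΓdef, hΘ, hφdef, ← map_mul]
    apply Subgroup.mem_map_of_mem
    exact Subgroup.mul_mem _ (conjGO_mem_goodSub _) ⟨r, SR_fPlus 4 r⟩
  have hnotΓ : ∀ x, x ∉ goodSub (plusForm 4 F) → π x ∉ Γ := by
    intro x hx h
    rw [hΓdef] at h
    obtain ⟨g, hg, hgx⟩ := h
    have h1 : π (g⁻¹ * x) = 1 := by rw [map_mul, map_inv, hgx, inv_mul_cancel]
    rw [hπ1] at h1
    apply hx
    have h3 : x = g * (g⁻¹ * x) := by group
    rw [h3]
    exact Subgroup.mul_mem _ hg (hinn_good _ h1)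
  have hbb : b * b = 1 := hrel.ha
  have ha3 : a * (a * a) = 1 := by
    have h := hrel.hab
    rw [← mul_assoc, hbb, one_mul, pow_three] at h
    exact h
  have hainv : a⁻¹ = a * a := inv_eq_of_mul_eq_one_right ha3
  have hng := triality_not_good p a sa
  have haΓ : π a ∉ Γ := hnotΓ a hng.1
  have haΓ' : (π a)⁻¹ ∉ Γ := by
    rw [← map_inv, hainv]
    exact hnotΓ _ hng.2
  have hrel' : Rel6 (π b) (π b * π a) := by
    have h := Rel6_map π hrel
    rw [map_mul] at h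
    exact h
  have hne : π b ≠ π b * π a := by
    intro h
    have h1 : π a = 1 := by
      calc π a = (π b)⁻¹ * (π b * π a) := by group
        _ = 1 := by rw [← h, inv_mul_cancel]
    rw [hπ1] at h1
    exact hng.1 (hinn_good _ h1)
  have hΘφ : ∀ t r, Θ t = φ r → r = 1 := by
    intro t r h
    rw [hΘ, hφdef] at h
    have h1 : π ((conjGO (plusForm 4 F) (dS t))⁻¹ * fPlus 4 r) = 1 := by
      rw [map_mul, map_inv, h, inv_mul_cancel]
    rw [hπ1] at h1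
    obtain ⟨y, hy⟩ := h1
    obtain ⟨g, rfl⟩ := pr_surjective (Q := plusForm 4 F) y
    have h3 : fPlus 4 r = conjGO (plusForm 4 F) (dS t) * MulAut.conj (pr (plusForm 4 F) g) := by
      have hy' : MulAut.conj (pr (plusForm 4 F) g) =
          (conjGO (plusForm 4 F) (dS t))⁻¹ * fPlus 4 r := hy
      rw [hy']
      group
    have h4 : SR (plusForm 4 F) (fPlus 4 r) ((RingEquiv.refl F).trans (RingEquiv.refl F)) := by
      rw [h3]
      exact SR_mul (SR_conjGO _) (SR_conj g)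
    have h6 := SR_unique p H (SR_fPlus 4 r) h4
    rw [h6]
    rfl
  -- the nonsquare
  obtain ⟨ν, hν0, hν⟩ := exists_nonsquare (F := F) h2
  obtain ⟨t₀, ht₀def⟩ : ∃ t₀ : Fin 5 → Fˣ, t₀ = fun _ => Units.mk0 ν hν0 := ⟨_, rfl⟩
  have hΘ1 : ∀ t : Fin 5 → Fˣ, Θ t = 1 → IsSquare ((t 4 : Fˣ) : F) := by
    intro t h
    rw [hΘ, hπ1] at h
    have h1 := isSquare_mult_of_conjGO_mem_inn h2 hQ hfam (by norm_num) h5 w₀ hw₀ 4 hn _ h
    rw [mult_dS w₀ hw₀] at h1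
    exact h1
  have ht₀ : Θ t₀ ≠ 1 := by
    intro h
    apply hν
    have h1 := hΘ1 t₀ h
    rw [ht₀def] at h1
    exact h1
  have ht₀' : Θ (alphaT t₀) ≠ Θ t₀ := by
    intro h
    have h1 : Θ (alphaT t₀ * t₀⁻¹) = 1 := by
      rw [map_mul, map_inv, h, mul_inv_cancel]
    have h3 := hΘ1 _ h1
    have h4 : (((alphaT t₀ * t₀⁻¹) 4 : Fˣ) : F) = ν * ν * ν := by
      rw [Pi.mul_apply, Pi.inv_apply, Units.val_mul, Units.val_inv_eq_inv_val]
      unfold alphaT mono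
      rw [ht₀def, Fin.prod_univ_five]
      simp only [MaT, Matrix.cons_val_zero, Matrix.cons_val_one, Matrix.cons_val,
        zpow_one, zpow_zero, mul_one, Units.val_mul, Units.val_mk0]
      field_simp
    rw [h4] at h3
    obtain ⟨c, hc⟩ := h3
    apply hν
    refine ⟨c / ν, ?_⟩
    field_simp
    linear_combination hc
  exact exists_equiv_S4_cyclic f hG (π a) (π b) hrel' hne Θ φ hφ hRcyc hRcard hφa hφb hφΘ
    alphaT betaT hα hβ Γ hΓ haΓ haΓ' hΘφ hsq t₀ ht₀ ht₀'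

end Cfsg.Agent.Lib.Helper7.Tr
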