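import Mathlib
import Cfsg.Prelude
import Cfsg.Agent.Lib.Helper5.PlusField.GFSplitMain
import Cfsg.Agent.Lib.Helper9.AOF15
import Cfsg.Agent.Lib.Helper7.TrH5

/-! Normality of the inner-diagonal group of `PΩ⁺_{2m}(F)` in the full automorphism group, for all
`m ≥ 4` (including the triality case `m = 4`). -/

set_option autoImplicit false
set_option linter.unusedSectionVars false
set_option linter.unusedVariables false
open Cfsg

namespace Cfsg.Agent.Lib.Helper7.Tr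

open Cfsg.Agent.Lib.Helper9.AOR

open Matrix QuadraticMap Cfsg.Agent.Lib.Helper5 Cfsg.Agent.Lib.Helper5.CartanDieudonne
  Cfsg.Agent.Lib.Helper5.Refl
  Cfsg.Agent.Lib.Helper5.OrthCard Cfsg.Agent.Lib.Helper5.Siegel Cfsg.Agent.Lib.Helper5.QuadIsom
  Cfsg.Agent.Lib.Helper5.ReflGen Cfsg.Agent.Lib.Helper5.Eichler Cfsg.Agent.Lib.Helper5.SingGeom
  Cfsg.Agent.Lib.Helper5.OmegaGen Cfsg.Agent.Lib.Helper5.OmegaSimple Cfsg.Agent.Lib.Helper5.OAut
  Cfsg.Agent.Lib.Helper5.ChevSym Cfsg.Lie Cfsg.Agent.Lib.Helper3.TTS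
  Cfsg.Agent.Lib.Helper5.SpinorNorm Cfsg.Agent.Lib.Helper5.SpinorDiag
  Cfsg.Agent.Lib.Helper5.PlusField Cfsg.Agent.Lib.Helper5.MaxTS
  Cfsg.Agent.Lib.Helper9.AOF Cfsg.Agent.Lib.Helper9.ASP

section grp

/-- a subgroup normalised by a subgroup of prime index and by one further element is normal -/
theorem normal_of_index_prime {G : Type*} [Group G] (H S : Subgroup G) {p : ℕ} (hp : p.Prime)
    (hS : S.index = p) (hSN : ∀ g ∈ S, ∀ n ∈ H, g * n * g⁻¹ ∈ H) (a : G) (ha : a ∉ S)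
    (haN : ∀ n ∈ H, a * n * a⁻¹ ∈ H) (haN' : ∀ n ∈ H, a⁻¹ * n * a ∈ H) : H.Normal := by
  obtain ⟨N, hN⟩ : ∃ N : Subgroup G, ∀ g, g ∈ N ↔
      ((∀ n ∈ H, g * n * g⁻¹ ∈ H) ∧ ∀ n ∈ H, g⁻¹ * n * g ∈ H) :=
    ⟨{ carrier := {g | (∀ n ∈ H, g * n * g⁻¹ ∈ H) ∧ ∀ n ∈ H, g⁻¹ * n * g ∈ H}
       mul_mem' := by
         intro x y hx hy
         refine ⟨fun n hn => ?_, fun n hn => ?_⟩
         · have h1 := hx.1 _ (hy.1 n hn)
           have e : x * y * n * (x * y)⁻¹ = x * (y * n * y⁻¹) * x⁻¹ := by group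
           rw [e]
           exact h1
         · have h1 := hy.2 _ (hx.2 n hn)
           have e : (x * y)⁻¹ * n * (x * y) = y⁻¹ * (x⁻¹ * n * x) * y := by group
           rw [e]
           exact h1
       one_mem' := by
         refine ⟨fun n hn => ?_, fun n hn => ?_⟩
         · rw [one_mul, inv_one, mul_one]
           exact hn
         · rw [inv_one, one_mul, mul_one]
           exact hn
       inv_mem' := by
         intro x hx
         refine ⟨fun n hn => ?_, fun n hn => ?_⟩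
         · rw [inv_inv]
           exact hx.2 n hn
         · rw [inv_inv]
           exact hx.1 n hn }, fun g => Iff.rfl⟩
  have hSN' : S ≤ N := by
    intro g hg
    rw [hN]
    refine ⟨hSN g hg, fun n hn => ?_⟩
    have h1 := hSN g⁻¹ (S.inv_mem hg) n hn
    rw [inv_inv] at h1
    exact h1
  have haNm : a ∈ N := (hN a).mpr ⟨haN, haN'⟩
  have h1 := Subgroup.relIndex_mul_index hSN'
  rw [hS] at h1
  have h2 : N.index ∣ p := ⟨S.relIndex N, by rw [← h1, mul_comm]⟩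
  rcases (Nat.dvd_prime hp).mp h2 with h3 | h3
  · have hNt : N = ⊤ := Subgroup.index_eq_one.mp h3
    constructor
    intro n hn g
    have hg : g ∈ N := by
      rw [hNt]
      exact Subgroup.mem_top g
    exact ((hN g).mp hg).1 n hn
  · exfalso
    rw [h3] at h1
    have h4 : S.relIndex N = 1 := by
      have hp0 := hp.pos
      exact Nat.eq_of_mul_eq_mul_right hp0 (by rw [h1, one_mul])
    rw [Subgroup.relIndex_eq_one] at h4
    exact ha (h4 haNm)

end grp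

variable {F : Type*} [Field F] [Fintype F]

/-- the inner automorphisms are inner-diagonal -/
theorem inn_le_dPlus (m : ℕ) : Inn (POmega F ⇑(plusForm m F)) ≤ dPlus (F := F) m := by
  intro β hβ
  rw [inn_eq] at hβ
  obtain ⟨s, hs, rfl⟩ := hβ
  rw [mem_dPlus_iff]
  refine ⟨inclO (plusForm m F) s, eps_inclO_of_mem_commutator m s hs, ?_⟩
  rw [← conjGO_comp_inclO]
  rfl

/-- automorphisms induced by semisimilarities normalise the inner-diagonal group -/
theorem dPlus_conj_good (m : ℕ) (hm1 : 1 ≤ m) (β : MulAut (POmega F ⇑(plusForm m F)))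
    (hβ : β ∈ goodSub (plusForm m F)) (δ : MulAut (POmega F ⇑(plusForm m F)))
    (hδ : δ ∈ dPlus (F := F) m) : β * δ * β⁻¹ ∈ dPlus (F := F) m := by
  obtain ⟨i₀⟩ : Nonempty (Fin m) := ⟨⟨0, by omega⟩⟩
  rw [mem_dPlus_iff] at hδ ⊢
  obtain ⟨G, hG, rfl⟩ := hδ
  obtain ⟨τ, g₁, c₁, hc₁, hg₁, rfl⟩ := (mem_goodSub β).mp hβ
  have e := conjSim_semiAut g₁ τ c₁ hc₁ hg₁ (plusForm_v1 (F := F) m i₀) G
  refine ⟨conjSim g₁ τ c₁ hc₁ hg₁ (plusForm_v1 (F := F) m i₀) G, ?_, ?_⟩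
  · have hg₁s := sim_of_semi m g₁ τ c₁ hc₁ hg₁
    have e1 : (conjSim g₁ τ c₁ hc₁ hg₁ (plusForm_v1 (F := F) m i₀) G) =
        (⟨g₁, hg₁s⟩ : ↥(Geo.quadSimilarityGroup (F := F) ⇑(plusForm m F))) *
          sGO (τ : RingAut F) (plusForm_vm m τ) G *
          (⟨g₁, hg₁s⟩ : ↥(Geo.quadSimilarityGroup (F := F) ⇑(plusForm m F)))⁻¹ := by
      apply Subtype.ext
      rfl
    rw [e1, map_mul, map_mul, map_inv, eps_sGO, hG, mul_one, mul_inv_cancel]
  · rw [e]
    group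

/-- the diagonal similarities of the eight-dimensional form preserve the two classes -/
theorem eps_dS (h2 : (2 : F) ≠ 0) (t : Fin 5 → Fˣ) : eps (F := F) 4 (dS t) = 1 := by
  rw [eps_eq_one_iff_Pdet 4 h2 (plusForm_w0 (F := F) 4 (by norm_num))]
  exact detRatio_dS _ (plusForm_w0 (F := F) 4 (by norm_num)) t

theorem klein_cases : ∀ u v w : Multiplicative (ZMod 2 × ZMod 2), u ≠ 1 → v ≠ 1 → u ≠ v →
    w = 1 ∨ w = u ∨ w = v ∨ w = u * v := by decide

set_option maxHeartbeats 1600000 in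
/-- in odd characteristic, every inner-diagonal automorphism of `PΩ⁺₈(F)` is a diagonal one up
to an inner automorphism -/
theorem torus_rep (p f : ℕ) [Fact p.Prime] (hF : Fintype.card F = p ^ f) (hp : p ≠ 2)
    (a : MulAut (POmega F ⇑(plusForm 4 F)))
    (sa : IsSgn a (fun r => gD4a.pr.getD r 0) (fun r => gD4a.eps.getD r 1))
    (δ : MulAut (POmega F ⇑(plusForm 4 F))) (hδ : δ ∈ dPlus (F := F) 4) :
    ∃ t : Fin 5 → Fˣ,
      δ * (conjGO (plusForm 4 F) (dS t))⁻¹ ∈ Inn (POmega F ⇑(plusForm 4 F)) := by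
  have hchar := charP_of_card' p f hF
  have hpodd : Odd p := (Fact.out : p.Prime).odd_of_ne_two hp
  have hqodd : Odd (p ^ f) := hpodd.pow
  have h2 : (2 : F) ≠ 0 :=
    Cfsg.Agent.Lib.Helper5.two_ne_zero_of_odd_card (by rw [hF]; exact hqodd)
  have hQ := PlusGeom.plus_nondegenerate (F := F) 4
  have hfam := Cfsg.Agent.S2613.plus_hypFamily (F := F) (le_refl 4)
  have hn : Fintype.card (Fin 4 ⊕ Fin 4) = 2 * 4 := by
    simp only [Fintype.card_sum, Fintype.card_fin]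
  have h5 : 5 ≤ Fintype.card (Fin 4 ⊕ Fin 4) := by rw [hn]; norm_num
  have hw₀ := plusForm_w0 (F := F) 4 (by norm_num)
  obtain ⟨w₀, hw₀def⟩ : ∃ w₀ : Fin 4 ⊕ Fin 4 → F, w₀ = w0plus F 4 (by norm_num) := ⟨_, rfl⟩
  rw [← hw₀def] at hw₀
  have hneg : negOne (plusForm 4 F) ∈ Omega F ⇑(plusForm 4 F) := by
    rw [Cfsg.Agent.S0293.negOne_mem_iff (F := F) hF hqodd 4 (by norm_num),
      pow_mod_four_eq_one_iff _ _ hqodd]
    intro h
    exact absurd h.1 (by decide)
  obtain ⟨φd, hφds, hφdk⟩ := (exists_inndiag_plus (F := F) 4 h2 (by norm_num)).2.2 hneg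
    (by decide)
  have hmem : ∀ t : Fin 5 → Fˣ,
      conjGO (plusForm 4 F) (dS t) ∈ inndiagGen ⇑(plusForm 4 F) := by
    intro t
    rw [inndiagGen_eq h2 hQ w₀ hw₀ 4 hn (plus_crit 4 h2 hw₀ hn)]
    exact ⟨dS t, (mem_goZero_iff h2 hQ w₀ hw₀ 4 hn _).mpr (detRatio_dS w₀ hw₀ t), rfl⟩
  have hδ' : δ ∈ inndiagGen ⇑(plusForm 4 F) := by
    rw [inndiagGen_eq_dPlus]
    exact hδ
  obtain ⟨Xh, hXh⟩ : ∃ Xh : (Fin 5 → Fˣ) →* ↥(inndiagGen ⇑(plusForm 4 F)),
      ∀ t, ((Xh t : ↥(inndiagGen ⇑(plusForm 4 F))) : MulAut (POmega F ⇑(plusForm 4 F))) =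
        conjGO (plusForm 4 F) (dS t) :=
    ⟨((conjGO (plusForm 4 F)).comp dS).codRestrict _ hmem, fun t => rfl⟩
  have hker : ∀ y : ↥(inndiagGen ⇑(plusForm 4 F)),
      φd y = 1 ↔ (y : MulAut (POmega F ⇑(plusForm 4 F))) ∈ Inn (POmega F ⇑(plusForm 4 F)) := by
    intro y
    rw [← MonoidHom.mem_ker, hφdk, Subgroup.mem_subgroupOf]
  obtain ⟨ν, hν0, hν⟩ := exists_nonsquare (F := F) h2
  obtain ⟨t₀, ht₀def⟩ : ∃ t₀ : Fin 5 → Fˣ, t₀ = fun _ => Units.mk0 ν hν0 := ⟨_, rfl⟩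
  have hu1 : φd (Xh t₀) ≠ 1 := by
    intro h
    rw [hker, hXh] at h
    have h1 := isSquare_mult_of_conjGO_mem_inn h2 hQ hfam (by norm_num) h5 w₀ hw₀ 4 hn _ h
    rw [mult_dS w₀ hw₀, ht₀def] at h1
    exact hν h1
  have hv1 : φd (Xh (alphaT t₀)) ≠ 1 := by
    intro h
    rw [hker, hXh, ← triality_conj_torus sa t₀] at h
    have h1 := (innNormal (POmega F ⇑(plusForm 4 F))).conj_mem _ h a⁻¹
    rw [inv_inv] at h1
    have e : a⁻¹ * (a * conjGO (plusForm 4 F) (dS t₀) * a⁻¹) * a =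
        conjGO (plusForm 4 F) (dS t₀) := by group
    rw [e] at h1
    apply hu1
    rw [hker, hXh]
    exact h1
  have huv : φd (Xh t₀) ≠ φd (Xh (alphaT t₀)) := by
    intro h
    have h1 : φd (Xh (alphaT t₀ * t₀⁻¹)) = 1 := by
      rw [map_mul, map_mul, map_inv, map_inv, ← h, mul_inv_cancel]
    rw [hker, hXh] at h1
    have h3 := isSquare_mult_of_conjGO_mem_inn h2 hQ hfam (by norm_num) h5 w₀ hw₀ 4 hn _ h1
    rw [mult_dS w₀ hw₀] at h3
    have h4 : (((alphaT t₀ * t₀⁻¹) 4 : Fˣ) : F) = ν * ν * ν := by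
      rw [Pi.mul_apply, Pi.inv_apply, Units.val_mul, Units.val_inv_eq_inv_val]
      unfold alphaT mono
      rw [ht₀def, Fin.prod_univ_five]
      simp only [MaT, Matrix.cons_val_zero, Matrix.cons_val_one, Matrix.cons_val,
        zpow_one, zpow_zero, mul_one, Units.val_mul, Units.val_mk0]
      field_simp
    rw [h4] at h3
    obtain ⟨c, hc⟩ := h3
    apply hν
    refine ⟨c / ν, ?_⟩
    field_simp
    linear_combination hc
  rcases klein_cases _ _ (φd ⟨δ, hδ'⟩) hu1 hv1 huv with h | h | h | h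
  · refine ⟨1, ?_⟩
    rw [map_one, map_one, inv_one, mul_one]
    exact (hker _).mp h
  · refine ⟨t₀, ?_⟩
    have h1 : φd (⟨δ, hδ'⟩ * (Xh t₀)⁻¹) = 1 := by
      rw [map_mul, map_inv, h, mul_inv_cancel]
    rw [hker, Subgroup.coe_mul, Subgroup.coe_inv, hXh] at h1
    exact h1
  · refine ⟨alphaT t₀, ?_⟩
    have h1 : φd (⟨δ, hδ'⟩ * (Xh (alphaT t₀))⁻¹) = 1 := by
      rw [map_mul, map_inv, h, mul_inv_cancel]
    rw [hker, Subgroup.coe_mul, Subgroup.coe_inv, hXh] at h1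
    exact h1
  · refine ⟨t₀ * alphaT t₀, ?_⟩
    have h1 : φd (⟨δ, hδ'⟩ * (Xh (t₀ * alphaT t₀))⁻¹) = 1 := by
      rw [map_mul, map_inv, map_mul, map_mul, h, mul_inv_cancel]
    rw [hker, Subgroup.coe_mul, Subgroup.coe_inv, hXh] at h1
    exact h1

/-- **the inner-diagonal group of `PΩ⁺₈(F)` is normal in the automorphism group** -/
theorem dPlus_normal_four (p f : ℕ) [Fact p.Prime] (hF : Fintype.card F = p ^ f) :
    (dPlus (F := F) 4).Normal := by
  have hchar := charP_of_card' p f hF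
  by_cases hp : p = 2
  · have hc2 : ringChar F = 2 := by
      subst hp
      exact ringChar.eq F 2
    rw [dPlus_eq_inn_two 4 hc2 (by norm_num)]
    exact innNormal _
  · have hpodd : Odd p := (Fact.out : p.Prime).odd_of_ne_two hp
    have hqodd : Odd (p ^ f) := hpodd.pow
    have h2 : (2 : F) ≠ 0 :=
      Cfsg.Agent.Lib.Helper5.two_ne_zero_of_odd_card (by rw [hF]; exact hqodd)
    obtain ⟨a, b, sa, sb, hrel⟩ := exists_graph_S3 (F := F)
    have hbb : b * b = 1 := hrel.ha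
    have ha3 : a * (a * a) = 1 := by
      have h := hrel.hab
      rw [← mul_assoc, hbb, one_mul, pow_three] at h
      exact h
    have hainv : a⁻¹ = a * a := inv_eq_of_mul_eq_one_right ha3
    have hng := triality_not_good p a sa
    have haN : ∀ n ∈ dPlus (F := F) 4, a * n * a⁻¹ ∈ dPlus (F := F) 4 := by
      intro n hn
      obtain ⟨t, ht⟩ := torus_rep p f hF hp a sa n hn
      have e : a * n * a⁻¹ = (a * (n * (conjGO (plusForm 4 F) (dS t))⁻¹) * a⁻¹) *
          (a * conjGO (plusForm 4 F) (dS t) * a⁻¹) := by group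
      rw [e, triality_conj_torus sa t]
      apply Subgroup.mul_mem
      · exact inn_le_dPlus 4 ((innNormal (POmega F ⇑(plusForm 4 F))).conj_mem _ ht a)
      · rw [mem_dPlus_iff]
        exact ⟨dS (alphaT t), eps_dS h2 _, rfl⟩
    have haN' : ∀ n ∈ dPlus (F := F) 4, a⁻¹ * n * a ∈ dPlus (F := F) 4 := by
      intro n hn
      have h1 := haN _ (haN n hn)
      have e : a⁻¹ * n * a = a * (a * n * a⁻¹) * a⁻¹ := by
        have e1 : a * (a * n * a⁻¹) * a⁻¹ = (a * a) * n * (a * a)⁻¹ := by group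
        rw [e1, ← hainv, inv_inv]
      rw [e]
      exact h1
    exact normal_of_index_prime (dPlus (F := F) 4) (goodSub (plusForm 4 F)) Nat.prime_three
      (index_goodSub_eight p) (fun g hg n hn => dPlus_conj_good 4 (by norm_num) g hg n hn)
      a hng.1 haN haN'

/-- **the inner-diagonal group of `PΩ⁺_{2m}(F)`, `m ≥ 4`, is normal in the automorphism group** -/
theorem dPlus_normal_all (p f : ℕ) [Fact p.Prime] (hF : Fintype.card F = p ^ f) (m : ℕ)
    (hm : 4 ≤ m) : (dPlus (F := F) m).Normal := by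
  rcases Nat.lt_or_ge 4 m with h | h
  · have hchar := charP_of_card' p f hF
    exact dPlus_normal m (by omega) (gamma_eq_top_plus p m (by omega))
  · have h4 : m = 4 := by omega
    subst h4
    exact dPlus_normal_four p f hF

end Cfsg.Agent.Lib.Helper7.Tr
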