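import Mathlib
import Cfsg.Prelude
import Cfsg.Agent.Lib.Helper7.TrJ1

/-! The class character of `GO⁺_{2m}(F)` as a class predicate, its compatibility with extension of
scalars, and the centraliser of the standard field automorphism in the inner-diagonal group. -/

set_option autoImplicit false
set_option linter.unusedSectionVars false
set_option linter.unusedVariables false
open Cfsg

namespace Cfsg.Agent.Lib.Helper7.Tr

open Cfsg.Agent.Lib.Helper9.AOR

open Matrix QuadraticMap Cfsg.Agent.Lib.Helper5 Cfsg.Agent.Lib.Helper5.CartanDieudonne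
  Cfsg.Agent.Lib.Helper5.Refl
  Cfsg.Agent.Lib.Helper5.OrthCard Cfsg.Agent.Lib.Helper5.Siegel Cfsg.Agent.Lib.Helper5.QuadIsom
  Cfsg.Agent.Lib.Helper5.ReflGen Cfsg.Agent.Lib.Helper5.Eichler Cfsg.Agent.Lib.Helper5.SingGeom
  Cfsg.Agent.Lib.Helper5.OmegaGen Cfsg.Agent.Lib.Helper5.OmegaSimple Cfsg.Agent.Lib.Helper5.OAut
  Cfsg.Agent.Lib.Helper5.SpinorNorm Cfsg.Agent.Lib.Helper5.SpinorDiag
  Cfsg.Agent.Lib.Helper5.PlusField Cfsg.Agent.Lib.Helper5.MaxTS
  Cfsg.Agent.Lib.Helper9.AOF Cfsg.Agent.Lib.Helper9.ASP Cfsg.Agent.Lib.Helper5.Dickson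

section peps
variable {F : Type*} [Field F] [Fintype F]

/-- the class predicate: the matrix moves the standard maximal totally singular subspace to one
of the same class -/
def Peps (m : ℕ) (g : GL (Fin m ⊕ Fin m) F) : Prop := Even (sdist m (stdL (F := F) m) g)

theorem Peps_iff (m : ℕ) (G : ↥(Geo.quadSimilarityGroup (F := F) ⇑(plusForm m F))) :
    Peps m (G : GL (Fin m ⊕ Fin m) F) ↔ eps m G = 1 := (eps_eq_one_iff m G).symm

theorem Peps_mk (m : ℕ) (g : GL (Fin m ⊕ Fin m) F)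
    (hg : g ∈ Geo.quadSimilarityGroup (F := F) ⇑(plusForm m F)) :
    Peps m g ↔ eps m (⟨g, hg⟩ : ↥(Geo.quadSimilarityGroup (F := F) ⇑(plusForm m F))) = 1 :=
  Peps_iff m ⟨g, hg⟩

theorem isCls_Peps (m : ℕ) : IsCls (plusForm m F) (Peps (F := F) m) where
  one := by
    rw [Peps_mk m 1 (Subgroup.one_mem _)]
    exact map_one _
  mul g h hg hh h1 h2 := by
    rw [Peps_mk m g hg] at h1
    rw [Peps_mk m h hh] at h2
    rw [Peps_mk m (g * h) (Subgroup.mul_mem _ hg hh)]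
    have e : (⟨g * h, Subgroup.mul_mem _ hg hh⟩ :
        ↥(Geo.quadSimilarityGroup (F := F) ⇑(plusForm m F))) = ⟨g, hg⟩ * ⟨h, hh⟩ := rfl
    rw [e, map_mul, h1, h2, one_mul]
  inv g hg h1 := by
    rw [Peps_mk m g hg] at h1
    rw [Peps_mk m g⁻¹ (Subgroup.inv_mem _ hg)]
    have e : (⟨g⁻¹, Subgroup.inv_mem _ hg⟩ :
        ↥(Geo.quadSimilarityGroup (F := F) ⇑(plusForm m F))) = ⟨g, hg⟩⁻¹ := rfl
    rw [e, map_inv, h1, inv_one]
  scal u := by
    rw [Peps_mk m (scU u) (scU_mem m u)]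
    exact eps_scalar m _ u rfl
  idx g h hg hh h1 h2 := by
    rw [Peps_mk m g hg] at h1
    rw [Peps_mk m h hh] at h2
    rw [Peps_mk m (g * h) (Subgroup.mul_mem _ hg hh)]
    have e : (⟨g * h, Subgroup.mul_mem _ hg hh⟩ :
        ↥(Geo.quadSimilarityGroup (F := F) ⇑(plusForm m F))) = ⟨g, hg⟩ * ⟨h, hh⟩ := rfl
    have e1 : eps m (⟨g, hg⟩ : ↥(Geo.quadSimilarityGroup (F := F) ⇑(plusForm m F))) =
        Multiplicative.ofAdd (1 : ZMod 2) := (z2_cases _).resolve_left h1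
    have e2 : eps m (⟨h, hh⟩ : ↥(Geo.quadSimilarityGroup (F := F) ⇑(plusForm m F))) =
        Multiplicative.ofAdd (1 : ZMod 2) := (z2_cases _).resolve_left h2
    rw [e, map_mul, e1, e2]
    exact z2_ofAdd_one_mul_self

theorem Dcls_Peps (m : ℕ) : Dcls (isCls_Peps (F := F) m) = dPlus (F := F) m := by
  ext β
  rw [mem_dPlus_iff]
  constructor
  · rintro ⟨G, hG, rfl⟩
    exact ⟨G, (Peps_iff m G).mp hG, rfl⟩
  · rintro ⟨G, hG, rfl⟩
    exact ⟨G, (Peps_iff m G).mpr hG, rfl⟩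

/-- in characteristic two the class predicate is read off from the number of reflections -/
theorem Peps_of_decomp (m : ℕ) (hchar : ringChar F = 2) (hm3 : 3 ≤ m)
    (g : GL (Fin m ⊕ Fin m) F) (d : Fˣ) (s : ↥(isometryGroup F ⇑(plusForm m F)))
    (hg : g = scU d * (s : GL (Fin m ⊕ Fin m) F)) (vs : List (Fin m ⊕ Fin m → F))
    (hvs : IsRep (plusForm m F) s vs) : Peps m g ↔ Even vs.length := by
  have hQ := PlusGeom.plus_nondegenerate (F := F) m
  have h1 : Peps m g ↔ eps m ((⟨scU d, scU_mem m d⟩ :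
      ↥(Geo.quadSimilarityGroup (F := F) ⇑(plusForm m F))) * inclO (plusForm m F) s) = 1 := by
    rw [← Peps_iff, hg]
    rfl
  rw [h1, map_mul, eps_scalar m _ d rfl, one_mul, eps_inclO_eq_one_iff m hchar hm3,
    par_eq (plusForm m F) hQ (hex_plus m hm3) s vs hvs, neg_one_pow_eq_one_iff]

end peps

section bc
variable {F : Type*} [Field F] [Fintype F] {F₀ : Type*} [Field F₀] [Fintype F₀] (j : F₀ →+* F)

theorem hm_v1 (m : ℕ) (i₀ : Fin m) : hm j (v1 (F := F₀) m i₀) = v1 (F := F) m i₀ := by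
  unfold v1
  rw [hm_add, hm_single, hm_single]

/-- the class predicate is compatible with extension of scalars -/
theorem Peps_glmap (m : ℕ) (hm3 : 3 ≤ m) (h₀ : GL (Fin m ⊕ Fin m) F₀)
    (hh₀ : h₀ ∈ Geo.quadSimilarityGroup (F := F₀) ⇑(plusForm m F₀)) :
    Peps m h₀ ↔ Peps m (Matrix.GeneralLinearGroup.map j h₀) := by
  obtain ⟨i₀⟩ : Nonempty (Fin m) := ⟨⟨0, by omega⟩⟩
  have hbc : ∀ v₀, plusForm m F (hm j v₀) = j (plusForm m F₀ v₀) := plusForm_hm m j
  have hw₀' := plusForm_v1 (F := F₀) m i₀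
  have hw₀ := plusForm_v1 (F := F) m i₀
  have hmem := (glmap_mem_GO_iff j (plusForm m F₀) hbc hw₀' h₀).mp hh₀
  by_cases h2 : (2 : F) = 0
  · have h2₀ : (2 : F₀) = 0 := by
      apply j.injective
      rw [map_ofNat, map_zero]
      exact h2
    have hc₀ := ringChar_two_of h2₀
    have hc := ringChar_two_of h2
    have hQ₀ := PlusGeom.plus_nondegenerate (F := F₀) m
    obtain ⟨d₀, s₀, hd₀⟩ := exists_decomp2 hc₀ hw₀' h₀ hh₀
    obtain ⟨vs₀, hvs₀⟩ := exists_rep' _ hQ₀ (hex_plus m hm3) s₀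
    rw [Peps_of_decomp m hc₀ hm3 h₀ d₀ s₀ hd₀ vs₀ hvs₀]
    have hne : ∀ v ∈ vs₀.map (hm j), plusForm m F v ≠ 0 := by
      intro v hv
      obtain ⟨v₀, hv₀, rfl⟩ := List.mem_map.mp hv
      rw [hbc]
      exact (map_ne_zero j).mpr (hvs₀.1 v₀ hv₀)
    obtain ⟨s, hs⟩ : ∃ s : ↥(isometryGroup F ⇑(plusForm m F)),
        s = ((vs₀.map (hm j)).map (reflE (plusForm m F))).prod := ⟨_, rfl⟩
    have hrep : IsRep (plusForm m F) s (vs₀.map (hm j)) := by
      refine ⟨hne, ?_⟩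
      rw [hs]
      exact coe_prod_reflE (plusForm m F) _ hne
    have hsmat : ((s : GL (Fin m ⊕ Fin m) F) : Matrix (Fin m ⊕ Fin m) (Fin m ⊕ Fin m) F) =
        ((s₀ : GL (Fin m ⊕ Fin m) F₀) : Matrix (Fin m ⊕ Fin m) (Fin m ⊕ Fin m) F₀).map j := by
      rw [hrep.2, rprod_hm j (plusForm m F₀) hbc, ← hvs₀.2]
    have hjd : j (d₀ : F₀) ≠ 0 := (map_ne_zero j).mpr d₀.ne_zero
    have hdec : Matrix.GeneralLinearGroup.map j h₀ = scU (Units.mk0 (j (d₀ : F₀)) hjd) *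
        (s : GL (Fin m ⊕ Fin m) F) := by
      apply Units.ext
      rw [glmapI_coe, hd₀, Units.val_mul, Units.val_mul, scU_coe, scU_coe, Matrix.smul_mul,
        Matrix.one_mul, Matrix.smul_mul, Matrix.one_mul, hsmat]
      ext x y
      rw [Matrix.map_apply, Matrix.smul_apply, Matrix.smul_apply, Matrix.map_apply, smul_eq_mul,
        smul_eq_mul, map_mul]
      rfl
    rw [Peps_of_decomp m hc hm3 _ _ s hdec _ hrep, List.length_map]
  · have h2₀ : (2 : F₀) ≠ 0 := by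
      intro h
      apply h2
      have := congrArg j h
      rwa [map_ofNat, map_zero] at this
    have e1 := (Peps_iff m ⟨h₀, hh₀⟩).trans (eps_eq_one_iff_Pdet m h2₀ hw₀' ⟨h₀, hh₀⟩)
    have e2 := (Peps_iff m ⟨_, hmem⟩).trans (eps_eq_one_iff_Pdet m h2 hw₀ ⟨_, hmem⟩)
    have e3 := Pdet_glmap (n := m) j (plusForm m F₀) hbc (v1 m i₀) h₀
    rw [hm_v1] at e3
    exact e1.trans (e3.symm.trans e2.symm)

/-- **the centraliser of the standard field automorphism in the inner-diagonal group** -/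
theorem plus_cent_equiv (m : ℕ) (hm4 : 4 ≤ m) (σ : RingAut F) (r : ℕ) (hr : 0 < r)
    (hord : orderOf σ = r) (hι : ∀ a : F, σ a = a ↔ a ∈ Set.range j) :
    Nonempty (↥(dPlus (F := F) m ⊓ Subgroup.centralizer {fO σ (plusForm_vm m σ)}) ≃*
      ↥(dPlus (F := F₀) m)) := by
  obtain ⟨i₀⟩ : Nonempty (Fin m) := ⟨⟨0, by omega⟩⟩
  have : Nonempty (Fin m ⊕ Fin m) := ⟨Sum.inl i₀⟩
  have hQ := PlusGeom.plus_nondegenerate (F := F) m
  have hQ₀ := PlusGeom.plus_nondegenerate (F := F₀) m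
  have hfam := Cfsg.Agent.S2613.plus_hypFamily (F := F) (le_refl m)
  have hfam₀ := Cfsg.Agent.S2613.plus_hypFamily (F := F₀) (le_refl m)
  have h5 : 5 ≤ Fintype.card (Fin m ⊕ Fin m) := by
    rw [card_plus_index]; omega
  have hbc : ∀ v₀, plusForm m F (hm j v₀) = j (plusForm m F₀ v₀) := plusForm_hm m j
  obtain ⟨E⟩ := exists_cent_fO_equiv_cls j (plusForm m F₀) hQ hfam (by omega) h5
    (plusForm_v1 (F := F) m i₀) hQ₀ hfam₀ (by omega) (plusForm_v1 (F := F₀) m i₀) hbc σ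
    (plusForm_vm m σ) r hr hord hι (isCls_Peps m) (isCls_Peps m)
    (fun h₀ hh₀ => Peps_glmap j m (by omega) h₀ hh₀)
  exact ⟨(MulEquiv.subgroupCongr (by rw [Dcls_Peps])).trans
    (E.trans (MulEquiv.subgroupCongr (Dcls_Peps m)))⟩

end bc

end Cfsg.Agent.Lib.Helper7.Tr
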