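import Mathlib
import Cfsg.Prelude
import Cfsg.Agent.Lib.Helper7.TrJ2

/-! Field automorphisms of prime order of `PΩ⁺_{2m}(F)`, `m ≥ 4`: centraliser in the inner-diagonal
group and the number of classes of inner automorphisms into which the class splits. -/

set_option autoImplicit false
set_option linter.unusedSectionVars false
set_option linter.unusedVariables false
open Cfsg

namespace Cfsg.Agent.Lib.Helper7.Tr

open Cfsg.Agent.Lib.Helper9.AOR

open Matrix QuadraticMap Cfsg.Agent.Lib.Helper5 Cfsg.Agent.Lib.Helper5.CartanDieudonne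
  Cfsg.Agent.Lib.Helper5.Refl
  Cfsg.Agent.Lib.Helper5.OrthCard Cfsg.Agent.Lib.Helper5.Siegel Cfsg.Agent.Lib.Helper5.QuadIsom
  Cfsg.Agent.Lib.Helper5.ReflGen Cfsg.Agent.Lib.Helper5.Eichler Cfsg.Agent.Lib.Helper5.SingGeom
  Cfsg.Agent.Lib.Helper5.OmegaGen Cfsg.Agent.Lib.Helper5.OmegaSimple Cfsg.Agent.Lib.Helper5.OAut
  Cfsg.Agent.Lib.Helper5.SpinorNorm Cfsg.Agent.Lib.Helper5.SpinorDiag
  Cfsg.Agent.Lib.Helper5.PlusField Cfsg.Agent.Lib.Helper5.MaxTS
  Cfsg.Agent.Lib.Helper9.AOF Cfsg.Agent.Lib.Helper9.ASP Cfsg.Agent.Lib.Helper5.Dickson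
open Cfsg.Agent.Lib.Helper9.APSL (mem_cent_single splitClassCount_conj centInfConjEquiv
  exists_fixed_embedding)

universe u u₀

section arith
variable {F : Type u} [Field F] [Fintype F] {F₀ : Type u₀} [Field F₀] [Fintype F₀]

/-- a power of a square root of a non-square of the subfield of index two -/
theorem field_arith (j : F₀ →+* F) (q₀ : ℕ) (hF₀ : Fintype.card F₀ = q₀)
    (hF : Fintype.card F = q₀ ^ 2) (h2 : (2 : F) ≠ 0) (c : F) (μ₀ : F₀)
    (hμ₀ : ¬ IsSquare μ₀) (hc : c * c = j μ₀) (k : ℕ) :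
    IsSquare (c ^ k * (c * c / c)) ↔ ¬ (Odd (k + 1) ∧ q₀ % 4 = 1) := by
  have hchar : ringChar F ≠ 2 := by
    intro h
    apply h2
    have : CharP F 2 := ringChar.of_eq h
    exact CharP.cast_eq_zero F 2
  have h2₀ : (2 : F₀) ≠ 0 := by
    intro h
    apply h2
    have := congrArg j h
    rwa [map_ofNat, map_zero] at this
  have hchar₀ : ringChar F₀ ≠ 2 := by
    intro h
    apply h2₀
    have : CharP F₀ 2 := ringChar.of_eq h
    exact CharP.cast_eq_zero F₀ 2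
  have hodd : q₀ % 2 = 1 := by
    have h1 := FiniteField.odd_card_of_char_ne_two hchar₀
    rw [hF₀] at h1
    exact h1
  obtain ⟨t, ht⟩ : ∃ t, q₀ = 2 * t + 1 := ⟨q₀ / 2, by omega⟩
  have hμ0 : μ₀ ≠ 0 := by
    rintro rfl
    exact hμ₀ ⟨0, by rw [mul_zero]⟩
  have hc0 : c ≠ 0 := by
    rintro rfl
    rw [mul_zero] at hc
    exact hμ0 ((map_eq_zero j).mp hc.symm)
  have hE₀ : μ₀ ^ t = -1 := by
    have h1 := FiniteField.pow_dichotomy hchar₀ hμ0
    have h3 : Fintype.card F₀ / 2 = t := by rw [hF₀, ht]; omega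
    rw [h3] at h1
    rcases h1 with h1 | h1
    · exfalso
      apply hμ₀
      rw [FiniteField.isSquare_iff hchar₀ hμ0, h3]
      exact h1
    · exact h1
  have hcE : c ^ (Fintype.card F / 2) = (-1) ^ (t + 1) := by
    have h3 : Fintype.card F / 2 = 2 * (t * (t + 1)) := by
      rw [hF, ht]
      have : (2 * t + 1) ^ 2 = 2 * (2 * (t * (t + 1))) + 1 := by ring
      rw [this]
      omega
    rw [h3, pow_mul, pow_two, hc, pow_mul, ← map_pow, hE₀, map_neg, map_one]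
  have hX : c ^ k * (c * c / c) = c ^ (k + 1) := by
    rw [mul_div_assoc, div_self hc0, mul_one, ← pow_succ]
  have hX0 : c ^ (k + 1) ≠ 0 := pow_ne_zero _ hc0
  rw [hX, FiniteField.isSquare_iff hchar hX0, ← pow_mul, mul_comm (k + 1), pow_mul, hcE]
  rcases Nat.even_or_odd t with hte | hto
  · have h4 : (-1 : F) ^ (t + 1) = -1 := (hte.add_one).neg_one_pow
    have h5 : q₀ % 4 = 1 := by
      obtain ⟨s, hs⟩ := hte
      omega
    rw [h4, neg_one_pow_eq_one_iff_of_ne h2]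
    constructor
    · intro h hcon
      exact (Nat.not_odd_iff_even.mpr h) hcon.1
    · intro h
      by_contra hne
      exact h ⟨Nat.not_even_iff_odd.mp hne, h5⟩
  · have h4 : (-1 : F) ^ (t + 1) = 1 := (hto.add_one).neg_one_pow
    have h5 : q₀ % 4 ≠ 1 := by
      obtain ⟨s, hs⟩ := hto
      omega
    rw [h4, one_pow]
    constructor
    · intro _ hcon
      exact h5 hcon.2
    · intro _
      rfl

end arith

section split
variable {F : Type u} [Field F] [Fintype F] {F₀ : Type u₀} [Field F₀] [Fintype F₀]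

/-- the class of the standard field automorphism is a single class of inner automorphisms when
its order is odd or the characteristic is two -/
theorem field_split_one (p f : ℕ) [Fact p.Prime] (hF : Fintype.card F = p ^ f) (m : ℕ)
    (hm4 : 4 ≤ m) (j : F₀ →+* F) (σ : RingAut F) (r : ℕ) (hr : 0 < r) (hord : orderOf σ = r)
    (hι : ∀ a : F, σ a = a ↔ a ∈ Set.range j) (h : Odd r ∨ p = 2) :
    splitClassCount (dPlus (F := F) m) (Inn (POmega F ⇑(plusForm m F)))
      (fO σ (plusForm_vm m σ)) = 1 := by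
  have hchar := charP_of_card' p f hF
  apply splitClassCount_eq_one
  by_cases hp : p = 2
  · have hc2 : ringChar F = 2 := by
      subst hp
      exact ringChar.eq F 2
    rw [dPlus_eq_inn_two m hc2 (by omega)]
    exact le_sup_right
  · have hrodd : Odd r := h.resolve_right hp
    have hpodd : Odd p := (Fact.out : p.Prime).odd_of_ne_two hp
    have hqodd : Odd (p ^ f) := hpodd.pow
    have h2 : (2 : F) ≠ 0 :=
      Cfsg.Agent.Lib.Helper5.two_ne_zero_of_odd_card (by rw [hF]; exact hqodd)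
    obtain ⟨i₀⟩ : Nonempty (Fin m) := ⟨⟨0, by omega⟩⟩
    have : Nonempty (Fin m ⊕ Fin m) := ⟨Sum.inl i₀⟩
    have hQ := PlusGeom.plus_nondegenerate (F := F) m
    have hQ₀ := PlusGeom.plus_nondegenerate (F := F₀) m
    have hfam := Cfsg.Agent.S2613.plus_hypFamily (F := F) (le_refl m)
    have h5 : 5 ≤ Fintype.card (Fin m ⊕ Fin m) := by
      rw [card_plus_index]; omega
    have hbc : ∀ v₀, plusForm m F (hm j v₀) = j (plusForm m F₀ v₀) := plusForm_hm m j
    have hw₁ := plusForm_v1 (F := F) m i₀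
    have hw₀' := plusForm_v1 (F := F₀) m i₀
    intro δ hδ
    obtain ⟨G, hG, rfl⟩ := (mem_dPlus_iff m δ).1 hδ
    have hkP : Pdet (plusForm m F) (hm j (v1 (F := F₀) m i₀)) m (G : GL (Fin m ⊕ Fin m) F) := by
      rw [hm_v1]
      exact (eps_eq_one_iff_Pdet m h2 hw₁ G).mp hG
    have hsurj : ∀ ν₀ : F₀ˣ, ∃ g₀ : GL (Fin m ⊕ Fin m) F₀,
        g₀ ∈ Geo.quadSimilarityGroup (F := F₀) ⇑(plusForm m F₀) ∧
          Cfsg.Agent.Lib.Helper5.OAut.mult (plusForm m F₀) (v1 m i₀) g₀ = (ν₀ : F₀) := by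
      intro ν₀
      obtain ⟨g, hg⟩ := exists_sim_plus (F := F₀) m (ν₀ : F₀) ν₀.ne_zero
      refine ⟨g, ⟨ν₀, fun w => hg w⟩, ?_⟩
      unfold Cfsg.Agent.Lib.Helper5.OAut.mult
      rw [hg, hw₀', mul_one]
    exact conjGO_mem_cent_sup_inn j (plusForm m F₀) h2 hQ hfam (by omega) h5
      (card_plus_index m) hQ₀ hw₀' hbc σ (plusForm_vm m σ) r hr hord hrodd hι hsurj G hkP

set_option maxHeartbeats 1600000 in
/-- the class of the standard involutory field automorphism splits into two classes of inner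
automorphisms when `m` is odd and `q₀ ≡ 1 (mod 4)`, and into four classes otherwise (odd
characteristic) -/
theorem field_split_two (k : ℕ) (hk : 3 ≤ k) (h2 : (2 : F) ≠ 0) (q₀ : ℕ)
    (hF₀ : Fintype.card F₀ = q₀) (hF : Fintype.card F = q₀ ^ 2) (j : F₀ →+* F) (σ : RingAut F)
    (hord : orderOf σ = 2) (hι : ∀ a : F, σ a = a ↔ a ∈ Set.range j) :
    ((Odd (k + 1) ∧ q₀ % 4 = 1) →
      splitClassCount (dPlus (F := F) (k + 1)) (Inn (POmega F ⇑(plusForm (k + 1) F)))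
        (fO σ (plusForm_vm (k + 1) σ)) = 2) ∧
    (¬ (Odd (k + 1) ∧ q₀ % 4 = 1) →
      splitClassCount (dPlus (F := F) (k + 1)) (Inn (POmega F ⇑(plusForm (k + 1) F)))
        (fO σ (plusForm_vm (k + 1) σ)) = 4) := by
  have hQ := PlusGeom.plus_nondegenerate (F := F) (k + 1)
  have hQ₀ := PlusGeom.plus_nondegenerate (F := F₀) (k + 1)
  have hfam := Cfsg.Agent.S2613.plus_hypFamily (F := F) (le_refl (k + 1))
  have h5 : 5 ≤ Fintype.card (Fin (k + 1) ⊕ Fin (k + 1)) := by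
    rw [card_plus_index]; omega
  have : Nonempty (Fin (k + 1) ⊕ Fin (k + 1)) := ⟨Sum.inl 0⟩
  have hbc : ∀ v₀, plusForm (k + 1) F (hm j v₀) = j (plusForm (k + 1) F₀ v₀) :=
    plusForm_hm (k + 1) j
  have hw₁ := plusForm_v1 (F := F) (k + 1) 0
  have hw₀' := plusForm_v1 (F := F₀) (k + 1) 0
  have hx : hm j (v1 (F := F₀) (k + 1) 0) = v1 (F := F) (k + 1) 0 := hm_v1 j (k + 1) 0
  have h2₀ : (2 : F₀) ≠ 0 := by
    intro h
    apply h2
    have := congrArg j h
    rwa [map_ofNat, map_zero] at this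
  have hP₀ := isCls_Pdet h2₀ hQ₀ hw₀' (card_plus_index (k + 1))
  have hsqF : ∀ t : F₀, IsSquare (j t) :=
    isSquare_map_of_card_sq j h2 (by rw [hF, hF₀])
  have hι' : ∀ t : F₀, σ (j t) = j t := fun t => (hι _).mpr ⟨t, rfl⟩
  -- the decisive element
  obtain ⟨μ₀, hμ0, hμ₀⟩ := exists_nonsquare (F := F₀) h2₀
  obtain ⟨c, hc⟩ := hsqF μ₀
  have hc0 : c ≠ 0 := by
    rintro rfl
    rw [mul_zero] at hc
    exact hμ0 ((map_eq_zero j).mp hc)
  have hcc0 : c * c ≠ 0 := mul_ne_zero hc0 hc0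
  obtain ⟨K, hKdef⟩ : ∃ K : ↥(Geo.quadSimilarityGroup (F := F) ⇑(plusForm (k + 1) F)),
      K = kStar k c (c * c) hc0 hcc0 := ⟨_, rfl⟩
  have hKe : eps (k + 1) K = 1 := by rw [hKdef]; exact eps_kStar k c (c * c) h2 hc0 hcc0
  have hKm : Cfsg.Agent.Lib.Helper5.OAut.mult (plusForm (k + 1) F) (v1 (k + 1) 0)
      (K : GL (Fin (k + 1) ⊕ Fin (k + 1)) F) = c * c := by
    rw [hKdef]; exact mult_kStar k c (c * c) hc0 hcc0 hw₁
  have hKfix : sGI σ (K : GL (Fin (k + 1) ⊕ Fin (k + 1)) F) = K := by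
    apply Units.ext
    rw [sGI_coe, hKdef, kStar_coe k c (c * c) 1 hc0 hcc0 (mul_one _),
      Matrix.diagonal_map (map_zero σ)]
    congr 1
    funext x
    rcases x with i | i
    · show σ (Cfsg.Agent.Lib.Helper5.PlusField.dStar k c (c * c) 1 (Sum.inl i)) = Cfsg.Agent.Lib.Helper5.PlusField.dStar k c (c * c) 1 (Sum.inl i)
      unfold Cfsg.Agent.Lib.Helper5.PlusField.dStar
      simp only
      split_ifs
      · rw [← hc]; exact hι' μ₀
      · rw [← hc]; exact hι' μ₀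
    · show σ (Cfsg.Agent.Lib.Helper5.PlusField.dStar k c (c * c) 1 (Sum.inr i)) = Cfsg.Agent.Lib.Helper5.PlusField.dStar k c (c * c) 1 (Sum.inr i)
      unfold Cfsg.Agent.Lib.Helper5.PlusField.dStar
      simp only
      split_ifs
      · exact map_one σ
      · exact map_one σ
  obtain ⟨hstar, hhstar⟩ := exists_glmapI_eq σ j hι (K : GL (Fin (k + 1) ⊕ Fin (k + 1)) F) hKfix
  have hhs : hstar ∈ Geo.quadSimilarityGroup (F := F₀) ⇑(plusForm (k + 1) F₀) :=
    (glmap_mem_GO_iff j (plusForm (k + 1) F₀) hbc hw₀' hstar).mpr (by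
      rw [hhstar]; exact K.2)
  have hms : Cfsg.Agent.Lib.Helper5.OAut.mult (plusForm (k + 1) F₀) (v1 (k + 1) 0) hstar = μ₀ := by
    apply j.injective
    rw [← mult_glmap j (plusForm (k + 1) F₀) hbc (v1 (k + 1) 0) hstar, hx, hhstar, hKm, hc]
  have hPs : Pdet (plusForm (k + 1) F₀) (v1 (k + 1) 0) (k + 1) hstar := by
    rw [← Pdet_glmap j (plusForm (k + 1) F₀) hbc (v1 (k + 1) 0) hstar, hx, hhstar,
      ← eps_eq_one_iff_Pdet (k + 1) h2 hw₁]
    exact hKe
  have hκD : conjGO (plusForm (k + 1) F) K ∈ dPlus (F := F) (k + 1) :=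
    (mem_dPlus_iff _ _).2 ⟨K, hKe, rfl⟩
  have hκx : conjGO (plusForm (k + 1) F) K * fO σ (plusForm_vm (k + 1) σ) =
      fO σ (plusForm_vm (k + 1) σ) * conjGO (plusForm (k + 1) F) K := by
    have h3 : conjGO (plusForm (k + 1) F) K ∈
        Subgroup.centralizer {fO σ (plusForm_vm (k + 1) σ)} :=
      ((cent_fO_iff hQ hfam (by omega) h5 hw₁ σ (plusForm_vm (k + 1) σ) 2
        (by norm_num) hord _).mpr ⟨K, hKfix, rfl⟩).2
    rw [mem_cent_single] at h3
    exact h3.symm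
  -- the dichotomy
  have hdich : ∀ c' ∈ dPlus (F := F) (k + 1),
      c' * fO σ (plusForm_vm (k + 1) σ) = fO σ (plusForm_vm (k + 1) σ) * c' →
      c' ∈ Inn (POmega F ⇑(plusForm (k + 1) F)) ∨
        c' * (conjGO (plusForm (k + 1) F) K)⁻¹ ∈ Inn (POmega F ⇑(plusForm (k + 1) F)) := by
    intro c' hc'D hc'x
    have hc'C : c' ∈ (conjGO (plusForm (k + 1) F)).range ⊓
        Subgroup.centralizer {fO σ (plusForm_vm (k + 1) σ)} := by
      refine ⟨?_, ?_⟩
      · obtain ⟨G, -, rfl⟩ := (mem_dPlus_iff _ _).1 hc'D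
        exact ⟨G, rfl⟩
      · show c' ∈ Subgroup.centralizer {fO σ (plusForm_vm (k + 1) σ)}
        rw [mem_cent_single]
        exact hc'x.symm
    obtain ⟨g, hgfix, rfl⟩ := (cent_fO_iff hQ hfam (by omega) h5 hw₁ σ
      (plusForm_vm (k + 1) σ) 2 (by norm_num) hord _).mp hc'C
    have hgP : Pdet (plusForm (k + 1) F) (v1 (k + 1) 0) (k + 1)
        (g : GL (Fin (k + 1) ⊕ Fin (k + 1)) F) := by
      rw [← eps_eq_one_iff_Pdet (k + 1) h2 hw₁, ← Peps_iff,
        ← conjGO_mem_Dcls_iff hQ hfam (by omega) h5 hw₁ (isCls_Peps (k + 1)) g, Dcls_Peps]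
      exact hc'D
    obtain ⟨h₀, hh₀e⟩ := exists_glmapI_eq σ j hι (g : GL (Fin (k + 1) ⊕ Fin (k + 1)) F) hgfix
    have hh₀ : h₀ ∈ Geo.quadSimilarityGroup (F := F₀) ⇑(plusForm (k + 1) F₀) :=
      (glmap_mem_GO_iff j (plusForm (k + 1) F₀) hbc hw₀' h₀).mpr (by
        rw [hh₀e]; exact g.2)
    have hP₀h : Pdet (plusForm (k + 1) F₀) (v1 (k + 1) 0) (k + 1) h₀ := by
      rw [← Pdet_glmap j (plusForm (k + 1) F₀) hbc (v1 (k + 1) 0) h₀, hx, hh₀e]
      exact hgP
    by_cases hsq : IsSquare (Cfsg.Agent.Lib.Helper5.OAut.mult (plusForm (k + 1) F₀)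
        (v1 (k + 1) 0) h₀)
    · left
      exact Cfsg.Agent.Lib.Helper5.PlusField.conjGO_glmap_mem_inn j (plusForm (k + 1) F₀) h2 hQ
        hQ₀ (card_plus_index (k + 1)) (by omega) hw₀' hbc hsqF h₀ hh₀ hP₀h hsq g hh₀e.symm
    · right
      have hmem : h₀ * hstar⁻¹ ∈ Geo.quadSimilarityGroup (F := F₀)
          ⇑(plusForm (k + 1) F₀) := Subgroup.mul_mem _ hh₀ (Subgroup.inv_mem _ hhs)
      have hPq : Pdet (plusForm (k + 1) F₀) (v1 (k + 1) 0) (k + 1) (h₀ * hstar⁻¹) :=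
        hP₀.mul _ _ hh₀ (Subgroup.inv_mem _ hhs) hP₀h (hP₀.inv _ hhs hPs)
      have hm0 : Cfsg.Agent.Lib.Helper5.OAut.mult (plusForm (k + 1) F₀) (v1 (k + 1) 0)
          (h₀ * hstar⁻¹) ≠ 0 := mult_ne_zero hw₀' hmem
      have hsq' : IsSquare (Cfsg.Agent.Lib.Helper5.OAut.mult (plusForm (k + 1) F₀)
          (v1 (k + 1) 0) (h₀ * hstar⁻¹)) := by
        have h3 := mult_mul hw₀' hmem (h := hstar)
        rw [inv_mul_cancel_right, hms] at h3
        have h4 := congrArg sgn h3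
        rw [sgn_mul hm0 hμ0, sgn_of_not_isSquare hsq, sgn_of_not_isSquare hμ₀] at h4
        rw [← sgn_eq_one_iff]
        have h5' : (1 : ℤˣ) * -1 = sgn (Cfsg.Agent.Lib.Helper5.OAut.mult
            (plusForm (k + 1) F₀) (v1 (k + 1) 0) (h₀ * hstar⁻¹)) * -1 := by
          rw [one_mul]
          exact h4
        exact (mul_right_cancel h5').symm
      have hmapq : (g * K⁻¹ : ↥(Geo.quadSimilarityGroup (F := F) ⇑(plusForm (k + 1) F))) =
          ((⟨Matrix.GeneralLinearGroup.map j (h₀ * hstar⁻¹),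
            (glmap_mem_GO_iff j (plusForm (k + 1) F₀) hbc hw₀' _).mp hmem⟩ :
            ↥(Geo.quadSimilarityGroup (F := F) ⇑(plusForm (k + 1) F)))) := by
        apply Subtype.ext
        show (g : GL (Fin (k + 1) ⊕ Fin (k + 1)) F) *
          (K : GL (Fin (k + 1) ⊕ Fin (k + 1)) F)⁻¹ = Matrix.GeneralLinearGroup.map j (h₀ * hstar⁻¹)
        rw [map_mul, map_inv, hh₀e, hhstar]
      have h6 := Cfsg.Agent.Lib.Helper5.PlusField.conjGO_glmap_mem_inn j (plusForm (k + 1) F₀)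
        h2 hQ hQ₀ (card_plus_index (k + 1)) (by omega) hw₀' hbc hsqF (h₀ * hstar⁻¹) hmem hPq
        hsq' (g * K⁻¹) (by rw [hmapq])
      rw [← map_inv, ← map_mul]
      exact h6
  -- the count
  have hidx := relIndex_inn_dPlus_four (F := F) (k + 1) q₀ hF h2 (by omega)
  have hneg := negOne_mem_of_sq (F := F) (k + 1) q₀ hF h2 (by omega)
  have hle := inn_le_dPlus (F := F) (k + 1)
  have hdec := conjGO_kStar_mem_inn_iff k hk hneg c (c * c) hc0 hcc0
  rw [← hKdef, field_arith j q₀ hF₀ hF h2 c μ₀ hμ₀ hc.symm k] at hdec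
  constructor
  · intro hcase
    have hκK : conjGO (plusForm (k + 1) F) K ∉ Inn (POmega F ⇑(plusForm (k + 1) F)) :=
      fun h => (hdec.mp h) hcase
    have h8 := splitClassCount_of_cent_two _ _ hle _ _ hκD hκx hκK hdich
    rw [hidx] at h8
    omega
  · intro hcase
    have hκK := hdec.mpr hcase
    rw [splitClassCount_of_cent_le _ _ hle, hidx]
    intro c' hc'D hc'x
    rcases hdich c' hc'D hc'x with h | h
    · exact h
    · have := Subgroup.mul_mem _ h hκK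
      rwa [inv_mul_cancel_right] at this

end split

section main
variable {F : Type u} [Field F] [Fintype F]

set_option maxHeartbeats 1600000 in
/-- **the standard field automorphism of prime order** -/
theorem plus_field_std (p f : ℕ) [Fact p.Prime] (hF : Fintype.card F = p ^ f) (m : ℕ)
    (hm4 : 4 ≤ m) (σ : RingAut F) (hσ1 : σ ≠ RingEquiv.refl F) {r : ℕ} (hr : r.Prime)
    (hxr : (fO σ (plusForm_vm m σ)) ^ r = 1)
    (F₀ : Type u₀) [Field F₀] [Fintype F₀] (hF₀ : Fintype.card F₀ = p ^ (f / r)) :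
    r ∣ f ∧
      Nonempty (↥(dPlus (F := F) m ⊓ Subgroup.centralizer {fO σ (plusForm_vm m σ)}) ≃*
        ↥(dPlus (F := F₀) m)) ∧
      ((Odd r ∨ p = 2) → splitClassCount (dPlus (F := F) m) (Inn (POmega F ⇑(plusForm m F)))
        (fO σ (plusForm_vm m σ)) = 1) ∧
      ((r = 2 ∧ p ≠ 2 ∧ Odd m ∧ p ^ (f / 2) % 4 = 1) →
        splitClassCount (dPlus (F := F) m) (Inn (POmega F ⇑(plusForm m F)))
          (fO σ (plusForm_vm m σ)) = 2) ∧
      ((r = 2 ∧ p ≠ 2 ∧ ¬ (Odd m ∧ p ^ (f / 2) % 4 = 1)) →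
        splitClassCount (dPlus (F := F) m) (Inn (POmega F ⇑(plusForm m F)))
          (fO σ (plusForm_vm m σ)) = 4) := by
  have hchar := charP_of_card' p f hF
  have hfO : ∀ τ : RingAut F, fO τ (plusForm_vm m τ) = fPlus m τ := by
    intro τ
    rw [fPlus_apply]
    rfl
  have hσr : σ ^ r = 1 := by
    apply fPlus_not_inn p m (by omega) (σ ^ r)
    rw [map_pow, ← hfO, hxr]
    exact Subgroup.one_mem _
  have hord : orderOf σ = r := by
    rcases (Nat.dvd_prime hr).mp (orderOf_dvd_of_pow_eq_one hσr) with h4 | h4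
    · exact absurd (orderOf_eq_one_iff.mp h4) hσ1
    · exact h4
  obtain ⟨hdiv, j, hι⟩ := exists_fixed_embedding p f hF σ r hr.pos hord F₀ hF₀
  have hsplit2 : r = 2 → p ≠ 2 →
      ((Odd m ∧ p ^ (f / 2) % 4 = 1) →
        splitClassCount (dPlus (F := F) m) (Inn (POmega F ⇑(plusForm m F)))
          (fO σ (plusForm_vm m σ)) = 2) ∧
      (¬ (Odd m ∧ p ^ (f / 2) % 4 = 1) →
        splitClassCount (dPlus (F := F) m) (Inn (POmega F ⇑(plusForm m F)))
          (fO σ (plusForm_vm m σ)) = 4) := by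
    intro hr2 hp
    subst hr2
    have hpodd : Odd p := (Fact.out : p.Prime).odd_of_ne_two hp
    have hqodd : Odd (p ^ f) := hpodd.pow
    have h2 : (2 : F) ≠ 0 :=
      Cfsg.Agent.Lib.Helper5.two_ne_zero_of_odd_card (by rw [hF]; exact hqodd)
    obtain ⟨k, rfl⟩ : ∃ k, m = k + 1 := ⟨m - 1, by omega⟩
    have hFsq : Fintype.card F = (p ^ (f / 2)) ^ 2 := by
      rw [hF, ← pow_mul]
      congr 1
      obtain ⟨e, he⟩ := hdiv
      omega
    exact field_split_two k (by omega) h2 (p ^ (f / 2)) hF₀ hFsq j σ hord hι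
  refine ⟨hdiv, plus_cent_equiv j m hm4 σ r hr.pos hord hι,
    fun h => field_split_one p f hF m hm4 j σ r hr.pos hord hι h, ?_, ?_⟩
  · rintro ⟨hr2, hp, hcase⟩
    exact (hsplit2 hr2 hp).1 hcase
  · rintro ⟨hr2, hp, hcase⟩
    exact (hsplit2 hr2 hp).2 hcase

set_option maxHeartbeats 1600000 in
/-- **S2715 in general form** (stated for unbundled copies of the hyperbolic forms) -/
theorem plus_field_main {m : ℕ} (hm4 : 4 ≤ m) (q : (Fin m ⊕ Fin m → F) → F)
    (hq : ⇑(plusForm m F) = q) {p f : ℕ} [Fact p.Prime] (hF : Fintype.card F = p ^ f)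
    (x : MulAut (POmega F q)) (hx : IsFieldAutClassPOmega q x) {r : ℕ} (hr : r.Prime)
    (hxr : orderOf x = r) (F₀ : Type u₀) [Field F₀] [Fintype F₀]
    (hF₀ : Fintype.card F₀ = p ^ (f / r)) (q₀ : (Fin m ⊕ Fin m → F₀) → F₀)
    (hq₀ : ⇑(plusForm m F₀) = q₀) :
    r ∣ f ∧
      Nonempty (↥(inndiagGen q ⊓ Subgroup.centralizer {x}) ≃* ↥(inndiagGen q₀)) ∧
      ((Odd r ∨ p = 2) → splitClassCount (inndiagGen q) (Inn (POmega F q)) x = 1) ∧
      ((r = 2 ∧ p ≠ 2 ∧ Odd m ∧ p ^ (f / 2) % 4 = 1) →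
        splitClassCount (inndiagGen q) (Inn (POmega F q)) x = 2) ∧
      ((r = 2 ∧ p ≠ 2 ∧ ¬ (Odd m ∧ p ^ (f / 2) % 4 = 1)) →
        splitClassCount (inndiagGen q) (Inn (POmega F q)) x = 4) := by
  subst hq
  subst hq₀
  rw [inndiagGen_eq_dPlus (F := F) m, inndiagGen_eq_dPlus (F := F₀) m]
  have hD := dPlus_normal_all p f hF m hm4
  obtain ⟨α, φ, σ, hσ1, hφ, e1⟩ := hx
  have e1' : α * x * α⁻¹ = fO σ (plusForm_vm m σ) := by
    rw [e1]
    exact eq_fO_of_stdField σ _ hφ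
  have hxpow : (fO σ (plusForm_vm m σ)) ^ r = 1 := by
    rw [← e1', conj_pow, ← hxr, pow_orderOf_eq_one, mul_one, mul_inv_cancel]
  obtain ⟨hdiv, ⟨E⟩, h1, h2, h4⟩ := plus_field_std p f hF m hm4 σ hσ1 hr hxpow F₀ hF₀
  refine ⟨hdiv, ⟨(centInfConjEquiv (dPlus (F := F) m) α x).trans
    ((MulEquiv.subgroupCongr (by rw [e1'])).trans E)⟩, ?_, ?_, ?_⟩
  · intro h
    rw [← splitClassCount_conj _ _ α x, e1']
    exact h1 h
  · intro h
    rw [← splitClassCount_conj _ _ α x, e1']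
    exact h2 h
  · intro h
    rw [← splitClassCount_conj _ _ α x, e1']
    exact h4 h

end main

end Cfsg.Agent.Lib.Helper7.Tr
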