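import Cfsg.Agent.Lib.Helper7.TransferTransport
import Cfsg.Agent.Lib.Helper7.QuotientLift3
import Cfsg.Agent.Lib.Helper7.PGroupComm
import Cfsg.Agent.Lib.Helper1.CentralExtension

set_option autoImplicit false

namespace Cfsg.Agent.Lib.Helper7

open Cfsg
open scoped Pointwise

universe u

section generic

variable {G : Type*} [Group G]

/-- A `p`-element of `L' o`, with `o ∈ L` a `p'`-element, lies in `L'`. -/
theorem mem_commutator_of_mul_coprime [Finite G] {p : ℕ} [Fact p.Prime] {L : Subgroup G}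
    {l' o : G} (hl' : l' ∈ ⁅L, L⁆) (ho : o ∈ L) (hoc : (orderOf o).Coprime p)
    (hs : ∃ k : ℕ, (l' * o) ^ (p ^ k) = 1) : l' * o ∈ ⁅L, L⁆ := by
  have hLn : L ≤ Subgroup.normalizer ((⁅L, L⁆ : Subgroup G) : Set G) :=
    le_normalizer_commutator Subgroup.le_normalizer Subgroup.le_normalizer
  have hc : o⁻¹ * l' * o ∈ ⁅L, L⁆ := by
    have := (Subgroup.mem_normalizer_iff.mp (hLn (L.inv_mem ho)) l').mp hl'
    simpa using this
  have e : l' * o = o * (o⁻¹ * l' * o) := by group
  obtain ⟨c', hc', hpw⟩ := exists_pow_mul_eq (hLn ho) hc (orderOf o)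
  have h1 : (l' * o) ^ orderOf o ∈ ⁅L, L⁆ := by
    rw [e, hpw, pow_orderOf_eq_one, one_mul]; exact hc'
  obtain ⟨k, hk⟩ := hs
  have hcop : (orderOf o).Coprime (orderOf (l' * o)) := by
    have hdvd : orderOf (l' * o) ∣ p ^ k := orderOf_dvd_of_pow_eq_one hk
    exact Nat.Coprime.coprime_dvd_right hdvd (Nat.Coprime.pow_right k hoc)
  obtain ⟨m, hm⟩ := exists_pow_eq_self_of_coprime hcop
  rw [← hm]
  exact Subgroup.pow_mem _ h1 m

end generic

variable {𝓦 : Set (∀ (Q : Type u) [Group Q], Subgroup Q)} {p : ℕ} [Fact p.Prime]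
  {X : Type u} [Group X] [Finite X]

/-- Control of transfer lifts from the quotient by a normal `p'`-subgroup. -/
theorem familyTransferAt_of_quotient_coprime (h𝓦 : ∀ W ∈ 𝓦, IsCharPFunctor.{u} p W)
    (O : Subgroup X) [hOn : O.Normal] (hO : (Nat.card ↥O).Coprime p) (S : Sylow p X)
    (h : FamilyTransferAt (indFamily 𝓦 (X ⧸ O)) ⊤ ((S : Subgroup X).map (QuotientGroup.mk' O))) :
    FamilyTransferAt (indFamily 𝓦 X) ⊤ (S : Subgroup X) := by
  have hSp : IsPGroup p ↥(S : Subgroup X) := S.isPGroup'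
  set π : X →* X ⧸ O := QuotientGroup.mk' O with hπ
  have hker : π.ker = O := QuotientGroup.ker_mk' O
  have hπs : Function.Surjective π := QuotientGroup.mk'_surjective O
  have hinj : ∀ a ∈ (S : Subgroup X), π a = 1 → a = 1 := by
    intro a ha h1
    have : a ∈ π.ker := h1
    rw [hker] at this
    exact sylow_inf_eq_bot_of_coprime S hO a ha this
  set D : Subgroup X := focalFamily (indFamily 𝓦 X) ⊤ (S : Subgroup X) with hD
  have hDS : D ≤ (S : Subgroup X) := (focalFamily_le _ _ _).trans inf_le_left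
  have hle : focalFamily (indFamily 𝓦 (X ⧸ O)) ⊤ ((S : Subgroup X).map π) ≤ D.map π := by
    apply iSup₂_le
    rintro _ ⟨W, hW, rfl⟩
    beta_reduce
    have hWc : IsConjugacyFunctor p (inducedFunctor (G := X) W) :=
      isConjugacyFunctor_inducedFunctor (h𝓦 W hW)
    set U : Subgroup X := inducedFunctor (G := X) W (S : Subgroup X) with hU
    have hUp : IsPGroup p ↥U := hSp.to_le (inducedFunctor_le W _)
    have hSU : (S : Subgroup X) ≤ Subgroup.normalizer (U : Set X) :=
      Subgroup.le_normalizer.trans (normalizer_le_normalizer_functor hWc hSp)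
    have hUmap : U.map π = inducedFunctor (G := X ⧸ O) W ((S : Subgroup X).map π) :=
      inducedFunctor_map_of_injOn (h𝓦 W hW) π (S : Subgroup X) hSp hinj
    set L : Subgroup X := Subgroup.normalizer (U : Set X) with hL
    have hNle : Subgroup.normalizer ((U.map π : Subgroup (X ⧸ O)) : Set (X ⧸ O)) ≤ L.map π := by
      intro y' hy'
      obtain ⟨y₀, rfl⟩ := hπs y'
      have h2 : y₀ ∈ (Subgroup.normalizer ((U.map π : Subgroup (X ⧸ O)) : Set (X ⧸ O))).comap π :=
        hy'
      rw [Subgroup.comap_normalizer_eq_of_surjective _ hπs, Subgroup.comap_map_eq, hker] at h2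
      obtain ⟨o, ho, hoy⟩ := exists_mul_mem_normalizer_of_coprime hUp hO h2
      refine ⟨o * y₀, hoy, ?_⟩
      have : π o = 1 := by
        have : o ∈ π.ker := by rw [hker]; exact ho
        exact this
      rw [map_mul, this, one_mul]
    intro z' hz'
    obtain ⟨hz'S, hz'c⟩ := Subgroup.mem_inf.mp hz'
    obtain ⟨s₁, hs₁, rfl⟩ := hz'S
    have hz'c' : π s₁ ∈ (⁅L, L⁆).map π := by
      rw [Subgroup.map_commutator]
      refine Subgroup.commutator_mono ?_ ?_ hz'c
      · rw [top_inf_eq, ← hUmap]; exact hNle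
      · rw [top_inf_eq, ← hUmap]; exact hNle
    obtain ⟨l', hl', hl's⟩ := hz'c'
    have hL'L : ⁅L, L⁆ ≤ L := Subgroup.commutator_le_self L
    set o : X := l'⁻¹ * s₁ with ho
    have hoO : o ∈ O := by
      rw [← hker, MonoidHom.mem_ker, ho, map_mul, map_inv, hl's, inv_mul_cancel]
    have hoL : o ∈ L := L.mul_mem (L.inv_mem (hL'L hl')) (hSU hs₁)
    have hoc : (orderOf o).Coprime p := by
      have h1 : orderOf o ∣ Nat.card ↥O := by
        have := orderOf_dvd_natCard (⟨o, hoO⟩ : ↥O)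
        rwa [Subgroup.orderOf_mk] at this
      exact Nat.Coprime.coprime_dvd_left h1 hO
    have hs₁eq : s₁ = l' * o := by rw [ho]; group
    have hs₁p : ∃ k : ℕ, (l' * o) ^ (p ^ k) = 1 := by
      obtain ⟨k, hk⟩ := hSp ⟨s₁, hs₁⟩
      refine ⟨k, ?_⟩
      rw [← hs₁eq]
      have := congrArg Subtype.val hk
      simpa using this
    have hs₁c : s₁ ∈ ⁅L, L⁆ := by
      rw [hs₁eq]
      exact mem_commutator_of_mul_coprime hl' hoL hoc hs₁p
    refine Subgroup.mem_map_of_mem π ?_
    apply mem_focalFamily_of_mem (𝓦 := indFamily 𝓦 X) (W := inducedFunctor (G := X) W)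
      ⟨W, hW, rfl⟩
    rw [top_inf_eq]
    exact Subgroup.mem_inf.mpr ⟨hs₁, hs₁c⟩
  apply familyTransferAt_of_le
  intro s hs
  obtain ⟨hsS, hsX⟩ := Subgroup.mem_inf.mp hs
  have h1 : π s ∈ (S : Subgroup X).map π ⊓ ⁅(⊤ : Subgroup (X ⧸ O)), ⊤⁆ := by
    refine Subgroup.mem_inf.mpr ⟨Subgroup.mem_map_of_mem _ hsS, ?_⟩
    have : π s ∈ Subgroup.map π ⁅(⊤ : Subgroup X), (⊤ : Subgroup X)⁆ :=
      Subgroup.mem_map_of_mem _ hsX
    rw [Subgroup.map_commutator] at this
    exact Subgroup.commutator_mono le_top le_top this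
  rw [familyTransferAt_iff.mp h] at h1
  obtain ⟨d, hd, hds⟩ := hle h1
  have h2 : d⁻¹ * s = 1 := by
    apply hinj _ ((S : Subgroup X).mul_mem ((S : Subgroup X).inv_mem (hDS hd)) hsS)
    rw [map_mul, map_inv, hds, inv_mul_cancel]
  have : s = d := by
    have := congrArg (fun t => d * t) h2
    simpa using this
  rw [this]
  exact hd

end Cfsg.Agent.Lib.Helper7
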