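import Cfsg.Agent.Lib.Helper7.TransferLift

set_option autoImplicit false

namespace Cfsg.Agent.Lib.Helper7

open Cfsg
open scoped Pointwise commutatorElement

universe u

variable {𝓦 : Set (∀ (Q : Type u) [Group Q], Subgroup Q)} {p : ℕ} [Fact p.Prime]
  {X : Type u} [Group X] [Finite X]

/-- Control of transfer in `X/Q`, `Q` a normal `p`-subgroup, pulled back to `X`: the focal
subgroup is generated modulo `Q` by the focal subgroups of the normalizers of the lifted functor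
values. -/
theorem inf_commutator_le_sup_of_quotient (S : Sylow p X) (Q : Subgroup X) [hQn : Q.Normal]
    (hQS : Q ≤ (S : Subgroup X))
    (h : FamilyTransferAt (indFamily 𝓦 (X ⧸ Q)) ⊤ ((S : Subgroup X).map (QuotientGroup.mk' Q))) :
    (S : Subgroup X) ⊓ ⁅(⊤ : Subgroup X), ⊤⁆ ≤
      (⨆ W ∈ 𝓦, (S : Subgroup X) ⊓
        ⁅Subgroup.normalizer ((liftedFunctor W Q (S : Subgroup X) : Subgroup X) : Set X),
          Subgroup.normalizer ((liftedFunctor W Q (S : Subgroup X) : Subgroup X) : Set X)⁆) ⊔ Q := by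
  set π : X →* X ⧸ Q := QuotientGroup.mk' Q with hπ
  have hker : π.ker = Q := QuotientGroup.ker_mk' Q
  have hπs : Function.Surjective π := QuotientGroup.mk'_surjective Q
  set DV : Subgroup X := ⨆ W ∈ 𝓦, (S : Subgroup X) ⊓
    ⁅Subgroup.normalizer ((liftedFunctor W Q (S : Subgroup X) : Subgroup X) : Set X),
      Subgroup.normalizer ((liftedFunctor W Q (S : Subgroup X) : Subgroup X) : Set X)⁆ with hDV
  have hle : focalFamily (indFamily 𝓦 (X ⧸ Q)) ⊤ ((S : Subgroup X).map π) ≤ DV.map π := by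
    apply iSup₂_le
    rintro _ ⟨W, hW, rfl⟩
    beta_reduce
    set M : Subgroup X :=
      Subgroup.normalizer ((liftedFunctor W Q (S : Subgroup X) : Subgroup X) : Set X) with hM
    have hMmap : M.map π = Subgroup.normalizer
        ((inducedFunctor (G := X ⧸ Q) W ((S : Subgroup X).map π) : Subgroup (X ⧸ Q)) :
          Set (X ⧸ Q)) := by
      rw [hM]
      unfold liftedFunctor
      rw [← Subgroup.comap_normalizer_eq_of_surjective _ hπs,
        Subgroup.map_comap_eq_self_of_surjective hπs]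
    intro z' hz'
    obtain ⟨hz'S, hz'c⟩ := Subgroup.mem_inf.mp hz'
    obtain ⟨s₁, hs₁, rfl⟩ := hz'S
    rw [top_inf_eq, ← hMmap, ← Subgroup.map_commutator] at hz'c
    obtain ⟨m, hm, hms⟩ := hz'c
    have hmQ : m⁻¹ * s₁ ∈ Q := by
      rw [← hker, MonoidHom.mem_ker, map_mul, map_inv, hms, inv_mul_cancel]
    have hmS : m ∈ (S : Subgroup X) := by
      have e : m = s₁ * (m⁻¹ * s₁)⁻¹ := by group
      rw [e]
      exact (S : Subgroup X).mul_mem hs₁ ((S : Subgroup X).inv_mem (hQS hmQ))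
    rw [← hms]
    refine Subgroup.mem_map_of_mem π ?_
    exact (le_iSup₂ (f := fun (W : ∀ (Q : Type u) [Group Q], Subgroup Q) (_ : W ∈ 𝓦) =>
      (S : Subgroup X) ⊓
      ⁅Subgroup.normalizer ((liftedFunctor W Q (S : Subgroup X) : Subgroup X) : Set X),
        Subgroup.normalizer ((liftedFunctor W Q (S : Subgroup X) : Subgroup X) : Set X)⁆) W hW)
      (Subgroup.mem_inf.mpr ⟨hmS, hm⟩)
  intro s hs
  obtain ⟨hsS, hsX⟩ := Subgroup.mem_inf.mp hs
  have h1 : π s ∈ (S : Subgroup X).map π ⊓ ⁅(⊤ : Subgroup (X ⧸ Q)), ⊤⁆ := by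
    refine Subgroup.mem_inf.mpr ⟨Subgroup.mem_map_of_mem _ hsS, ?_⟩
    have : π s ∈ Subgroup.map π ⁅(⊤ : Subgroup X), (⊤ : Subgroup X)⁆ :=
      Subgroup.mem_map_of_mem _ hsX
    rw [Subgroup.map_commutator] at this
    exact Subgroup.commutator_mono le_top le_top this
  rw [familyTransferAt_iff.mp h] at h1
  obtain ⟨d, hd, hds⟩ := hle h1
  have h2 : d⁻¹ * s ∈ Q := by
    rw [← hker, MonoidHom.mem_ker, map_mul, map_inv, hds, inv_mul_cancel]
  have e : s = d * (d⁻¹ * s) := by group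
  rw [e]
  exact Subgroup.mul_mem _ (le_sup_left (a := DV) (b := Q) hd) (le_sup_right (a := DV) (b := Q) h2)

/-- If `X = S C_X(Q)` for a normal `p`-subgroup `Q`, then `Q ∩ X' ≤ S'`. -/
theorem inf_commutator_le_commutator_sylow (S : Sylow p X) (Q : Subgroup X) [hQn : Q.Normal]
    (hQS : Q ≤ (S : Subgroup X))
    (hC : (S : Subgroup X) ⊔ Subgroup.centralizer (Q : Set X) = ⊤) :
    Q ⊓ ⁅(⊤ : Subgroup X), ⊤⁆ ≤ ⁅(S : Subgroup X), (S : Subgroup X)⁆ := by
  set K : Subgroup X := ⁅Q, (⊤ : Subgroup X)⁆ with hK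
  have hKn : K.Normal := inferInstance
  have hKS : K ≤ ⁅(S : Subgroup X), (S : Subgroup X)⁆ := by
    rw [hK, Subgroup.commutator_le]
    intro q hq x _
    have hx : x ∈ (((S : Subgroup X) ⊔ Subgroup.centralizer (Q : Set X) : Subgroup X) : Set X) := by
      rw [hC]; exact Subgroup.mem_top x
    rw [Subgroup.mul_normal, Set.mem_mul] at hx
    obtain ⟨s, hs, c, hc, rfl⟩ := hx
    have hcq : c * q⁻¹ = q⁻¹ * c :=
      (Subgroup.mem_centralizer_iff.mp hc q⁻¹ (Q.inv_mem hq)).symm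
    have e : ⁅q, s * c⁆ = ⁅q, s⁆ := by
      rw [commutatorElement_def, commutatorElement_def]
      calc q * (s * c) * q⁻¹ * (s * c)⁻¹ = q * s * (c * q⁻¹) * c⁻¹ * s⁻¹ := by group
        _ = q * s * (q⁻¹ * c) * c⁻¹ * s⁻¹ := by rw [hcq]
        _ = q * s * q⁻¹ * s⁻¹ := by group
    rw [e]
    exact Subgroup.commutator_mem_commutator (hQS hq) hs
  set π : X →* X ⧸ K := QuotientGroup.mk' K with hπ
  have hker : π.ker = K := QuotientGroup.ker_mk' K
  have hπs : Function.Surjective π := QuotientGroup.mk'_surjective K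
  set S' : Sylow p (X ⧸ K) := S.mapSurjective hπs with hS'
  have hS'coe : (S' : Subgroup (X ⧸ K)) = (S : Subgroup X).map π := Sylow.coe_mapSurjective hπs S
  intro z hz
  obtain ⟨hzQ, hzX⟩ := Subgroup.mem_inf.mp hz
  have h1 : π z ∈ Subgroup.center (X ⧸ K) ⊓ commutator (X ⧸ K) ⊓ (S' : Subgroup (X ⧸ K)) := by
    refine Subgroup.mem_inf.mpr ⟨Subgroup.mem_inf.mpr ⟨?_, ?_⟩, ?_⟩
    · rw [Subgroup.mem_center_iff]
      intro x'
      obtain ⟨x, rfl⟩ := hπs x'
      have h2 : ⁅z, x⁆ ∈ K := Subgroup.commutator_mem_commutator hzQ (Subgroup.mem_top x)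
      have h3 : π ⁅z, x⁆ = 1 := by
        have : ⁅z, x⁆ ∈ π.ker := by rw [hker]; exact h2
        exact this
      rw [map_commutatorElement, commutatorElement_eq_one_iff_mul_comm] at h3
      exact h3.symm
    · rw [commutator_def]
      have : π z ∈ Subgroup.map π ⁅(⊤ : Subgroup X), (⊤ : Subgroup X)⁆ :=
        Subgroup.mem_map_of_mem _ hzX
      rw [Subgroup.map_commutator] at this
      exact Subgroup.commutator_mono le_top le_top this
    · rw [hS'coe]
      exact Subgroup.mem_map_of_mem _ (hQS hzQ)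
  have h2 := Cfsg.Agent.Lib.Helper1.center_inf_commutator_inf_sylow_le S' h1
  rw [hS'coe, ← Subgroup.map_commutator] at h2
  obtain ⟨t, ht, htz⟩ := h2
  have h3 : t⁻¹ * z ∈ K := by
    rw [← hker, MonoidHom.mem_ker, map_mul, map_inv, htz, inv_mul_cancel]
  have e : z = t * (t⁻¹ * z) := by group
  rw [e]
  exact Subgroup.mul_mem _ ht (hKS h3)

end Cfsg.Agent.Lib.Helper7
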