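import Cfsg.Agent.Lib.Helper7.TransferLift2
import Cfsg.Agent.Lib.Helper7.ConstrainedSections

set_option autoImplicit false

namespace Cfsg.Agent.Lib.Helper7

open Cfsg
open scoped Pointwise commutatorElement

universe u

local notation:max Q "⋏" g:max => Subgroup.map (MulEquiv.toMonoidHom (MulAut.conj g)) Q

/-- Main theorem for transfer: if control of transfer can be established for the `p`-constrained
groups satisfying an hereditary hypothesis `Hyp` (assuming it for proper subgroups and proper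
quotients), then it holds for all finite groups satisfying `Hyp`. -/
theorem familyControlsTransfer_of_hyp {𝓦 : Set (∀ (Q : Type u) [Group Q], Subgroup Q)} {p : ℕ}
    [Fact p.Prime] (h𝓦 : ∀ W ∈ 𝓦, IsCharPFunctor.{u} p W)
    (Hyp : ∀ (X : Type u) [Group X], Prop)
    (hsubH : ∀ (X : Type u) [Group X] (M : Subgroup X), Hyp X → Hyp ↥M)
    (hquotH : ∀ (X : Type u) [Group X] (N : Subgroup X) [N.Normal], Hyp X → Hyp (X ⧸ N))
    (hconH : ∀ (X : Type u) [Group X] [Finite X], Hyp X →
      Subgroup.centralizer ((pCore p X : Subgroup X) : Set X) ≤ pCore p X →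
      (∀ M : Subgroup X, M ≠ ⊤ → FamilyControlsTransferIn p (indFamily 𝓦 X) M) →
      (∀ (N : Subgroup X) [N.Normal], N ≠ ⊥ →
        FamilyControlsTransferIn p (indFamily 𝓦 (X ⧸ N)) ⊤) →
      FamilyControlsTransferIn p (indFamily 𝓦 X) ⊤) :
    ∀ (n : ℕ) (X : Type u) [Group X] [Finite X], Nat.card X = n → Hyp X →
      FamilyControlsTransferIn p (indFamily 𝓦 X) ⊤ := by
  intro n
  induction n using Nat.strong_induction_on with
  | _ n ih =>
  intro X _ _ hn hyp
  have hsub : ∀ M : Subgroup X, M ≠ ⊤ → FamilyControlsTransferIn p (indFamily 𝓦 X) M := by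
    intro M hM
    apply familyControlsTransfer_of_subgroup h𝓦 M
    have hlt : Nat.card ↥M < n := by
      by_contra hcon
      push Not at hcon
      rw [← hn] at hcon
      exact hM (Subgroup.eq_top_of_le_card M hcon)
    exact ih (Nat.card ↥M) hlt ↥M rfl (hsubH X M hyp)
  have hquot : ∀ (N : Subgroup X) [N.Normal], N ≠ ⊥ →
      FamilyControlsTransferIn p (indFamily 𝓦 (X ⧸ N)) ⊤ := by
    intro N _ hN
    have hlt : Nat.card (X ⧸ N) < n := by
      have h1 := Subgroup.card_eq_card_quotient_mul_card_subgroup N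
      have h2 : 1 < Nat.card ↥N := (Subgroup.one_lt_card_iff_ne_bot (H := N)).mpr hN
      have h3 : 0 < Nat.card (X ⧸ N) := Nat.card_pos
      rw [← hn, h1]
      nlinarith
    exact ih (Nat.card (X ⧸ N)) hlt (X ⧸ N) rfl (hquotH X N hyp)
  by_cases hcon : Subgroup.centralizer ((pCore p X : Subgroup X) : Set X) ≤ pCore p X
  · exact hconH X hyp hcon hsub hquot
  obtain ⟨S⟩ : Nonempty (Sylow p X) := inferInstance
  have hSp : IsPGroup p ↥(S : Subgroup X) := S.isPGroup'
  have hconj := indFamily_isConjugacyFunctor h𝓦 X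
  suffices hT : FamilyTransferAt (indFamily 𝓦 X) ⊤ (S : Subgroup X) by
    refine ⟨(S : Subgroup X), le_top, hSp, ?_, hT⟩
    rw [Subgroup.relIndex_top_right]
    exact S.not_dvd_index
  by_cases hO : pPrimeCore p X = ⊥
  swap
  · apply familyTransferAt_of_quotient_coprime h𝓦 (pPrimeCore p X)
      (Cfsg.Agent.Lib.Helper1.pPrimeCore_card_coprime p) S
    apply familyTransferAt_of_familyControls (indFamily_isConjugacyFunctor h𝓦 _) (hquot _ hO)
    refine ⟨le_top, hSp.map _, ?_⟩
    rw [Subgroup.relIndex_top_right]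
    intro hd
    exact S.not_dvd_index (hd.trans (Subgroup.index_map_dvd _ (QuotientGroup.mk'_surjective _)))
  set Q : Subgroup X := pCore p X with hQ
  have hQn : Q.Normal := pCore_normal p X
  have hQp : IsPGroup p ↥Q := pCore_isPGroup p X
  have hQS : Q ≤ (S : Subgroup X) := pCore_le_sylow S
  by_cases hQbot : Q = ⊥
  · apply familyTransferAt_top_of_local S _ hconj
    intro T hTS hT hfn
    apply hsub
    intro htop
    apply hT
    have hTn : T.Normal := Subgroup.normalizer_eq_top_iff.mp htop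
    have : T ≤ Q := le_pCore hTn (hSp.to_le hTS)
    rw [hQbot] at this
    exact le_bot_iff.mp this
  obtain ⟨Y, hYp, hYC, hYQ⟩ := exists_pSubgroup_centralizer_not_le hO hcon
  set C : Subgroup X := Subgroup.centralizer (Q : Set X) with hC
  set H : Subgroup X := Q ⊔ C with hH
  have hHn : H.Normal := inferInstance
  set S₀ : Subgroup X := (S : Subgroup X) ⊓ H with hS₀
  have hHnorm : ∀ g : X, g ∈ Subgroup.normalizer (H : Set X) := fun g => by
    rw [Subgroup.normalizer_eq_top]; exact Subgroup.mem_top g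
  have hsyl₀ : IsSylowIn p S₀ H :=
    (isSylowIn_of_sylow S le_top).inf_normal le_top (fun g _ => hHnorm g)
  have hS₀N : Subgroup.normalizer (S₀ : Set X) ≠ ⊤ := by
    intro htop
    have hS₀n : S₀.Normal := Subgroup.normalizer_eq_top_iff.mp htop
    have hS₀Q : S₀ ≤ Q := le_pCore hS₀n (hSp.to_le inf_le_left)
    apply hYQ
    have hYH : Y ≤ H := hYC.trans le_sup_right
    obtain ⟨R, hYR, hRsyl⟩ := exists_isSylowIn_ge hYH hYp
    obtain ⟨k, _, hkR⟩ := exists_mem_map_conj_eq hRsyl hsyl₀
    intro y hy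
    have h1 : (MulAut.conj k).toMonoidHom y ∈ S₀ := by
      rw [← hkR]
      exact Subgroup.mem_map_of_mem _ (hYR hy)
    have h2 : k * y * k⁻¹ ∈ Q := hS₀Q h1
    have h3 := hQn.conj_mem _ h2 k⁻¹
    have e : k⁻¹ * (k * y * k⁻¹) * k⁻¹⁻¹ = y := by group
    rwa [e] at h3
  have hSS₀ : (S : Subgroup X) ≤ Subgroup.normalizer (S₀ : Set X) := by
    refine le_trans ?_ Subgroup.inf_normalizer_le_normalizer_inf
    exact le_inf Subgroup.le_normalizer (fun g _ => hHnorm g)
  set D : Subgroup X := focalFamily (indFamily 𝓦 X) ⊤ (S : Subgroup X) with hD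
  have hpropT : ∀ M : Subgroup X, M ≠ ⊤ → (S : Subgroup X) ≤ M →
      (S : Subgroup X) ⊓ ⁅M, M⁆ ≤ D := by
    intro M hM hSM
    have h1 := familyTransferAt_of_familyControls hconj (hsub M hM) (isSylowIn_of_sylow S hSM)
    rw [familyTransferAt_iff.mp h1]
    exact focalFamily_mono _ le_top _
  apply familyTransferAt_of_le
  by_cases hSH : (S : Subgroup X) ⊔ H = ⊤
  swap
  · have hsylG : IsSylowIn p (S : Subgroup X) ⊤ := isSylowIn_of_sylow S le_top
    refine (inf_commutator_le_closure_of_isSylowIn hsylG).trans ?_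
    rw [Subgroup.closure_le]
    rintro _ ⟨b, hb, l, _, hbl, rfl⟩
    set T : Subgroup X := Subgroup.zpowers b with hT
    have hTS : T ≤ (S : Subgroup X) := by rw [hT, Subgroup.zpowers_le]; exact hb
    have hTl : ∀ t ∈ T, l⁻¹ * t * l ∈ (S : Subgroup X) := by
      have hle : T ≤ (S : Subgroup X).comap (MulAut.conj l⁻¹).toMonoidHom := by
        rw [hT, Subgroup.zpowers_le, Subgroup.mem_comap]
        have : (MulAut.conj l⁻¹).toMonoidHom b = l⁻¹ * b * l := by simp [MulAut.conj_apply]
        rw [this]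
        exact hbl
      intro t ht
      have := hle ht
      rw [Subgroup.mem_comap] at this
      simpa [MulAut.conj_apply] using this
    obtain ⟨u, hu, v, hv, hluv, hTu⟩ := fusion_frattini S H hTS hTl
    have hbu : u⁻¹ * b * u ∈ (S : Subgroup X) := hTu b (Subgroup.mem_zpowers b)
    have e : b⁻¹ * (l⁻¹ * b * l) =
        (b⁻¹ * (u⁻¹ * b * u)) * ((u⁻¹ * b * u)⁻¹ * (v⁻¹ * (u⁻¹ * b * u) * v)) := by
      rw [hluv]; group
    show b⁻¹ * (l⁻¹ * b * l) ∈ D
    rw [e]
    apply D.mul_mem
    · apply hpropT ((S : Subgroup X) ⊔ H) hSH le_sup_left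
      refine Subgroup.mem_inf.mpr ⟨(S : Subgroup X).mul_mem ((S : Subgroup X).inv_mem hb) hbu, ?_⟩
      have e2 : b⁻¹ * (u⁻¹ * b * u) = ⁅b⁻¹, u⁻¹⁆ := by
        rw [commutatorElement_def]; group
      rw [e2]
      exact Subgroup.commutator_mem_commutator
        (Subgroup.inv_mem _ ((le_sup_left : (S : Subgroup X) ≤ (S : Subgroup X) ⊔ H) hb))
        (Subgroup.inv_mem _ ((le_sup_right : H ≤ (S : Subgroup X) ⊔ H) hu))
    · apply hpropT (Subgroup.normalizer (S₀ : Set X)) hS₀N hSS₀
      have hbl' : v⁻¹ * (u⁻¹ * b * u) * v ∈ (S : Subgroup X) := by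
        have e3 : v⁻¹ * (u⁻¹ * b * u) * v = l⁻¹ * b * l := by rw [hluv]; group
        rw [e3]; exact hbl
      refine Subgroup.mem_inf.mpr ⟨(S : Subgroup X).mul_mem ((S : Subgroup X).inv_mem hbu) hbl', ?_⟩
      have e2 : (u⁻¹ * b * u)⁻¹ * (v⁻¹ * (u⁻¹ * b * u) * v) = ⁅(u⁻¹ * b * u)⁻¹, v⁻¹⁆ := by
        rw [commutatorElement_def]; group
      rw [e2]
      exact Subgroup.commutator_mem_commutator (Subgroup.inv_mem _ (hSS₀ hbu))
        (Subgroup.inv_mem _ hv)
  · have hStop : (S : Subgroup X) ≠ ⊤ := by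
      intro htop
      apply hcon
      have hSn : (S : Subgroup X).Normal := by rw [htop]; infer_instance
      have : (S : Subgroup X) ≤ Q := le_pCore hSn hSp
      rw [htop] at this
      exact le_top.trans this
    have hSQ : ¬ (S : Subgroup X) ≤ Q := by
      intro hle
      apply hS₀N
      have hSeq : (S : Subgroup X) = Q := le_antisymm hle hQS
      have : S₀ = Q := by
        rw [hS₀, hSeq]
        exact inf_of_le_left le_sup_left
      rw [this]
      exact Subgroup.normalizer_eq_top _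
    have hCtop : (S : Subgroup X) ⊔ C = ⊤ := by
      rw [← hSH, hH, ← sup_assoc, sup_of_le_left hQS]
    have hS' : ⁅(S : Subgroup X), (S : Subgroup X)⁆ ≤ D := by
      refine le_trans ?_ (hpropT (S : Subgroup X) hStop le_rfl)
      exact le_inf (Subgroup.commutator_le_self _) le_rfl
    have hbar : FamilyTransferAt (indFamily 𝓦 (X ⧸ Q)) ⊤
        ((S : Subgroup X).map (QuotientGroup.mk' Q)) := by
      apply familyTransferAt_of_familyControls (indFamily_isConjugacyFunctor h𝓦 _) (hquot Q hQbot)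
      refine ⟨le_top, hSp.map _, ?_⟩
      rw [Subgroup.relIndex_top_right]
      intro hd
      exact S.not_dvd_index (hd.trans (Subgroup.index_map_dvd _ (QuotientGroup.mk'_surjective _)))
    have hPQ := inf_commutator_le_sup_of_quotient S Q hQS hbar
    have hDV : (⨆ W ∈ 𝓦, (S : Subgroup X) ⊓
        ⁅Subgroup.normalizer ((liftedFunctor W Q (S : Subgroup X) : Subgroup X) : Set X),
          Subgroup.normalizer ((liftedFunctor W Q (S : Subgroup X) : Subgroup X) : Set X)⁆) ≤ D := by
      apply iSup₂_le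
      intro W hW
      set V : Subgroup X := liftedFunctor W Q (S : Subgroup X) with hV
      have hVN : Subgroup.normalizer (V : Set X) ≠ ⊤ := by
        intro htop
        have hVn : V.Normal := Subgroup.normalizer_eq_top_iff.mp htop
        have hVS : V ≤ (S : Subgroup X) := liftedFunctor_le W Q hQS
        have hVQ : V ≤ Q := le_pCore hVn (hSp.to_le hVS)
        exact liftedFunctor_ne (h𝓦 W hW) Q hSp hSQ (le_antisymm hVQ (le_liftedFunctor W Q _))
      exact hpropT _ hVN (le_normalizer_liftedFunctor (h𝓦 W hW) Q hSp)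
    intro s hs
    have h1 := hPQ hs
    have h2 : s ∈ (((⨆ W ∈ 𝓦, (S : Subgroup X) ⊓
        ⁅Subgroup.normalizer ((liftedFunctor W Q (S : Subgroup X) : Subgroup X) : Set X),
          Subgroup.normalizer ((liftedFunctor W Q (S : Subgroup X) : Subgroup X) : Set X)⁆) ⊔ Q :
        Subgroup X) : Set X) := h1
    rw [Subgroup.mul_normal, Set.mem_mul] at h2
    obtain ⟨d, hd, q, hq, rfl⟩ := h2
    have hdD : d ∈ D := hDV hd
    have hdX : d ∈ ⁅(⊤ : Subgroup X), (⊤ : Subgroup X)⁆ := (Subgroup.mem_inf.mp ((focalFamily_le _ _ _) hdD)).2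
    have hqX : q ∈ ⁅(⊤ : Subgroup X), (⊤ : Subgroup X)⁆ := by
      have e : q = d⁻¹ * (d * q) := by group
      rw [e]
      exact Subgroup.mul_mem _ (Subgroup.inv_mem _ hdX) hs.2
    have hqS' := inf_commutator_le_commutator_sylow S Q hQS hCtop (Subgroup.mem_inf.mpr ⟨hq, hqX⟩)
    exact D.mul_mem hdD (hS' hqS')

end Cfsg.Agent.Lib.Helper7
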