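import Cfsg.Agent.Lib.Helper7.TransferSections

set_option autoImplicit false

namespace Cfsg.Agent.Lib.Helper7

open Cfsg
open scoped Pointwise commutatorElement

universe u

/-- "If `Y` is finite with `C_Y(O_p(Y)) ≤ O_p(Y)`, then the family controls transfer in `Y`." -/
def ConstrainedGoodTr (𝓦 : Set (∀ (Q : Type u) [Group Q], Subgroup Q)) (p : ℕ) (Y : Type u)
    [Group Y] : Prop :=
  Finite Y → Subgroup.centralizer ((pCore p Y : Subgroup Y) : Set Y) ≤ pCore p Y →
    FamilyControlsTransferIn p (indFamily 𝓦 Y) ⊤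

theorem constrainedGoodTr_of_mulEquiv {𝓦 : Set (∀ (Q : Type u) [Group Q], Subgroup Q)} {p : ℕ}
    (h𝓦 : ∀ W ∈ 𝓦, IsCharPFunctor.{u} p W) (Y Z : Type u) [Group Y] [Group Z] (e : Y ≃* Z)
    (h : ConstrainedGoodTr 𝓦 p Y) : ConstrainedGoodTr 𝓦 p Z := by
  intro hZ hcon
  haveI : Finite Y := Finite.of_equiv Z e.symm.toEquiv
  exact familyControlsTransfer_top_of_mulEquiv h𝓦 e
    (h inferInstance (charP_of_mulEquiv e.symm hcon))

/-- Control of transfer in all constrained sections gives control of transfer. -/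
theorem familyControlsTransfer_of_sectionProp {𝓦 : Set (∀ (Q : Type u) [Group Q], Subgroup Q)}
    {p : ℕ} [Fact p.Prime] (h𝓦 : ∀ W ∈ 𝓦, IsCharPFunctor.{u} p W) (X : Type u) [Group X]
    [Finite X] (hyp : SectionProp (ConstrainedGoodTr 𝓦 p) X) :
    FamilyControlsTransferIn p (indFamily 𝓦 X) ⊤ := by
  have hΦ := constrainedGoodTr_of_mulEquiv (𝓦 := 𝓦) (p := p) h𝓦
  exact familyControlsTransfer_of_hyp h𝓦
    (fun (Y : Type u) [Group Y] => SectionProp (ConstrainedGoodTr 𝓦 p) Y)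
    (fun Y _ M h => h.subgroup hΦ M) (fun Y _ N _ h => h.quotient hΦ N)
    (fun Y _ _ h hcon _ _ => h.self hΦ inferInstance hcon) (Nat.card X) X rfl hyp

end Cfsg.Agent.Lib.Helper7
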