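import Cfsg.Agent.Lib.Helper7.TripleFactorization2

set_option autoImplicit false

namespace Cfsg.Agent.Lib.Helper7

open Cfsg
open scoped Pointwise

universe u

/-- Key inequality: under the factorization `Y = C(Ω₁Z(T)) N(Wa(T))` in all constrained sections,
the `N(Wb(T))`-conjugates of `Ω₁Z(T)` lie in the subgroup generated by its
`N(Wa(T))`-conjugates. -/
theorem cc_normalizer_le {Wa Wb : ∀ (Q : Type u) [Group Q], Subgroup Q} {p : ℕ}
    [Fact p.Prime] (hWa : IsCharPFunctor.{u} p Wa) (hWb : IsCharPFunctor.{u} p Wb) (n : ℕ) :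
    ∀ (X : Type u) [Group X] [Finite X], Nat.card X = n → SectionProp (FacCN Wa p) X →
      ∀ T : Sylow p X,
        omegaCenter p (T : Subgroup X) ≤ inducedFunctor (G := X) Wa (T : Subgroup X) →
        omegaCenter p (T : Subgroup X) ≤ inducedFunctor (G := X) Wb (T : Subgroup X) →
        cc (Subgroup.normalizer ((inducedFunctor (G := X) Wb (T : Subgroup X) : Subgroup X) : Set X))
            (omegaCenter p (T : Subgroup X)) ≤
          cc (Subgroup.normalizer
            ((inducedFunctor (G := X) Wa (T : Subgroup X) : Subgroup X) : Set X))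
            (omegaCenter p (T : Subgroup X)) := by
  induction n using Nat.strong_induction_on with
  | _ n ih =>
  intro X _ _ hcard hyp T hZa hZb
  have hΦ := facCN_of_mulEquiv (W := Wa) (p := p) hWa
  have hTp : IsPGroup p ↥(T : Subgroup X) := T.isPGroup'
  have hca : IsConjugacyFunctor p (inducedFunctor (G := X) Wa) :=
    isConjugacyFunctor_inducedFunctor hWa
  have hcb : IsConjugacyFunctor p (inducedFunctor (G := X) Wb) :=
    isConjugacyFunctor_inducedFunctor hWb
  set Z : Subgroup X := omegaCenter p (T : Subgroup X) with hZ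
  set Ua : Subgroup X := inducedFunctor (G := X) Wa (T : Subgroup X) with hUa
  set Ub : Subgroup X := inducedFunctor (G := X) Wb (T : Subgroup X) with hUb
  set Na : Subgroup X := Subgroup.normalizer (Ua : Set X) with hNa
  set Nb : Subgroup X := Subgroup.normalizer (Ub : Set X) with hNb
  have hTNa : (T : Subgroup X) ≤ Na :=
    Subgroup.le_normalizer.trans (normalizer_le_normalizer_functor hca hTp)
  have hTNb : (T : Subgroup X) ≤ Nb :=
    Subgroup.le_normalizer.trans (normalizer_le_normalizer_functor hcb hTp)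
  have hUaT : Ua ≤ (T : Subgroup X) := inducedFunctor_le Wa _
  have hUbT : Ub ≤ (T : Subgroup X) := inducedFunctor_le Wb _
  -- proper subgroups containing `T`
  have hsub : ∀ M : Subgroup X, M ≠ ⊤ → (T : Subgroup X) ≤ M →
      cc (M ⊓ Nb) Z ≤ cc (M ⊓ Na) Z := by
    intro M hM hTM
    have hlt : Nat.card ↥M < n := by
      by_contra hcon
      push Not at hcon
      rw [← hcard] at hcon
      exact hM (Subgroup.eq_top_of_le_card M hcon)
    set T' : Sylow p ↥M := T.subtype hTM with hT'
    have hT'c : (T' : Subgroup ↥M) = (T : Subgroup X).subgroupOf M := Sylow.coe_subtype T hTM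
    have hT'map : (T' : Subgroup ↥M).map M.subtype = (T : Subgroup X) := by
      rw [hT'c, Subgroup.map_subgroupOf_eq_of_le hTM]
    have hT'p : IsPGroup p ↥(T' : Subgroup ↥M) := T'.isPGroup'
    have hinj : ∀ a ∈ (T' : Subgroup ↥M), M.subtype a = 1 → a = 1 :=
      fun a _ ha => M.subtype_injective (by rw [ha, map_one])
    have hZ' : (omegaCenter p (T' : Subgroup ↥M)).map M.subtype = Z := by
      rw [omegaCenter_map_of_injOn p M.subtype _ hinj, hT'map]
    have hUa' : (inducedFunctor (G := ↥M) Wa (T' : Subgroup ↥M)).map M.subtype = Ua := by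
      rw [inducedFunctor_map_of_injective hWa M.subtype M.subtype_injective _ hT'p, hT'map]
    have hUb' : (inducedFunctor (G := ↥M) Wb (T' : Subgroup ↥M)).map M.subtype = Ub := by
      rw [inducedFunctor_map_of_injective hWb M.subtype M.subtype_injective _ hT'p, hT'map]
    have h1 := ih _ hlt ↥M rfl (hyp.subgroup hΦ M) T'
      (by
        rw [← Subgroup.map_le_map_iff_of_injective M.subtype_injective, hZ', hUa']
        exact hZa)
      (by
        rw [← Subgroup.map_le_map_iff_of_injective M.subtype_injective, hZ', hUb']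
        exact hZb)
    have h2 := Subgroup.map_mono (f := M.subtype) h1
    rw [cc_map, cc_map, hZ', map_normalizer_of_injective M.subtype M.subtype_injective,
      map_normalizer_of_injective M.subtype M.subtype_injective, hUa', hUb',
      Subgroup.range_subtype] at h2
    exact h2
  by_cases hNbtop : Nb = ⊤
  swap
  · -- `N(Wb(T))` is proper
    have h1 := hsub Nb hNbtop hTNb
    rw [inf_idem] at h1
    exact h1.trans (cc_mono_left inf_le_right Z)
  -- `Wb(T)` is normal in `X`
  have hUbn : Ub.Normal := Subgroup.normalizer_eq_top_iff.mp hNbtop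
  have hZT : Z ≤ (T : Subgroup X) := (omegaCenter_le p _).trans inf_le_left
  have hccaT : cc Na Z ≤ (T : Subgroup X) := (cc_le hZa (le_refl Na)).trans hUaT
  have hccbT : cc Nb Z ≤ (T : Subgroup X) := (cc_le hZb (le_refl Nb)).trans hUbT
  by_cases hO : pPrimeCore p X = ⊥
  swap
  · -- quotient by `O_{p'}(X)`
    have hOc : (Nat.card ↥(pPrimeCore p X)).Coprime p :=
      Cfsg.Agent.Lib.Helper1.pPrimeCore_card_coprime p
    set π : X →* X ⧸ pPrimeCore p X := QuotientGroup.mk' (pPrimeCore p X) with hπ
    have hπs : Function.Surjective π := QuotientGroup.mk'_surjective _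
    have hker : π.ker = pPrimeCore p X := QuotientGroup.ker_mk' _
    have hlt : Nat.card (X ⧸ pPrimeCore p X) < n := by
      have h1 := Subgroup.card_eq_card_quotient_mul_card_subgroup (pPrimeCore p X)
      have h2 : 1 < Nat.card ↥(pPrimeCore p X) :=
        (Subgroup.one_lt_card_iff_ne_bot (H := pPrimeCore p X)).mpr hO
      have h3 : 0 < Nat.card (X ⧸ pPrimeCore p X) := Nat.card_pos
      rw [← hcard, h1]
      nlinarith
    set Tb : Sylow p (X ⧸ pPrimeCore p X) := T.mapSurjective hπs with hTb
    have hTbc : (Tb : Subgroup (X ⧸ pPrimeCore p X)) = (T : Subgroup X).map π :=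
      Sylow.coe_mapSurjective hπs T
    have hinj : ∀ a ∈ (T : Subgroup X), π a = 1 → a = 1 := by
      intro a ha h1
      apply sylow_inf_eq_bot_of_coprime T hOc a ha
      rw [← hker]; exact h1
    have hZ' : omegaCenter p (Tb : Subgroup (X ⧸ pPrimeCore p X)) = Z.map π := by
      rw [hTbc, ← omegaCenter_map_of_injOn p π _ hinj]
    have hUa' : inducedFunctor (G := X ⧸ pPrimeCore p X) Wa (Tb : Subgroup (X ⧸ pPrimeCore p X)) =
        Ua.map π := by
      rw [hTbc, ← inducedFunctor_map_of_injOn hWa π _ hTp hinj]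
    have hUb' : inducedFunctor (G := X ⧸ pPrimeCore p X) Wb (Tb : Subgroup (X ⧸ pPrimeCore p X)) =
        Ub.map π := by
      rw [hTbc, ← inducedFunctor_map_of_injOn hWb π _ hTp hinj]
    have h1 := ih _ hlt (X ⧸ pPrimeCore p X) rfl (hyp.quotient hΦ (pPrimeCore p X)) Tb
      (by rw [hZ', hUa']; exact Subgroup.map_mono hZa)
      (by rw [hZ', hUb']; exact Subgroup.map_mono hZb)
    rw [hZ', hUa', hUb', normalizer_map_quotient_coprime _ hOc (hTp.to_le hUaT),
      normalizer_map_quotient_coprime _ hOc (hTp.to_le hUbT), ← cc_map, ← cc_map] at h1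
    intro y hy
    obtain ⟨c, hc, hcy⟩ := h1 (Subgroup.mem_map_of_mem π hy)
    have h2 : c⁻¹ * y ∈ pPrimeCore p X := by
      rw [← hker, MonoidHom.mem_ker, map_mul, map_inv, hcy, inv_mul_cancel]
    have h3 : c⁻¹ * y ∈ (T : Subgroup X) :=
      (T : Subgroup X).mul_mem ((T : Subgroup X).inv_mem (hccaT hc)) (hccbT hy)
    have h4 := sylow_inf_eq_bot_of_coprime T hOc _ h3 h2
    have h5 : y = c := by
      calc y = c * (c⁻¹ * y) := by group
        _ = c := by rw [h4, mul_one]
    rw [h5]; exact hc
  rw [hNbtop]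
  by_cases hcon : Subgroup.centralizer ((pCore p X : Subgroup X) : Set X) ≤ pCore p X
  · -- constrained: use the factorization
    have hfac := hyp.self hΦ inferInstance hcon (T : Subgroup X) hTp T.not_dvd_index
    apply cc_top_le_of_factorization
    intro x
    obtain ⟨a, ha, b, hb, hab⟩ := hfac x⁻¹
    refine ⟨b⁻¹, Na.inv_mem hb, a⁻¹, Subgroup.inv_mem _ ha, ?_⟩
    rw [← mul_inv_rev, ← hab, inv_inv]
  · -- not constrained: Frattini argument with `H = O_p(X) C_X(O_p(X))`
    set Q : Subgroup X := pCore p X with hQ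
    have hQn : Q.Normal := pCore_normal p X
    have hQT : Q ≤ (T : Subgroup X) := pCore_le_sylow T
    have hUbQ : Ub ≤ Q := le_pCore hUbn (hTp.to_le hUbT)
    have hZQ : Z ≤ Q := hZb.trans hUbQ
    obtain ⟨Y, hYp, hYC, hYQ⟩ := exists_pSubgroup_centralizer_not_le hO hcon
    set C : Subgroup X := Subgroup.centralizer (Q : Set X) with hC
    set H : Subgroup X := Q ⊔ C with hH
    have hHn : H.Normal := inferInstance
    set S₀ : Subgroup X := (T : Subgroup X) ⊓ H with hS₀
    have hHnorm : ∀ g : X, g ∈ Subgroup.normalizer (H : Set X) := fun g => by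
      rw [Subgroup.normalizer_eq_top]; exact Subgroup.mem_top g
    have hsyl₀ : IsSylowIn p S₀ H :=
      (isSylowIn_of_sylow T le_top).inf_normal le_top (fun g _ => hHnorm g)
    have hS₀N : Subgroup.normalizer (S₀ : Set X) ≠ ⊤ := by
      intro htop
      have hS₀n : S₀.Normal := Subgroup.normalizer_eq_top_iff.mp htop
      have hS₀Q : S₀ ≤ Q := le_pCore hS₀n (hTp.to_le inf_le_left)
      apply hYQ
      have hYH : Y ≤ H := hYC.trans le_sup_right
      obtain ⟨R, hYR, hRsyl⟩ := exists_isSylowIn_ge hYH hYp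
      obtain ⟨k, _, hkR⟩ := exists_mem_map_conj_eq hRsyl hsyl₀
      intro y hy
      have h1 : (MulAut.conj k).toMonoidHom y ∈ S₀ := by
        rw [← hkR]
        exact Subgroup.mem_map_of_mem _ (hYR hy)
      have h2 : k * y * k⁻¹ ∈ Q := hS₀Q h1
      have h3 := hQn.conj_mem _ h2 k⁻¹
      have e : k⁻¹ * (k * y * k⁻¹) * k⁻¹⁻¹ = y := by group
      rwa [e] at h3
    have hTS₀ : (T : Subgroup X) ≤ Subgroup.normalizer (S₀ : Set X) := by
      refine le_trans ?_ Subgroup.inf_normalizer_le_normalizer_inf
      exact le_inf Subgroup.le_normalizer (fun g _ => hHnorm g)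
    have h1 := hsub _ hS₀N hTS₀
    rw [hNbtop, inf_top_eq] at h1
    refine le_trans ?_ (h1.trans (cc_mono_left inf_le_right Z))
    apply cc_top_le_of_factorization
    intro x
    have hfr := frattini_isSylowIn hsyl₀ (le_top : H ≤ ⊤) (fun g _ => hHnorm g)
      (Subgroup.mem_top x)
    rw [top_inf_eq] at hfr
    have hfr' : x ∈ ((Subgroup.normalizer (S₀ : Set X) ⊔ H : Subgroup X) : Set X) := hfr
    rw [Subgroup.mul_normal, Set.mem_mul] at hfr'
    obtain ⟨l, hl, h, hh, rfl⟩ := hfr'
    have hh' : h ∈ ((Q ⊔ C : Subgroup X) : Set X) := hh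
    rw [Subgroup.normal_mul, Set.mem_mul] at hh'
    obtain ⟨q, hq, c, hc, rfl⟩ := hh'
    refine ⟨l * q, Subgroup.mul_mem _ hl (hTS₀ (hQT hq)), c, ?_, by group⟩
    exact Subgroup.centralizer_le hZQ hc

end Cfsg.Agent.Lib.Helper7
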