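import Mathlib

set_option autoImplicit false

/-!
# A group of order `2p³` embedding in `PSL(n,p)` with trivial centralizer for infinitely many `n`

`H = C_p³ ⋊ C_2` (inversion).  Module: `E ⊕ F`, `dim E = k+2`, `dim F = k+3` (`k` odd), the three
generators of `C_p³` act as `1 + X`, `1 + Y`, `1 + Z` with `X, Y, Z : E → F` (Kronecker module
plus one more arrow), the involution as `1` on `E` and `-1` on `F`.
-/

namespace Cfsg.Agent.Lib.Helper7.TrivCent

open Matrix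

/-- underlying type of the group `C_p^3 ⋊ C_2` -/
def Hp (p : ℕ) : Type := (Fin 3 → ZMod p) × ℤˣ

namespace Hp

variable {p : ℕ}

def vec (a : Hp p) : Fin 3 → ZMod p := Prod.fst (α := Fin 3 → ZMod p) (β := ℤˣ) a
def sgn (a : Hp p) : ℤˣ := Prod.snd (α := Fin 3 → ZMod p) (β := ℤˣ) a
def mk (v : Fin 3 → ZMod p) (s : ℤˣ) : Hp p := ((v, s) : (Fin 3 → ZMod p) × ℤˣ)

@[simp] theorem vec_mk (v : Fin 3 → ZMod p) (s : ℤˣ) : (mk v s).vec = v := rfl
@[simp] theorem sgn_mk (v : Fin 3 → ZMod p) (s : ℤˣ) : (mk v s).sgn = s := rfl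

theorem ext' {a b : Hp p} (h1 : a.vec = b.vec) (h2 : a.sgn = b.sgn) : a = b :=
  Prod.ext (α := Fin 3 → ZMod p) (β := ℤˣ) h1 h2

def mulH (a b : Hp p) : Hp p :=
  mk (a.vec + (((a.sgn : ℤˣ) : ℤ) : ZMod p) • b.vec) (a.sgn * b.sgn)
def invH (a : Hp p) : Hp p :=
  mk (-((((a.sgn⁻¹ : ℤˣ) : ℤ) : ZMod p) • a.vec)) (a.sgn⁻¹)
def oneH : Hp p := mk 0 1

theorem mulH_assoc (a b c : Hp p) : mulH (mulH a b) c = mulH a (mulH b c) := by
  apply ext'
  · simp only [mulH, vec_mk, sgn_mk, Units.val_mul, Int.cast_mul, smul_add, smul_smul, add_assoc]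
  · simp only [mulH, sgn_mk, mul_assoc]

theorem oneH_mulH (a : Hp p) : mulH oneH a = a := by
  apply ext' <;> simp [mulH, oneH]

theorem mulH_oneH (a : Hp p) : mulH a oneH = a := by
  apply ext' <;> simp [mulH, oneH]

theorem invH_mulH (a : Hp p) : mulH (invH a) a = oneH := by
  apply ext' <;> simp [mulH, invH, oneH]

instance instGroup : Group (Hp p) where
  mul := mulH
  mul_assoc := mulH_assoc
  one := oneH
  one_mul := oneH_mulH
  mul_one := mulH_oneH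
  inv := invH
  inv_mul_cancel := invH_mulH

@[simp] theorem vec_mul (a b : Hp p) :
    (a * b).vec = a.vec + (((a.sgn : ℤˣ) : ℤ) : ZMod p) • b.vec := rfl
@[simp] theorem sgn_mul (a b : Hp p) : (a * b).sgn = a.sgn * b.sgn := rfl
@[simp] theorem vec_one : (1 : Hp p).vec = 0 := rfl
@[simp] theorem sgn_one : (1 : Hp p).sgn = 1 := rfl

instance instFintype (p : ℕ) [NeZero p] : Fintype (Hp p) :=
  inferInstanceAs (Fintype ((Fin 3 → ZMod p) × ℤˣ))

theorem card_Hp (p : ℕ) [NeZero p] : Nat.card (Hp p) = 2 * p ^ 3 := by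
  rw [Nat.card_eq_fintype_card]
  show Fintype.card ((Fin 3 → ZMod p) × ℤˣ) = _
  rw [Fintype.card_prod, Fintype.card_fun, ZMod.card, Fintype.card_fin, Fintype.card_units_int,
    mul_comm]

end Hp

variable (p : ℕ)

def Xm (k : ℕ) : Matrix (Fin (k+2+1)) (Fin (k+2)) (ZMod p) :=
  Matrix.of fun j i => if j = i.castSucc then 1 else 0
def Ym (k : ℕ) : Matrix (Fin (k+2+1)) (Fin (k+2)) (ZMod p) :=
  Matrix.of fun j i => if j = i.succ then 1 else 0
def Zm (k : ℕ) : Matrix (Fin (k+2+1)) (Fin (k+2)) (ZMod p) :=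
  Matrix.of fun j i => if j = Fin.last (k+2) ∧ i = 0 then 1 else 0
def Nm (k : ℕ) (v : Fin 3 → ZMod p) : Matrix (Fin (k+2+1)) (Fin (k+2)) (ZMod p) :=
  v 0 • Xm p k + v 1 • Ym p k + v 2 • Zm p k

theorem Nm_add (k : ℕ) (v w : Fin 3 → ZMod p) : Nm p k (v + w) = Nm p k v + Nm p k w := by
  simp only [Nm, Pi.add_apply, add_smul]; abel

theorem Nm_smul (k : ℕ) (c : ZMod p) (v : Fin 3 → ZMod p) : Nm p k (c • v) = c • Nm p k v := by
  simp only [Nm, Pi.smul_apply, smul_eq_mul, smul_add, smul_smul]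

theorem Nm_zero (k : ℕ) : Nm p k 0 = 0 := by simp [Nm]

/-- the block representation -/
def rho (k : ℕ) (a : Hp p) :
    Matrix (Fin (k+2) ⊕ Fin (k+2+1)) (Fin (k+2) ⊕ Fin (k+2+1)) (ZMod p) :=
  fromBlocks 1 0 (Nm p k a.vec)
    ((((a.sgn : ℤˣ) : ℤ) : ZMod p) • (1 : Matrix (Fin (k+2+1)) (Fin (k+2+1)) (ZMod p)))

theorem rho_one (k : ℕ) : rho p k 1 = 1 := by
  simp [rho, Nm_zero, fromBlocks_one]

theorem rho_mul (k : ℕ) (a b : Hp p) : rho p k (a * b) = rho p k a * rho p k b := by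
  simp only [rho, fromBlocks_multiply, Hp.vec_mul, Hp.sgn_mul, Nm_add, Nm_smul]
  congr 1
  · simp
  · simp
  · simp
  · simp [Units.val_mul, Int.cast_mul, smul_smul, mul_comm]

theorem sgn_cast_sq (s : ℤˣ) : (((s : ℤ) : ZMod p)) ^ 2 = 1 := by
  rcases Int.units_eq_one_or s with h | h <;> simp [h]

theorem det_rho (k : ℕ) (hk : Odd k) (a : Hp p) : (rho p k a).det = 1 := by
  rw [rho, det_fromBlocks_zero₁₂, det_one, det_smul, det_one, Fintype.card_fin, one_mul, mul_one]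
  obtain ⟨j, rfl⟩ := hk
  have : 2 * j + 1 + 2 + 1 = 2 * (j + 2) := by ring
  rw [this, pow_mul, sgn_cast_sq, one_pow]

end Cfsg.Agent.Lib.Helper7.TrivCent
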