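import Cfsg.Agent.Lib.Helper7.TrivCent

set_option autoImplicit false

namespace Cfsg.Agent.Lib.Helper7.TrivCent

open Matrix

variable (p : ℕ)

theorem Nm_apply (k : ℕ) (v : Fin 3 → ZMod p) (j : Fin (k+2+1)) (i : Fin (k+2)) :
    Nm p k v j i = v 0 * (if j = i.castSucc then 1 else 0) + v 1 * (if j = i.succ then 1 else 0)
      + v 2 * (if j = Fin.last (k+2) ∧ i = 0 then 1 else 0) := rfl

theorem Nm_eq_zero (k : ℕ) (v : Fin 3 → ZMod p) (h : Nm p k v = 0) : v = 0 := by
  have h0 := congrFun (congrFun h (Fin.castSucc 0)) 0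
  have h1 := congrFun (congrFun h (Fin.succ 0)) 0
  have h2 := congrFun (congrFun h (Fin.last (k+2))) 0
  rw [Nm_apply] at h0 h1 h2
  have n1 : ¬ ((Fin.castSucc (0 : Fin (k+2)) : Fin (k+2+1)) = Fin.succ 0) := fun h => by
    have := congrArg Fin.val h; simp at this
  have n2 : ¬ ((Fin.castSucc (0 : Fin (k+2)) : Fin (k+2+1)) = Fin.last (k+2) ∧ (0 : Fin (k+2)) = 0) :=
    fun h => by have := congrArg Fin.val h.1; simp at this
  have n3 : ¬ ((Fin.succ (0 : Fin (k+2)) : Fin (k+2+1)) = Fin.castSucc 0) := fun h => by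
    have := congrArg Fin.val h; simp at this
  have n4 : ¬ ((Fin.succ (0 : Fin (k+2)) : Fin (k+2+1)) = Fin.last (k+2) ∧ (0 : Fin (k+2)) = 0) :=
    fun h => by have := congrArg Fin.val h.1; simp at this
  have n5 : ¬ ((Fin.last (k+2) : Fin (k+2+1)) = Fin.castSucc (0 : Fin (k+2))) := fun h => by
    have := congrArg Fin.val h; simp at this
  have n6 : ¬ ((Fin.last (k+2) : Fin (k+2+1)) = Fin.succ (0 : Fin (k+2))) := fun h => by
    have := congrArg Fin.val h; simp at this
  rw [if_pos rfl, if_neg n1, if_neg n2] at h0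
  rw [if_neg n3, if_pos rfl, if_neg n4] at h1
  rw [if_neg n5, if_neg n6, if_pos ⟨rfl, rfl⟩] at h2
  simp only [mul_one, mul_zero, add_zero, zero_add, Matrix.zero_apply] at h0 h1 h2
  funext i; fin_cases i
  · exact h0
  · exact h1
  · exact h2

theorem rho_eq_smul_one (k : ℕ) (hneg : (-1 : ZMod p) ≠ 1) (a : Hp p) (r : ZMod p)
    (h : rho p k a = r • (1 : Matrix _ _ (ZMod p))) : a = 1 := by
  rw [← fromBlocks_one, fromBlocks_smul, rho, fromBlocks_inj] at h
  obtain ⟨h1, -, h3, h4⟩ := h
  have hr : r = 1 := by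
    have := congrFun (congrFun h1 0) 0
    simpa using this.symm
  subst hr
  apply Hp.ext'
  · rw [smul_zero] at h3
    exact Nm_eq_zero p k _ h3
  · have := congrFun (congrFun h4 0) 0
    simp at this
    rcases Int.units_eq_one_or a.sgn with hs | hs
    · exact hs
    · rw [hs] at this
      simp at this
      exact absurd this hneg

theorem B_zero (k : ℕ) (B : Matrix (Fin (k+2)) (Fin (k+2+1)) (ZMod p))
    (hX : B * Xm p k = 0) (hY : B * Ym p k = 0) : B = 0 := by
  have hX' : ∀ (r : Fin (k+2)) (i : Fin (k+2)), B r i.castSucc = 0 := by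
    intro r i
    have := congrFun (congrFun hX r) i
    simpa [Matrix.mul_apply, Xm] using this
  have hY' : ∀ (r : Fin (k+2)) (i : Fin (k+2)), B r i.succ = 0 := by
    intro r i
    have := congrFun (congrFun hY r) i
    simpa [Matrix.mul_apply, Ym] using this
  ext r l
  refine Fin.cases ?_ (fun i => ?_) l
  · simpa using hX' r 0
  · exact hY' r i

theorem toeplitz (k : ℕ) (A : Matrix (Fin (k+2)) (Fin (k+2)) (ZMod p))
    (D : Matrix (Fin (k+2+1)) (Fin (k+2+1)) (ZMod p))
    (hX : D * Xm p k = Xm p k * A) (hY : D * Ym p k = Ym p k * A) :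
    ∃ c : ZMod p, A = c • 1 ∧ D = c • 1 := by
  have ha : ∀ l i : Fin (k+2), D l.castSucc i.castSucc = A l i := by
    intro l i
    have := congrFun (congrFun hX l.castSucc) i
    simpa [Matrix.mul_apply, Xm] using this
  have hb : ∀ i : Fin (k+2), D (Fin.last _) i.castSucc = 0 := by
    intro i
    have := congrFun (congrFun hX (Fin.last _)) i
    simpa [Matrix.mul_apply, Xm, (Fin.castSucc_lt_last _).ne'] using this
  have hc : ∀ l i : Fin (k+2), D l.succ i.succ = A l i := by
    intro l i
    have := congrFun (congrFun hY l.succ) i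
    simpa [Matrix.mul_apply, Ym] using this
  have hd : ∀ i : Fin (k+2), D 0 i.succ = 0 := by
    intro i
    have := congrFun (congrFun hY 0) i
    simpa [Matrix.mul_apply, Ym, (Fin.succ_ne_zero _).symm] using this
  have hT : ∀ l i : Fin (k+2), D l.succ i.succ = D l.castSucc i.castSucc :=
    fun l i => (hc l i).trans (ha l i).symm
  have hU : ∀ j l : Fin (k+2+1), j < l → D j l = 0 := by
    intro j
    refine Fin.induction (motive := fun j => ∀ l : Fin (k+2+1), j < l → D j l = 0) ?_ ?_ j
    · intro l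
      refine Fin.cases ?_ (fun i => ?_) l
      · intro hl; exact absurd hl (lt_irrefl _)
      · intro _; exact hd i
    · intro j' ih l
      refine Fin.cases ?_ (fun i => ?_) l
      · intro hl; exact absurd hl (Fin.not_lt_zero _)
      · intro hl
        rw [hT]
        exact ih _ (Fin.castSucc_lt_castSucc_iff.mpr (Fin.succ_lt_succ_iff.mp hl))
  have hL : ∀ j l : Fin (k+2+1), l < j → D j l = 0 := by
    intro j
    refine Fin.reverseInduction (motive := fun j => ∀ l : Fin (k+2+1), l < j → D j l = 0) ?_ ?_ j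
    · intro l
      refine Fin.lastCases ?_ (fun i => ?_) l
      · intro hl; exact absurd hl (lt_irrefl _)
      · intro _; exact hb i
    · intro j' ih l
      refine Fin.lastCases ?_ (fun i => ?_) l
      · intro hl; exact absurd hl (not_lt.mpr (Fin.le_last _))
      · intro hl
        rw [← hT]
        exact ih _ (Fin.succ_lt_succ_iff.mpr (Fin.castSucc_lt_castSucc_iff.mp hl))
  have hG : ∀ j : Fin (k+2+1), D j j = D 0 0 := by
    intro j
    refine Fin.induction (motive := fun j => D j j = D 0 0) rfl ?_ j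
    intro i ih
    rw [hT]; exact ih
  refine ⟨D 0 0, ?_, ?_⟩
  · ext l i
    rw [← ha l i, Matrix.smul_apply, Matrix.one_apply]
    by_cases h : l = i
    · subst h; simp [hG]
    · rcases lt_or_gt_of_ne h with h' | h'
      · rw [hU _ _ (Fin.castSucc_lt_castSucc_iff.mpr h')]; simp [h]
      · rw [hL _ _ (Fin.castSucc_lt_castSucc_iff.mpr h')]; simp [h]
  · ext j l
    rw [Matrix.smul_apply, Matrix.one_apply]
    by_cases h : j = l
    · subst h; simp [hG]
    · rcases lt_or_gt_of_ne h with h' | h'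
      · rw [hU _ _ h']; simp [h]
      · rw [hL _ _ h']; simp [h]

theorem eq_zero_of_eq_smul {m n : Type*} [Fact p.Prime] (M : Matrix m n (ZMod p)) (r : ZMod p)
    (hr : r ≠ 1) (h : M = r • M) : M = 0 := by
  ext i j
  have h1 : M i j = r * M i j := congrFun (congrFun h i) j
  have h2 : (1 - r) * M i j = 0 := by rw [sub_mul, one_mul, ← h1, sub_self]
  rcases mul_eq_zero.mp h2 with h3 | h3
  · exact absurd (sub_eq_zero.mp h3).symm hr
  · simpa using h3

end Cfsg.Agent.Lib.Helper7.TrivCent
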