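import Cfsg.Agent.Lib.Helper7.TrivCent2

set_option autoImplicit false

namespace Cfsg.Agent.Lib.Helper7.TrivCent

open Matrix

variable (p : ℕ) [Fact p.Prime]

theorem Nm_e0 (k : ℕ) : Nm p k ![1, 0, 0] = Xm p k := by
  simp [Nm]

theorem Nm_e1 (k : ℕ) : Nm p k ![0, 1, 0] = Ym p k := by
  simp [Nm]

theorem core (k : ℕ) (h2 : (2 : ZMod p) ≠ 0)
    (g : Matrix (Fin (k+2) ⊕ Fin (k+2+1)) (Fin (k+2) ⊕ Fin (k+2+1)) (ZMod p)) (hdet : g.det ≠ 0)
    (hg : ∀ a : Hp p, ∃ r : ZMod p, g * rho p k a = r • (rho p k a * g)) :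
    ∃ c : ZMod p, g = c • 1 := by
  obtain ⟨A, B, C, D, rfl⟩ : ∃ A B C D, g = fromBlocks A B C D :=
    ⟨_, _, _, _, (fromBlocks_toBlocks g).symm⟩
  have step1 : ∀ v : Fin 3 → ZMod p, B * Nm p k v = 0 ∧ D * Nm p k v = Nm p k v * A := by
    intro v
    obtain ⟨r, hr⟩ := hg (Hp.mk v 1)
    have hrho : rho p k (Hp.mk v 1) = fromBlocks 1 0 (Nm p k v) 1 := by
      simp [rho]
    rw [hrho, fromBlocks_multiply, fromBlocks_multiply, fromBlocks_smul, fromBlocks_inj] at hr
    simp only [Matrix.mul_one, Matrix.one_mul, Matrix.mul_zero, Matrix.zero_mul, add_zero,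
      zero_add] at hr
    obtain ⟨e1, e2, e3, e4⟩ := hr
    by_cases hr1 : r = 1
    · subst hr1
      simp only [one_smul] at e1 e3 e4
      refine ⟨?_, ?_⟩
      · have : A + B * Nm p k v = A + 0 := by rw [e1, add_zero]
        exact add_left_cancel this
      · have : C + D * Nm p k v = C + Nm p k v * A := e3.trans (add_comm _ _)
        exact add_left_cancel this
    · exfalso
      have hB : B = 0 := eq_zero_of_eq_smul p B r hr1 e2
      subst hB
      rw [Matrix.zero_mul, add_zero] at e1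
      rw [Matrix.mul_zero, zero_add] at e4
      have hA : A = 0 := eq_zero_of_eq_smul p A r hr1 e1
      have hD : D = 0 := eq_zero_of_eq_smul p D r hr1 e4
      apply hdet
      rw [hA, hD, det_fromBlocks_zero₁₂, det_zero, zero_mul]
  have hB : B = 0 := by
    apply B_zero p k B
    · rw [← Nm_e0]; exact (step1 _).1
    · rw [← Nm_e1]; exact (step1 _).1
  subst hB
  have hC : C = 0 := by
    obtain ⟨r, hr⟩ := hg (Hp.mk 0 (-1))
    have hrho : rho p k (Hp.mk 0 (-1)) = fromBlocks 1 0 0 (-1) := by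
      simp [rho, Nm_zero]
    rw [hrho, fromBlocks_multiply, fromBlocks_multiply, fromBlocks_smul, fromBlocks_inj] at hr
    simp only [Matrix.mul_one, Matrix.one_mul, Matrix.mul_zero, Matrix.zero_mul, add_zero,
      zero_add, Matrix.mul_neg, Matrix.neg_mul, smul_zero] at hr
    obtain ⟨e1, -, e3, -⟩ := hr
    by_cases hr1 : r = 1
    · subst hr1
      rw [one_smul] at e3
      ext i j
      have h1 : C i j = - C i j := congrFun (congrFun e3 i) j
      have h3 : (2 : ZMod p) * C i j = 0 := by linear_combination h1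
      rcases mul_eq_zero.mp h3 with h4 | h4
      · exact absurd h4 h2
      · simpa using h4
    · exfalso
      have hA : A = 0 := eq_zero_of_eq_smul p A r hr1 e1
      apply hdet
      rw [hA, det_fromBlocks_zero₁₂, det_zero, zero_mul]
  subst hC
  obtain ⟨c, hA, hD⟩ := toeplitz p k A D
    (by rw [← Nm_e0]; exact (step1 _).2) (by rw [← Nm_e1]; exact (step1 _).2)
  refine ⟨c, ?_⟩
  rw [hA, hD, ← fromBlocks_one, fromBlocks_smul]
  simp only [smul_zero]

/-- the representation into `SL` on `Fin n`, as a function -/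
def rhoSLfun (k : ℕ) (hk : Odd k) (a : Hp p) :
    Matrix.SpecialLinearGroup (Fin (k+2 + (k+2+1))) (ZMod p) :=
  ⟨(rho p k a).submatrix finSumFinEquiv.symm finSumFinEquiv.symm, by
    rw [det_submatrix_equiv_self]; exact det_rho p k hk a⟩

theorem rhoSLfun_coe (k : ℕ) (hk : Odd k) (a : Hp p) :
    ((rhoSLfun p k hk a : Matrix.SpecialLinearGroup (Fin (k+2 + (k+2+1))) (ZMod p)) :
      Matrix (Fin (k+2 + (k+2+1))) (Fin (k+2 + (k+2+1))) (ZMod p)) =
      (rho p k a).submatrix finSumFinEquiv.symm finSumFinEquiv.symm := rfl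

/-- the representation into `SL` on `Fin n` -/
def rhoSL (k : ℕ) (hk : Odd k) :
    Hp p →* Matrix.SpecialLinearGroup (Fin (k+2 + (k+2+1))) (ZMod p) where
  toFun := rhoSLfun p k hk
  map_one' := by
    apply Subtype.ext
    rw [rhoSLfun_coe, rho_one, submatrix_one_equiv]
    rfl
  map_mul' a b := by
    apply Subtype.ext
    rw [Matrix.SpecialLinearGroup.coe_mul, rhoSLfun_coe, rhoSLfun_coe, rhoSLfun_coe, rho_mul,
      submatrix_mul_equiv]

theorem rhoSL_coe (k : ℕ) (hk : Odd k) (a : Hp p) :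
    ((rhoSL p k hk a : Matrix.SpecialLinearGroup (Fin (k+2 + (k+2+1))) (ZMod p)) :
      Matrix (Fin (k+2 + (k+2+1))) (Fin (k+2 + (k+2+1))) (ZMod p)) =
      (rho p k a).submatrix finSumFinEquiv.symm finSumFinEquiv.symm := rfl

theorem rhoSL_sub (k : ℕ) (hk : Odd k) (a : Hp p) :
    ((rhoSL p k hk a : Matrix.SpecialLinearGroup (Fin (k+2 + (k+2+1))) (ZMod p)) :
      Matrix (Fin (k+2 + (k+2+1))) (Fin (k+2 + (k+2+1))) (ZMod p)).submatrix
        finSumFinEquiv finSumFinEquiv = rho p k a := by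
  rw [rhoSL_coe, submatrix_submatrix]
  simp

/-- the projective representation -/
def phi (k : ℕ) (hk : Odd k) :
    Hp p →* Matrix.ProjectiveSpecialLinearGroup (Fin (k+2 + (k+2+1))) (ZMod p) :=
  (QuotientGroup.mk' _).comp (rhoSL p k hk)

theorem phi_apply (k : ℕ) (hk : Odd k) (a : Hp p) :
    phi p k hk a = ((rhoSL p k hk a : Matrix.SpecialLinearGroup (Fin (k+2 + (k+2+1))) (ZMod p)) :
      Matrix.ProjectiveSpecialLinearGroup (Fin (k+2 + (k+2+1))) (ZMod p)) := rfl

theorem sub_smul_one {α β : Type*} [DecidableEq α] [DecidableEq β] (e : α ≃ β) (r : ZMod p) :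
    (r • (1 : Matrix β β (ZMod p))).submatrix e e = r • (1 : Matrix α α (ZMod p)) := by
  ext i j
  simp [Matrix.one_apply]

theorem phi_injective (k : ℕ) (hk : Odd k) (hneg : (-1 : ZMod p) ≠ 1) :
    Function.Injective (phi p k hk) := by
  rw [injective_iff_map_eq_one]
  intro a ha
  rw [phi_apply, QuotientGroup.eq_one_iff, Matrix.SpecialLinearGroup.mem_center_iff] at ha
  obtain ⟨r, -, hr⟩ := ha
  apply rho_eq_smul_one p k hneg a r
  rw [← rhoSL_sub p k hk a, ← hr, scalar_apply, ← smul_one_eq_diagonal, sub_smul_one]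

theorem phi_centralizer (k : ℕ) (hk : Odd k) (h2 : (2 : ZMod p) ≠ 0) :
    Subgroup.centralizer ((phi p k hk).range :
      Set (Matrix.ProjectiveSpecialLinearGroup (Fin (k+2 + (k+2+1))) (ZMod p))) = ⊥ := by
  rw [Subgroup.eq_bot_iff_forall]
  intro c hc
  obtain ⟨g, rfl⟩ := QuotientGroup.mk_surjective c
  rw [QuotientGroup.eq_one_iff]
  rw [Subgroup.mem_centralizer_iff] at hc
  have key : ∀ a : Hp p, ∃ r : ZMod p,
      (g : Matrix (Fin (k+2 + (k+2+1))) (Fin (k+2 + (k+2+1))) (ZMod p)) *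
        (rhoSL p k hk a : Matrix.SpecialLinearGroup (Fin (k+2 + (k+2+1))) (ZMod p)) =
      r • (((rhoSL p k hk a : Matrix.SpecialLinearGroup (Fin (k+2 + (k+2+1))) (ZMod p)) :
        Matrix (Fin (k+2 + (k+2+1))) (Fin (k+2 + (k+2+1))) (ZMod p)) * g) := by
    intro a
    have h1 := hc (phi p k hk a) ⟨a, rfl⟩
    rw [phi_apply] at h1
    have h3 : ((rhoSL p k hk a * g : Matrix.SpecialLinearGroup (Fin (k+2 + (k+2+1))) (ZMod p)) :
        Matrix.ProjectiveSpecialLinearGroup (Fin (k+2 + (k+2+1))) (ZMod p)) =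
        ((g * rhoSL p k hk a : Matrix.SpecialLinearGroup (Fin (k+2 + (k+2+1))) (ZMod p)) :
        Matrix.ProjectiveSpecialLinearGroup (Fin (k+2 + (k+2+1))) (ZMod p)) := h1
    rw [QuotientGroup.eq] at h3
    obtain ⟨z, hz⟩ : ∃ z : Matrix.SpecialLinearGroup (Fin (k+2 + (k+2+1))) (ZMod p),
        z = (rhoSL p k hk a * g)⁻¹ * (g * rhoSL p k hk a) := ⟨_, rfl⟩
    rw [← hz, Matrix.SpecialLinearGroup.mem_center_iff] at h3
    obtain ⟨r, -, hr⟩ := h3
    refine ⟨r, ?_⟩
    have h4 : g * rhoSL p k hk a = (rhoSL p k hk a * g) * z := by rw [hz]; group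
    have h5 := congrArg Subtype.val h4
    rw [Matrix.SpecialLinearGroup.coe_mul, Matrix.SpecialLinearGroup.coe_mul,
      Matrix.SpecialLinearGroup.coe_mul, ← hr, scalar_apply,
      ← smul_one_eq_diagonal, Matrix.mul_smul, Matrix.mul_one] at h5
    exact h5
  have hcore := core p k h2
    ((g : Matrix (Fin (k+2 + (k+2+1))) (Fin (k+2 + (k+2+1))) (ZMod p)).submatrix
      finSumFinEquiv finSumFinEquiv)
    (by rw [det_submatrix_equiv_self, g.2]; exact one_ne_zero)
    (by
      intro a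
      obtain ⟨r, hr⟩ := key a
      refine ⟨r, ?_⟩
      have := congrArg (fun M : Matrix (Fin (k+2 + (k+2+1))) (Fin (k+2 + (k+2+1))) (ZMod p) =>
        M.submatrix finSumFinEquiv finSumFinEquiv) hr
      simp only [submatrix_smul, Pi.smul_apply] at this
      rw [← submatrix_mul_equiv _ _ _ finSumFinEquiv _,
        ← submatrix_mul_equiv _ _ _ finSumFinEquiv _, rhoSL_sub] at this
      exact this)
  obtain ⟨c, hc'⟩ := hcore
  have hgc : (g : Matrix (Fin (k+2 + (k+2+1))) (Fin (k+2 + (k+2+1))) (ZMod p)) = c • 1 := by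
    have := congrArg (fun M : Matrix _ _ (ZMod p) =>
      M.submatrix finSumFinEquiv.symm finSumFinEquiv.symm) hc'
    simp only [submatrix_submatrix, sub_smul_one] at this
    simpa using this
  rw [Subgroup.mem_center_iff]
  intro x
  apply Subtype.ext
  rw [Matrix.SpecialLinearGroup.coe_mul, Matrix.SpecialLinearGroup.coe_mul, hgc, Matrix.mul_smul,
    Matrix.smul_mul, Matrix.mul_one, Matrix.one_mul]

theorem main (p : ℕ) [Fact p.Prime] (hp : p ≠ 2) :
    ∃ (H : Type) (_ : Group H) (_ : Finite H), Nat.card H = 2 * p ^ 3 ∧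
      ∀ N : ℕ, ∃ n, N ≤ n ∧ ∃ φ : H →* Matrix.ProjectiveSpecialLinearGroup (Fin n) (ZMod p),
        Function.Injective φ ∧ Subgroup.centralizer
          (φ.range : Set (Matrix.ProjectiveSpecialLinearGroup (Fin n) (ZMod p))) = ⊥ := by
  haveI : NeZero p := ⟨(Fact.out : p.Prime).ne_zero⟩
  haveI : Fact (2 < p) := ⟨lt_of_le_of_ne (Fact.out : p.Prime).two_le (Ne.symm hp)⟩
  have hneg : (-1 : ZMod p) ≠ 1 := ZMod.neg_one_ne_one
  have h2 : (2 : ZMod p) ≠ 0 := fun h => hneg (by linear_combination (-1 : ZMod p) * h)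
  refine ⟨Hp p, inferInstance, inferInstance, Hp.card_Hp p, fun N => ?_⟩
  have hk : Odd (2 * N + 1) := ⟨N, rfl⟩
  exact ⟨(2 * N + 1) + 2 + ((2 * N + 1) + 2 + 1), by omega, phi p (2 * N + 1) hk,
    phi_injective p _ hk hneg, phi_centralizer p _ hk h2⟩

end Cfsg.Agent.Lib.Helper7.TrivCent
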