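import Mathlib

set_option autoImplicit false

/-! Block matrices of shape `[[1, a, c], [0, A, b], [0, 0, 1]]` over `ZMod 2`, indexed by
`Fin (n + 2)` with the "outer" indices `0` and `1` and the "inner" indices `sx k`. -/

namespace Cfsg.Agent.Lib.Helper7.TvCent

open Matrix

variable {n : ℕ}

/-- inner index embedding -/
def sx (k : Fin n) : Fin (n + 2) := k.succ.succ

theorem one_eq_succ : (1 : Fin (n + 2)) = Fin.succ (0 : Fin (n + 1)) := Fin.succ_zero_eq_one.symm

theorem sx_ne_zero (k : Fin n) : sx k ≠ 0 := Fin.succ_ne_zero _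

theorem sx_ne_one (k : Fin n) : sx k ≠ 1 := by
  intro h
  rw [one_eq_succ] at h
  exact Fin.succ_ne_zero k (Fin.succ_inj.mp h)

theorem zero_ne_sx (k : Fin n) : (0 : Fin (n + 2)) ≠ sx k := (sx_ne_zero k).symm

theorem one_ne_sx (k : Fin n) : (1 : Fin (n + 2)) ≠ sx k := (sx_ne_one k).symm

theorem zero_ne_one' : (0 : Fin (n + 2)) ≠ 1 := by
  rw [one_eq_succ]
  exact (Fin.succ_ne_zero _).symm

theorem one_ne_zero' : (1 : Fin (n + 2)) ≠ 0 := zero_ne_one'.symm

theorem sx_inj {k l : Fin n} : sx k = sx l ↔ k = l := by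
  unfold sx
  rw [Fin.succ_inj, Fin.succ_inj]

theorem idx_cases (i : Fin (n + 2)) : i = 0 ∨ i = 1 ∨ ∃ k : Fin n, i = sx k := by
  refine Fin.cases (Or.inl rfl) (fun i' => ?_) i
  refine Fin.cases ?_ (fun k => ?_) i'
  · right; left; exact Fin.succ_zero_eq_one
  · right; right; exact ⟨k, rfl⟩

theorem sum_split {M : Type*} [AddCommMonoid M] (f : Fin (n + 2) → M) :
    ∑ j, f j = f 0 + (f 1 + ∑ k : Fin n, f (sx k)) := by
  rw [Fin.sum_univ_succ, Fin.sum_univ_succ, Fin.succ_zero_eq_one]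
  rfl

/-- the block matrix -/
def bm (A : Matrix (Fin n) (Fin n) (ZMod 2)) (a b : Fin n → ZMod 2) (c : ZMod 2) :
    Matrix (Fin (n + 2)) (Fin (n + 2)) (ZMod 2) :=
  fun i j =>
    Fin.cases (motive := fun _ => ZMod 2)
      (Fin.cases (motive := fun _ => ZMod 2) 1
        (fun j' => Fin.cases (motive := fun _ => ZMod 2) c (fun l => a l) j') j)
      (fun i' => Fin.cases (motive := fun _ => ZMod 2)
        (Fin.cases (motive := fun _ => ZMod 2) 0
          (fun j' => Fin.cases (motive := fun _ => ZMod 2) 1 (fun _ => 0) j') j)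
        (fun k => Fin.cases (motive := fun _ => ZMod 2) 0
          (fun j' => Fin.cases (motive := fun _ => ZMod 2) (b k) (fun l => A k l) j') j)
        i') i

variable (A A' : Matrix (Fin n) (Fin n) (ZMod 2)) (a b a' b' : Fin n → ZMod 2) (c c' : ZMod 2)

@[simp] theorem bm_zero_zero : bm A a b c 0 0 = 1 := by
  simp [bm]

@[simp] theorem bm_zero_one : bm A a b c 0 1 = c := by
  rw [one_eq_succ]; simp only [bm, Fin.cases_zero, Fin.cases_succ]

@[simp] theorem bm_zero_sx (l : Fin n) : bm A a b c 0 (sx l) = a l := by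
  simp [bm, sx]

@[simp] theorem bm_one_zero : bm A a b c 1 0 = 0 := by
  rw [one_eq_succ]; simp only [bm, Fin.cases_zero, Fin.cases_succ]

@[simp] theorem bm_one_one : bm A a b c 1 1 = 1 := by
  rw [one_eq_succ]; simp only [bm, Fin.cases_zero, Fin.cases_succ]

@[simp] theorem bm_one_sx (l : Fin n) : bm A a b c 1 (sx l) = 0 := by
  rw [one_eq_succ]; simp only [bm, sx, Fin.cases_zero, Fin.cases_succ]

@[simp] theorem bm_sx_zero (k : Fin n) : bm A a b c (sx k) 0 = 0 := by
  simp [bm, sx]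

@[simp] theorem bm_sx_one (k : Fin n) : bm A a b c (sx k) 1 = b k := by
  rw [one_eq_succ]; simp only [bm, sx, Fin.cases_zero, Fin.cases_succ]

@[simp] theorem bm_sx_sx (k l : Fin n) : bm A a b c (sx k) (sx l) = A k l := by
  simp [bm, sx]

theorem bm_mul : bm A a b c * bm A' a' b' c' =
    bm (A * A') (a' + a ᵥ* A') (b + A *ᵥ b') (c + c' + a ⬝ᵥ b') := by
  ext i j
  rcases idx_cases i with rfl | rfl | ⟨k, rfl⟩ <;> rcases idx_cases j with rfl | rfl | ⟨l, rfl⟩ <;>
    simp [Matrix.mul_apply, sum_split, Matrix.vecMul, Matrix.mulVec, dotProduct] <;> ring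

theorem bm_one : bm (1 : Matrix (Fin n) (Fin n) (ZMod 2)) 0 0 0 = 1 := by
  ext i j
  rcases idx_cases i with rfl | rfl | ⟨k, rfl⟩ <;> rcases idx_cases j with rfl | rfl | ⟨l, rfl⟩ <;>
    simp [Matrix.one_apply, sx_ne_zero, sx_ne_one, zero_ne_sx, one_ne_sx, zero_ne_one',
      one_ne_zero', sx_inj]

theorem bm_inj {A A' : Matrix (Fin n) (Fin n) (ZMod 2)} {a b a' b' : Fin n → ZMod 2}
    {c c' : ZMod 2} (h : bm A a b c = bm A' a' b' c') : A = A' ∧ a = a' ∧ b = b' ∧ c = c' := by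
  refine ⟨?_, ?_, ?_, ?_⟩
  · ext k l
    have := congrFun (congrFun h (sx k)) (sx l)
    simpa using this
  · ext l
    have := congrFun (congrFun h 0) (sx l)
    simpa using this
  · ext k
    have := congrFun (congrFun h (sx k)) 1
    simpa using this
  · have := congrFun (congrFun h 0) 1
    simpa using this

theorem eq_bm {g : Matrix (Fin (n + 2)) (Fin (n + 2)) (ZMod 2)}
    (hcol : ∀ i, i ≠ 0 → g i 0 = 0) (hrow : ∀ j, j ≠ 1 → g 1 j = 0)
    (h00 : g 0 0 = 1) (h11 : g 1 1 = 1) :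
    g = bm (g.submatrix sx sx) (fun l => g 0 (sx l)) (fun k => g (sx k) 1) (g 0 1) := by
  ext i j
  rcases idx_cases i with rfl | rfl | ⟨k, rfl⟩ <;> rcases idx_cases j with rfl | rfl | ⟨l, rfl⟩ <;>
    simp [h00, h11, hcol _ one_ne_zero', hcol _ (sx_ne_zero _), hrow _ zero_ne_one',
      hrow _ (sx_ne_one _)]

/-- the transvection `1 + E_{01}` as a block matrix -/
theorem transvection_eq_bm :
    Matrix.transvection (0 : Fin (n + 2)) 1 (1 : ZMod 2) =
      bm (1 : Matrix (Fin n) (Fin n) (ZMod 2)) 0 0 1 := by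
  ext i j
  rcases idx_cases i with rfl | rfl | ⟨k, rfl⟩ <;> rcases idx_cases j with rfl | rfl | ⟨l, rfl⟩ <;>
    simp [Matrix.transvection, Matrix.single_apply, Matrix.one_apply, sx_ne_zero, sx_ne_one,
      zero_ne_sx, one_ne_sx, zero_ne_one', one_ne_zero', sx_inj]

/-- a matrix commuting with the transvection `1 + E_{01}` -/
theorem entries_of_commute {g : Matrix (Fin (n + 2)) (Fin (n + 2)) (ZMod 2)}
    (h : g * Matrix.transvection (0 : Fin (n + 2)) 1 (1 : ZMod 2) =
      Matrix.transvection (0 : Fin (n + 2)) 1 (1 : ZMod 2) * g) :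
    (∀ i, i ≠ 0 → g i 0 = 0) ∧ (∀ j, j ≠ 1 → g 1 j = 0) ∧ g 0 0 = g 1 1 := by
  have h2 : g * Matrix.single (0 : Fin (n + 2)) (1 : Fin (n + 2)) (1 : ZMod 2) =
      Matrix.single (0 : Fin (n + 2)) (1 : Fin (n + 2)) (1 : ZMod 2) * g := by
    unfold Matrix.transvection at h
    rw [mul_add, add_mul, mul_one, one_mul] at h
    exact add_left_cancel h
  refine ⟨?_, ?_, ?_⟩
  · intro i hi
    have := congrFun (congrFun h2 i) 1
    rw [Matrix.mul_single_apply_same, Matrix.single_mul_apply_of_ne _ _ _ _ _ hi] at this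
    simpa using this
  · intro j hj
    have := congrFun (congrFun h2 0) j
    rw [Matrix.mul_single_apply_of_ne _ _ _ _ _ hj, Matrix.single_mul_apply_same] at this
    simpa using this.symm
  · have := congrFun (congrFun h2 0) 1
    rw [Matrix.mul_single_apply_same, Matrix.single_mul_apply_same] at this
    simpa using this

/-- `bm 1 e_k 0 1` as a sum of matrix units -/
theorem bm_single_eq (k0 : Fin n) :
    bm (1 : Matrix (Fin n) (Fin n) (ZMod 2)) (Pi.single k0 1) 0 1 =
      1 + Matrix.single (0 : Fin (n + 2)) (1 : Fin (n + 2)) (1 : ZMod 2) +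
        Matrix.single (0 : Fin (n + 2)) (sx k0) (1 : ZMod 2) := by
  ext i j
  rcases idx_cases i with rfl | rfl | ⟨k, rfl⟩ <;> rcases idx_cases j with rfl | rfl | ⟨l, rfl⟩ <;>
    simp [Matrix.single_apply, Matrix.one_apply, sx_ne_zero, sx_ne_one,
      zero_ne_sx, one_ne_sx, zero_ne_one', one_ne_zero', sx_inj, Pi.single_apply, eq_comm]

/-- conjugating the transvection `1 + E_{01}` by `1 + E_{1,sx k}` -/
theorem conj_transvection (k0 : Fin n) :
    Matrix.transvection (1 : Fin (n + 2)) (sx k0) (1 : ZMod 2) *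
        Matrix.transvection (0 : Fin (n + 2)) 1 (1 : ZMod 2) =
      bm (1 : Matrix (Fin n) (Fin n) (ZMod 2)) (Pi.single k0 1) 0 1 *
        Matrix.transvection (1 : Fin (n + 2)) (sx k0) (1 : ZMod 2) := by
  rw [bm_single_eq]
  unfold Matrix.transvection
  have e1 : Matrix.single (1 : Fin (n + 2)) (sx k0) (1 : ZMod 2) *
      Matrix.single (0 : Fin (n + 2)) (1 : Fin (n + 2)) (1 : ZMod 2) = 0 :=
    Matrix.single_mul_single_of_ne _ _ _ _ (sx_ne_zero k0) _
  have e2 : Matrix.single (0 : Fin (n + 2)) (1 : Fin (n + 2)) (1 : ZMod 2) *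
      Matrix.single (1 : Fin (n + 2)) (sx k0) (1 : ZMod 2) =
        Matrix.single (0 : Fin (n + 2)) (sx k0) (1 : ZMod 2) := by
    rw [Matrix.single_mul_single_same, mul_one]
  have e3 : Matrix.single (0 : Fin (n + 2)) (sx k0) (1 : ZMod 2) *
      Matrix.single (1 : Fin (n + 2)) (sx k0) (1 : ZMod 2) = 0 :=
    Matrix.single_mul_single_of_ne _ _ _ _ (sx_ne_one k0) _
  have e4 : Matrix.single (0 : Fin (n + 2)) (sx k0) (1 : ZMod 2) +
      Matrix.single (0 : Fin (n + 2)) (sx k0) (1 : ZMod 2) = 0 := by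
    rw [← Matrix.single_add]
    have : (1 : ZMod 2) + 1 = 0 := by decide
    rw [this, Matrix.single_zero]
  simp only [add_mul, mul_add, mul_one, one_mul]
  rw [e1, e2, e3]
  rw [← sub_eq_zero]
  have : ∀ X Y Z : Matrix (Fin (n + 2)) (Fin (n + 2)) (ZMod 2),
      1 + X + (Y + 0) - (1 + Y + Z + (X + Z + 0)) = -(Z + Z) := by
    intro X Y Z
    abel
  rw [this, e4, neg_zero]

/-- over `ZMod 2` an invertible matrix has determinant one -/
theorem det_eq_one_of_mul_eq_one {m : ℕ} {M N : Matrix (Fin m) (Fin m) (ZMod 2)}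
    (h : M * N = 1) : M.det = 1 := by
  have h1 : M.det * N.det = 1 := by rw [← Matrix.det_mul, h, Matrix.det_one]
  have h2 : M.det ≠ 0 := by
    intro h0
    rw [h0, zero_mul] at h1
    exact zero_ne_one h1
  exact (by decide : ∀ x : ZMod 2, x ≠ 0 → x = 1) _ h2

end Cfsg.Agent.Lib.Helper7.TvCent
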