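import Mathlib
import Cfsg.Prelude.Def_Transfer
import Cfsg.Agent.Lib.Helper1.FrattiniP
import Cfsg.Agent.Lib.Helper3.SympA
import Cfsg.Agent.Lib.Helper7.TvCent1

set_option autoImplicit false

/-! Generic helpers for the affine holomorph: `SL_n(2) ≅ GL_n(2)`, transport of extraspeciality,
coordinates on an elementary abelian 2-group. -/

namespace Cfsg.Agent.Lib.Helper7.TvAff

open Module
open scoped commutatorElement

/-- over `ZMod 2` the special and general linear groups coincide -/
noncomputable def slEquivGL (n : ℕ) :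
    Matrix.SpecialLinearGroup (Fin n) (ZMod 2) ≃* GL (Fin n) (ZMod 2) :=
  MulEquiv.ofBijective (Matrix.SpecialLinearGroup.toGL :
      Matrix.SpecialLinearGroup (Fin n) (ZMod 2) →* GL (Fin n) (ZMod 2))
    ⟨Matrix.SpecialLinearGroup.toGL_injective, by
      intro g
      have h1 : (g : Matrix (Fin n) (Fin n) (ZMod 2)) * ((g⁻¹ : GL (Fin n) (ZMod 2)) :
          Matrix (Fin n) (Fin n) (ZMod 2)) = 1 := by
        rw [← Units.val_mul, mul_inv_cancel, Units.val_one]
      refine ⟨⟨(g : Matrix (Fin n) (Fin n) (ZMod 2)),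
        Cfsg.Agent.Lib.Helper7.TvCent.det_eq_one_of_mul_eq_one h1⟩, ?_⟩
      apply Units.ext
      rfl⟩

theorem isExtraspecial_of_mulEquiv {P P' : Type*} [Group P] [Group P'] [Finite P] {p : ℕ}
    [hp : Fact p.Prime] (hP : Cfsg.IsExtraspecial p P) (e : P ≃* P') :
    Cfsg.IsExtraspecial p P' := by
  haveI : Finite P' := Finite.of_equiv P e.toEquiv
  obtain ⟨⟨hpg, hfr, hcm⟩, hc⟩ := hP
  have hcen : ∀ x : P, x ∈ Subgroup.center P → e x ∈ Subgroup.center P' := by
    intro x hx
    rw [Subgroup.mem_center_iff] at hx ⊢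
    intro y'
    obtain ⟨y, rfl⟩ := e.surjective y'
    rw [← map_mul, ← map_mul, hx y]
  apply Cfsg.Agent.Lib.Helper3.Symp.isExtraspecial_of (hpg.of_equiv e)
  · rw [← Nat.card_congr (Subgroup.centerCongr e).toEquiv]
    exact hc
  · by_contra hcon
    push Not at hcon
    have h1 : Subgroup.center P = ⊤ := by
      rw [Subgroup.eq_top_iff']
      intro x
      rw [Subgroup.mem_center_iff]
      intro y
      apply e.injective
      rw [map_mul, map_mul]
      exact hcon (e y) (e x)
    have h2 : commutator P = ⊥ := (commutator_eq_bot_iff_center_eq_top P).mpr h1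
    rw [hcm] at h2
    rw [h2, Subgroup.card_bot] at hc
    exact hp.out.one_lt.ne hc
  · intro a' b'
    obtain ⟨a, rfl⟩ := e.surjective a'
    obtain ⟨b, rfl⟩ := e.surjective b'
    rw [← map_commutatorElement]
    apply hcen
    rw [← hcm, commutator_def]
    exact Subgroup.commutator_mem_commutator (Subgroup.mem_top a) (Subgroup.mem_top b)
  · intro x'
    obtain ⟨x, rfl⟩ := e.surjective x'
    rw [← map_pow]
    apply hcen
    rw [← hfr]
    exact Cfsg.Agent.Lib.Helper1.pow_prime_mem_frattini_of_isPGroup p hpg x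

/-- coordinates on an elementary abelian 2-group with a prescribed first basis vector -/
theorem exists_coord {G : Type*} [Group G] [Finite G] (n : ℕ) (U : Subgroup G)
    (hU : Cfsg.IsElementaryAbelian 2 U) (hUcard : Nat.card ↥U = 2 ^ (n + 1)) (z : ↥U)
    (hz : z ≠ 1) :
    ∃ f : Additive ↥U ≃+ (Fin (n + 1) → ZMod 2), f (Additive.ofMul z) = Pi.single 0 1 := by
  classical
  letI : CommGroup ↥U :=
    { (inferInstance : Group ↥U) with mul_comm := fun a b => hU.1.is_comm.comm a b }
  letI : Module (ZMod 2) (Additive ↥U) := AddCommGroup.zmodModule (by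
    intro x
    apply Additive.toMul.injective
    show (Additive.toMul x) ^ 2 = 1
    exact Subtype.ext (hU.2 _ (Additive.toMul x).2))
  haveI : Module.Finite (ZMod 2) (Additive ↥U) := Module.Finite.of_finite
  have hrank : finrank (ZMod 2) (Additive ↥U) = n + 1 := by
    have h1 := Module.natCard_eq_pow_finrank (K := ZMod 2) (V := Additive ↥U)
    have h2 : Nat.card (Additive ↥U) = 2 ^ (n + 1) := hUcard
    rw [h2, Nat.card_zmod] at h1
    exact (Nat.pow_right_injective (le_refl 2) h1).symm
  set y : Additive ↥U := Additive.ofMul z with hy_def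
  have hy : y ≠ 0 := fun h => hz h
  obtain ⟨N, hN⟩ := Submodule.exists_isCompl (Submodule.span (ZMod 2) {y})
  have hNrank : finrank (ZMod 2) N = n := by
    have := Submodule.finrank_add_eq_of_isCompl hN
    rw [finrank_span_singleton hy, hrank] at this
    omega
  let bN : Basis (Fin n) (ZMod 2) N := finBasisOfFinrankEq _ _ hNrank
  have hli : ∀ c : ZMod 2, ∀ x ∈ N, c • y + x = 0 → c = 0 := by
    intro c x hx h
    have h1 : c • y ∈ Submodule.span (ZMod 2) {y} ⊓ N := by
      refine ⟨Submodule.smul_mem _ _ (Submodule.mem_span_singleton_self y), ?_⟩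
      have : c • y = -x := eq_neg_of_add_eq_zero_left h
      rw [this]
      exact N.neg_mem hx
    rw [hN.inf_eq_bot, Submodule.mem_bot] at h1
    rcases smul_eq_zero.mp h1 with h2 | h2
    · exact h2
    · exact absurd h2 hy
  have hsp : ∀ w : Additive ↥U, ∃ c : ZMod 2, w + c • y ∈ N := by
    intro w
    have : w ∈ Submodule.span (ZMod 2) {y} ⊔ N := by
      rw [hN.sup_eq_top]
      trivial
    obtain ⟨s, hs, t, ht, rfl⟩ := Submodule.mem_sup.mp this
    obtain ⟨c, rfl⟩ := Submodule.mem_span_singleton.mp hs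
    refine ⟨-c, ?_⟩
    have : c • y + t + -c • y = t := by
      rw [neg_smul]
      abel
    rw [this]
    exact ht
  let b := Basis.mkFinCons y bN hli hsp
  refine ⟨b.equivFun.toAddEquiv, ?_⟩
  have hb0 : b 0 = y := by
    show (Basis.mkFinCons y bN hli hsp) 0 = y
    rw [Basis.coe_mkFinCons]
    rfl
  funext j
  show b.equivFun y j = _
  rw [← hb0, Basis.equivFun_self, Pi.single_apply]
  simp [eq_comm]

end Cfsg.Agent.Lib.Helper7.TvAff
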