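import Mathlib

set_option autoImplicit false

/-! `SL_n(2)` has no non-trivial normal 2-subgroup. -/

namespace Cfsg.Agent.Lib.Helper7.TvCent

open Matrix

theorem zmod_two_eq_one : ∀ x : ZMod 2, x ≠ 0 → x = 1 := by decide

theorem vec_eq_sum {n : ℕ} (v : Fin n → ZMod 2) :
    v = ∑ i, v i • (Pi.single i 1 : Fin n → ZMod 2) := by
  funext m
  simp [Finset.sum_apply, Pi.single_apply]

theorem normal_two_subgroup_SL_eq_bot (n : ℕ)
    (P : Subgroup (Matrix.SpecialLinearGroup (Fin n) (ZMod 2))) (hN : P.Normal)
    (hP : IsPGroup 2 P) : P = ⊥ := by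
  classical
  let F : Submodule (ZMod 2) (Fin n → ZMod 2) :=
    { carrier := {v | ∀ p ∈ P, p • v = v}
      zero_mem' := fun p _ => smul_zero p
      add_mem' := fun {v w} hv hw p hp => by
        show p • (v + w) = v + w
        rw [smul_add, hv p hp, hw p hp]
      smul_mem' := fun c v hv p hp => by
        show p • (c • v) = c • v
        rw [smul_comm, hv p hp] }
  have hFmem : ∀ v, v ∈ F ↔ ∀ p ∈ P, p • v = v := fun v => Iff.rfl
  have hinv : ∀ g : Matrix.SpecialLinearGroup (Fin n) (ZMod 2), ∀ v ∈ F, g • v ∈ F := by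
    intro g v hv
    rw [hFmem] at hv ⊢
    intro p hp
    have h1 : g⁻¹ * p * g ∈ P := by
      have := hN.conj_mem p hp g⁻¹
      simpa using this
    have h2 := hv _ h1
    calc p • g • v = g • ((g⁻¹ * p * g) • v) := by
          rw [← mul_smul, ← mul_smul]
          congr 1
          group
      _ = g • v := by rw [h2]
  have hall : ∀ i, (Pi.single i 1 : Fin n → ZMod 2) ∈ F := by
    by_cases hn : n = 0
    · subst hn
      intro i
      exact i.elim0
    haveI : Fact (Nat.Prime 2) := ⟨Nat.prime_two⟩
    have hcard : 2 ∣ Nat.card (Fin n → ZMod 2) := by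
      rw [Nat.card_eq_fintype_card, Fintype.card_fun, ZMod.card, Fintype.card_fin]
      exact dvd_pow_self 2 hn
    have h0 : (0 : Fin n → ZMod 2) ∈ MulAction.fixedPoints P (Fin n → ZMod 2) :=
      fun p => smul_zero p
    obtain ⟨v, hv, hv0⟩ :=
      hP.exists_fixed_point_of_prime_dvd_card_of_fixed_point (Fin n → ZMod 2) hcard h0
    have hvF : v ∈ F := by
      rw [hFmem]
      intro p hp
      exact hv ⟨p, hp⟩
    obtain ⟨j, hj⟩ : ∃ j, v j ≠ 0 := by
      by_contra hcon
      push Not at hcon
      exact hv0 (funext fun j => (hcon j).symm)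
    have hj1 : v j = 1 := zmod_two_eq_one _ hj
    have hi : ∀ i, i ≠ j → (Pi.single i 1 : Fin n → ZMod 2) ∈ F := by
      intro i hij
      have h1 := hinv (Matrix.SpecialLinearGroup.transvection hij 1) v hvF
      have h2 : Matrix.SpecialLinearGroup.transvection hij (1 : ZMod 2) • v =
          v + Pi.single i 1 := by
        rw [Matrix.SpecialLinearGroup.smul_def, Matrix.SpecialLinearGroup.transvection_coe,
          Matrix.smul_eq_mulVec, Matrix.add_mulVec, Matrix.one_mulVec, Matrix.single_mulVec_eq,
          hj1, mul_one, one_smul]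
      rw [h2] at h1
      have := F.sub_mem h1 hvF
      simpa using this
    intro i
    by_cases hij : i = j
    · subst hij
      have hw : v - ∑ k ∈ Finset.univ.erase i, v k • (Pi.single k 1 : Fin n → ZMod 2) ∈ F := by
        apply F.sub_mem hvF
        apply F.sum_mem
        intro k hk
        exact F.smul_mem _ (hi k (Finset.ne_of_mem_erase hk))
      have he : v - ∑ k ∈ Finset.univ.erase i, v k • (Pi.single k 1 : Fin n → ZMod 2) =
          Pi.single i 1 := by
        funext m
        by_cases hm : m = i
        · subst hm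
          simp [Finset.sum_apply, Pi.single_apply, hj1]
        · simp [Finset.sum_apply, Pi.single_apply, hm]
      rw [he] at hw
      exact hw
    · exact hi i hij
  have htop : ∀ v : Fin n → ZMod 2, v ∈ F := by
    intro v
    rw [vec_eq_sum v]
    apply F.sum_mem
    intro i _
    exact F.smul_mem _ (hall i)
  rw [Subgroup.eq_bot_iff_forall]
  intro p hp
  apply Subtype.ext
  apply Matrix.mulVec_injective
  funext v
  have := (hFmem v).mp (htop v) p hp
  rw [Matrix.SpecialLinearGroup.smul_def, Matrix.smul_eq_mulVec] at this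
  rw [this]
  simp

end Cfsg.Agent.Lib.Helper7.TvCent
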