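import Mathlib
import Cfsg.Agent.Lib.Helper7.TvCent1
import Cfsg.Prelude.Def_Transfer

set_option autoImplicit false

/-! The centraliser of a transvection in `SL_{n+2}(2)`: group-level structure. -/

namespace Cfsg.Agent.Lib.Helper7.TvCent

open Matrix
open scoped commutatorElement

/-- the big group -/
abbrev SLbig (n : ℕ) := Matrix.SpecialLinearGroup (Fin (n + 2)) (ZMod 2)

/-- the small group -/
abbrev SLsmall (n : ℕ) := Matrix.SpecialLinearGroup (Fin n) (ZMod 2)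

variable (n : ℕ)

theorem zmod_two_cases : ∀ t : ZMod 2, t = 0 ∨ t = 1 := by decide

theorem zmod_two_ne_zero : ∀ x : ZMod 2, x ≠ 0 → x = 1 := by decide

theorem add_self_vec {n : ℕ} (a : Fin n → ZMod 2) : a + a = 0 := by
  funext i
  exact CharTwo.add_self_eq_zero (a i)

theorem bm_mul_one_one {n : ℕ} (a b a' b' : Fin n → ZMod 2) (c c' : ZMod 2) :
    bm (1 : Matrix (Fin n) (Fin n) (ZMod 2)) a b c * bm 1 a' b' c' =
      bm 1 (a + a') (b + b') (c + c' + a ⬝ᵥ b') := by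
  rw [bm_mul, mul_one, Matrix.vecMul_one, Matrix.one_mulVec, add_comm a' a]

theorem bm_mul_diag {n : ℕ} (A A' : Matrix (Fin n) (Fin n) (ZMod 2)) :
    bm A 0 0 0 * bm A' 0 0 0 = bm (A * A') 0 0 0 := by
  rw [bm_mul]
  simp

theorem submatrix_bm {n : ℕ} (A : Matrix (Fin n) (Fin n) (ZMod 2)) (a b : Fin n → ZMod 2)
    (c : ZMod 2) : (bm A a b c).submatrix sx sx = A := by
  ext k l
  simp

theorem hS_aux {n : ℕ} (a b : Fin n → ZMod 2) (c : ZMod 2) :
    bm (1 : Matrix (Fin n) (Fin n) (ZMod 2)) a b c * bm 1 a b (c + a ⬝ᵥ b) = 1 := by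
  rw [bm_mul_one_one, add_self_vec, add_self_vec]
  have : c + (c + a ⬝ᵥ b) + a ⬝ᵥ b = (c + c) + (a ⬝ᵥ b + a ⬝ᵥ b) := by ring
  rw [this, CharTwo.add_self_eq_zero, CharTwo.add_self_eq_zero, add_zero, bm_one]

/-- elements of the unipotent radical -/
def hS (a b : Fin n → ZMod 2) (c : ZMod 2) : SLbig n :=
  ⟨bm 1 a b c, det_eq_one_of_mul_eq_one (hS_aux a b c)⟩

@[simp] theorem hS_val (a b : Fin n → ZMod 2) (c : ZMod 2) : (hS n a b c).1 = bm 1 a b c := rfl

theorem hS_mul (a b a' b' : Fin n → ZMod 2) (c c' : ZMod 2) :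
    hS n a b c * hS n a' b' c' = hS n (a + a') (b + b') (c + c' + a ⬝ᵥ b') :=
  Subtype.ext (bm_mul_one_one a b a' b' c c')

theorem hS_one : hS n 0 0 0 = 1 := Subtype.ext bm_one

theorem hS_inv (a b : Fin n → ZMod 2) (c : ZMod 2) :
    (hS n a b c)⁻¹ = hS n a b (c + a ⬝ᵥ b) := by
  apply inv_eq_of_mul_eq_one_right
  exact Subtype.ext (hS_aux a b c)

theorem hS_inj {a b a' b' : Fin n → ZMod 2} {c c' : ZMod 2}
    (h : hS n a b c = hS n a' b' c') : a = a' ∧ b = b' ∧ c = c' := by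
  have := bm_inj (congrArg Subtype.val h)
  exact this.2

theorem sS_aux (A : SLsmall n) : bm A.1 0 0 0 * bm (A⁻¹).1 0 0 0 = 1 := by
  rw [bm_mul_diag, ← Matrix.SpecialLinearGroup.coe_mul, mul_inv_cancel,
    Matrix.SpecialLinearGroup.coe_one, bm_one]

/-- the Levi complement -/
def sS (A : SLsmall n) : SLbig n :=
  ⟨bm A.1 0 0 0, det_eq_one_of_mul_eq_one (sS_aux n A)⟩

@[simp] theorem sS_val (A : SLsmall n) : (sS n A).1 = bm A.1 0 0 0 := rfl

theorem sS_mul (A B : SLsmall n) : sS n (A * B) = sS n A * sS n B := by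
  apply Subtype.ext
  show bm (A * B).1 0 0 0 = bm A.1 0 0 0 * bm B.1 0 0 0
  rw [bm_mul_diag, Matrix.SpecialLinearGroup.coe_mul]

/-- the Levi complement as a homomorphism -/
def sHom : SLsmall n →* SLbig n := MonoidHom.mk' (sS n) (sS_mul n)

@[simp] theorem sHom_apply (A : SLsmall n) : sHom n A = sS n A := rfl

theorem sHom_injective : Function.Injective (sHom n) := by
  intro A B h
  have h1 : bm A.1 0 0 0 = bm B.1 0 0 0 := congrArg Subtype.val h
  exact Subtype.ext (bm_inj h1).1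

/-- the transvection -/
def zS : SLbig n := hS n 0 0 1

theorem zS_val : (zS n).1 = Matrix.transvection (0 : Fin (n + 2)) 1 (1 : ZMod 2) :=
  transvection_eq_bm.symm

/-- the centraliser of the transvection -/
def CS : Subgroup (SLbig n) := Subgroup.centralizer {zS n}

theorem mem_CS_iff (g : SLbig n) : g ∈ CS n ↔ ∃ A a b c, g.1 = bm A a b c := by
  constructor
  · intro hg
    have h1 : zS n * g = g * zS n := by
      have := Subgroup.mem_centralizer_iff.mp hg (zS n) (Set.mem_singleton _)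
      exact this
    have h2 : g.1 * Matrix.transvection (0 : Fin (n + 2)) 1 (1 : ZMod 2) =
        Matrix.transvection (0 : Fin (n + 2)) 1 (1 : ZMod 2) * g.1 := by
      rw [← zS_val]
      have := congrArg Subtype.val h1
      exact this.symm
    obtain ⟨hcol, hrow, h01⟩ := entries_of_commute h2
    have h00 : g.1 0 0 = 1 := by
      apply zmod_two_ne_zero
      intro h0
      have hdet : g.1.det = 0 := by
        apply Matrix.det_eq_zero_of_column_eq_zero 0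
        intro i
        by_cases hi : i = 0
        · rw [hi]; exact h0
        · exact hcol i hi
      rw [g.2] at hdet
      exact one_ne_zero hdet
    have h11 : g.1 1 1 = 1 := by rw [← h01]; exact h00
    exact ⟨_, _, _, _, eq_bm hcol hrow h00 h11⟩
  · rintro ⟨A, a, b, c, hg⟩
    unfold CS
    rw [Subgroup.mem_centralizer_iff]
    intro h hh
    rw [Set.mem_singleton_iff] at hh
    subst hh
    apply Subtype.ext
    show (zS n).1 * g.1 = g.1 * (zS n).1
    rw [hg]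
    show bm 1 0 0 1 * bm A a b c = bm A a b c * bm 1 0 0 1
    rw [bm_mul, bm_mul]
    simp [add_comm]

theorem hS_mem_CS (a b : Fin n → ZMod 2) (c : ZMod 2) : hS n a b c ∈ CS n :=
  (mem_CS_iff n _).mpr ⟨_, _, _, _, rfl⟩

theorem sS_mem_CS (A : SLsmall n) : sS n A ∈ CS n :=
  (mem_CS_iff n _).mpr ⟨_, _, _, _, rfl⟩

theorem Ap_mul (g h : ↥(CS n)) : (g * h).1.1.submatrix sx sx =
    g.1.1.submatrix sx sx * h.1.1.submatrix sx sx := by
  obtain ⟨A, a, b, c, hg⟩ := (mem_CS_iff n g.1).mp g.2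
  obtain ⟨A', a', b', c', hh⟩ := (mem_CS_iff n h.1).mp h.2
  have : (g * h).1.1 = g.1.1 * h.1.1 := rfl
  rw [this, hg, hh, bm_mul, submatrix_bm, submatrix_bm, submatrix_bm]

theorem Ap_one : ((1 : ↥(CS n)).1.1).submatrix sx sx = (1 : Matrix (Fin n) (Fin n) (ZMod 2)) := by
  have : ((1 : ↥(CS n)).1.1) = (1 : Matrix (Fin (n + 2)) (Fin (n + 2)) (ZMod 2)) := rfl
  rw [this, ← bm_one, submatrix_bm]

theorem Ap_det (g : ↥(CS n)) : (g.1.1.submatrix sx sx).det = 1 := by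
  apply det_eq_one_of_mul_eq_one (N := (g⁻¹).1.1.submatrix sx sx)
  rw [← Ap_mul, mul_inv_cancel, Ap_one]

/-- projection onto the Levi factor -/
def piS : ↥(CS n) →* SLsmall n :=
  MonoidHom.mk' (fun g => ⟨g.1.1.submatrix sx sx, Ap_det n g⟩)
    (fun g h => Subtype.ext (Ap_mul n g h))

theorem piS_val (g : ↥(CS n)) : (piS n g).1 = g.1.1.submatrix sx sx := rfl

theorem piS_sS (A : SLsmall n) : piS n ⟨sS n A, sS_mem_CS n A⟩ = A := by
  apply Subtype.ext
  rw [piS_val]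
  show (bm A.1 0 0 0).submatrix sx sx = A.1
  rw [submatrix_bm]

theorem piS_surjective : Function.Surjective (piS n) := fun A => ⟨_, piS_sS n A⟩

theorem mem_ker_piS (g : ↥(CS n)) : g ∈ (piS n).ker ↔ ∃ a b c, g.1 = hS n a b c := by
  rw [MonoidHom.mem_ker]
  constructor
  · intro h
    obtain ⟨A, a, b, c, hg⟩ := (mem_CS_iff n g.1).mp g.2
    have h1 : (piS n g).1 = 1 := by rw [h]; rfl
    rw [piS_val, hg, submatrix_bm] at h1
    refine ⟨a, b, c, Subtype.ext ?_⟩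
    rw [hg, h1]
    rfl
  · rintro ⟨a, b, c, hg⟩
    apply Subtype.ext
    rw [piS_val, hg]
    show (bm 1 a b c).submatrix sx sx = 1
    rw [submatrix_bm]

/-- the unipotent radical -/
def Qs : Subgroup (SLbig n) where
  carrier := {g | ∃ a b c, g = hS n a b c}
  one_mem' := ⟨0, 0, 0, (hS_one n).symm⟩
  mul_mem' := by
    rintro _ _ ⟨a, b, c, rfl⟩ ⟨a', b', c', rfl⟩
    exact ⟨_, _, _, hS_mul n a b a' b' c c'⟩
  inv_mem' := by
    rintro _ ⟨a, b, c, rfl⟩
    exact ⟨_, _, _, hS_inv n a b c⟩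

theorem mem_Qs (g : SLbig n) : g ∈ Qs n ↔ ∃ a b c, g = hS n a b c := Iff.rfl

/-- the centre of the unipotent radical -/
def Zs : Subgroup (SLbig n) where
  carrier := {g | ∃ c, g = hS n 0 0 c}
  one_mem' := ⟨0, (hS_one n).symm⟩
  mul_mem' := by
    rintro _ _ ⟨c, rfl⟩ ⟨c', rfl⟩
    refine ⟨c + c', ?_⟩
    rw [hS_mul]
    simp
  inv_mem' := by
    rintro _ ⟨c, rfl⟩
    refine ⟨c, ?_⟩
    rw [hS_inv]
    simp

theorem mem_Zs (g : SLbig n) : g ∈ Zs n ↔ ∃ c, g = hS n 0 0 c := Iff.rfl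

/-- an elementary abelian subgroup of order `2^(n+1)` -/
def Es : Subgroup (SLbig n) where
  carrier := {g | ∃ a c, g = hS n a 0 c}
  one_mem' := ⟨0, 0, (hS_one n).symm⟩
  mul_mem' := by
    rintro _ _ ⟨a, c, rfl⟩ ⟨a', c', rfl⟩
    refine ⟨a + a', c + c', ?_⟩
    rw [hS_mul]
    simp
  inv_mem' := by
    rintro _ ⟨a, c, rfl⟩
    refine ⟨a, c, ?_⟩
    rw [hS_inv]
    simp

theorem mem_Es (g : SLbig n) : g ∈ Es n ↔ ∃ a c, g = hS n a 0 c := Iff.rfl

theorem Zs_le_Qs : Zs n ≤ Qs n := by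
  rintro _ ⟨c, rfl⟩
  exact ⟨_, _, _, rfl⟩

theorem Es_le_Qs : Es n ≤ Qs n := by
  rintro _ ⟨a, c, rfl⟩
  exact ⟨_, _, _, rfl⟩

theorem Qs_le_CS : Qs n ≤ CS n := by
  rintro _ ⟨a, b, c, rfl⟩
  exact hS_mem_CS n a b c

theorem zS_mem_Zs : zS n ∈ Zs n := ⟨1, rfl⟩

theorem map_ker_piS : (piS n).ker.map (CS n).subtype = Qs n := by
  ext g
  rw [Subgroup.mem_map, mem_Qs]
  constructor
  · rintro ⟨x, hx, rfl⟩
    exact (mem_ker_piS n x).mp hx
  · rintro ⟨a, b, c, rfl⟩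
    exact ⟨⟨hS n a b c, hS_mem_CS n a b c⟩, (mem_ker_piS n _).mpr ⟨a, b, c, rfl⟩, rfl⟩

theorem card_Qs : Nat.card ↥(Qs n) = 2 ^ (2 * n + 1) := by
  have e : ((Fin n → ZMod 2) × (Fin n → ZMod 2) × ZMod 2) ≃ ↥(Qs n) :=
    Equiv.ofBijective (fun p => ⟨hS n p.1 p.2.1 p.2.2, ⟨_, _, _, rfl⟩⟩) (by
      constructor
      · rintro ⟨a, b, c⟩ ⟨a', b', c'⟩ h
        have := hS_inj n (congrArg Subtype.val h)
        simp only at this
        obtain ⟨h1, h2, h3⟩ := this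
        rw [h1, h2, h3]
      · rintro ⟨_, a, b, c, rfl⟩
        exact ⟨(a, b, c), rfl⟩)
  rw [← Nat.card_congr e, Nat.card_prod, Nat.card_prod, Nat.card_eq_fintype_card,
    Nat.card_eq_fintype_card, Fintype.card_fun, ZMod.card, Fintype.card_fin]
  ring

theorem card_Es : Nat.card ↥(Es n) = 2 ^ (n + 1) := by
  have e : ((Fin n → ZMod 2) × ZMod 2) ≃ ↥(Es n) :=
    Equiv.ofBijective (fun p => ⟨hS n p.1 0 p.2, ⟨_, _, rfl⟩⟩) (by
      constructor
      · rintro ⟨a, c⟩ ⟨a', c'⟩ h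
        have := hS_inj n (congrArg Subtype.val h)
        simp only at this
        obtain ⟨h1, _, h3⟩ := this
        rw [h1, h3]
      · rintro ⟨_, a, c, rfl⟩
        exact ⟨(a, c), rfl⟩)
  rw [← Nat.card_congr e, Nat.card_prod, Nat.card_eq_fintype_card,
    Nat.card_eq_fintype_card, Fintype.card_fun, ZMod.card, Fintype.card_fin]
  ring

theorem card_Zs : Nat.card ↥(Zs n) = 2 := by
  have e : ZMod 2 ≃ ↥(Zs n) :=
    Equiv.ofBijective (fun c => ⟨hS n 0 0 c, ⟨_, rfl⟩⟩) (by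
      constructor
      · intro c c' h
        exact (hS_inj n (congrArg Subtype.val h)).2.2
      · rintro ⟨_, c, rfl⟩
        exact ⟨c, rfl⟩)
  rw [← Nat.card_congr e, Nat.card_eq_fintype_card, ZMod.card]

theorem Es_elementary : Cfsg.IsElementaryAbelian 2 (Es n) := by
  refine ⟨⟨⟨?_⟩⟩, ?_⟩
  · rintro ⟨_, a, c, rfl⟩ ⟨_, a', c', rfl⟩
    apply Subtype.ext
    show hS n a 0 c * hS n a' 0 c' = hS n a' 0 c' * hS n a 0 c
    rw [hS_mul, hS_mul]
    simp [add_comm]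
  · rintro _ ⟨a, c, rfl⟩
    rw [pow_two, hS_mul, add_self_vec, add_self_vec, CharTwo.add_self_eq_zero]
    simp [hS_one]

end Cfsg.Agent.Lib.Helper7.TvCent
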