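import Mathlib
import Cfsg.Agent.Lib.Helper7.TvCent2
import Cfsg.Agent.Lib.Helper7.TvCent3
import Cfsg.Agent.Lib.Helper7.PCore
import Cfsg.Agent.Lib.Helper3.SympA
import Cfsg.Prelude.Def_MonsterType

set_option autoImplicit false

/-! The centraliser of a transvection in `SL_{n+2}(2)`: centralisers, extraspeciality, `O_2`. -/

namespace Cfsg.Agent.Lib.Helper7.TvCent

open Matrix
open scoped commutatorElement

variable (n : ℕ)

theorem vec_eq_zero_of_dot_left {n : ℕ} (b : Fin n → ZMod 2)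
    (h : ∀ a : Fin n → ZMod 2, a ⬝ᵥ b = 0) : b = 0 := by
  funext k
  have := h (Pi.single k 1)
  rw [single_dotProduct, one_mul] at this
  exact this

theorem vec_eq_zero_of_dot_right {n : ℕ} (a : Fin n → ZMod 2)
    (h : ∀ b : Fin n → ZMod 2, a ⬝ᵥ b = 0) : a = 0 := by
  funext k
  have := h (Pi.single k 1)
  rw [dotProduct_single, mul_one] at this
  exact this

theorem Zs_le_centralizer_Qs : Zs n ≤ Subgroup.centralizer (Qs n : Set (SLbig n)) := by
  rintro _ ⟨t, rfl⟩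
  rw [Subgroup.mem_centralizer_iff]
  rintro _ ⟨a, b, c, rfl⟩
  rw [hS_mul, hS_mul]
  simp [add_comm]

theorem centralizer_Qs : Subgroup.centralizer (Qs n : Set (SLbig n)) = Zs n := by
  apply le_antisymm _ (Zs_le_centralizer_Qs n)
  intro g hg
  rw [Subgroup.mem_centralizer_iff] at hg
  have hgC : g ∈ CS n := by
    unfold CS
    rw [Subgroup.mem_centralizer_iff]
    intro h hh
    rw [Set.mem_singleton_iff] at hh
    subst hh
    exact hg _ (Zs_le_Qs n (zS_mem_Zs n))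
  obtain ⟨A, a, b, c, hgv⟩ := (mem_CS_iff n g).mp hgC
  -- commuting with hS a' 0 0
  have h1 : ∀ a' : Fin n → ZMod 2, a' ᵥ* A = a' ∧ a' ⬝ᵥ b = 0 := by
    intro a'
    have := congrArg Subtype.val (hg (hS n a' 0 0) ⟨_, _, _, rfl⟩)
    have h2 : bm 1 a' 0 0 * bm A a b c = bm A a b c * bm 1 a' 0 0 := by
      rw [← hgv]; exact this
    rw [bm_mul, bm_mul] at h2
    obtain ⟨-, ha, -, hc⟩ := bm_inj h2
    constructor
    · have : a + a' ᵥ* A = a + a' := by
        rw [ha]; simp [add_comm]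
      exact add_left_cancel this
    · have : c + a' ⬝ᵥ b = c + 0 := by
        simpa using hc
      exact add_left_cancel this
  have h3 : ∀ b' : Fin n → ZMod 2, a ⬝ᵥ b' = 0 := by
    intro b'
    have := congrArg Subtype.val (hg (hS n 0 b' 0) ⟨_, _, _, rfl⟩)
    have h2 : bm 1 0 b' 0 * bm A a b c = bm A a b c * bm 1 0 b' 0 := by
      rw [← hgv]; exact this
    rw [bm_mul, bm_mul] at h2
    obtain ⟨-, -, -, hc⟩ := bm_inj h2
    have : c + 0 = c + a ⬝ᵥ b' := by
      simpa using hc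
    exact (add_left_cancel this).symm
  have hA : A = 1 := by
    ext k l
    have := congrFun (h1 (Pi.single k 1)).1 l
    rw [Matrix.single_one_vecMul] at this
    rw [Matrix.one_apply]
    simpa [Matrix.row, Pi.single_apply, eq_comm] using this
  have hb : b = 0 := vec_eq_zero_of_dot_left b (fun a' => (h1 a').2)
  have ha : a = 0 := vec_eq_zero_of_dot_right a h3
  refine ⟨c, Subtype.ext ?_⟩
  rw [hgv, hA, ha, hb]
  rfl

theorem center_map_Qs : (Subgroup.center ↥(Qs n)).map (Qs n).subtype = Zs n := by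
  ext x
  rw [Subgroup.mem_map]
  constructor
  · rintro ⟨y, hy, rfl⟩
    rw [← centralizer_Qs, Subgroup.mem_centralizer_iff]
    intro h hh
    have := (Subgroup.mem_center_iff.mp hy) ⟨h, hh⟩
    exact congrArg Subtype.val this
  · intro hx
    refine ⟨⟨x, Zs_le_Qs n hx⟩, ?_, rfl⟩
    rw [Subgroup.mem_center_iff]
    intro w
    apply Subtype.ext
    have := Zs_le_centralizer_Qs n hx
    rw [Subgroup.mem_centralizer_iff] at this
    exact this w.1 w.2

theorem mem_center_Qs (y : ↥(Qs n)) (hy : y.1 ∈ Zs n) : y ∈ Subgroup.center ↥(Qs n) := by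
  have : y.1 ∈ (Subgroup.center ↥(Qs n)).map (Qs n).subtype := by
    rw [center_map_Qs]; exact hy
  obtain ⟨w, hw, hwy⟩ := Subgroup.mem_map.mp this
  have : w = y := Subtype.ext hwy
  rw [← this]; exact hw

theorem card_center_Qs : Nat.card (Subgroup.center ↥(Qs n)) = 2 := by
  have e := (Subgroup.center ↥(Qs n)).equivMapOfInjective (Qs n).subtype
    (Subgroup.subtype_injective _)
  rw [Nat.card_congr e.toEquiv, center_map_Qs, card_Zs]

theorem comm_hS (a b a' b' : Fin n → ZMod 2) (c c' : ZMod 2) :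
    ⁅hS n a b c, hS n a' b' c'⁆ = hS n 0 0 (a ⬝ᵥ b' + a' ⬝ᵥ b) := by
  have h : hS n a b c * hS n a' b' c' =
      hS n 0 0 (a ⬝ᵥ b' + a' ⬝ᵥ b) * (hS n a' b' c' * hS n a b c) := by
    rw [hS_mul, hS_mul, hS_mul]
    have h1 : a + a' = 0 + (a' + a) := by rw [zero_add, add_comm]
    have h2 : b + b' = 0 + (b' + b) := by rw [zero_add, add_comm]
    have h3 : c + c' + a ⬝ᵥ b' =
        a ⬝ᵥ b' + a' ⬝ᵥ b + (c' + c + a' ⬝ᵥ b) + (0 : Fin n → ZMod 2) ⬝ᵥ (b' + b) := by
      rw [zero_dotProduct, add_zero]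
      have := CharTwo.add_self_eq_zero (a' ⬝ᵥ b)
      linear_combination (-1 : ZMod 2) * this
    rw [h1, h2, h3]
  rw [commutatorElement_def, h]
  group

theorem isPGroup_Qs : IsPGroup 2 ↥(Qs n) := IsPGroup.of_card (card_Qs n)

theorem extraspecial_Qs (hn : 1 ≤ n) : Cfsg.IsExtraspecial 2 ↥(Qs n) := by
  haveI : Fact (Nat.Prime 2) := ⟨Nat.prime_two⟩
  haveI : Finite ↥(Qs n) := inferInstance
  apply Cfsg.Agent.Lib.Helper3.Symp.isExtraspecial_of (isPGroup_Qs n) (card_center_Qs n)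
  · let k0 : Fin n := ⟨0, by omega⟩
    refine ⟨⟨hS n (Pi.single k0 1) 0 0, ⟨_, _, _, rfl⟩⟩, ⟨hS n 0 (Pi.single k0 1) 0, ⟨_, _, _, rfl⟩⟩, ?_⟩
    intro h
    have h1 := congrArg Subtype.val h
    have h2 : hS n (Pi.single k0 1) 0 0 * hS n 0 (Pi.single k0 1) 0 =
        hS n 0 (Pi.single k0 1) 0 * hS n (Pi.single k0 1) 0 0 := h1
    rw [hS_mul, hS_mul] at h2
    have h3 := (hS_inj n h2).2.2
    rw [single_dotProduct, zero_dotProduct] at h3
    simp at h3
  · rintro ⟨_, a, b, c, rfl⟩ ⟨_, a', b', c', rfl⟩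
    apply mem_center_Qs
    show ⁅hS n a b c, hS n a' b' c'⁆ ∈ Zs n
    rw [comm_hS]
    exact ⟨_, rfl⟩
  · rintro ⟨_, a, b, c, rfl⟩
    apply mem_center_Qs
    show (hS n a b c) ^ 2 ∈ Zs n
    rw [pow_two, hS_mul, add_self_vec, add_self_vec]
    exact ⟨_, rfl⟩

/-- `O_2` of the centraliser -/
theorem pCore_CS : Cfsg.pCore 2 ↥(CS n) = (piS n).ker := by
  apply le_antisymm
  · intro x hx
    have h1 : ((Cfsg.pCore 2 ↥(CS n)).map (piS n)) = ⊥ := by
      apply normal_two_subgroup_SL_eq_bot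
      · exact (Cfsg.Agent.Lib.Helper7.pCore_normal 2 ↥(CS n)).map (piS n) (piS_surjective n)
      · exact (Cfsg.Agent.Lib.Helper7.pCore_isPGroup 2 ↥(CS n)).map (piS n)
    have h2 : piS n x ∈ (Cfsg.pCore 2 ↥(CS n)).map (piS n) := Subgroup.mem_map_of_mem _ hx
    rw [h1, Subgroup.mem_bot] at h2
    exact MonoidHom.mem_ker.mpr h2
  · apply Cfsg.Agent.Lib.Helper7.le_pCore (MonoidHom.normal_ker (piS n))
    have e := (piS n).ker.equivMapOfInjective (CS n).subtype (Subgroup.subtype_injective _)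
    have h1 : IsPGroup 2 ↥((piS n).ker.map (CS n).subtype) := by
      rw [map_ker_piS]; exact isPGroup_Qs n
    exact h1.of_equiv e.symm

theorem pCore_map : (Cfsg.pCore 2 ↥(CS n)).map (CS n).subtype = Qs n := by
  rw [pCore_CS, map_ker_piS]

theorem CS_le_normalizer_Qs : CS n ≤ Subgroup.normalizer (Qs n : Set (SLbig n)) := by
  have key : ∀ g ∈ CS n, ∀ h ∈ Qs n, g * h * g⁻¹ ∈ Qs n := by
    intro g hg h hh
    have hhC : h ∈ CS n := Qs_le_CS n hh
    have h1 : (⟨h, hhC⟩ : ↥(CS n)) ∈ (piS n).ker := by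
      rw [mem_ker_piS]; exact hh
    have h2 := (MonoidHom.normal_ker (piS n)).conj_mem _ h1 ⟨g, hg⟩
    rw [mem_ker_piS] at h2
    exact h2
  intro g hg
  rw [Subgroup.mem_normalizer_iff]
  intro h
  constructor
  · exact key g hg h
  · intro hh
    have := key g⁻¹ (Subgroup.inv_mem _ hg) _ hh
    have e : g⁻¹ * (g * h * g⁻¹) * g⁻¹⁻¹ = h := by group
    rw [e] at this
    exact this

theorem centralizer_Zs_le : Subgroup.centralizer (Zs n : Set (SLbig n)) ≤
    Subgroup.normalizer (Qs n : Set (SLbig n)) := by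
  refine le_trans ?_ (CS_le_normalizer_Qs n)
  unfold CS
  apply Subgroup.centralizer_le
  intro x hx
  rw [Set.mem_singleton_iff] at hx
  rw [hx]
  exact zS_mem_Zs n

theorem Qs_inf_range : Qs n ⊓ (sHom n).range = ⊥ := by
  rw [Subgroup.eq_bot_iff_forall]
  rintro g ⟨⟨a, b, c, rfl⟩, ⟨A, hA⟩⟩
  have h1 : bm A.1 0 0 0 = bm 1 a b c := congrArg Subtype.val hA
  obtain ⟨hA1, ha, hb, hc⟩ := bm_inj h1
  rw [← ha, ← hb, ← hc]
  exact hS_one n

theorem range_le_CS : (sHom n).range ≤ CS n := by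
  rintro _ ⟨A, rfl⟩
  exact sS_mem_CS n A

theorem Qs_sup_range : Qs n ⊔ (sHom n).range = CS n := by
  apply le_antisymm (sup_le (Qs_le_CS n) (range_le_CS n))
  intro g hg
  have h1 : (⟨g, hg⟩ : ↥(CS n)) * (⟨sS n (piS n ⟨g, hg⟩), sS_mem_CS n _⟩ : ↥(CS n))⁻¹ ∈
      (piS n).ker := by
    rw [MonoidHom.mem_ker, map_mul, map_inv, piS_sS, mul_inv_cancel]
  rw [mem_ker_piS] at h1
  have h2 : g = (g * (sS n (piS n ⟨g, hg⟩))⁻¹) * sS n (piS n ⟨g, hg⟩) := by group
  rw [h2]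
  apply Subgroup.mul_mem_sup
  · exact h1
  · exact ⟨_, rfl⟩

/-- the conjugating element -/
def tS (k0 : Fin n) : SLbig n := Matrix.SpecialLinearGroup.transvection (one_ne_sx k0) 1

theorem tS_conj (k0 : Fin n) : tS n k0 * zS n * (tS n k0)⁻¹ = hS n (Pi.single k0 1) 0 1 := by
  rw [mul_inv_eq_iff_eq_mul]
  apply Subtype.ext
  show (1 + Matrix.single (1 : Fin (n + 2)) (sx k0) (1 : ZMod 2)) * (zS n).1 =
    bm 1 (Pi.single k0 1) 0 1 * (1 + Matrix.single (1 : Fin (n + 2)) (sx k0) (1 : ZMod 2))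
  rw [zS_val]
  exact conj_transvection k0

theorem tS_not_mem (k0 : Fin n) : tS n k0 ∉ Subgroup.normalizer (Zs n : Set (SLbig n)) := by
  intro h
  rw [Subgroup.mem_normalizer_iff] at h
  have h1 := (h (zS n)).mp (zS_mem_Zs n)
  rw [tS_conj] at h1
  obtain ⟨t, ht⟩ := h1
  have h2 := (hS_inj n ht).1
  have h3 := congrFun h2 k0
  simp at h3

theorem tS_map_le (k0 : Fin n) :
    (Zs n).map (MulAut.conj (tS n k0)).toMonoidHom ≤ Qs n := by
  rintro _ ⟨_, ⟨t, rfl⟩, rfl⟩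
  show tS n k0 * hS n 0 0 t * (tS n k0)⁻¹ ∈ Qs n
  rcases zmod_two_cases t with rfl | rfl
  · rw [hS_one, mul_one, mul_inv_cancel]
    exact Subgroup.one_mem _
  · have := tS_conj n k0
    unfold zS at this
    rw [this]
    exact ⟨_, _, _, rfl⟩

end Cfsg.Agent.Lib.Helper7.TvCent
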