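import Mathlib
import Cfsg.Agent.Lib.Helper7.TvCent4
import Cfsg.Agent.Lib.Helper7.TvAff1

set_option autoImplicit false

/-! The affine holomorph `E_{2^{n+1}} ⋊ GL_{n+1}(2)`: an isomorphism from the transvection
centraliser of `SL_{n+2}(2)` onto the centraliser of a translation. -/

namespace Cfsg.Agent.Lib.Helper7.TvAff

open Matrix
open Cfsg.Agent.Lib.Helper7.TvCent

/-- the coordinate space -/
abbrev Vn (n : ℕ) := Fin (n + 1) → ZMod 2

section phi

variable {n : ℕ}

theorem tail_add (v w : Vn n) : Fin.tail (v + w) = Fin.tail v + Fin.tail w := rfl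

theorem tail_zero : Fin.tail (0 : Vn n) = 0 := rfl

theorem cons_add (x y : ZMod 2) (p q : Fin n → ZMod 2) :
    (Fin.cons (x + y) (p + q) : Vn n) = (Fin.cons x p : Vn n) + (Fin.cons y q : Vn n) := by
  funext i
  refine Fin.cases ?_ (fun k => ?_) i
  · simp
  · simp

theorem cons_zero_zero : (Fin.cons 0 0 : Vn n) = 0 := by
  funext i
  refine Fin.cases ?_ (fun k => ?_) i
  · simp
  · simp

theorem cons_one_zero : (Fin.cons 1 0 : Vn n) = Pi.single 0 1 := by
  funext i
  refine Fin.cases ?_ (fun k => ?_) i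
  · simp
  · simp [Pi.single_eq_of_ne (Fin.succ_ne_zero k)]

theorem tail_single_zero : Fin.tail (Pi.single 0 1 : Vn n) = 0 := by
  funext k
  show (Pi.single 0 1 : Vn n) k.succ = 0
  exact Pi.single_eq_of_ne (Fin.succ_ne_zero k) 1

theorem tail_single_succ (l : Fin n) :
    Fin.tail (Pi.single l.succ 1 : Vn n) = (Pi.single l 1 : Fin n → ZMod 2) := by
  funext k
  show (Pi.single l.succ 1 : Vn n) k.succ = (Pi.single l 1 : Fin n → ZMod 2) k
  rw [Pi.single_apply, Pi.single_apply]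
  simp [Fin.succ_inj]

/-- the additive endomorphism `[[1, a], [0, A]]` -/
def phi (a : Fin n → ZMod 2) (A : Matrix (Fin n) (Fin n) (ZMod 2)) : Vn n →+ Vn n where
  toFun v := (Fin.cons (v 0 + a ⬝ᵥ Fin.tail v) (A *ᵥ Fin.tail v) : Vn n)
  map_zero' := by
    rw [tail_zero, dotProduct_zero, Matrix.mulVec_zero]
    simp [cons_zero_zero]
  map_add' := by
    intro v w
    rw [tail_add, dotProduct_add, Matrix.mulVec_add, ← cons_add]
    congr 1
    simp only [Pi.add_apply]
    ring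

theorem phi_apply (a : Fin n → ZMod 2) (A : Matrix (Fin n) (Fin n) (ZMod 2)) (v : Vn n) :
    phi a A v = (Fin.cons (v 0 + a ⬝ᵥ Fin.tail v) (A *ᵥ Fin.tail v) : Vn n) := rfl

theorem phi_comp (a a' : Fin n → ZMod 2) (A A' : Matrix (Fin n) (Fin n) (ZMod 2)) (v : Vn n) :
    phi a A (phi a' A' v) = phi (a' + a ᵥ* A') (A * A') v := by
  rw [phi_apply, phi_apply, phi_apply]
  simp only [Fin.cons_zero, Fin.tail_cons]
  rw [Matrix.mulVec_mulVec, add_dotProduct, Matrix.dotProduct_mulVec, add_assoc]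

theorem phi_one (v : Vn n) : phi (0 : Fin n → ZMod 2) 1 v = v := by
  rw [phi_apply, zero_dotProduct, add_zero, Matrix.one_mulVec, Fin.cons_self_tail]

theorem phi_single_zero (a : Fin n → ZMod 2) (A : Matrix (Fin n) (Fin n) (ZMod 2)) :
    phi a A (Pi.single 0 1) = Pi.single 0 1 := by
  rw [phi_apply, tail_single_zero, dotProduct_zero, Matrix.mulVec_zero, add_zero,
    Pi.single_eq_same, cons_one_zero]

theorem phi_single_succ (a : Fin n → ZMod 2) (A : Matrix (Fin n) (Fin n) (ZMod 2)) (l : Fin n) :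
    phi a A (Pi.single l.succ 1) = (Fin.cons (a l) (fun k => A k l) : Vn n) := by
  rw [phi_apply, tail_single_succ, dotProduct_single, mul_one, Matrix.mulVec_single_one,
    Pi.single_eq_of_ne (Fin.succ_ne_zero l).symm, zero_add]
  rfl

theorem phi_inj {a a' : Fin n → ZMod 2} {A A' : Matrix (Fin n) (Fin n) (ZMod 2)}
    (h : ∀ v, phi a A v = phi a' A' v) : a = a' ∧ A = A' := by
  constructor
  · funext l
    have := congrFun (h (Pi.single l.succ 1)) 0
    rw [phi_single_succ, phi_single_succ] at this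
    simpa using this
  · ext k l
    have := congrFun (h (Pi.single l.succ 1)) k.succ
    rw [phi_single_succ, phi_single_succ] at this
    simpa using this

theorem sl_inv_mul (A : SLsmall n) : (A⁻¹).1 * A.1 = 1 := by
  rw [← Matrix.SpecialLinearGroup.coe_mul, inv_mul_cancel, Matrix.SpecialLinearGroup.coe_one]

theorem sl_mul_inv (A : SLsmall n) : A.1 * (A⁻¹).1 = 1 := by
  rw [← Matrix.SpecialLinearGroup.coe_mul, mul_inv_cancel, Matrix.SpecialLinearGroup.coe_one]

/-- the additive automorphism `[[1, a], [0, A]]` -/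
def phiE (a : Fin n → ZMod 2) (A : SLsmall n) : Vn n ≃+ Vn n where
  toFun := phi a A.1
  invFun := phi (a ᵥ* (A⁻¹).1) (A⁻¹).1
  left_inv := by
    intro v
    rw [phi_comp, Matrix.vecMul_vecMul, sl_inv_mul, Matrix.vecMul_one, add_self_vec, phi_one]
  right_inv := by
    intro v
    rw [phi_comp, sl_mul_inv, add_self_vec, phi_one]
  map_add' := (phi a A.1).map_add

theorem phiE_apply (a : Fin n → ZMod 2) (A : SLsmall n) (v : Vn n) :
    phiE a A v = phi a A.1 v := rfl

theorem phiE_trans (a a' : Fin n → ZMod 2) (A A' : SLsmall n) :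
    (phiE a' A').trans (phiE a A) = phiE (a' + a ᵥ* A'.1) (A * A') := by
  apply AddEquiv.ext
  intro v
  show phi a A.1 (phi a' A'.1 v) = phi (a' + a ᵥ* A'.1) (A * A').1 v
  rw [phi_comp, Matrix.SpecialLinearGroup.coe_mul]

/-- general element of the transvection centraliser -/
def bS (n : ℕ) (A : SLsmall n) (a b : Fin n → ZMod 2) (c : ZMod 2) : SLbig n :=
  hS n (a ᵥ* (A⁻¹).1) b c * sS n A

theorem bS_val (A : SLsmall n) (a b : Fin n → ZMod 2) (c : ZMod 2) :
    (bS n A a b c).1 = bm A.1 a b c := by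
  show bm 1 (a ᵥ* (A⁻¹).1) b c * bm A.1 0 0 0 = bm A.1 a b c
  rw [bm_mul, Matrix.vecMul_vecMul, sl_inv_mul]
  simp

theorem bS_mem (A : SLsmall n) (a b : Fin n → ZMod 2) (c : ZMod 2) : bS n A a b c ∈ CS n :=
  (mem_CS_iff n _).mpr ⟨_, _, _, _, bS_val A a b c⟩

/-- parameter extraction -/
def aOf (x : SLbig n) : Fin n → ZMod 2 := fun l => x.1 0 (sx l)

/-- parameter extraction -/
def bOf (x : SLbig n) : Fin n → ZMod 2 := fun k => x.1 (sx k) 1

/-- parameter extraction -/
def cOf (x : SLbig n) : ZMod 2 := x.1 0 1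

theorem val_eq_bm (x : ↥(CS n)) :
    x.1.1 = bm (piS n x).1 (aOf x.1) (bOf x.1) (cOf x.1) := by
  obtain ⟨A, a, b, c, h⟩ := (mem_CS_iff n x.1).mp x.2
  have h1 : (piS n x).1 = A := by rw [piS_val, h, submatrix_bm]
  have h2 : aOf x.1 = a := by
    funext l
    show x.1.1 0 (sx l) = a l
    rw [h]; simp
  have h3 : bOf x.1 = b := by
    funext k
    show x.1.1 (sx k) 1 = b k
    rw [h]; simp
  have h4 : cOf x.1 = c := by
    show x.1.1 0 1 = c
    rw [h]; simp
  rw [h1, h2, h3, h4, h]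

theorem params_of_val {x : ↥(CS n)} {A : SLsmall n} {a b : Fin n → ZMod 2} {c : ZMod 2}
    (h : x.1.1 = bm A.1 a b c) :
    piS n x = A ∧ aOf x.1 = a ∧ bOf x.1 = b ∧ cOf x.1 = c := by
  have h1 := val_eq_bm x
  rw [h] at h1
  obtain ⟨e1, e2, e3, e4⟩ := bm_inj h1
  exact ⟨(Subtype.ext e1).symm, e2.symm, e3.symm, e4.symm⟩

theorem params_mul (x y : ↥(CS n)) :
    aOf (x * y).1 = aOf y.1 + aOf x.1 ᵥ* (piS n y).1 ∧
    bOf (x * y).1 = bOf x.1 + (piS n x).1 *ᵥ bOf y.1 ∧
    cOf (x * y).1 = cOf x.1 + cOf y.1 + aOf x.1 ⬝ᵥ bOf y.1 := by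
  have h : (x * y).1.1 = bm ((piS n x) * (piS n y)).1 (aOf y.1 + aOf x.1 ᵥ* (piS n y).1)
      (bOf x.1 + (piS n x).1 *ᵥ bOf y.1) (cOf x.1 + cOf y.1 + aOf x.1 ⬝ᵥ bOf y.1) := by
    have : (x * y).1.1 = x.1.1 * y.1.1 := rfl
    rw [this, val_eq_bm x, val_eq_bm y, bm_mul, Matrix.SpecialLinearGroup.coe_mul]
  exact (params_of_val h).2

end phi

section construct

variable {G : Type*} [Group G] {n : ℕ} {U M : Subgroup G}
  (f : Additive ↥U ≃+ Vn n)

/-- the translation by `v` -/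
def tau (v : Vn n) : G := ((Additive.toMul (f.symm v) : ↥U) : G)

theorem tau_mem (v : Vn n) : tau f v ∈ U := (Additive.toMul (f.symm v)).2

theorem tau_add (v w : Vn n) : tau f (v + w) = tau f v * tau f w := by
  unfold tau
  rw [map_add]
  rfl

theorem tau_zero : tau f 0 = 1 := by
  unfold tau
  rw [map_zero]
  rfl

theorem tau_injective : Function.Injective (tau f) := by
  intro v w h
  have h1 : (Additive.toMul (f.symm v) : ↥U) = Additive.toMul (f.symm w) := Subtype.ext h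
  exact f.symm.injective (Additive.toMul.injective h1)

theorem tau_f (u : ↥U) : tau f (f (Additive.ofMul u)) = u := by
  unfold tau
  rw [AddEquiv.symm_apply_apply]
  rfl

theorem exists_tau {u : G} (hu : u ∈ U) : ∃ v, tau f v = u :=
  ⟨f (Additive.ofMul ⟨u, hu⟩), tau_f f ⟨u, hu⟩⟩

theorem tau_comm (v w : Vn n) : tau f v * tau f w = tau f w * tau f v := by
  rw [← tau_add, ← tau_add, add_comm]

theorem tau_inv (v : Vn n) : (tau f v)⁻¹ = tau f v := by
  rw [inv_eq_iff_mul_eq_one, ← tau_add, add_self_vec', tau_zero]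
where
  add_self_vec' : v + v = 0 := by
    funext i
    exact CharTwo.add_self_eq_zero (v i)

/-- the automorphism of `U` attached to an additive automorphism of the coordinate space -/
def autOf (φ : Vn n ≃+ Vn n) : ↥U ≃* ↥U :=
  MulEquiv.toAdditive.symm (f.trans (φ.trans f.symm))

theorem autOf_tau (φ : Vn n ≃+ Vn n) (v : Vn n) :
    ((autOf f φ ⟨tau f v, tau_mem f v⟩ : ↥U) : G) = tau f (φ v) := by
  have h1 : (⟨tau f v, tau_mem f v⟩ : ↥U) = Additive.toMul (f.symm v) := rfl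
  rw [h1]
  show ((Additive.toMul (f.symm (φ (f (Additive.ofMul (Additive.toMul (f.symm v)))))) : ↥U) : G) = _
  rw [ofMul_toMul, AddEquiv.apply_symm_apply]
  rfl

variable (hfull : ∀ φ : ↥U ≃* ↥U, ∃ m ∈ M, ∀ u : ↥U, ((φ u : ↥U) : G) = m * u * m⁻¹)

/-- the element of `M` inducing a given automorphism -/
noncomputable def mOf (φ : Vn n ≃+ Vn n) : G := Classical.choose (hfull (autOf f φ))

theorem mOf_mem (φ : Vn n ≃+ Vn n) : mOf f hfull φ ∈ M :=
  (Classical.choose_spec (hfull (autOf f φ))).1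

theorem mOf_conj (φ : Vn n ≃+ Vn n) (v : Vn n) :
    mOf f hfull φ * tau f v * (mOf f hfull φ)⁻¹ = tau f (φ v) := by
  have := (Classical.choose_spec (hfull (autOf f φ))).2 ⟨tau f v, tau_mem f v⟩
  rw [autOf_tau] at this
  exact this.symm

variable (hfaith : ∀ m ∈ M, (∀ u ∈ U, m * u * m⁻¹ = u) → m = 1)

include hfaith in
theorem mOf_unique {φ : Vn n ≃+ Vn n} {m : G} (hm : m ∈ M)
    (h : ∀ v, m * tau f v * m⁻¹ = tau f (φ v)) : m = mOf f hfull φ := by
  have h1 : (mOf f hfull φ)⁻¹ * m = 1 := by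
    apply hfaith _ (M.mul_mem (M.inv_mem (mOf_mem f hfull φ)) hm)
    intro u hu
    obtain ⟨v, rfl⟩ := exists_tau f hu
    have e1 := h v
    have e2 := mOf_conj f hfull φ v
    have e3 : (mOf f hfull φ)⁻¹ * m * tau f v * ((mOf f hfull φ)⁻¹ * m)⁻¹ =
        (mOf f hfull φ)⁻¹ * (m * tau f v * m⁻¹) * mOf f hfull φ := by group
    rw [e3, e1, ← e2]
    group
  exact (inv_mul_eq_one.mp h1).symm

include hfaith in
theorem mOf_mul (φ ψ : Vn n ≃+ Vn n) :
    mOf f hfull ψ * mOf f hfull φ = mOf f hfull (φ.trans ψ) := by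
  apply mOf_unique f hfull hfaith (M.mul_mem (mOf_mem f hfull ψ) (mOf_mem f hfull φ))
  intro v
  have e3 : mOf f hfull ψ * mOf f hfull φ * tau f v * (mOf f hfull ψ * mOf f hfull φ)⁻¹ =
      mOf f hfull ψ * (mOf f hfull φ * tau f v * (mOf f hfull φ)⁻¹) * (mOf f hfull ψ)⁻¹ := by
    group
  rw [e3, mOf_conj, mOf_conj]
  rfl

/-- the image of a parametrised element -/
noncomputable def PsiP (A : SLsmall n) (a b : Fin n → ZMod 2) (c : ZMod 2) : G :=
  tau f (Fin.cons c b : Vn n) * mOf f hfull (phiE a A)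

include hfaith in
theorem PsiP_mul (A A' : SLsmall n) (a b a' b' : Fin n → ZMod 2) (c c' : ZMod 2) :
    PsiP f hfull A a b c * PsiP f hfull A' a' b' c' =
      PsiP f hfull (A * A') (a' + a ᵥ* A'.1) (b + A.1 *ᵥ b') (c + c' + a ⬝ᵥ b') := by
  unfold PsiP
  have e1 : tau f (Fin.cons c b : Vn n) * mOf f hfull (phiE a A) *
      (tau f (Fin.cons c' b' : Vn n) * mOf f hfull (phiE a' A')) =
      tau f (Fin.cons c b : Vn n) *
        (mOf f hfull (phiE a A) * tau f (Fin.cons c' b' : Vn n) * (mOf f hfull (phiE a A))⁻¹) *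
        (mOf f hfull (phiE a A) * mOf f hfull (phiE a' A')) := by group
  rw [e1, mOf_conj, mOf_mul f hfull hfaith, phiE_trans, ← tau_add]
  congr 2
  rw [phiE_apply, phi_apply, ← cons_add]
  simp only [Fin.cons_zero, Fin.tail_cons]
  rw [add_assoc]

/-- the isomorphism onto the centraliser, as a function -/
noncomputable def PsiFun (x : ↥(CS n)) : G :=
  PsiP f hfull (piS n x) (aOf x.1) (bOf x.1) (cOf x.1)

include hfaith in
theorem PsiFun_mul (x y : ↥(CS n)) :
    PsiFun f hfull (x * y) = PsiFun f hfull x * PsiFun f hfull y := by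
  unfold PsiFun
  obtain ⟨h1, h2, h3⟩ := params_mul x y
  rw [PsiP_mul f hfull hfaith, h1, h2, h3, map_mul]

/-- the isomorphism onto the centraliser -/
noncomputable def Psi : ↥(CS n) →* G :=
  MonoidHom.mk' (PsiFun f hfull) (PsiFun_mul f hfull hfaith)

theorem Psi_apply (x : ↥(CS n)) : Psi f hfull hfaith x = PsiFun f hfull x := rfl

theorem Psi_of_val {x : ↥(CS n)} {A : SLsmall n} {a b : Fin n → ZMod 2} {c : ZMod 2}
    (h : x.1.1 = bm A.1 a b c) : Psi f hfull hfaith x = PsiP f hfull A a b c := by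
  obtain ⟨h1, h2, h3, h4⟩ := params_of_val h
  rw [Psi_apply]
  unfold PsiFun
  rw [h1, h2, h3, h4]

end construct

end Cfsg.Agent.Lib.Helper7.TvAff
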