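import Mathlib
import Cfsg.Agent.Lib.Helper7.TvAff2

set_option autoImplicit false

/-! The affine holomorph: injectivity and range of `Psi`, and transport of the structure of the
transvection centraliser along an injective homomorphism. -/

namespace Cfsg.Agent.Lib.Helper7.TvAff

open Matrix
open Cfsg.Agent.Lib.Helper7.TvCent

section construct

variable {G : Type*} [Group G] {n : ℕ} {U M : Subgroup G}
  (f : Additive ↥U ≃+ Vn n)
  (hfull : ∀ φ : ↥U ≃* ↥U, ∃ m ∈ M, ∀ u : ↥U, ((φ u : ↥U) : G) = m * u * m⁻¹)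
  (hfaith : ∀ m ∈ M, (∀ u ∈ U, m * u * m⁻¹ = u) → m = 1)

include hfaith in
theorem mOf_refl : mOf f hfull (phiE (0 : Fin n → ZMod 2) 1) = 1 := by
  symm
  apply mOf_unique f hfull hfaith M.one_mem
  intro v
  rw [phiE_apply]
  have : ((1 : SLsmall n).1) = (1 : Matrix (Fin n) (Fin n) (ZMod 2)) := rfl
  rw [this, phi_one]
  group

include hfaith in
theorem PsiP_unip (b : Fin n → ZMod 2) (c : ZMod 2) :
    PsiP f hfull 1 0 b c = tau f (Fin.cons c b : Vn n) := by
  unfold PsiP
  rw [mOf_refl f hfull hfaith, mul_one]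

include hfaith in
theorem Psi_hS_zero (b : Fin n → ZMod 2) (c : ZMod 2) :
    Psi f hfull hfaith ⟨hS n 0 b c, hS_mem_CS n 0 b c⟩ = tau f (Fin.cons c b : Vn n) := by
  rw [Psi_of_val f hfull hfaith (A := 1) (a := 0) (b := b) (c := c) rfl,
    PsiP_unip f hfull hfaith]

include hfaith in
theorem Psi_zS : Psi f hfull hfaith ⟨zS n, hS_mem_CS n 0 0 1⟩ = tau f (Pi.single 0 1) := by
  have := Psi_hS_zero f hfull hfaith (0 : Fin n → ZMod 2) 1
  rw [cons_one_zero] at this
  exact this

include hfaith in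
theorem Psi_injective (hUM : U ⊓ M = ⊥) : Function.Injective (Psi f hfull hfaith) := by
  rw [injective_iff_map_eq_one]
  intro x hx
  rw [Psi_apply] at hx
  unfold PsiFun PsiP at hx
  have h1 : tau f (Fin.cons (cOf x.1) (bOf x.1) : Vn n) =
      (mOf f hfull (phiE (aOf x.1) (piS n x)))⁻¹ := eq_inv_of_mul_eq_one_left hx
  have h2 : tau f (Fin.cons (cOf x.1) (bOf x.1) : Vn n) ∈ U ⊓ M :=
    ⟨tau_mem f _, by rw [h1]; exact M.inv_mem (mOf_mem f hfull _)⟩
  rw [hUM, Subgroup.mem_bot] at h2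
  have hv0 : (Fin.cons (cOf x.1) (bOf x.1) : Vn n) = 0 :=
    tau_injective f (h2.trans (tau_zero f).symm)
  have hm1 : mOf f hfull (phiE (aOf x.1) (piS n x)) = 1 := by
    rw [h2, one_mul] at hx
    exact hx
  have h3 : ∀ w, phi (aOf x.1) (piS n x).1 w = phi (0 : Fin n → ZMod 2) 1 w := by
    intro w
    have := mOf_conj f hfull (phiE (aOf x.1) (piS n x)) w
    rw [hm1] at this
    rw [phi_one]
    apply tau_injective f
    rw [← phiE_apply, ← this]
    group
  obtain ⟨ha, hA⟩ := phi_inj h3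
  have hc : cOf x.1 = 0 := by
    have := congrFun hv0 0
    simpa using this
  have hb : bOf x.1 = 0 := by
    funext k
    have := congrFun hv0 k.succ
    simpa using this
  apply Subtype.ext
  apply Subtype.ext
  rw [val_eq_bm x, hA, ha, hb, hc]
  exact bm_one

theorem exists_params [hUn : U.Normal] (g : G)
    (hg : g * tau f (Pi.single 0 1) * g⁻¹ = tau f (Pi.single 0 1)) :
    ∃ (a : Fin n → ZMod 2) (A : Matrix (Fin n) (Fin n) (ZMod 2)),
      ∀ w, g * tau f w * g⁻¹ = tau f (phi a A w) := by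
  let ψ : Vn n →+ Vn n :=
    { toFun := fun w => f (Additive.ofMul ⟨g * tau f w * g⁻¹, hUn.conj_mem _ (tau_mem f w) g⟩)
      map_zero' := by
        have : (⟨g * tau f 0 * g⁻¹, hUn.conj_mem _ (tau_mem f 0) g⟩ : ↥U) = 1 :=
          Subtype.ext (by
            show g * tau f 0 * g⁻¹ = 1
            rw [tau_zero]; group)
        rw [this]
        simp
      map_add' := by
        intro w w'
        have : (⟨g * tau f (w + w') * g⁻¹, hUn.conj_mem _ (tau_mem f (w + w')) g⟩ : ↥U) =
            ⟨g * tau f w * g⁻¹, hUn.conj_mem _ (tau_mem f w) g⟩ *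
              ⟨g * tau f w' * g⁻¹, hUn.conj_mem _ (tau_mem f w') g⟩ :=
          Subtype.ext (by
            show g * tau f (w + w') * g⁻¹ = (g * tau f w * g⁻¹) * (g * tau f w' * g⁻¹)
            rw [tau_add]; group)
        rw [this, ofMul_mul, map_add] }
  have hψ : ∀ w, tau f (ψ w) = g * tau f w * g⁻¹ := fun w => tau_f f _
  refine ⟨fun l => ψ (Pi.single l.succ 1) 0,
    Matrix.of (fun k l => ψ (Pi.single l.succ 1) k.succ), ?_⟩
  intro w
  rw [← hψ]
  congr 1
  have key : ψ = phi (fun l => ψ (Pi.single l.succ 1) 0)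
      (Matrix.of (fun k l => ψ (Pi.single l.succ 1) k.succ)) := by
    apply AddMonoidHom.functions_ext
    intro i x
    rcases zmod_two_cases x with rfl | rfl
    · simp
    · refine Fin.cases ?_ (fun l => ?_) i
      · rw [phi_single_zero]
        apply tau_injective f
        rw [hψ, hg]
      · rw [phi_single_succ]
        funext j
        refine Fin.cases ?_ (fun k => ?_) j
        · simp
        · simp
  exact congrFun (congrArg DFunLike.coe key) w

include hfaith in
theorem range_Psi [hUn : U.Normal] (hUM' : U ⊔ M = ⊤) :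
    (Psi f hfull hfaith).range = Subgroup.centralizer {tau f (Pi.single 0 1)} := by
  apply le_antisymm
  · rintro _ ⟨x, rfl⟩
    rw [Subgroup.mem_centralizer_iff]
    intro h hh
    rw [Set.mem_singleton_iff] at hh
    subst hh
    rw [Psi_apply]
    unfold PsiFun PsiP
    have e1 := mOf_conj f hfull (phiE (aOf x.1) (piS n x)) (Pi.single 0 1)
    rw [phiE_apply, phi_single_zero] at e1
    have e2 : mOf f hfull (phiE (aOf x.1) (piS n x)) * tau f (Pi.single 0 1) =
        tau f (Pi.single 0 1) * mOf f hfull (phiE (aOf x.1) (piS n x)) :=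
      mul_inv_eq_iff_eq_mul.mp e1
    rw [← mul_assoc, tau_comm f (Pi.single 0 1), mul_assoc, ← e2, mul_assoc]
  · intro g hg
    have hg' : tau f (Pi.single 0 1) * g = g * tau f (Pi.single 0 1) :=
      Subgroup.mem_centralizer_iff.mp hg _ (Set.mem_singleton _)
    have hgtop : g ∈ U ⊔ M := by rw [hUM']; exact Subgroup.mem_top g
    obtain ⟨u, hu, m, hm, rfl⟩ := Subgroup.mem_sup_of_normal_left.mp hgtop
    obtain ⟨v, rfl⟩ := exists_tau f hu
    have e2 := tau_comm f (Pi.single 0 1) v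
    have hmz : m * tau f (Pi.single 0 1) * m⁻¹ = tau f (Pi.single 0 1) := by
      calc m * tau f (Pi.single 0 1) * m⁻¹
          = (tau f v)⁻¹ * (tau f v * m * tau f (Pi.single 0 1)) * m⁻¹ := by group
        _ = (tau f v)⁻¹ * (tau f (Pi.single 0 1) * (tau f v * m)) * m⁻¹ := by rw [hg']
        _ = (tau f v)⁻¹ * (tau f (Pi.single 0 1) * tau f v) := by group
        _ = (tau f v)⁻¹ * (tau f v * tau f (Pi.single 0 1)) := by rw [e2]
        _ = tau f (Pi.single 0 1) := by group
    have hmz' : m⁻¹ * tau f (Pi.single 0 1) * m⁻¹⁻¹ = tau f (Pi.single 0 1) := by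
      have : m⁻¹ * (m * tau f (Pi.single 0 1) * m⁻¹) * m⁻¹⁻¹ = tau f (Pi.single 0 1) := by
        group
      rw [hmz] at this
      exact this
    obtain ⟨a, A, hA⟩ := exists_params f m hmz
    obtain ⟨a', A', hA'⟩ := exists_params f m⁻¹ hmz'
    have hcomp : ∀ w, phi a A (phi a' A' w) = phi (0 : Fin n → ZMod 2) 1 w := by
      intro w
      rw [phi_one]
      apply tau_injective f
      rw [← hA, ← hA']
      group
    have hAA' : A * A' = 1 := by
      have := phi_inj (fun w => (phi_comp a a' A A' w).symm.trans (hcomp w))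
      exact this.2
    let AS : SLsmall n := ⟨A, det_eq_one_of_mul_eq_one hAA'⟩
    have hm_eq : m = mOf f hfull (phiE a AS) :=
      mOf_unique f hfull hfaith hm (fun w => by rw [hA w]; rfl)
    refine ⟨⟨bS n AS a (Fin.tail v) (v 0), bS_mem AS a (Fin.tail v) (v 0)⟩, ?_⟩
    rw [Psi_of_val f hfull hfaith (A := AS) (a := a) (b := Fin.tail v) (c := v 0)
      (bS_val AS a (Fin.tail v) (v 0))]
    unfold PsiP
    rw [Fin.cons_self_tail, ← hm_eq]

end construct

section transport

variable {G : Type*} [Group G] {n : ℕ} (ψ : ↥(CS n) →* G) (hinj : Function.Injective ψ)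

theorem pCore_map_equiv_le {K K' : Type*} [Group K] [Group K'] (p : ℕ) (e : K ≃* K') :
    (Cfsg.pCore p K).map e.toMonoidHom ≤ Cfsg.pCore p K' := by
  apply Cfsg.Agent.Lib.Helper7.le_pCore
  · exact Subgroup.Normal.map (Cfsg.Agent.Lib.Helper7.pCore_normal p K) _ e.surjective
  · exact (Cfsg.Agent.Lib.Helper7.pCore_isPGroup p K).map _

theorem pCore_map_equiv {H H' : Type*} [Group H] [Group H'] (p : ℕ) (e : H ≃* H') :
    (Cfsg.pCore p H).map e.toMonoidHom = Cfsg.pCore p H' := by
  apply le_antisymm (pCore_map_equiv_le p e)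
  intro x hx
  have h2 := pCore_map_equiv_le p e.symm ⟨x, hx, rfl⟩
  exact ⟨e.symm x, h2, by simp⟩

include hinj in
theorem pCore_range_map {C' : Subgroup G} (hrange : ψ.range = C') :
    (Cfsg.pCore 2 ↥C').map C'.subtype = (piS n).ker.map ψ := by
  let e₁ : ↥(CS n) ≃* ↥C' :=
    (MonoidHom.ofInjective hinj).trans (MulEquiv.subgroupCongr hrange)
  have h : C'.subtype.comp e₁.toMonoidHom = ψ := MonoidHom.ext (fun x => rfl)
  rw [← pCore_map_equiv 2 e₁, Subgroup.map_map, h, pCore_CS]

/-- elements of the image of the unipotent radical -/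
def qG (a b : Fin n → ZMod 2) (c : ZMod 2) : G := ψ ⟨hS n a b c, hS_mem_CS n a b c⟩

theorem mem_map_ker_iff (y : G) : y ∈ (piS n).ker.map ψ ↔ ∃ a b c, y = qG ψ a b c := by
  rw [Subgroup.mem_map]
  constructor
  · rintro ⟨x, hx, rfl⟩
    obtain ⟨a, b, c, h⟩ := (mem_ker_piS n x).mp hx
    refine ⟨a, b, c, ?_⟩
    unfold qG
    congr 1
    exact Subtype.ext h
  · rintro ⟨a, b, c, rfl⟩
    exact ⟨_, (mem_ker_piS n _).mpr ⟨a, b, c, rfl⟩, rfl⟩

/-- the isomorphism from the unipotent radical to its image -/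
noncomputable def equivQ : ↥(Qs n) ≃* ↥((piS n).ker.map ψ) :=
  ((MulEquiv.subgroupCongr (map_ker_piS n)).symm.trans
    ((piS n).ker.equivMapOfInjective (CS n).subtype (Subgroup.subtype_injective _)).symm).trans
    ((piS n).ker.equivMapOfInjective ψ hinj)

include hinj in
theorem extraspecial_image (hn : 1 ≤ n) : Cfsg.IsExtraspecial 2 ↥((piS n).ker.map ψ) := by
  haveI : Fact (Nat.Prime 2) := ⟨Nat.prime_two⟩
  exact isExtraspecial_of_mulEquiv (extraspecial_Qs n hn) (equivQ ψ hinj)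

include hinj in
theorem card_image : Nat.card ↥((piS n).ker.map ψ) = 2 ^ (2 * n + 1) := by
  rw [← Nat.card_congr (equivQ ψ hinj).toEquiv, card_Qs]

include hinj in
theorem centralizer_image {g : G} (hg : g ∈ ψ.range)
    (hc : ∀ y ∈ (piS n).ker.map ψ, y * g = g * y) : ∃ t, g = qG ψ 0 0 t := by
  obtain ⟨x, rfl⟩ := hg
  have hx : x.1 ∈ Subgroup.centralizer (Qs n : Set (SLbig n)) := by
    rw [Subgroup.mem_centralizer_iff]
    rintro _ ⟨a, b, c, rfl⟩
    have h1 := hc (qG ψ a b c) ((mem_map_ker_iff ψ _).mpr ⟨a, b, c, rfl⟩)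
    unfold qG at h1
    rw [← map_mul, ← map_mul] at h1
    have h2 := hinj h1
    exact congrArg Subtype.val h2
  rw [centralizer_Qs] at hx
  obtain ⟨t, ht⟩ := hx
  refine ⟨t, ?_⟩
  unfold qG
  congr 1
  exact Subtype.ext ht

theorem qG_central (t : ZMod 2) : ∀ y ∈ (piS n).ker.map ψ, y * qG ψ 0 0 t = qG ψ 0 0 t * y := by
  intro y hy
  obtain ⟨a, b, c, rfl⟩ := (mem_map_ker_iff ψ y).mp hy
  unfold qG
  rw [← map_mul, ← map_mul]
  congr 1
  apply Subtype.ext
  have := Zs_le_centralizer_Qs n (⟨t, rfl⟩ : hS n 0 0 t ∈ Zs n)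
  rw [Subgroup.mem_centralizer_iff] at this
  exact this _ ⟨a, b, c, rfl⟩

theorem range_le_normalizer :
    ψ.range ≤ Subgroup.normalizer (((piS n).ker.map ψ : Subgroup G) : Set G) := by
  have key : ∀ g ∈ ψ.range, ∀ y ∈ (piS n).ker.map ψ, g * y * g⁻¹ ∈ (piS n).ker.map ψ := by
    rintro _ ⟨x, rfl⟩ _ ⟨k, hk, rfl⟩
    refine ⟨x * k * x⁻¹, (MonoidHom.normal_ker (piS n)).conj_mem k hk x, ?_⟩
    rw [map_mul, map_mul, map_inv]
  intro g hg
  rw [Subgroup.mem_normalizer_iff]
  intro y
  constructor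
  · exact key g hg y
  · intro hy
    have := key g⁻¹ (Subgroup.inv_mem _ hg) _ hy
    have e : g⁻¹ * (g * y * g⁻¹) * g⁻¹⁻¹ = y := by group
    rw [e] at this
    exact this

/-- the Levi complement inside the centraliser -/
def sigma' (n : ℕ) : SLsmall n →* ↥(CS n) := (sHom n).codRestrict (CS n) (sS_mem_CS n)

theorem sigma'_injective : Function.Injective (sigma' n) := by
  intro A B h
  apply sHom_injective n
  exact congrArg Subtype.val h

theorem piS_sigma' (A : SLsmall n) : piS n (sigma' n A) = A := piS_sS n A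

theorem comp_range_le : (ψ.comp (sigma' n)).range ≤ ψ.range := by
  rintro _ ⟨A, rfl⟩
  exact ⟨_, rfl⟩

include hinj in
theorem image_inf_comp_range : (piS n).ker.map ψ ⊓ (ψ.comp (sigma' n)).range = ⊥ := by
  rw [Subgroup.eq_bot_iff_forall]
  rintro y ⟨⟨k, hk, rfl⟩, ⟨A, hA⟩⟩
  have h1 : sigma' n A = k := hinj hA
  have h2 : (k.1 : SLbig n) ∈ Qs n ⊓ (sHom n).range := by
    refine ⟨(mem_ker_piS n k).mp hk, ⟨A, ?_⟩⟩
    rw [← h1]
    rfl
  rw [Qs_inf_range, Subgroup.mem_bot] at h2
  have h3 : k = 1 := Subtype.ext h2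
  rw [h3, map_one]

theorem image_sup_comp_range : (piS n).ker.map ψ ⊔ (ψ.comp (sigma' n)).range = ψ.range := by
  apply le_antisymm (sup_le (Subgroup.map_le_range _ _) (comp_range_le ψ))
  rintro _ ⟨x, rfl⟩
  have h1 : x * (sigma' n (piS n x))⁻¹ ∈ (piS n).ker := by
    rw [MonoidHom.mem_ker, map_mul, map_inv, piS_sigma', mul_inv_cancel]
  have h2 : x = (x * (sigma' n (piS n x))⁻¹) * sigma' n (piS n x) := by group
  rw [h2, map_mul]
  apply Subgroup.mul_mem_sup
  · exact Subgroup.mem_map_of_mem _ h1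
  · exact ⟨piS n x, rfl⟩

include hinj in
/-- the Levi complement is `GL_n(2)` -/
noncomputable def equivK : ↥((ψ.comp (sigma' n)).range) ≃* GL (Fin n) (ZMod 2) :=
  (MonoidHom.ofInjective (f := ψ.comp (sigma' n))
    (hinj.comp (sigma'_injective (n := n)))).symm.trans (slEquivGL n)

/-- generic: the centre of `Q` when its centraliser is a known subgroup of `Q` -/
theorem center_map_eq_of_centralizer {Q Z : Subgroup G} (hZQ : Z ≤ Q)
    (hc : Subgroup.centralizer (Q : Set G) = Z) : (Subgroup.center ↥Q).map Q.subtype = Z := by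
  ext x
  rw [Subgroup.mem_map]
  constructor
  · rintro ⟨y, hy, rfl⟩
    rw [← hc, Subgroup.mem_centralizer_iff]
    intro h hh
    have := (Subgroup.mem_center_iff.mp hy) ⟨h, hh⟩
    exact congrArg Subtype.val this
  · intro hx
    refine ⟨⟨x, hZQ hx⟩, ?_, rfl⟩
    rw [Subgroup.mem_center_iff]
    intro w
    apply Subtype.ext
    have : x ∈ Subgroup.centralizer (Q : Set G) := by rw [hc]; exact hx
    rw [Subgroup.mem_centralizer_iff] at this
    exact this w.1 w.2

end transport

end Cfsg.Agent.Lib.Helper7.TvAff
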