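import Mathlib
import Cfsg.Agent.Lib.Helper5.Tw6Ev.Defs
import Cfsg.Agent.Lib.Helper5.ChevTwistBN
import Cfsg.Agent.Lib.Helper6.F4InvC2GL
import Cfsg.Agent.Lib.Helper7.InvGenA

set_option autoImplicit false

/-!
# Farm 2E6EV (S2182), unit A : every involution of `²E₆(q)` is conjugate into `N`

The rank-free maximal-cell argument `InvGen.invol_conj_mem_N_fin` on the twisted `(B, N)`-pair,
with `B ∩ n₀⁻¹ B n₀ ≤ H` for the longest element (helper6's `h6_opp_GL_gen`).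
-/

namespace Cfsg.Agent.Lib.Helper7.Tw6Ev

open Cfsg Cfsg.Lie Cfsg.Agent.Lib.Helper5.ChevSym Cfsg.Agent.Lib.Helper5.ChevStruct
  Cfsg.Agent.Lib.Helper5.Tw2E6 Cfsg.Agent.Lib.Helper5.Tw6Ev

set_option maxRecDepth 1000000 in
theorem w0E_chk : checkW0 chevE6 w0E = true := by decide +kernel

variable {K : Type*} [Field K] [Fintype K] [CharP K 2] {q : ℕ} (hq : IsPrimePow q)
  (hK : Fintype.card K = q ^ 2) (f : K →+* K) (hf : ∀ x, f x = x ^ q) (hf2 : ∀ x, f (f x) = x)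

include hq hK hf hf2 in
/-- Unit A: every involution of `²E₆(q)` is conjugate into `N` -/
theorem h7_A_conj_N (t : GL chevE6.Idx K) (ht : t ∈ twistedE6 K q) (ht2 : t * t = 1) :
    ∃ g ∈ twistedE6 K q, g * t * g⁻¹ ∈ chevE6.monomialSubgroup K := by
  classical
  have hyp := hyp6 hq hK f hf hf2
  obtain ⟨hwd, -⟩ := conj_pos_eq_neg' (K := K) chevE6 hE6 w0E w0E_chk
  have hw0mem : (wGL chevE6 hE6 w0E : GL chevE6.Idx K) ∈ twistedE6 K q :=
    wGL_flatten_mem chevE6 hE6 orbits _ hyp.hn (repJ 6) (repJ_mem 6 (by norm_num))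
  have hfin : Finite ↥(twistedE6 K q) := inferInstance
  have hmemB : ∀ g : ↥(twistedE6 K q),
      g ∈ (twistedBNPair chevE6 hE6 gE6 chkGraphPerm_gE6 f rho6 orbits (twistedE6 K q) hyp).B ↔
        (g : GL chevE6.Idx K) ∈ chevE6.borelSubgroup K := by
    intro g
    show g ∈ (chevE6.borelSubgroup K ⊓ twistedE6 K q).subgroupOf (twistedE6 K q) ↔ _
    rw [Subgroup.mem_subgroupOf, Subgroup.mem_inf]
    exact ⟨fun h => h.1, fun h => ⟨h, g.2⟩⟩
  have hmemN : ∀ g : ↥(twistedE6 K q),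
      g ∈ (twistedBNPair chevE6 hE6 gE6 chkGraphPerm_gE6 f rho6 orbits (twistedE6 K q) hyp).N ↔
        (g : GL chevE6.Idx K) ∈ chevE6.monomialSubgroup K := by
    intro g
    show g ∈ (chevE6.monomialSubgroup K ⊓ twistedE6 K q).subgroupOf (twistedE6 K q) ↔ _
    rw [Subgroup.mem_subgroupOf, Subgroup.mem_inf]
    exact ⟨fun h => h.1, fun h => ⟨h, g.2⟩⟩
  obtain ⟨g, hg⟩ := InvGen.invol_conj_mem_N_fin
    (twistedBNPair chevE6 hE6 gE6 chkGraphPerm_gE6 f rho6 orbits (twistedE6 K q) hyp)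
    ⟨wGL chevE6 hE6 w0E, hw0mem⟩
    ((hmemN _).2 (wGL_mem chevE6 hE6 _ hwd))
    (by
      intro c hc h
      rw [hmemB] at hc h
      rw [hmemN]
      apply diagonal_le_monomial chevE6
      exact Cfsg.Agent.Lib.Helper6.F4Inv.h6_opp_GL_gen chevE6 hE6 w0E w0E_chk _ hc h)
    ⟨t, ht⟩ (Subtype.ext ht2)
  rw [hmemN] at hg
  exact ⟨g.1, g.2, hg⟩

end Cfsg.Agent.Lib.Helper7.Tw6Ev
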