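import Mathlib
import Cfsg.Agent.Lib.Helper5.Tw6Ev.Defs
import Cfsg.Agent.Lib.Helper5.ChevTwistBN
import Cfsg.Agent.Lib.Helper6.EvFuse

set_option autoImplicit false

/-!
# Farm 2E6EV (S2182), unit E : fusion of the seven representatives of the involutions of `W(F₄)`

For each representative `rep j` an explicit product `h` of root elements `x_r(1)` lying in
`²E₆(q)` (each factor is `x_r(1)` with `r` fixed by the graph automorphism, or `x_r(1) x_r̄(1)` for
an orbit `{r, r̄}` of two orthogonal roots) conjugates `n_w` to one of the four matrices `yE`.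
The identities `h n_w = y h` are checked on the symbolic columns modulo 2.
-/

namespace Cfsg.Agent.Lib.Helper7.Tw6Ev

open Cfsg Cfsg.Lie Cfsg.Agent.Lib.Helper5.ChevSym Cfsg.Agent.Lib.Helper5.ChevSymP
  Cfsg.Agent.Lib.Helper5.ChevStruct Cfsg.Agent.Lib.Helper5.Tw2E6 Cfsg.Agent.Lib.Helper5.Tw6Ev
  Cfsg.Agent.Lib.Helper6.EvFuse

/-- a segment: a root fixed by the graph automorphism, or an orbit of two commuting roots -/
def segOK : List ℕ → Bool
  | [r] => Nat.blt r 72 && (gE6.pr.getD r 0 == r) &&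
      (gE6.eps.getD r 1 == 1 || gE6.eps.getD r 1 == -1)
  | [r, s] => Nat.blt r 72 && Nat.blt s 72 && (gE6.pr.getD r 0 == s) && (gE6.pr.getD s 0 == r) &&
      commOK chevE6 s r && (gE6.eps.getD r 1 == 1 || gE6.eps.getD r 1 == -1) &&
      (gE6.eps.getD s 1 == 1 || gE6.eps.getD s 1 == -1)
  | _ => false

section mem

variable {K : Type*} [Field K] [Fintype K] [CharP K 2] {q : ℕ}
  (f : K →+* K) (hf : ∀ x, f x = x ^ q) (hf2 : ∀ x, f (f x) = x)

omit [Fintype K] in
theorem eps_cast (e : ℤ) (h : (e == 1 || e == -1) = true) : ((e : ℤ) : K) = 1 := by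
  rw [Bool.or_eq_true, beq_iff_eq, beq_iff_eq] at h
  rcases h with rfl | rfl
  · simp
  · rw [Int.cast_neg, Int.cast_one, CharTwo.neg_eq]

include hf hf2 in
theorem seg_mem (sg : List ℕ) (h : segOK sg = true) :
    wordGL chevE6 hE6 (sg.map fun r => (r, (1 : K))) ∈ twistedE6 K q := by
  rw [twisted_eq_fix6 f hf hf2, Subgroup.mem_inf]
  refine ⟨wordGL_mem_group _ _ _, ?_⟩
  rw [mem_sigmaFix]
  match sg, h with
  | [], h => exact absurd h (by simp [segOK])
  | [r], h =>
    simp only [segOK, Bool.and_eq_true, Nat.blt_eq, beq_iff_eq] at h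
    obtain ⟨⟨h1, h2⟩, h3⟩ := h
    rw [sigma_wordGL chevE6 hE6 gE6 chkGraphPerm_gE6 (fun r hr => chkGraph_gE6 r hr) f _
      (by simp only [List.map_cons, List.map_nil, List.mem_cons, List.not_mem_nil, or_false]
          rintro p rfl; exact h1)]
    simp only [List.map_cons, List.map_nil, h2, eps_cast _ h3, map_one, one_mul]
  | [r, s], h =>
    simp only [segOK, Bool.and_eq_true, Nat.blt_eq, beq_iff_eq] at h
    obtain ⟨⟨⟨⟨⟨⟨h1, h2⟩, h3⟩, h4⟩, h5⟩, h6⟩, h7⟩ := h
    rw [sigma_wordGL chevE6 hE6 gE6 chkGraphPerm_gE6 (fun r hr => chkGraph_gE6 r hr) f _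
      (by simp only [List.map_cons, List.map_nil, List.mem_cons, List.not_mem_nil, or_false]
          rintro p (rfl | rfl)
          · exact h1
          · exact h2)]
    simp only [List.map_cons, List.map_nil, h3, h4, eps_cast _ h6, eps_cast _ h7, map_one, one_mul]
    simp only [wordGL, List.map_cons, List.map_nil, List.prod_cons, List.prod_nil, mul_one]
    exact (xGL_commute chevE6 hE6 _ _ h5 _ _).eq
  | _ :: _ :: _ :: _, h => exact absurd h (by simp [segOK])

include hf hf2 in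
theorem segs_mem (segs : List (List ℕ)) (h : ∀ sg ∈ segs, segOK sg = true) :
    wordGL chevE6 hE6 (segs.flatten.map fun r => (r, (1 : K))) ∈ twistedE6 K q := by
  induction segs with
  | nil =>
    simp only [List.flatten_nil, List.map_nil, wordGL, List.prod_nil]
    exact one_mem _
  | cons sg segs ih =>
    rw [List.flatten_cons, List.map_append, wordGL_append']
    exact mul_mem (seg_mem f hf hf2 sg (h sg (List.mem_cons_self ..)))
      (ih (fun s hs => h s (List.mem_cons_of_mem _ hs)))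

end mem

/-- the 78 columns -/
def colsE : List ℕ := List.range 78

set_option maxRecDepth 1000000 in
theorem suppE_le : ∀ r < chevE6.nroots, ∀ c ∈ supp chevE6 r, c ∈ colsE := by decide +kernel

theorem colsE_split : ∀ col ∈ colsE,
    col ∈ colsAB 0 13 ∨ col ∈ colsAB 13 26 ∨ col ∈ colsAB 26 39 ∨ col ∈ colsAB 39 52 ∨
      col ∈ colsAB 52 65 ∨ col ∈ colsAB 65 78 := by
  decide

def sgE_0 : List (List ℕ) := [[4, 16], [15, 35], [55, 67]]

def hE_0 : List ℕ := sgE_0.flatten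

def sgE_1 : List (List ℕ) := [[1], [25], [70]]

def hE_1 : List ℕ := sgE_1.flatten

def sgE_2 : List (List ℕ) := [[12, 26], [18], [45, 59], [53], [25], [15, 35]]

def hE_2 : List ℕ := sgE_2.flatten

def sgE_3 : List (List ℕ) := [[8], [24], [63], [47], [29, 34], [32], [27]]

def hE_3 : List ℕ := sgE_3.flatten

def sgE_4 : List (List ℕ) := [[1], [45, 59], [70], [41, 58], [39], [28, 31], [15, 35]]

def hE_4 : List ℕ := sgE_4.flatten

def sgE_5 : List (List ℕ) := [[4, 16], [53], [55, 67], [51], [37, 42], [27], [25]]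

def hE_5 : List ℕ := sgE_5.flatten

def sgE_6 : List (List ℕ) := [[1], [39], [45, 59], [46], [41, 58], [28, 31], [15, 35], [0]]

def hE_6 : List ℕ := sgE_6.flatten

def sYE_0 : List (ℕ × PolyP) := sH [71]

def sYE_1 : List (ℕ × PolyP) := sH [66, 68]

def sYE_2 : List (ℕ × PolyP) := sH [71, 66, 68]

def sYE_3 : List (ℕ × PolyP) := sH [54, 64, 69]

theorem sgE_ok_0 : ∀ sg ∈ sgE_0, segOK sg = true := by
  decide +kernel

theorem sgE_ok_1 : ∀ sg ∈ sgE_1, segOK sg = true := by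
  decide +kernel

theorem sgE_ok_2 : ∀ sg ∈ sgE_2, segOK sg = true := by
  decide +kernel

theorem sgE_ok_3 : ∀ sg ∈ sgE_3, segOK sg = true := by
  decide +kernel

theorem sgE_ok_4 : ∀ sg ∈ sgE_4, segOK sg = true := by
  decide +kernel

theorem sgE_ok_5 : ∀ sg ∈ sgE_5, segOK sg = true := by
  decide +kernel

theorem sgE_ok_6 : ∀ sg ∈ sgE_6, segOK sg = true := by
  decide +kernel


set_option maxRecDepth 1000000 in
theorem chkE_0_0 : ∀ col ∈ colsAB 0 13,
    vecEqP 2 (wordColP chevE6 2 (sH hE_0 ++ sNw chevE6 (rep 0)) col)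
      (wordColP chevE6 2 (sYE_1 ++ sH hE_0) col) = true := by
  decide +kernel

set_option maxRecDepth 1000000 in
theorem chkE_0_13 : ∀ col ∈ colsAB 13 26,
    vecEqP 2 (wordColP chevE6 2 (sH hE_0 ++ sNw chevE6 (rep 0)) col)
      (wordColP chevE6 2 (sYE_1 ++ sH hE_0) col) = true := by
  decide +kernel

set_option maxRecDepth 1000000 in
theorem chkE_0_26 : ∀ col ∈ colsAB 26 39,
    vecEqP 2 (wordColP chevE6 2 (sH hE_0 ++ sNw chevE6 (rep 0)) col)
      (wordColP chevE6 2 (sYE_1 ++ sH hE_0) col) = true := by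
  decide +kernel

set_option maxRecDepth 1000000 in
theorem chkE_0_39 : ∀ col ∈ colsAB 39 52,
    vecEqP 2 (wordColP chevE6 2 (sH hE_0 ++ sNw chevE6 (rep 0)) col)
      (wordColP chevE6 2 (sYE_1 ++ sH hE_0) col) = true := by
  decide +kernel

set_option maxRecDepth 1000000 in
theorem chkE_0_52 : ∀ col ∈ colsAB 52 65,
    vecEqP 2 (wordColP chevE6 2 (sH hE_0 ++ sNw chevE6 (rep 0)) col)
      (wordColP chevE6 2 (sYE_1 ++ sH hE_0) col) = true := by
  decide +kernel

set_option maxRecDepth 1000000 in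
theorem chkE_0_65 : ∀ col ∈ colsAB 65 78,
    vecEqP 2 (wordColP chevE6 2 (sH hE_0 ++ sNw chevE6 (rep 0)) col)
      (wordColP chevE6 2 (sYE_1 ++ sH hE_0) col) = true := by
  decide +kernel

theorem chkE_0 : ∀ col ∈ colsE,
    vecEqP 2 (wordColP chevE6 2 (sH hE_0 ++ sNw chevE6 (rep 0)) col)
      (wordColP chevE6 2 (sYE_1 ++ sH hE_0) col) = true := by
  intro col hcol
  rcases colsE_split col hcol with h | h | h | h | h | h
  · exact chkE_0_0 col h
  · exact chkE_0_13 col h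
  · exact chkE_0_26 col h
  · exact chkE_0_39 col h
  · exact chkE_0_52 col h
  · exact chkE_0_65 col h

set_option maxRecDepth 1000000 in
theorem chkE_1_0 : ∀ col ∈ colsAB 0 13,
    vecEqP 2 (wordColP chevE6 2 (sH hE_1 ++ sNw chevE6 (rep 1)) col)
      (wordColP chevE6 2 (sYE_0 ++ sH hE_1) col) = true := by
  decide +kernel

set_option maxRecDepth 1000000 in
theorem chkE_1_13 : ∀ col ∈ colsAB 13 26,
    vecEqP 2 (wordColP chevE6 2 (sH hE_1 ++ sNw chevE6 (rep 1)) col)
      (wordColP chevE6 2 (sYE_0 ++ sH hE_1) col) = true := by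
  decide +kernel

set_option maxRecDepth 1000000 in
theorem chkE_1_26 : ∀ col ∈ colsAB 26 39,
    vecEqP 2 (wordColP chevE6 2 (sH hE_1 ++ sNw chevE6 (rep 1)) col)
      (wordColP chevE6 2 (sYE_0 ++ sH hE_1) col) = true := by
  decide +kernel

set_option maxRecDepth 1000000 in
theorem chkE_1_39 : ∀ col ∈ colsAB 39 52,
    vecEqP 2 (wordColP chevE6 2 (sH hE_1 ++ sNw chevE6 (rep 1)) col)
      (wordColP chevE6 2 (sYE_0 ++ sH hE_1) col) = true := by
  decide +kernel

set_option maxRecDepth 1000000 in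
theorem chkE_1_52 : ∀ col ∈ colsAB 52 65,
    vecEqP 2 (wordColP chevE6 2 (sH hE_1 ++ sNw chevE6 (rep 1)) col)
      (wordColP chevE6 2 (sYE_0 ++ sH hE_1) col) = true := by
  decide +kernel

set_option maxRecDepth 1000000 in
theorem chkE_1_65 : ∀ col ∈ colsAB 65 78,
    vecEqP 2 (wordColP chevE6 2 (sH hE_1 ++ sNw chevE6 (rep 1)) col)
      (wordColP chevE6 2 (sYE_0 ++ sH hE_1) col) = true := by
  decide +kernel

theorem chkE_1 : ∀ col ∈ colsE,
    vecEqP 2 (wordColP chevE6 2 (sH hE_1 ++ sNw chevE6 (rep 1)) col)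
      (wordColP chevE6 2 (sYE_0 ++ sH hE_1) col) = true := by
  intro col hcol
  rcases colsE_split col hcol with h | h | h | h | h | h
  · exact chkE_1_0 col h
  · exact chkE_1_13 col h
  · exact chkE_1_26 col h
  · exact chkE_1_39 col h
  · exact chkE_1_52 col h
  · exact chkE_1_65 col h

set_option maxRecDepth 1000000 in
theorem chkE_2_0 : ∀ col ∈ colsAB 0 13,
    vecEqP 2 (wordColP chevE6 2 (sH hE_2 ++ sNw chevE6 (rep 2)) col)
      (wordColP chevE6 2 (sYE_3 ++ sH hE_2) col) = true := by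
  decide +kernel

set_option maxRecDepth 1000000 in
theorem chkE_2_13 : ∀ col ∈ colsAB 13 26,
    vecEqP 2 (wordColP chevE6 2 (sH hE_2 ++ sNw chevE6 (rep 2)) col)
      (wordColP chevE6 2 (sYE_3 ++ sH hE_2) col) = true := by
  decide +kernel

set_option maxRecDepth 1000000 in
theorem chkE_2_26 : ∀ col ∈ colsAB 26 39,
    vecEqP 2 (wordColP chevE6 2 (sH hE_2 ++ sNw chevE6 (rep 2)) col)
      (wordColP chevE6 2 (sYE_3 ++ sH hE_2) col) = true := by
  decide +kernel

set_option maxRecDepth 1000000 in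
theorem chkE_2_39 : ∀ col ∈ colsAB 39 52,
    vecEqP 2 (wordColP chevE6 2 (sH hE_2 ++ sNw chevE6 (rep 2)) col)
      (wordColP chevE6 2 (sYE_3 ++ sH hE_2) col) = true := by
  decide +kernel

set_option maxRecDepth 1000000 in
theorem chkE_2_52 : ∀ col ∈ colsAB 52 65,
    vecEqP 2 (wordColP chevE6 2 (sH hE_2 ++ sNw chevE6 (rep 2)) col)
      (wordColP chevE6 2 (sYE_3 ++ sH hE_2) col) = true := by
  decide +kernel

set_option maxRecDepth 1000000 in
theorem chkE_2_65 : ∀ col ∈ colsAB 65 78,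
    vecEqP 2 (wordColP chevE6 2 (sH hE_2 ++ sNw chevE6 (rep 2)) col)
      (wordColP chevE6 2 (sYE_3 ++ sH hE_2) col) = true := by
  decide +kernel

theorem chkE_2 : ∀ col ∈ colsE,
    vecEqP 2 (wordColP chevE6 2 (sH hE_2 ++ sNw chevE6 (rep 2)) col)
      (wordColP chevE6 2 (sYE_3 ++ sH hE_2) col) = true := by
  intro col hcol
  rcases colsE_split col hcol with h | h | h | h | h | h
  · exact chkE_2_0 col h
  · exact chkE_2_13 col h
  · exact chkE_2_26 col h
  · exact chkE_2_39 col h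
  · exact chkE_2_52 col h
  · exact chkE_2_65 col h

set_option maxRecDepth 1000000 in
theorem chkE_3_0 : ∀ col ∈ colsAB 0 13,
    vecEqP 2 (wordColP chevE6 2 (sH hE_3 ++ sNw chevE6 (rep 3)) col)
      (wordColP chevE6 2 (sYE_2 ++ sH hE_3) col) = true := by
  decide +kernel

set_option maxRecDepth 1000000 in
theorem chkE_3_13 : ∀ col ∈ colsAB 13 26,
    vecEqP 2 (wordColP chevE6 2 (sH hE_3 ++ sNw chevE6 (rep 3)) col)
      (wordColP chevE6 2 (sYE_2 ++ sH hE_3) col) = true := by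
  decide +kernel

set_option maxRecDepth 1000000 in
theorem chkE_3_26 : ∀ col ∈ colsAB 26 39,
    vecEqP 2 (wordColP chevE6 2 (sH hE_3 ++ sNw chevE6 (rep 3)) col)
      (wordColP chevE6 2 (sYE_2 ++ sH hE_3) col) = true := by
  decide +kernel

set_option maxRecDepth 1000000 in
theorem chkE_3_39 : ∀ col ∈ colsAB 39 52,
    vecEqP 2 (wordColP chevE6 2 (sH hE_3 ++ sNw chevE6 (rep 3)) col)
      (wordColP chevE6 2 (sYE_2 ++ sH hE_3) col) = true := by
  decide +kernel

set_option maxRecDepth 1000000 in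
theorem chkE_3_52 : ∀ col ∈ colsAB 52 65,
    vecEqP 2 (wordColP chevE6 2 (sH hE_3 ++ sNw chevE6 (rep 3)) col)
      (wordColP chevE6 2 (sYE_2 ++ sH hE_3) col) = true := by
  decide +kernel

set_option maxRecDepth 1000000 in
theorem chkE_3_65 : ∀ col ∈ colsAB 65 78,
    vecEqP 2 (wordColP chevE6 2 (sH hE_3 ++ sNw chevE6 (rep 3)) col)
      (wordColP chevE6 2 (sYE_2 ++ sH hE_3) col) = true := by
  decide +kernel

theorem chkE_3 : ∀ col ∈ colsE,
    vecEqP 2 (wordColP chevE6 2 (sH hE_3 ++ sNw chevE6 (rep 3)) col)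
      (wordColP chevE6 2 (sYE_2 ++ sH hE_3) col) = true := by
  intro col hcol
  rcases colsE_split col hcol with h | h | h | h | h | h
  · exact chkE_3_0 col h
  · exact chkE_3_13 col h
  · exact chkE_3_26 col h
  · exact chkE_3_39 col h
  · exact chkE_3_52 col h
  · exact chkE_3_65 col h

set_option maxRecDepth 1000000 in
theorem chkE_4_0 : ∀ col ∈ colsAB 0 13,
    vecEqP 2 (wordColP chevE6 2 (sH hE_4 ++ sNw chevE6 (rep 4)) col)
      (wordColP chevE6 2 (sYE_3 ++ sH hE_4) col) = true := by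
  decide +kernel

set_option maxRecDepth 1000000 in
theorem chkE_4_13 : ∀ col ∈ colsAB 13 26,
    vecEqP 2 (wordColP chevE6 2 (sH hE_4 ++ sNw chevE6 (rep 4)) col)
      (wordColP chevE6 2 (sYE_3 ++ sH hE_4) col) = true := by
  decide +kernel

set_option maxRecDepth 1000000 in
theorem chkE_4_26 : ∀ col ∈ colsAB 26 39,
    vecEqP 2 (wordColP chevE6 2 (sH hE_4 ++ sNw chevE6 (rep 4)) col)
      (wordColP chevE6 2 (sYE_3 ++ sH hE_4) col) = true := by
  decide +kernel

set_option maxRecDepth 1000000 in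
theorem chkE_4_39 : ∀ col ∈ colsAB 39 52,
    vecEqP 2 (wordColP chevE6 2 (sH hE_4 ++ sNw chevE6 (rep 4)) col)
      (wordColP chevE6 2 (sYE_3 ++ sH hE_4) col) = true := by
  decide +kernel

set_option maxRecDepth 1000000 in
theorem chkE_4_52 : ∀ col ∈ colsAB 52 65,
    vecEqP 2 (wordColP chevE6 2 (sH hE_4 ++ sNw chevE6 (rep 4)) col)
      (wordColP chevE6 2 (sYE_3 ++ sH hE_4) col) = true := by
  decide +kernel

set_option maxRecDepth 1000000 in
theorem chkE_4_65 : ∀ col ∈ colsAB 65 78,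
    vecEqP 2 (wordColP chevE6 2 (sH hE_4 ++ sNw chevE6 (rep 4)) col)
      (wordColP chevE6 2 (sYE_3 ++ sH hE_4) col) = true := by
  decide +kernel

theorem chkE_4 : ∀ col ∈ colsE,
    vecEqP 2 (wordColP chevE6 2 (sH hE_4 ++ sNw chevE6 (rep 4)) col)
      (wordColP chevE6 2 (sYE_3 ++ sH hE_4) col) = true := by
  intro col hcol
  rcases colsE_split col hcol with h | h | h | h | h | h
  · exact chkE_4_0 col h
  · exact chkE_4_13 col h
  · exact chkE_4_26 col h
  · exact chkE_4_39 col h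
  · exact chkE_4_52 col h
  · exact chkE_4_65 col h

set_option maxRecDepth 1000000 in
theorem chkE_5_0 : ∀ col ∈ colsAB 0 13,
    vecEqP 2 (wordColP chevE6 2 (sH hE_5 ++ sNw chevE6 (rep 5)) col)
      (wordColP chevE6 2 (sYE_3 ++ sH hE_5) col) = true := by
  decide +kernel

set_option maxRecDepth 1000000 in
theorem chkE_5_13 : ∀ col ∈ colsAB 13 26,
    vecEqP 2 (wordColP chevE6 2 (sH hE_5 ++ sNw chevE6 (rep 5)) col)
      (wordColP chevE6 2 (sYE_3 ++ sH hE_5) col) = true := by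
  decide +kernel

set_option maxRecDepth 1000000 in
theorem chkE_5_26 : ∀ col ∈ colsAB 26 39,
    vecEqP 2 (wordColP chevE6 2 (sH hE_5 ++ sNw chevE6 (rep 5)) col)
      (wordColP chevE6 2 (sYE_3 ++ sH hE_5) col) = true := by
  decide +kernel

set_option maxRecDepth 1000000 in
theorem chkE_5_39 : ∀ col ∈ colsAB 39 52,
    vecEqP 2 (wordColP chevE6 2 (sH hE_5 ++ sNw chevE6 (rep 5)) col)
      (wordColP chevE6 2 (sYE_3 ++ sH hE_5) col) = true := by
  decide +kernel

set_option maxRecDepth 1000000 in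
theorem chkE_5_52 : ∀ col ∈ colsAB 52 65,
    vecEqP 2 (wordColP chevE6 2 (sH hE_5 ++ sNw chevE6 (rep 5)) col)
      (wordColP chevE6 2 (sYE_3 ++ sH hE_5) col) = true := by
  decide +kernel

set_option maxRecDepth 1000000 in
theorem chkE_5_65 : ∀ col ∈ colsAB 65 78,
    vecEqP 2 (wordColP chevE6 2 (sH hE_5 ++ sNw chevE6 (rep 5)) col)
      (wordColP chevE6 2 (sYE_3 ++ sH hE_5) col) = true := by
  decide +kernel

theorem chkE_5 : ∀ col ∈ colsE,
    vecEqP 2 (wordColP chevE6 2 (sH hE_5 ++ sNw chevE6 (rep 5)) col)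
      (wordColP chevE6 2 (sYE_3 ++ sH hE_5) col) = true := by
  intro col hcol
  rcases colsE_split col hcol with h | h | h | h | h | h
  · exact chkE_5_0 col h
  · exact chkE_5_13 col h
  · exact chkE_5_26 col h
  · exact chkE_5_39 col h
  · exact chkE_5_52 col h
  · exact chkE_5_65 col h

set_option maxRecDepth 1000000 in
theorem chkE_6_0 : ∀ col ∈ colsAB 0 13,
    vecEqP 2 (wordColP chevE6 2 (sH hE_6 ++ sNw chevE6 (rep 6)) col)
      (wordColP chevE6 2 (sYE_3 ++ sH hE_6) col) = true := by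
  decide +kernel

set_option maxRecDepth 1000000 in
theorem chkE_6_13 : ∀ col ∈ colsAB 13 26,
    vecEqP 2 (wordColP chevE6 2 (sH hE_6 ++ sNw chevE6 (rep 6)) col)
      (wordColP chevE6 2 (sYE_3 ++ sH hE_6) col) = true := by
  decide +kernel

set_option maxRecDepth 1000000 in
theorem chkE_6_26 : ∀ col ∈ colsAB 26 39,
    vecEqP 2 (wordColP chevE6 2 (sH hE_6 ++ sNw chevE6 (rep 6)) col)
      (wordColP chevE6 2 (sYE_3 ++ sH hE_6) col) = true := by
  decide +kernel

set_option maxRecDepth 1000000 in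
theorem chkE_6_39 : ∀ col ∈ colsAB 39 52,
    vecEqP 2 (wordColP chevE6 2 (sH hE_6 ++ sNw chevE6 (rep 6)) col)
      (wordColP chevE6 2 (sYE_3 ++ sH hE_6) col) = true := by
  decide +kernel

set_option maxRecDepth 1000000 in
theorem chkE_6_52 : ∀ col ∈ colsAB 52 65,
    vecEqP 2 (wordColP chevE6 2 (sH hE_6 ++ sNw chevE6 (rep 6)) col)
      (wordColP chevE6 2 (sYE_3 ++ sH hE_6) col) = true := by
  decide +kernel

set_option maxRecDepth 1000000 in
theorem chkE_6_65 : ∀ col ∈ colsAB 65 78,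
    vecEqP 2 (wordColP chevE6 2 (sH hE_6 ++ sNw chevE6 (rep 6)) col)
      (wordColP chevE6 2 (sYE_3 ++ sH hE_6) col) = true := by
  decide +kernel

theorem chkE_6 : ∀ col ∈ colsE,
    vecEqP 2 (wordColP chevE6 2 (sH hE_6 ++ sNw chevE6 (rep 6)) col)
      (wordColP chevE6 2 (sYE_3 ++ sH hE_6) col) = true := by
  intro col hcol
  rcases colsE_split col hcol with h | h | h | h | h | h
  · exact chkE_6_0 col h
  · exact chkE_6_13 col h
  · exact chkE_6_26 col h
  · exact chkE_6_39 col h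
  · exact chkE_6_52 col h
  · exact chkE_6_65 col h

set_option maxRecDepth 1000000 in
theorem wordsE_lt : ∀ j < 7, ∀ rp ∈ (sH ([hE_0, hE_1, hE_2, hE_3, hE_4, hE_5, hE_6].getD j []) ++
      sNw chevE6 (rep j)) ++
      (([sYE_1, sYE_0, sYE_3, sYE_2, sYE_3, sYE_3, sYE_3].getD j []) ++
        sH ([hE_0, hE_1, hE_2, hE_3, hE_4, hE_5, hE_6].getD j [])), rp.1 < chevE6.nroots := by
  decide +kernel

section

variable {K : Type*} [Field K]

theorem yE_eq0 : yE K 0 = wordGL chevE6 hE6 (evalWP ([] : List K) sYE_0) := by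
  rw [sYE_0, wordGL_sH_one]; rfl

theorem yE_eq1 : yE K 1 = wordGL chevE6 hE6 (evalWP ([] : List K) sYE_1) := by
  rw [sYE_1, wordGL_sH_two]; rfl

theorem yE_eq2 : yE K 2 = wordGL chevE6 hE6 (evalWP ([] : List K) sYE_2) := by
  rw [sYE_2, wordGL_sH_three, mul_assoc]; rfl

theorem yE_eq3 : yE K 3 = wordGL chevE6 hE6 (evalWP ([] : List K) sYE_3) := by
  rw [sYE_3, wordGL_sH_three]; rfl

variable [Fintype K] [CharP K 2] {q : ℕ}
  (f : K →+* K) (hf : ∀ x, f x = x ^ q) (hf2 : ∀ x, f (f x) = x)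

include hf hf2 in
/-- **Unit E.** -/
theorem h7_E_fuse (j : ℕ) (hj : j < 7) :
    ∃ h ∈ twistedE6 K q, ∃ k : Fin 4, h * wGL chevE6 hE6 (rep j) * h⁻¹ = yE K k := by
  have hp : ((2 : ℕ) : K) = 0 := CharP.cast_eq_zero K 2
  have hw := wordsE_lt j hj
  interval_cases j
  · refine ⟨wordGL chevE6 hE6 (evalWP ([] : List K) (sH hE_0)), ?_, 1, ?_⟩
    · rw [evalWP_sH]
      exact segs_mem f hf hf2 sgE_0 sgE_ok_0
    · rw [yE_eq1]
      exact fuse_of_cols chevE6 hE6 2 hp colsE suppE_le hE_0 _ sYE_1 hw chkE_0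
  · refine ⟨wordGL chevE6 hE6 (evalWP ([] : List K) (sH hE_1)), ?_, 0, ?_⟩
    · rw [evalWP_sH]
      exact segs_mem f hf hf2 sgE_1 sgE_ok_1
    · rw [yE_eq0]
      exact fuse_of_cols chevE6 hE6 2 hp colsE suppE_le hE_1 _ sYE_0 hw chkE_1
  · refine ⟨wordGL chevE6 hE6 (evalWP ([] : List K) (sH hE_2)), ?_, 3, ?_⟩
    · rw [evalWP_sH]
      exact segs_mem f hf hf2 sgE_2 sgE_ok_2
    · rw [yE_eq3]
      exact fuse_of_cols chevE6 hE6 2 hp colsE suppE_le hE_2 _ sYE_3 hw chkE_2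
  · refine ⟨wordGL chevE6 hE6 (evalWP ([] : List K) (sH hE_3)), ?_, 2, ?_⟩
    · rw [evalWP_sH]
      exact segs_mem f hf hf2 sgE_3 sgE_ok_3
    · rw [yE_eq2]
      exact fuse_of_cols chevE6 hE6 2 hp colsE suppE_le hE_3 _ sYE_2 hw chkE_3
  · refine ⟨wordGL chevE6 hE6 (evalWP ([] : List K) (sH hE_4)), ?_, 3, ?_⟩
    · rw [evalWP_sH]
      exact segs_mem f hf hf2 sgE_4 sgE_ok_4
    · rw [yE_eq3]
      exact fuse_of_cols chevE6 hE6 2 hp colsE suppE_le hE_4 _ sYE_3 hw chkE_4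
  · refine ⟨wordGL chevE6 hE6 (evalWP ([] : List K) (sH hE_5)), ?_, 3, ?_⟩
    · rw [evalWP_sH]
      exact segs_mem f hf hf2 sgE_5 sgE_ok_5
    · rw [yE_eq3]
      exact fuse_of_cols chevE6 hE6 2 hp colsE suppE_le hE_5 _ sYE_3 hw chkE_5
  · refine ⟨wordGL chevE6 hE6 (evalWP ([] : List K) (sH hE_6)), ?_, 3, ?_⟩
    · rw [evalWP_sH]
      exact segs_mem f hf hf2 sgE_6 sgE_ok_6
    · rw [yE_eq3]
      exact fuse_of_cols chevE6 hE6 2 hp colsE suppE_le hE_6 _ sYE_3 hw chkE_6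

end

end Cfsg.Agent.Lib.Helper7.Tw6Ev
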