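import Mathlib
import Cfsg.Prelude.Def_ChevStructure
import Cfsg.Agent.Lib.Helper7.Ch2G3
import Cfsg.Agent.Lib.Helper5.ChevTorus

set_option autoImplicit false

/-!
Two-generation of the twisted groups (S2407): abstract lemmas (scaling by squares of a generator,
powers of a generator of `Kˣ`, commutativity of the diagonal subgroup).
-/

namespace Cfsg.Agent.Lib.Helper7.TwGen

open Cfsg Cfsg.Lie Cfsg.Agent.Lib.Helper5.ChevStruct Cfsg.Agent.Lib.Helper5.ChevSym
open Cfsg.Agent.Lib.Helper7.Ch2G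

variable {F : Type*} [Field F]

/-- an additive subgroup of a finite field stable under multiplication by the square of a generator
of `Fˣ` is trivial or everything -/
theorem abs_scale [Fintype F] (A : AddSubgroup F) (k : F)
    (hgen : ∀ x : F, x ≠ 0 → ∃ m : ℕ, x = k ^ m)
    (hA : ∀ t ∈ A, k ^ 2 * t ∈ A) (v0 : F) (hv0 : v0 ≠ 0) (hv : v0 ∈ A) : ∀ t : F, t ∈ A := by
  have hpow : ∀ (m : ℕ) (t : F), t ∈ A → (k ^ 2) ^ m * t ∈ A := by
    intro m
    induction m with
    | zero => intro t ht; simpa using ht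
    | succ m ih =>
      intro t ht
      rw [pow_succ, mul_assoc]
      exact ih _ (hA t ht)
  have hsq : ∀ (a t : F), t ∈ A → a ^ 2 * t ∈ A := by
    intro a t ht
    by_cases ha : a = 0
    · rw [ha]
      simp only [ne_eq, OfNat.ofNat_ne_zero, not_false_eq_true, zero_pow, zero_mul]
      exact A.zero_mem
    · obtain ⟨m, hm⟩ := hgen a ha
      have : a ^ 2 = (k ^ 2) ^ m := by rw [hm, ← pow_mul, ← pow_mul, mul_comm]
      rw [this]
      exact hpow m t ht
  intro t
  obtain ⟨a, b, hab⟩ := h7_sum_two_squares (t / v0)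
  have : t = a ^ 2 * v0 + b ^ 2 * v0 := by
    rw [← add_mul, hab, div_mul_cancel₀ _ hv0]
  rw [this]
  exact A.add_mem (hsq a v0 hv) (hsq b v0 hv)

/-- an additive subgroup stable under multiplication by `c` is stable under its powers -/
theorem mul_pow_mem (A : AddSubgroup F) (c : F) (hA : ∀ t ∈ A, c * t ∈ A) (m : ℕ) (t : F)
    (ht : t ∈ A) : c ^ m * t ∈ A := by
  induction m generalizing t with
  | zero => simpa using ht
  | succ m ih =>
    rw [pow_succ, mul_assoc]
    exact ih _ (hA t ht)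

/-- the order of a generator of `Fˣ` -/
theorem orderOf_gen [Fintype F] (k : F) (hk0 : k ≠ 0)
    (hgen : ∀ x : F, x ≠ 0 → ∃ m : ℕ, x = k ^ m) : orderOf k = Fintype.card F - 1 := by
  classical
  have h1 : orderOf (Units.mk0 k hk0) = Nat.card Fˣ := by
    apply orderOf_eq_card_of_forall_mem_zpowers
    intro y
    obtain ⟨m, hm⟩ := hgen (y : F) (Units.ne_zero y)
    refine ⟨(m : ℤ), ?_⟩
    apply Units.ext
    show (((Units.mk0 k hk0) ^ (m : ℤ) : Fˣ) : F) = (y : F)
    rw [zpow_natCast, Units.val_pow_eq_pow_val, Units.val_mk0, hm]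
  have h2 : orderOf (Units.mk0 k hk0) = orderOf k := by
    rw [← orderOf_units]
    rfl
  rw [← h2, h1, Nat.card_eq_fintype_card, Fintype.card_units]

/-- a small non-zero power of a generator is not `1` -/
theorem zpow_ne_one_of_gen [Fintype F] (k : F) (hk0 : k ≠ 0)
    (hgen : ∀ x : F, x ≠ 0 → ∃ m : ℕ, x = k ^ m) (e : ℤ) (he0 : e ≠ 0)
    (he : |e| < ((Fintype.card F - 1 : ℕ) : ℤ)) : k ^ e ≠ 1 := by
  intro h
  have h1 : (Units.mk0 k hk0) ^ e = 1 := by
    apply Units.ext
    rw [Units.val_zpow_eq_zpow_val, Units.val_mk0, h, Units.val_one]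
  have h2 : ((orderOf (Units.mk0 k hk0) : ℕ) : ℤ) ∣ e := orderOf_dvd_iff_zpow_eq_one.2 h1
  have h3 : orderOf (Units.mk0 k hk0) = orderOf k := by
    rw [← orderOf_units]
    rfl
  rw [h3, orderOf_gen k hk0 hgen] at h2
  exact he0 (Int.eq_zero_of_abs_lt_dvd h2 he)

/-- the elements of the fixed field of `x ↦ x^q` in the field of order `q^3` are the powers of the
norm of a generator -/
theorem exists_pow_norm_of_fixed [Fintype F] (q : ℕ) (hq : 2 ≤ q) (hF : Fintype.card F = q ^ 3)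
    (k : F) (hk0 : k ≠ 0) (hgen : ∀ x : F, x ≠ 0 → ∃ m : ℕ, x = k ^ m) (v : F) (hv0 : v ≠ 0)
    (hv : v ^ q = v) : ∃ j : ℕ, v = (k ^ (q ^ 2 + q + 1)) ^ j := by
  obtain ⟨i, hi⟩ := hgen v hv0
  have hord := orderOf_gen k hk0 hgen
  rw [hF] at hord
  have h1 : k ^ (i * (q - 1)) = 1 := by
    have h2 : k ^ i * k ^ (i * (q - 1)) = k ^ i := by
      rw [← pow_add]
      have : i + i * (q - 1) = i * q := by
        have hq1 : 1 ≤ q := by omega
        calc i + i * (q - 1) = i * (1 + (q - 1)) := by ring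
          _ = i * q := by rw [Nat.add_sub_cancel' hq1]
      rw [this, pow_mul, ← hi, hv]
    have h3 : k ^ i ≠ 0 := pow_ne_zero _ hk0
    exact mul_left_cancel₀ h3 (by rw [h2, mul_one])
  have h4 : orderOf k ∣ i * (q - 1) := orderOf_dvd_of_pow_eq_one h1
  rw [hord] at h4
  have h5 : q ^ 3 - 1 = (q ^ 2 + q + 1) * (q - 1) := by
    have hq1 : 1 ≤ q := by omega
    obtain ⟨r, rfl⟩ : ∃ r, q = r + 1 := ⟨q - 1, by omega⟩
    simp only [Nat.add_sub_cancel]
    have : (r + 1) ^ 3 = (((r + 1) ^ 2 + (r + 1) + 1) * r) + 1 := by ring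
    rw [this, Nat.add_sub_cancel]
  rw [h5] at h4
  have hq1 : 0 < q - 1 := by omega
  have h6 : (q ^ 2 + q + 1) ∣ i := Nat.dvd_of_mul_dvd_mul_right hq1 h4
  obtain ⟨j, hj⟩ := h6
  refine ⟨j, ?_⟩
  rw [hi, hj, pow_mul]

/-- the diagonal subgroup is commutative -/
theorem diag_commute (D : ChevalleyDatum)
    (hD : D ∈ [chevG2, chevB2, chevD4, chevF4, chevE6, chevE7, chevE8]) (g g' : GL D.Idx F)
    (hg : g ∈ D.diagonalSubgroup F) (hg' : g' ∈ D.diagonalSubgroup F) : g * g' = g' * g := by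
  obtain ⟨c, -, h1⟩ := exists_torusMat_of_mem D hD g hg
  obtain ⟨c', -, h2⟩ := exists_torusMat_of_mem D hD g' hg'
  apply Units.ext
  rw [Units.val_mul, Units.val_mul, h1, h2]
  unfold torusMat
  rw [Matrix.diagonal_mul_diagonal, Matrix.diagonal_mul_diagonal]
  congr 1
  funext j
  exact mul_comm _ _

end Cfsg.Agent.Lib.Helper7.TwGen
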