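import Mathlib
import Cfsg.Agent.Lib.Helper5.TwAutDefs2
import Cfsg.Agent.Lib.Helper1.TwAutT1
import Cfsg.Agent.Lib.Helper1.TwAutB4
import Cfsg.Agent.Lib.Helper6.TwAutT2

set_option autoImplicit false

/-!
Two-generation of the twisted groups: a subgroup containing the positive twisted fundamental root
groups and a representative of the longest element contains the twisted group.
-/

namespace Cfsg.Agent.Lib.Helper7.TwGen

open Cfsg Cfsg.Lie Cfsg.Agent.Lib.Helper5.ChevStruct Cfsg.Agent.Lib.Helper5.ChevSym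
open Cfsg.Agent.Lib.Helper5.TwAut

variable {K : Type*} [Field K] [Fintype K] (D : ChevalleyDatum) (hD : D ∈ Seven) (G : GraphData)
  (hp : checkGraphPerm D G = true) (f : K →+* K) (rho : Equiv.Perm (Fin D.rank))
  (orbs : List (List ℕ)) (G1 : Subgroup (GL D.Idx K)) (m : ℕ)
  (hyp : TwAutHyp D hD G hp f rho orbs G1 m)

include hyp in
theorem le_of_pos_nodes (K0 : Subgroup (GL D.Idx K)) (w0 : List ℕ)
    (hw0 : checkW0 D w0 = true) (hopp : OppOK D orbs w0)
    (hn0 : wGL D hD w0 ∈ K0) (hn0G : wGL D hD w0 ∈ G1)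
    (hX : ∀ J ∈ orbs, ∀ t, InK f J t → xT D hD f J t ∈ K0) : G1 ≤ K0 := by
  rw [hyp.hclo, Subgroup.closure_le]
  rintro g ⟨J, hJ, t, ht, rfl | rfl⟩
  · exact hX J hJ t ht
  · set y := yT D hD f J t with hy
    set n0 : GL D.Idx K := wGL D hD w0 with hn0'
    have hyG : y ∈ G1 := Cfsg.Agent.Lib.Helper1.TwAut.yT_mem D hD G hp f rho orbs G1 m hyp J hJ t ht
    have hyR : y ∈ rootSetSub D K (negJ D J) :=
      Cfsg.Agent.Lib.Helper1.TwAut.yT_mem_rootSetSub D hD f J t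
    have hmap := Cfsg.Agent.Lib.Helper1.TwAut.map_conj_negJ D hD G hp f rho orbs G1 m hyp w0 hw0
      hopp J hJ
    have h1 : n0 * y * n0⁻¹ ∈ rootSetSub D K (posJ D J) := by
      rw [← hmap]
      refine ⟨y, hyR, ?_⟩
      simp only [MulEquiv.coe_toMonoidHom, MulAut.conj_apply]
      rfl
    have h2 : n0 * y * n0⁻¹ ∈ G1 := G1.mul_mem (G1.mul_mem hn0G hyG) (G1.inv_mem hn0G)
    obtain ⟨t', ht', e⟩ := Cfsg.Agent.Lib.Helper6.TwAutT2.exists_xT_of_mem D hD G hp f rho orbs G1 m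
      hyp J hJ _ h1 h2
    have h3 : n0 * y * n0⁻¹ ∈ K0 := by rw [e]; exact hX J hJ t' ht'
    have e2 : y = n0⁻¹ * (n0 * y * n0⁻¹) * n0 := by group
    show y ∈ K0
    rw [e2]
    exact K0.mul_mem (K0.mul_mem (K0.inv_mem hn0) h3) hn0

end Cfsg.Agent.Lib.Helper7.TwGen
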