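import Mathlib
import Cfsg.Agent.Lib.Helper7.TwGen1
import Cfsg.Agent.Lib.Helper7.TwGen2
import Cfsg.Agent.Lib.Helper7.Ch2G4
import Cfsg.Agent.Lib.Helper1.TGAsmT
import Cfsg.Agent.Lib.Helper2.TwAutT3
import Cfsg.Agent.Lib.Helper9.TwAutT5
import Cfsg.Agent.Lib.Helper5.TwAutInst
import Cfsg.Agent.Lib.Helper5.Tw3D4Core

set_option autoImplicit false
set_option maxRecDepth 100000

/-!
S2407: the twisted group `³D₄(q)` is generated by the two elements
`a = h_J(k) x_s(1)` and `b = x_J(1) n_w`, `J = [0,2,3]`, `s` the highest root, `w = [1,0,2,3]`.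
-/

namespace Cfsg.Agent.Lib.Helper7.TwGen

open Cfsg Cfsg.Lie Cfsg.Agent.Lib.Helper5.ChevStruct Cfsg.Agent.Lib.Helper5.ChevSym
open Cfsg.Agent.Lib.Helper5.TwAut Cfsg.Agent.Lib.Helper5.RankOneHom
open Cfsg.Agent.Lib.Helper5.Tw3D4 Cfsg.Agent.Lib.Helper7.Ch2G Cfsg.Agent.Lib.Helper1.TG

variable {K : Type*} [Field K] [Fintype K]

/-- a generator of the multiplicative group of a finite field -/
theorem exists_gen : ∃ k : K, k ≠ 0 ∧ ∀ x : K, x ≠ 0 → ∃ m : ℕ, x = k ^ m := by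
  classical
  obtain ⟨g, hg⟩ := IsCyclic.exists_generator (α := Kˣ)
  refine ⟨(g : K), Units.ne_zero g, fun x hx => ?_⟩
  have h1 : Units.mk0 x hx ∈ Subgroup.zpowers g := hg _
  rw [← mem_powers_iff_mem_zpowers] at h1
  obtain ⟨m, hm⟩ := h1
  refine ⟨m, ?_⟩
  have := congrArg (fun u : Kˣ => (u : K)) hm
  simpa using this.symm

/-- the roots `w⁻¹ p_i`, `i = 0, 2, 3`, for `w = [1,0,2,3]` -/
def rr4 (i : ℕ) : ℕ := if i = 0 then 17 else if i = 2 then 20 else 21

theorem twoGen_D4 {q : ℕ} (hq : IsPrimePow q) (hK : Fintype.card K = q ^ 3) :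
    ∃ a b : GL chevD4.Idx K, a ∈ twistedD4 K q ∧ b ∈ twistedD4 K q ∧
      twistedD4 K q ≤ Subgroup.closure {a, b} := by
  classical
  obtain ⟨f, hf, hfm⟩ := Cfsg.Agent.Lib.Helper5.FrobFix.exists_frob hq (by norm_num : 3 ≠ 0) hK
  have hf3 : ∀ x, f (f (f x)) = x := fun x => hfm x
  have hyp := Cfsg.Agent.Lib.Helper5.TwAutInst.hyp4A hq hK f hf hf3
  obtain ⟨p, e, hp, he, hqe, hchar⟩ :=
    Cfsg.Agent.Lib.Helper5.TwAutInst.exists_char hq (by norm_num : 3 ≠ 0) hK
  haveI : Fact p.Prime := ⟨hp⟩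
  haveI := hchar
  obtain ⟨k, hk0, hgen⟩ := exists_gen (K := K)
  have hq2 : 2 ≤ q := hq.two_le
  have hq3 : 8 ≤ q ^ 3 := by
    calc 8 = 2 ^ 3 := by norm_num
      _ ≤ q ^ 3 := Nat.pow_le_pow_left hq2 3
  have hord : orderOf k = q ^ 3 - 1 := by rw [orderOf_gen k hk0 hgen, hK]
  have hJ3 : ([0, 2, 3] : List ℕ) ∈ orbits := by simp [orbits]
  have hJ1 : ([1] : List ℕ) ∈ orbits := by simp [orbits]
  have hall3 : ∀ t : K, InK f [0, 2, 3] t := fun t => hyp.hfm t
  have R := Cfsg.Agent.Lib.Helper2.TwAut.relT chevD4 hD4 gD4a chkGraphPerm_gD4a f rho4 orbits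
    (twistedD4 K q) 3 hyp [0, 2, 3] hJ3
  -- notation
  set X : K → GL chevD4.Idx K := fun t => xT chevD4 hD4 f [0, 2, 3] t with hX
  set hh : GL chevD4.Idx K := hT chevD4 hD4 f [0, 2, 3] k with hhh
  set xs : GL chevD4.Idx K := xGL chevD4 hD4 23 1 with hxs
  set n : GL chevD4.Idx K := wGL chevD4 hD4 [1, 0, 2, 3] with hn
  -- values of `sT`
  have hs0 : sT f [0, 2, 3] k 0 = k := rfl
  have hs2 : sT f [0, 2, 3] k 2 = k ^ q := by
    show (f ^ 1) k = k ^ q
    rw [pow_one, hf]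
  have hs3 : sT f [0, 2, 3] k 3 = k ^ (q ^ 2) := by
    show (f ^ 2) k = k ^ (q ^ 2)
    rw [pow_two, RingHom.mul_def, RingHom.comp_apply, hf, hf, ← pow_mul, ← pow_two]
  have hsne : ∀ i ∈ ([0, 2, 3] : List ℕ), sT f [0, 2, 3] k i ≠ 0 := by
    intro i hi
    simp only [List.mem_cons, List.not_mem_nil, or_false] at hi
    rcases hi with rfl | rfl | rfl
    · rw [hs0]; exact hk0
    · rw [hs2]; exact pow_ne_zero _ hk0
    · rw [hs3]; exact pow_ne_zero _ hk0
  have hJlt : ∀ i ∈ ([0, 2, 3] : List ℕ), i < chevD4.rank := by decide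
  -- memberships
  have hhm := Cfsg.Agent.Lib.Helper2.TwAut.hT_mem chevD4 hD4 gD4a chkGraphPerm_gD4a f rho4 orbits
    (twistedD4 K q) 3 hyp [0, 2, 3] hJ3 k hk0 (hall3 k)
  have hhD : hh ∈ chevD4.diagonalSubgroup K := (Subgroup.mem_inf.1 hhm).1
  have hhG : hh ∈ twistedD4 K q := (Subgroup.mem_inf.1 hhm).2
  have hnG : n ∈ twistedD4 K q := by
    have e1 : n = wGL chevD4 hD4 [1] * wGL chevD4 hD4 [0, 2, 3] := by
      rw [hn, ← wGL_append]; rfl
    rw [e1]
    exact mul_mem (hyp.bn.hn [1] hJ1) (hyp.bn.hn [0, 2, 3] hJ3)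
  have hxsG : xs ∈ twistedD4 K q := by
    rw [hyp.bn.hG1]
    refine Subgroup.mem_inf.2 ⟨xGL_mem_group chevD4 hD4 23 1, ?_⟩
    rw [mem_sigmaFix, sigma_xGL chevD4 hD4 gD4a chkGraphPerm_gD4a hyp.bn.hG f 23 (by decide) 1]
    have e1 : gD4a.pr.getD 23 0 = 23 := by decide
    have e2 : gD4a.eps.getD 23 1 = 1 := by decide
    rw [e1, e2, map_one, Int.cast_one, one_mul]
  have hX1G : X 1 ∈ twistedD4 K q :=
    Cfsg.Agent.Lib.Helper1.TwAut.xT_mem chevD4 hD4 gD4a chkGraphPerm_gD4a f rho4 orbits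
      (twistedD4 K q) 3 hyp [0, 2, 3] hJ3 1 (hall3 1)
  refine ⟨hh * xs, X 1 * n, mul_mem hhG hxsG, mul_mem hX1G hnG, ?_⟩
  set K0 : Subgroup (GL chevD4.Idx K) := Subgroup.closure {hh * xs, X 1 * n} with hK0
  have haK : hh * xs ∈ K0 := Subgroup.subset_closure (by simp)
  have hbK : X 1 * n ∈ K0 := Subgroup.subset_closure (by simp)
  -- step 1: `hh` and `xs` lie in `K0`
  have hcomm : Commute hh xs := by
    have h1 := hProd_mul_x chevD4 hD4 [0, 2, 3] hJlt (sT f [0, 2, 3] k) hsne 23 (1 : K)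
    have c0 : chevD4.cartan 0 23 = 0 := by decide
    have c2 : chevD4.cartan 2 23 = 0 := by decide
    have c3 : chevD4.cartan 3 23 = 0 := by decide
    simp only [List.map_cons, List.map_nil, List.prod_cons, List.prod_nil, c0, c2, c3, zpow_zero,
      mul_one] at h1
    exact h1
  obtain ⟨hhz, hxz⟩ := mem_zpowers_of_coprime hh xs hcomm (Fintype.card K - 1) p
    (diag_pow_card chevD4 hD4 _ hhD) (xGL_pow_char chevD4 hD4 p 23 1)
    (coprime_card_sub_one p).symm
  have hzp : Subgroup.zpowers (hh * xs) ≤ K0 := Subgroup.zpowers_le.2 haK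
  have hhK : hh ∈ K0 := hzp hhz
  have hxsK : xs ∈ K0 := hzp hxz
  -- the action of `hh` on `X`
  have hconjX : ∀ t : K, hh * X t * hh⁻¹ = X (k ^ 2 * t) := by
    intro t
    have := R.h_x k t hk0
    calc hh * X t * hh⁻¹ = (X (k ^ 2 * t) * hh) * hh⁻¹ := by rw [← this]
      _ = X (k ^ 2 * t) := by group
  have hXadd : ∀ a b : K, X a * X b = X (a + b) := R.x_add
  have hX0 : X 0 = 1 := R.x_zero
  have hXinv : ∀ t : K, (X t)⁻¹ = X (-t) := by
    intro t
    have := hXadd t (-t)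
    rw [add_neg_cancel, hX0] at this
    exact inv_eq_of_mul_eq_one_right this
  -- step 2: the torus element `h' = n hh n⁻¹`
  set h' : GL chevD4.Idx K := n * hh * n⁻¹ with hh'
  have hnmon : n ∈ chevD4.monomialSubgroup K := wGL_mem chevD4 hD4 _ (by decide)
  have hh'D : h' ∈ chevD4.diagonalSubgroup K := (conj_monomial_diag_mem chevD4 hD4 n hnmon hh hhD).1
  have hh'G : h' ∈ twistedD4 K q := mul_mem (mul_mem hnG hhG) (inv_mem hnG)
  obtain ⟨c', hc'0, -, hc'X, -⟩ := Cfsg.Agent.Lib.Helper9.TwAut.diag_conj_xT chevD4 hD4 gD4a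
    chkGraphPerm_gD4a f rho4 orbits (twistedD4 K q) 3 hyp [0, 2, 3] hJ3 h' hh'D hh'G
  have hc'X' : ∀ t : K, h' * X t * h'⁻¹ = X (c' * t) := hc'X
  -- `c' ≠ 1`
  have hc'1 : c' ≠ 1 := by
    intro hc1
    obtain ⟨ε, hε, hconj⟩ := Cfsg.Agent.Lib.Helper1.TwAut.wGL_conj_word (K := K) chevD4 hD4
      [1, 0, 2, 3] (by decide) [0, 2, 3] rr4 (by decide)
    have hw : ∀ j ∈ ([0, 2, 3] : List ℕ), wAct chevD4 [1, 0, 2, 3] (rr4 j) = chevD4.simple j := by
      decide
    have hconj' : ∀ u : ℕ → K,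
        n * wordGL chevD4 hD4 (([0, 2, 3] : List ℕ).map fun j => (rr4 j, u j)) * n⁻¹
          = wordGL chevD4 hD4 (([0, 2, 3] : List ℕ).map fun j => (chevD4.simple j, ε j * u j)) := by
      intro u
      rw [hconj u]
      congr 1
    have hεε : ∀ j, ε j * ε j = 1 := by
      intro j
      rcases hε j with h | h <;> rw [h] <;> ring
    -- `T(u1) = n⁻¹ X(1) n`
    set u1 : ℕ → K := fun j => ε j * sT f [0, 2, 3] 1 j with hu1
    have e1 : n * wordGL chevD4 hD4 (([0, 2, 3] : List ℕ).map fun j => (rr4 j, u1 j)) * n⁻¹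
        = X 1 := by
      rw [hconj' u1]
      show _ = wordGL chevD4 hD4 (([0, 2, 3] : List ℕ).map fun i =>
        (chevD4.simple i, sT f [0, 2, 3] 1 i))
      congr 1
      apply List.map_congr_left
      intro j _
      rw [hu1]
      show (chevD4.simple j, ε j * (ε j * sT f [0, 2, 3] 1 j)) = _
      rw [← mul_assoc, hεε j, one_mul]
    -- the action of `hh` on `T`
    set χ : ℕ → K := fun i =>
      (([0, 2, 3] : List ℕ).map fun j => (sT f [0, 2, 3] k j) ^ (chevD4.cartan j (rr4 i))).prod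
      with hχ
    have e2 : hh * wordGL chevD4 hD4 (([0, 2, 3] : List ℕ).map fun j => (rr4 j, u1 j)) * hh⁻¹
        = wordGL chevD4 hD4 (([0, 2, 3] : List ℕ).map fun j => (rr4 j, χ j * u1 j)) := by
      have h1 : hh * wordGL chevD4 hD4 (([0, 2, 3] : List ℕ).map fun j => (rr4 j, u1 j))
          = wordGL chevD4 hD4 (([0, 2, 3] : List ℕ).map fun j => (rr4 j, χ j * u1 j)) * hh :=
        hProd_mul_word chevD4 hD4 [0, 2, 3] hJlt (sT f [0, 2, 3] k) hsne [0, 2, 3] rr4 u1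
      rw [h1]
      group
    -- `h' X(1) h'⁻¹` as a word
    have e3 : h' * X 1 * h'⁻¹
        = wordGL chevD4 hD4 (([0, 2, 3] : List ℕ).map fun j =>
            (chevD4.simple j, ε j * (χ j * u1 j))) := by
      rw [← hconj' (fun j => χ j * u1 j), ← e2, ← e1, hh']
      group
    have e4 := hc'X' 1
    rw [hc1, one_mul, e3] at e4
    -- compare the coefficients at `p_0`
    have hce : ∀ u : ℕ → K, Cfsg.Agent.Lib.Helper8.ChevPsi.coefEntry chevD4 hD4 0 (by decide)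
        (wordGL chevD4 hD4 (([0, 2, 3] : List ℕ).map fun j => (chevD4.simple j, u j))) = u 0 := by
      intro u
      have h := Cfsg.Agent.Lib.Helper1.TwAut.coefEntry_posWord (K := K) chevD4 hD4 0 (by decide)
        [0, 2, 3] id (by decide) u
      exact h.trans (by simp)
    have e5 := congrArg (Cfsg.Agent.Lib.Helper8.ChevPsi.coefEntry chevD4 hD4 0 (by decide)) e4
    have e6 : X 1 = wordGL chevD4 hD4 (([0, 2, 3] : List ℕ).map fun j =>
        (chevD4.simple j, sT f [0, 2, 3] 1 j)) := rfl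
    rw [e6, hce, hce] at e5
    -- `χ 0 = 1`
    have hs10 : sT f [0, 2, 3] (1 : K) 0 = 1 := rfl
    rw [hs10] at e5
    simp only [hu1, hs10, mul_one] at e5
    have e7 : χ 0 = 1 := by
      have : ε 0 * (χ 0 * ε 0) = χ 0 := by
        calc ε 0 * (χ 0 * ε 0) = (ε 0 * ε 0) * χ 0 := by ring
          _ = χ 0 := by rw [hεε 0, one_mul]
      rw [← this]
      exact e5
    -- but `χ 0 = k⁻¹ k^q k^(q²) ≠ 1`
    have c0 : chevD4.cartan 0 17 = -1 := by decide
    have c2 : chevD4.cartan 2 17 = 1 := by decide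
    have c3 : chevD4.cartan 3 17 = 1 := by decide
    have e8 : χ 0 = k⁻¹ * (k ^ q * (k ^ (q ^ 2) * 1)) := by
      rw [hχ]
      show (([0, 2, 3] : List ℕ).map fun j =>
        (sT f [0, 2, 3] k j) ^ (chevD4.cartan j 17)).prod = _
      simp only [List.map_cons, List.map_nil, List.prod_cons, List.prod_nil, c0, c2, c3, hs0, hs2,
        hs3, zpow_neg, zpow_one]
    rw [e8, mul_one] at e7
    have e9 : k ^ (q + q ^ 2) = k := by
      have : k * (k⁻¹ * (k ^ q * k ^ (q ^ 2))) = k * 1 := by rw [e7]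
      rw [← mul_assoc, mul_inv_cancel₀ hk0, one_mul, mul_one, ← pow_add] at this
      exact this
    have hpos : 1 ≤ q + q ^ 2 := by nlinarith
    have e10 : k ^ (q + q ^ 2 - 1) = 1 := by
      have : k * k ^ (q + q ^ 2 - 1) = k * 1 := by
        rw [mul_one, ← pow_succ', Nat.sub_add_cancel hpos, e9]
      exact mul_left_cancel₀ hk0 this
    have e11 := orderOf_dvd_of_pow_eq_one e10
    rw [hord] at e11
    have hlt : q + q ^ 2 - 1 < q ^ 3 - 1 := by
      have : q + q ^ 2 < q ^ 3 := by nlinarith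
      omega
    have hpos' : 0 < q + q ^ 2 - 1 := by
      have : 2 ≤ q + q ^ 2 := by nlinarith
      omega
    exact absurd (Nat.le_of_dvd hpos' e11) (by omega)
  -- step 3: a non-trivial element of `X` in `K0`
  set v1 : K := 1 - c' with hv1
  have hv1ne : v1 ≠ 0 := by
    rw [hv1]
    intro h
    exact hc'1 (sub_eq_zero.1 h).symm
  have hbh : (X 1 * n) * hh * (X 1 * n)⁻¹ = X v1 * h' := by
    have e1 : (X 1 * n) * hh * (X 1 * n)⁻¹ = X 1 * h' * (X 1)⁻¹ := by rw [hh']; group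
    have e2 : h' * X (-1) = X (c' * -1) * h' := by
      have := hc'X' (-1)
      calc h' * X (-1) = (h' * X (-1) * h'⁻¹) * h' := by group
        _ = X (c' * -1) * h' := by rw [this]
    rw [e1, hXinv, mul_assoc, e2, ← mul_assoc, hXadd]
    congr 2
    rw [hv1]; ring
  have hgK : X v1 * h' ∈ K0 := by
    rw [← hbh]
    exact mul_mem (mul_mem hbK hhK) (inv_mem hbK)
  have hz : hh * (X v1 * h') * hh⁻¹ * (X v1 * h')⁻¹ = X (k ^ 2 * v1 + -v1) := by
    have hc := diag_commute chevD4 hD4 hh h' hhD hh'D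
    have e1 : hh * (X v1 * h') * hh⁻¹ * (X v1 * h')⁻¹
        = (hh * X v1 * hh⁻¹) * (hh * h' * hh⁻¹ * h'⁻¹) * (X v1)⁻¹ := by group
    have e2 : hh * h' * hh⁻¹ * h'⁻¹ = 1 := by rw [hc]; group
    rw [e1, e2, mul_one, hconjX, hXinv, hXadd]
  have hzK : X (k ^ 2 * v1 + -v1) ∈ K0 := by
    rw [← hz]
    exact mul_mem (mul_mem (mul_mem hhK hgK) (inv_mem hhK)) (inv_mem hgK)
  have hk2 : k ^ 2 ≠ 1 := by
    intro h
    have := orderOf_dvd_of_pow_eq_one h
    rw [hord] at this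
    have := Nat.le_of_dvd (by norm_num) this
    omega
  have hv2 : k ^ 2 * v1 + -v1 ≠ 0 := by
    have : k ^ 2 * v1 + -v1 = (k ^ 2 - 1) * v1 := by ring
    rw [this]
    exact mul_ne_zero (sub_ne_zero.2 hk2) hv1ne
  -- step 4: scaling
  set A3 : AddSubgroup K :=
    { carrier := {u | X u ∈ K0}
      add_mem' := by
        intro a b ha hb
        show X (a + b) ∈ K0
        rw [← hXadd]
        exact mul_mem ha hb
      zero_mem' := by
        show X 0 ∈ K0
        rw [hX0]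
        exact one_mem K0
      neg_mem' := by
        intro a ha
        show X (-a) ∈ K0
        rw [← hXinv]
        exact inv_mem ha } with hA3
  have hA3mem : ∀ u : K, u ∈ A3 ↔ X u ∈ K0 := fun u => Iff.rfl
  have hXall : ∀ u : K, X u ∈ K0 := by
    intro u
    rw [← hA3mem]
    apply abs_scale A3 k hgen ?_ _ hv2 ((hA3mem _).2 hzK)
    intro t ht
    rw [hA3mem] at ht ⊢
    rw [← hconjX]
    exact mul_mem (mul_mem hhK ht) (inv_mem hhK)
  -- step 5: `n ∈ K0`
  have hnK : n ∈ K0 := by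
    have : n = (X 1)⁻¹ * (X 1 * n) := by group
    rw [this]
    exact mul_mem (inv_mem (hXall 1)) hbK
  -- step 6: the long fundamental root group
  have hn5K : wGL chevD4 hD4 (wpow [1, 0, 2, 3] 5) ∈ K0 := by
    rw [wGL_wpow]
    exact K0.pow_mem hnK 5
  obtain ⟨ε5, hε5, hc5⟩ := h7_wGL_conj (F := K) chevD4 hD4 (wpow [1, 0, 2, 3] 5) (by decide) 23
    (by decide)
  have hw5 : wAct chevD4 (wpow [1, 0, 2, 3] 5) 23 = 14 := by decide
  rw [hw5] at hc5
  have hε50 : ε5 ≠ 0 := by rcases hε5 with rfl | rfl <;> simp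
  have hx14 : xGL chevD4 hD4 14 ε5 ∈ K0 := by
    have := hc5 1
    rw [mul_one] at this
    rw [← this]
    exact mul_mem (mul_mem hn5K hxsK) (inv_mem hn5K)
  set Nk : K := k ^ (q ^ 2 + q + 1) with hNk
  have hconj14 : ∀ t : K, hh * xGL chevD4 hD4 14 t * hh⁻¹ = xGL chevD4 hD4 14 (Nk⁻¹ * t) := by
    intro t
    have h1 : hh * xGL chevD4 hD4 14 t = xGL chevD4 hD4 14
        ((([0, 2, 3] : List ℕ).map fun i => (sT f [0, 2, 3] k i) ^ (chevD4.cartan i 14)).prod * t)
          * hh := hProd_mul_x chevD4 hD4 [0, 2, 3] hJlt (sT f [0, 2, 3] k) hsne 14 t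
    have c0 : chevD4.cartan 0 14 = -1 := by decide
    have c2 : chevD4.cartan 2 14 = -1 := by decide
    have c3 : chevD4.cartan 3 14 = -1 := by decide
    simp only [List.map_cons, List.map_nil, List.prod_cons, List.prod_nil, c0, c2, c3, hs0, hs2,
      hs3, zpow_neg, zpow_one, mul_one] at h1
    have e1 : k⁻¹ * ((k ^ q)⁻¹ * (k ^ (q ^ 2))⁻¹) = Nk⁻¹ := by
      rw [hNk, pow_add, pow_add, pow_one, mul_inv, mul_inv]
      ring
    rw [e1] at h1
    rw [h1]
    group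
  have hNk0 : Nk ≠ 0 := pow_ne_zero _ hk0
  have hA1 : ∀ t ∈ paramSub chevD4 hD4 K0 14, Nk * t ∈ paramSub chevD4 hD4 K0 14 := by
    intro t ht
    rw [mem_paramSub] at ht ⊢
    have h1 := hconj14 (Nk * t)
    rw [← mul_assoc, inv_mul_cancel₀ hNk0, one_mul] at h1
    have : xGL chevD4 hD4 14 (Nk * t) = hh⁻¹ * xGL chevD4 hD4 14 t * hh := by
      rw [← h1]; group
    rw [this]
    exact mul_mem (mul_mem (inv_mem hhK) ht) hhK
  have hx14all : ∀ t : K, t ^ q = t → xGL chevD4 hD4 14 t ∈ K0 := by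
    intro t ht
    by_cases ht0 : t = 0
    · rw [ht0, h7_xGL_zero]
      exact one_mem K0
    · have hεq : ε5 ^ q = ε5 := by
        rcases hε5 with h | h
        · rw [h, one_pow]
        · rw [h, ← hf, map_neg, map_one]
      have hv : (t * ε5) ^ q = t * ε5 := by rw [mul_pow, ht, hεq]
      obtain ⟨j, hj⟩ := exists_pow_norm_of_fixed q hq2 hK k hk0 hgen (t * ε5)
        (mul_ne_zero ht0 hε50) hv
      have hεε : ε5 * ε5 = 1 := by rcases hε5 with h | h <;> rw [h] <;> ring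
      have e1 : t = Nk ^ j * ε5 := by
        rw [← hj, mul_assoc, hεε, mul_one]
      rw [← mem_paramSub, e1]
      exact mul_pow_mem _ Nk hA1 j ε5 ((mem_paramSub _ _ _ _ _).2 hx14)
  -- step 7: conclusion
  have hw0eq : w0Js4.flatten = wpow [1, 0, 2, 3] 3 := by decide
  have hn0K : wGL chevD4 hD4 w0Js4.flatten ∈ K0 := by
    rw [hw0eq, wGL_wpow]
    exact K0.pow_mem hnK 3
  have hn0G : wGL chevD4 hD4 w0Js4.flatten ∈ twistedD4 K q := by
    rw [hw0eq, wGL_wpow]
    exact (twistedD4 K q).pow_mem hnG 3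
  apply le_of_pos_nodes chevD4 hD4 gD4a chkGraphPerm_gD4a f rho4 orbits (twistedD4 K q) 3 hyp K0
    w0Js4.flatten w0Js4_chk Cfsg.Agent.Lib.Helper5.TwAutInst.oppOK4 hn0K hn0G
  intro J hJ t ht
  simp only [orbits, List.mem_cons, List.not_mem_nil, or_false] at hJ
  rcases hJ with rfl | rfl
  · exact hXall t
  · have e1 : xT chevD4 hD4 f [1] t = xGL chevD4 hD4 14 t := by
      unfold xT
      simp only [List.map_cons, List.map_nil, wordGL, List.prod_cons, List.prod_nil, mul_one]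
      rfl
    rw [e1]
    apply hx14all
    have : (f ^ 1) t = t := ht
    rw [pow_one, hf] at this
    exact this

end Cfsg.Agent.Lib.Helper7.TwGen
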