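import Mathlib
import Cfsg.Agent.Lib.Helper7.TwGen1
import Cfsg.Agent.Lib.Helper7.TwGen2
import Cfsg.Agent.Lib.Helper7.Ch2G4
import Cfsg.Agent.Lib.Helper1.TGAsmT
import Cfsg.Agent.Lib.Helper2.TwAutT3
import Cfsg.Agent.Lib.Helper9.TwAutT5
import Cfsg.Agent.Lib.Helper5.TwAutInst
import Cfsg.Agent.Lib.Helper5.Tw2E6Core

set_option autoImplicit false
set_option maxRecDepth 1000000
set_option maxHeartbeats 4000000

/-!
S2406: the twisted group `²E₆(q)` is generated by the two elements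
`a = h_J(k) x_{p_1}(1)` and `b = x_J(1) n_w`, `J = [0,5]`, `w = [1,3,2,4,0,5]`.
-/

namespace Cfsg.Agent.Lib.Helper7.TwGen

open Cfsg Cfsg.Lie Cfsg.Agent.Lib.Helper5.ChevStruct Cfsg.Agent.Lib.Helper5.ChevSym
open Cfsg.Agent.Lib.Helper5.TwAut Cfsg.Agent.Lib.Helper5.RankOneHom
open Cfsg.Agent.Lib.Helper5.Tw2E6 Cfsg.Agent.Lib.Helper7.Ch2G Cfsg.Agent.Lib.Helper1.TG

variable {K : Type*} [Field K] [Fintype K]

/-- a generator of the multiplicative group of a finite field -/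
theorem exists_gen' : ∃ k : K, k ≠ 0 ∧ ∀ x : K, x ≠ 0 → ∃ m : ℕ, x = k ^ m := by
  classical
  obtain ⟨g, hg⟩ := IsCyclic.exists_generator (α := Kˣ)
  refine ⟨(g : K), Units.ne_zero g, fun x hx => ?_⟩
  have h1 : Units.mk0 x hx ∈ Subgroup.zpowers g := hg _
  rw [← mem_powers_iff_mem_zpowers] at h1
  obtain ⟨m, hm⟩ := h1
  refine ⟨m, ?_⟩
  have := congrArg (fun u : Kˣ => (u : K)) hm
  simpa using this.symm

/-- the elements of the fixed field of `x ↦ x^q` in the field of order `q^2` are the powers of the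
norm of a generator -/
theorem exists_pow_norm_of_fixed2 (q : ℕ) (hq : 2 ≤ q) (hF : Fintype.card K = q ^ 2)
    (k : K) (hk0 : k ≠ 0) (hgen : ∀ x : K, x ≠ 0 → ∃ m : ℕ, x = k ^ m) (v : K) (hv0 : v ≠ 0)
    (hv : v ^ q = v) : ∃ j : ℕ, v = (k ^ (q + 1)) ^ j := by
  obtain ⟨i, hi⟩ := hgen v hv0
  have hord := orderOf_gen k hk0 hgen
  rw [hF] at hord
  have h1 : k ^ (i * (q - 1)) = 1 := by
    have h2 : k ^ i * k ^ (i * (q - 1)) = k ^ i := by
      rw [← pow_add]
      have : i + i * (q - 1) = i * q := by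
        have hq1 : 1 ≤ q := by omega
        calc i + i * (q - 1) = i * (1 + (q - 1)) := by ring
          _ = i * q := by rw [Nat.add_sub_cancel' hq1]
      rw [this, pow_mul, ← hi, hv]
    have h3 : k ^ i ≠ 0 := pow_ne_zero _ hk0
    exact mul_left_cancel₀ h3 (by rw [h2, mul_one])
  have h4 : orderOf k ∣ i * (q - 1) := orderOf_dvd_of_pow_eq_one h1
  rw [hord] at h4
  have h5 : q ^ 2 - 1 = (q + 1) * (q - 1) := by
    obtain ⟨r, rfl⟩ : ∃ r, q = r + 1 := ⟨q - 1, by omega⟩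
    simp only [Nat.add_sub_cancel]
    have : (r + 1) ^ 2 = ((r + 1 + 1) * r) + 1 := by ring
    rw [this, Nat.add_sub_cancel]
  rw [h5] at h4
  have hq1 : 0 < q - 1 := by omega
  have h6 : (q + 1) ∣ i := Nat.dvd_of_mul_dvd_mul_right hq1 h4
  obtain ⟨j, hj⟩ := h6
  refine ⟨j, ?_⟩
  rw [hi, hj, pow_mul]

/-- the roots `w⁻¹ p_i`, `i = 0, 5`, for `w = [1,3,2,4,0,5]` -/
def rr6 (i : ℕ) : ℕ := if i = 0 then 42 else 37

/-- the nodes `2, 4` as the images of the nodes `0, 5` -/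
def ee6 (i : ℕ) : ℕ := if i = 0 then 2 else 4

theorem w0chk6 : checkW0 chevE6 (wpow [1, 3, 2, 4, 0, 5] 6) = true := by decide +kernel

theorem act_w_rr6 : ∀ j ∈ ([0, 5] : List ℕ),
    wAct chevE6 [1, 3, 2, 4, 0, 5] (rr6 j) = chevE6.simple j := by decide +kernel

theorem act11_simple : ∀ j ∈ ([0, 5] : List ℕ),
    wAct chevE6 (wpow [1, 3, 2, 4, 0, 5] 11) (chevE6.simple j) = chevE6.simple (ee6 j) := by
  decide +kernel

theorem act2_46 : wAct chevE6 (wpow [1, 3, 2, 4, 0, 5] 2) 46 = 51 := by decide +kernel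

theorem act10_51 : wAct chevE6 (wpow [1, 3, 2, 4, 0, 5] 10) 51 = 46 := by decide +kernel

theorem act11_51 : wAct chevE6 (wpow [1, 3, 2, 4, 0, 5] 11) 51 = 39 := by decide +kernel

theorem wd_w6 : ∀ i ∈ ([1, 3, 2, 4, 0, 5] : List ℕ), i < chevE6.rank := by decide +kernel

theorem wd_w6_11 : ∀ i ∈ wpow [1, 3, 2, 4, 0, 5] 11, i < chevE6.rank :=
  Wd_wpow chevE6 _ wd_w6 11

theorem wd_w6_2 : ∀ i ∈ wpow [1, 3, 2, 4, 0, 5] 2, i < chevE6.rank :=
  Wd_wpow chevE6 _ wd_w6 2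

theorem rr6_lt : ∀ j ∈ ([0, 5] : List ℕ), rr6 j < chevE6.nroots := by decide +kernel

theorem simple_lt6 : ∀ j ∈ ([0, 5] : List ℕ), chevE6.simple j < chevE6.nroots := by
  decide +kernel

theorem oppOK6' : OppOK chevE6 orbits (wpow [1, 3, 2, 4, 0, 5] 6) := by
  unfold OppOK
  decide +kernel

theorem twoGen_E6 {q : ℕ} (hq : IsPrimePow q) (hK : Fintype.card K = q ^ 2) :
    ∃ a b : GL chevE6.Idx K, a ∈ twistedE6 K q ∧ b ∈ twistedE6 K q ∧
      twistedE6 K q ≤ Subgroup.closure {a, b} := by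
  classical
  obtain ⟨f, hf, hfm⟩ := Cfsg.Agent.Lib.Helper5.FrobFix.exists_frob hq (by norm_num : 2 ≠ 0) hK
  have hf2 : ∀ x, f (f x) = x := fun x => hfm x
  have hyp := Cfsg.Agent.Lib.Helper5.TwAutInst.hyp6A hq hK f hf hf2
  obtain ⟨p, e, hp, he, hqe, hchar⟩ :=
    Cfsg.Agent.Lib.Helper5.TwAutInst.exists_char hq (by norm_num : 2 ≠ 0) hK
  have : Fact p.Prime := ⟨hp⟩
  have := hchar
  obtain ⟨k, hk0, hgen⟩ := exists_gen' (K := K)
  have hq2 : 2 ≤ q := hq.two_le
  have hq3 : 4 ≤ q ^ 2 := by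
    calc 4 = 2 ^ 2 := by norm_num
      _ ≤ q ^ 2 := Nat.pow_le_pow_left hq2 2
  have hord : orderOf k = q ^ 2 - 1 := by rw [orderOf_gen k hk0 hgen, hK]
  have hJ0 : ([0, 5] : List ℕ) ∈ orbits := by simp [orbits]
  have hJ1 : ([1] : List ℕ) ∈ orbits := by simp [orbits]
  have hJ2 : ([2, 4] : List ℕ) ∈ orbits := by simp [orbits]
  have hJ3 : ([3] : List ℕ) ∈ orbits := by simp [orbits]
  have hall0 : ∀ t : K, InK f [0, 5] t := fun t => hyp.hfm t
  have hall2 : ∀ t : K, InK f [2, 4] t := fun t => hyp.hfm t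
  have R := Cfsg.Agent.Lib.Helper2.TwAut.relT chevE6 hE6 gE6 chkGraphPerm_gE6 f rho6 orbits
    (twistedE6 K q) 2 hyp [0, 5] hJ0
  -- notation
  set X : K → GL chevE6.Idx K := fun t => xT chevE6 hE6 f [0, 5] t with hX
  set hh : GL chevE6.Idx K := hT chevE6 hE6 f [0, 5] k with hhh
  set xs : GL chevE6.Idx K := xGL chevE6 hE6 46 1 with hxs
  set n : GL chevE6.Idx K := wGL chevE6 hE6 [1, 3, 2, 4, 0, 5] with hn
  -- values of `sT`
  have hs0 : sT f [0, 5] k 0 = k := rfl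
  have hs5 : sT f [0, 5] k 5 = k ^ q := by
    show (f ^ 1) k = k ^ q
    rw [pow_one, hf]
  have hsne : ∀ i ∈ ([0, 5] : List ℕ), sT f [0, 5] k i ≠ 0 := by
    intro i hi
    simp only [List.mem_cons, List.not_mem_nil, or_false] at hi
    rcases hi with rfl | rfl
    · rw [hs0]; exact hk0
    · rw [hs5]; exact pow_ne_zero _ hk0
  have hJlt : ∀ i ∈ ([0, 5] : List ℕ), i < chevE6.rank := by decide
  -- memberships
  have hhm := Cfsg.Agent.Lib.Helper2.TwAut.hT_mem chevE6 hE6 gE6 chkGraphPerm_gE6 f rho6 orbits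
    (twistedE6 K q) 2 hyp [0, 5] hJ0 k hk0 (hall0 k)
  have hhD : hh ∈ chevE6.diagonalSubgroup K := (Subgroup.mem_inf.1 hhm).1
  have hhG : hh ∈ twistedE6 K q := (Subgroup.mem_inf.1 hhm).2
  have hnG : n ∈ twistedE6 K q := by
    have e1 : n = wGL chevE6 hE6 [1] * (wGL chevE6 hE6 [3] * (wGL chevE6 hE6 [2, 4]
        * wGL chevE6 hE6 [0, 5])) := by
      rw [hn, ← wGL_append, ← wGL_append, ← wGL_append]; rfl
    rw [e1]
    exact mul_mem (hyp.bn.hn [1] hJ1) (mul_mem (hyp.bn.hn [3] hJ3)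
      (mul_mem (hyp.bn.hn [2, 4] hJ2) (hyp.bn.hn [0, 5] hJ0)))
  have hxsG : xs ∈ twistedE6 K q := by
    rw [hyp.bn.hG1]
    refine Subgroup.mem_inf.2 ⟨xGL_mem_group chevE6 hE6 46 1, ?_⟩
    rw [mem_sigmaFix, sigma_xGL chevE6 hE6 gE6 chkGraphPerm_gE6 hyp.bn.hG f 46 (by decide) 1]
    have e1 : gE6.pr.getD 46 0 = 46 := by decide
    have e2 : gE6.eps.getD 46 1 = 1 := by decide
    rw [e1, e2, map_one, Int.cast_one, one_mul]
  have hXG : ∀ t : K, X t ∈ twistedE6 K q := fun t =>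
    Cfsg.Agent.Lib.Helper1.TwAut.xT_mem chevE6 hE6 gE6 chkGraphPerm_gE6 f rho6 orbits
      (twistedE6 K q) 2 hyp [0, 5] hJ0 t (hall0 t)
  refine ⟨hh * xs, X 1 * n, mul_mem hhG hxsG, mul_mem (hXG 1) hnG, ?_⟩
  set K0 : Subgroup (GL chevE6.Idx K) := Subgroup.closure {hh * xs, X 1 * n} with hK0
  have haK : hh * xs ∈ K0 := Subgroup.subset_closure (by simp)
  have hbK : X 1 * n ∈ K0 := Subgroup.subset_closure (by simp)
  -- step 1: `hh` and `xs` lie in `K0`
  have hcomm : Commute hh xs := by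
    have h1 : hh * xGL chevE6 hE6 46 (1 : K) = xGL chevE6 hE6 46
        ((([0, 5] : List ℕ).map fun i => (sT f [0, 5] k i) ^ (chevE6.cartan i 46)).prod * 1)
          * hh := hProd_mul_x chevE6 hE6 [0, 5] hJlt (sT f [0, 5] k) hsne 46 (1 : K)
    have c0 : chevE6.cartan 0 46 = 0 := by decide
    have c5 : chevE6.cartan 5 46 = 0 := by decide
    simp only [List.map_cons, List.map_nil, List.prod_cons, List.prod_nil, c0, c5, zpow_zero,
      mul_one] at h1
    exact h1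
  obtain ⟨hhz, hxz⟩ := mem_zpowers_of_coprime hh xs hcomm (Fintype.card K - 1) p
    (diag_pow_card chevE6 hE6 _ hhD) (xGL_pow_char chevE6 hE6 p 46 1)
    (coprime_card_sub_one p).symm
  have hzp : Subgroup.zpowers (hh * xs) ≤ K0 := Subgroup.zpowers_le.2 haK
  have hhK : hh ∈ K0 := hzp hhz
  have hxsK : xs ∈ K0 := hzp hxz
  -- the action of `hh` on `X`
  have hconjX : ∀ t : K, hh * X t * hh⁻¹ = X (k ^ 2 * t) := by
    intro t
    have := R.h_x k t hk0
    calc hh * X t * hh⁻¹ = (X (k ^ 2 * t) * hh) * hh⁻¹ := by rw [← this]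
      _ = X (k ^ 2 * t) := by group
  have hXadd : ∀ a b : K, X a * X b = X (a + b) := R.x_add
  have hX0 : X 0 = 1 := R.x_zero
  have hXinv : ∀ t : K, (X t)⁻¹ = X (-t) := by
    intro t
    have := hXadd t (-t)
    rw [add_neg_cancel, hX0] at this
    exact inv_eq_of_mul_eq_one_right this
  -- step 2: the torus element `h' = n hh n⁻¹`
  set h' : GL chevE6.Idx K := n * hh * n⁻¹ with hh'
  have hnmon : n ∈ chevE6.monomialSubgroup K := wGL_mem chevE6 hE6 _ wd_w6
  have hh'D : h' ∈ chevE6.diagonalSubgroup K := (conj_monomial_diag_mem chevE6 hE6 n hnmon hh hhD).1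
  have hh'G : h' ∈ twistedE6 K q := mul_mem (mul_mem hnG hhG) (inv_mem hnG)
  obtain ⟨c', hc'0, -, hc'X, -⟩ := Cfsg.Agent.Lib.Helper9.TwAut.diag_conj_xT chevE6 hE6 gE6
    chkGraphPerm_gE6 f rho6 orbits (twistedE6 K q) 2 hyp [0, 5] hJ0 h' hh'D hh'G
  have hc'X' : ∀ t : K, h' * X t * h'⁻¹ = X (c' * t) := hc'X
  -- `c' ≠ 1`
  have hc'1 : c' ≠ 1 := by
    intro hc1
    obtain ⟨ε, hε, hconj⟩ := Cfsg.Agent.Lib.Helper1.TwAut.wGL_conj_word (K := K) chevE6 hE6
      [1, 3, 2, 4, 0, 5] wd_w6 [0, 5] rr6 rr6_lt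
    have hconj' : ∀ u : ℕ → K,
        n * wordGL chevE6 hE6 (([0, 5] : List ℕ).map fun j => (rr6 j, u j)) * n⁻¹
          = wordGL chevE6 hE6 (([0, 5] : List ℕ).map fun j => (chevE6.simple j, ε j * u j)) := by
      intro u
      rw [hconj u]
      refine congrArg _ (List.map_congr_left fun j hj => ?_)
      rw [act_w_rr6 j hj]
    have hεε : ∀ j, ε j * ε j = 1 := by
      intro j
      rcases hε j with h | h <;> rw [h] <;> ring
    set u1 : ℕ → K := fun j => ε j * sT f [0, 5] 1 j with hu1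
    have e1 : n * wordGL chevE6 hE6 (([0, 5] : List ℕ).map fun j => (rr6 j, u1 j)) * n⁻¹
        = X 1 := by
      rw [hconj' u1]
      show _ = wordGL chevE6 hE6 (([0, 5] : List ℕ).map fun i =>
        (chevE6.simple i, sT f [0, 5] 1 i))
      congr 1
      apply List.map_congr_left
      intro j _
      rw [hu1]
      show (chevE6.simple j, ε j * (ε j * sT f [0, 5] 1 j)) = _
      rw [← mul_assoc, hεε j, one_mul]
    set χ : ℕ → K := fun i =>
      (([0, 5] : List ℕ).map fun j => (sT f [0, 5] k j) ^ (chevE6.cartan j (rr6 i))).prod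
      with hχ
    have e2 : hh * wordGL chevE6 hE6 (([0, 5] : List ℕ).map fun j => (rr6 j, u1 j)) * hh⁻¹
        = wordGL chevE6 hE6 (([0, 5] : List ℕ).map fun j => (rr6 j, χ j * u1 j)) := by
      have h1 : hh * wordGL chevE6 hE6 (([0, 5] : List ℕ).map fun j => (rr6 j, u1 j))
          = wordGL chevE6 hE6 (([0, 5] : List ℕ).map fun j => (rr6 j, χ j * u1 j)) * hh :=
        hProd_mul_word chevE6 hE6 [0, 5] hJlt (sT f [0, 5] k) hsne [0, 5] rr6 u1
      rw [h1]
      group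
    have e3 : h' * X 1 * h'⁻¹
        = wordGL chevE6 hE6 (([0, 5] : List ℕ).map fun j =>
            (chevE6.simple j, ε j * (χ j * u1 j))) := by
      rw [← hconj' (fun j => χ j * u1 j), ← e2, ← e1, hh']
      group
    have e4 := hc'X' 1
    rw [hc1, one_mul, e3] at e4
    have hce : ∀ u : ℕ → K, Cfsg.Agent.Lib.Helper8.ChevPsi.coefEntry chevE6 hE6 0 (by decide)
        (wordGL chevE6 hE6 (([0, 5] : List ℕ).map fun j => (chevE6.simple j, u j))) = u 0 := by
      intro u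
      have h := Cfsg.Agent.Lib.Helper1.TwAut.coefEntry_posWord (K := K) chevE6 hE6 0 (by decide)
        [0, 5] id (by decide) u
      exact h.trans (by simp)
    have e5 := congrArg (Cfsg.Agent.Lib.Helper8.ChevPsi.coefEntry chevE6 hE6 0 (by decide)) e4
    have e6 : X 1 = wordGL chevE6 hE6 (([0, 5] : List ℕ).map fun j =>
        (chevE6.simple j, sT f [0, 5] 1 j)) := rfl
    rw [e6, hce, hce] at e5
    have hs10 : sT f [0, 5] (1 : K) 0 = 1 := rfl
    rw [hs10] at e5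
    simp only [hu1, hs10, mul_one] at e5
    have e7 : χ 0 = 1 := by
      have : ε 0 * (χ 0 * ε 0) = χ 0 := by
        calc ε 0 * (χ 0 * ε 0) = (ε 0 * ε 0) * χ 0 := by ring
          _ = χ 0 := by rw [hεε 0, one_mul]
      rw [← this]
      exact e5
    have c0 : chevE6.cartan 0 42 = -1 := by decide
    have c5 : chevE6.cartan 5 42 = 0 := by decide
    have e8 : χ 0 = k⁻¹ := by
      rw [hχ]
      show (([0, 5] : List ℕ).map fun j =>
        (sT f [0, 5] k j) ^ (chevE6.cartan j 42)).prod = _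
      simp only [List.map_cons, List.map_nil, List.prod_cons, List.prod_nil, c0, c5, hs0, hs5,
        zpow_neg, zpow_one, zpow_zero, mul_one]
    rw [e8, inv_eq_one] at e7
    have : orderOf k = 1 := by rw [e7, orderOf_one]
    rw [hord] at this
    omega
  -- step 3: a non-trivial element of `X` in `K0`
  set v1 : K := 1 - c' with hv1
  have hv1ne : v1 ≠ 0 := by
    rw [hv1]
    intro h
    exact hc'1 (sub_eq_zero.1 h).symm
  have hbh : (X 1 * n) * hh * (X 1 * n)⁻¹ = X v1 * h' := by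
    have e1 : (X 1 * n) * hh * (X 1 * n)⁻¹ = X 1 * h' * (X 1)⁻¹ := by rw [hh']; group
    have e2 : h' * X (-1) = X (c' * -1) * h' := by
      have := hc'X' (-1)
      calc h' * X (-1) = (h' * X (-1) * h'⁻¹) * h' := by group
        _ = X (c' * -1) * h' := by rw [this]
    rw [e1, hXinv, mul_assoc, e2, ← mul_assoc, hXadd]
    congr 2
    rw [hv1]; ring
  have hgK : X v1 * h' ∈ K0 := by
    rw [← hbh]
    exact mul_mem (mul_mem hbK hhK) (inv_mem hbK)
  have hz : hh * (X v1 * h') * hh⁻¹ * (X v1 * h')⁻¹ = X (k ^ 2 * v1 + -v1) := by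
    have hc := diag_commute chevE6 hE6 hh h' hhD hh'D
    have e1 : hh * (X v1 * h') * hh⁻¹ * (X v1 * h')⁻¹
        = (hh * X v1 * hh⁻¹) * (hh * h' * hh⁻¹ * h'⁻¹) * (X v1)⁻¹ := by group
    have e2 : hh * h' * hh⁻¹ * h'⁻¹ = 1 := by rw [hc]; group
    rw [e1, e2, mul_one, hconjX, hXinv, hXadd]
  have hzK : X (k ^ 2 * v1 + -v1) ∈ K0 := by
    rw [← hz]
    exact mul_mem (mul_mem (mul_mem hhK hgK) (inv_mem hhK)) (inv_mem hgK)
  have hk2 : k ^ 2 ≠ 1 := by
    intro h
    have := orderOf_dvd_of_pow_eq_one h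
    rw [hord] at this
    have := Nat.le_of_dvd (by norm_num) this
    omega
  have hv2 : k ^ 2 * v1 + -v1 ≠ 0 := by
    have : k ^ 2 * v1 + -v1 = (k ^ 2 - 1) * v1 := by ring
    rw [this]
    exact mul_ne_zero (sub_ne_zero.2 hk2) hv1ne
  -- step 4: scaling
  set A3 : AddSubgroup K :=
    { carrier := {u | X u ∈ K0}
      add_mem' := by
        intro a b ha hb
        show X (a + b) ∈ K0
        rw [← hXadd]
        exact mul_mem ha hb
      zero_mem' := by
        show X 0 ∈ K0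
        rw [hX0]
        exact one_mem K0
      neg_mem' := by
        intro a ha
        show X (-a) ∈ K0
        rw [← hXinv]
        exact inv_mem ha } with hA3
  have hA3mem : ∀ u : K, u ∈ A3 ↔ X u ∈ K0 := fun u => Iff.rfl
  have hXall : ∀ u : K, X u ∈ K0 := by
    intro u
    rw [← hA3mem]
    apply abs_scale A3 k hgen ?_ _ hv2 ((hA3mem _).2 hzK)
    intro t ht
    rw [hA3mem] at ht ⊢
    rw [← hconjX]
    exact mul_mem (mul_mem hhK ht) (inv_mem hhK)
  -- step 5: `n ∈ K0`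
  have hnK : n ∈ K0 := by
    have : n = (X 1)⁻¹ * (X 1 * n) := by group
    rw [this]
    exact mul_mem (inv_mem (hXall 1)) hbK
  have hnjK : ∀ j : ℕ, wGL chevE6 hE6 (wpow [1, 3, 2, 4, 0, 5] j) ∈ K0 := by
    intro j
    rw [wGL_wpow]
    exact K0.pow_mem hnK j
  have hnjG : ∀ j : ℕ, wGL chevE6 hE6 (wpow [1, 3, 2, 4, 0, 5] j) ∈ twistedE6 K q := by
    intro j
    rw [wGL_wpow]
    exact (twistedE6 K q).pow_mem hnG j
  -- step 6a: the node `[2,4]`
  have hX24 : ∀ u : K, xT chevE6 hE6 f [2, 4] u ∈ K0 := by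
    intro u
    obtain ⟨ε, hε, hconj⟩ := Cfsg.Agent.Lib.Helper1.TwAut.wGL_conj_word (K := K) chevE6 hE6
      (wpow [1, 3, 2, 4, 0, 5] 11) wd_w6_11 [0, 5] (fun j => chevE6.simple j) simple_lt6
    have hεε : ∀ j, ε j * ε j = 1 := by
      intro j
      rcases hε j with h | h <;> rw [h] <;> ring
    set t : K := ε 0 * u with ht
    set g : GL chevE6.Idx K := wGL chevE6 hE6 (wpow [1, 3, 2, 4, 0, 5] 11) * X t
      * (wGL chevE6 hE6 (wpow [1, 3, 2, 4, 0, 5] 11))⁻¹ with hg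
    have hgK : g ∈ K0 := mul_mem (mul_mem (hnjK 11) (hXall t)) (inv_mem (hnjK 11))
    have hgG : g ∈ twistedE6 K q := mul_mem (mul_mem (hnjG 11) (hXG t)) (inv_mem (hnjG 11))
    have hgw : g = wordGL chevE6 hE6 (([0, 5] : List ℕ).map fun j =>
        (chevE6.simple (ee6 j), ε j * sT f [0, 5] t j)) := by
      rw [hg]
      have := hconj (fun j => sT f [0, 5] t j)
      rw [show X t = wordGL chevE6 hE6 (([0, 5] : List ℕ).map fun j =>
        (chevE6.simple j, sT f [0, 5] t j)) from rfl, this]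
      refine congrArg _ (List.map_congr_left fun j hj => ?_)
      rw [act11_simple j hj]
    have hgR : g ∈ rootSetSub chevE6 K (posJ chevE6 [2, 4]) := by
      rw [hgw]
      apply wordGL_mem_rootSetSub
      intro p hp
      simp only [List.map_cons, List.map_nil, List.mem_cons, List.not_mem_nil, or_false] at hp
      rcases hp with rfl | rfl
      · exact ⟨2, by simp, rfl⟩
      · exact ⟨4, by simp, rfl⟩
    obtain ⟨u', -, e⟩ := Cfsg.Agent.Lib.Helper6.TwAutT2.exists_xT_of_mem chevE6 hE6 gE6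
      chkGraphPerm_gE6 f rho6 orbits (twistedE6 K q) 2 hyp [2, 4] hJ2 g hgR hgG
    -- compare the coefficients at `p_2`
    have h1 := Cfsg.Agent.Lib.Helper1.TwAut.coefEntry_posWord (K := K) chevE6 hE6 2 (by decide)
      [0, 5] ee6 (by decide) (fun j => ε j * sT f [0, 5] t j)
    have h2 := Cfsg.Agent.Lib.Helper1.TwAut.coefEntry_posWord (K := K) chevE6 hE6 2 (by decide)
      [2, 4] id (by decide) (fun j => sT f [2, 4] u' j)
    have e6 : xT chevE6 hE6 f [2, 4] u' = wordGL chevE6 hE6 (([2, 4] : List ℕ).map fun j =>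
        (chevE6.simple (id j), sT f [2, 4] u' j)) := rfl
    rw [← hgw, e, e6, h2] at h1
    have hs1 : sT f [2, 4] u' 2 = u' := rfl
    have hs2 : sT f [0, 5] t 0 = t := rfl
    simp [ee6, hs1, hs2] at h1
    have hu' : u' = u := by
      rw [h1, ht, ← mul_assoc, hεε 0, one_mul]
    rw [← hu', ← e]
    exact hgK
  -- step 6b: the long fundamental root groups
  obtain ⟨ε2, hε2, hc2⟩ := h7_wGL_conj (F := K) chevE6 hE6 (wpow [1, 3, 2, 4, 0, 5] 2) wd_w6_2
    46 (by decide)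
  have hw2 : wAct chevE6 (wpow [1, 3, 2, 4, 0, 5] 2) 46 = 51 := act2_46
  rw [hw2] at hc2
  have hε20 : ε2 ≠ 0 := by rcases hε2 with rfl | rfl <;> simp
  have hx51 : xGL chevE6 hE6 51 ε2 ∈ K0 := by
    have := hc2 1
    rw [mul_one] at this
    rw [← this]
    exact mul_mem (mul_mem (hnjK 2) hxsK) (inv_mem (hnjK 2))
  set Nk : K := k ^ (q + 1) with hNk
  have hconj51 : ∀ t : K, hh * xGL chevE6 hE6 51 t * hh⁻¹ = xGL chevE6 hE6 51 (Nk⁻¹ * t) := by
    intro t
    have h1 : hh * xGL chevE6 hE6 51 t = xGL chevE6 hE6 51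
        ((([0, 5] : List ℕ).map fun i => (sT f [0, 5] k i) ^ (chevE6.cartan i 51)).prod * t)
          * hh := hProd_mul_x chevE6 hE6 [0, 5] hJlt (sT f [0, 5] k) hsne 51 t
    have c0 : chevE6.cartan 0 51 = -1 := by decide
    have c5 : chevE6.cartan 5 51 = -1 := by decide
    simp only [List.map_cons, List.map_nil, List.prod_cons, List.prod_nil, c0, c5, hs0, hs5,
      zpow_neg, zpow_one, mul_one] at h1
    have e1 : k⁻¹ * (k ^ q)⁻¹ = Nk⁻¹ := by
      rw [hNk, pow_add, pow_one, mul_inv]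
      ring
    rw [e1] at h1
    rw [h1]
    group
  have hNk0 : Nk ≠ 0 := pow_ne_zero _ hk0
  have hA1 : ∀ t ∈ paramSub chevE6 hE6 K0 51, Nk * t ∈ paramSub chevE6 hE6 K0 51 := by
    intro t ht
    rw [mem_paramSub] at ht ⊢
    have h1 := hconj51 (Nk * t)
    rw [← mul_assoc, inv_mul_cancel₀ hNk0, one_mul] at h1
    have : xGL chevE6 hE6 51 (Nk * t) = hh⁻¹ * xGL chevE6 hE6 51 t * hh := by
      rw [← h1]; group
    rw [this]
    exact mul_mem (mul_mem (inv_mem hhK) ht) hhK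
  have hfixε : ∀ ε : K, (ε = 1 ∨ ε = -1) → ε ^ q = ε := by
    intro ε hε
    rcases hε with h | h
    · rw [h, one_pow]
    · rw [h, ← hf, map_neg, map_one]
  have hx51all : ∀ t : K, t ^ q = t → xGL chevE6 hE6 51 t ∈ K0 := by
    intro t ht
    by_cases ht0 : t = 0
    · rw [ht0, h7_xGL_zero]
      exact one_mem K0
    · have hv : (t * ε2) ^ q = t * ε2 := by rw [mul_pow, ht, hfixε ε2 hε2]
      obtain ⟨j, hj⟩ := exists_pow_norm_of_fixed2 q hq2 hK k hk0 hgen (t * ε2)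
        (mul_ne_zero ht0 hε20) hv
      have hεε : ε2 * ε2 = 1 := by rcases hε2 with h | h <;> rw [h] <;> ring
      have e1 : t = Nk ^ j * ε2 := by
        rw [← hj, mul_assoc, hεε, mul_one]
      rw [← mem_paramSub, e1]
      exact mul_pow_mem _ Nk hA1 j ε2 ((mem_paramSub _ _ _ _ _).2 hx51)
  have hlong : ∀ (j r : ℕ), wAct chevE6 (wpow [1, 3, 2, 4, 0, 5] j) 51 = r →
      ∀ t : K, t ^ q = t → xGL chevE6 hE6 r t ∈ K0 := by
    intro j r hjr t ht
    obtain ⟨ε, hε, hc⟩ := h7_wGL_conj (F := K) chevE6 hE6 (wpow [1, 3, 2, 4, 0, 5] j)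
      (Wd_wpow chevE6 _ wd_w6 j) 51 (by decide)
    rw [hjr] at hc
    have hεε : ε * ε = 1 := by rcases hε with h | h <;> rw [h] <;> ring
    have h1 := hc (ε * t)
    rw [← mul_assoc, hεε, one_mul] at h1
    rw [← h1]
    have h2 : (ε * t) ^ q = ε * t := by rw [mul_pow, ht, hfixε ε hε]
    exact mul_mem (mul_mem (hnjK j) (hx51all _ h2)) (inv_mem (hnjK j))
  have hx46all := hlong 10 46 act10_51
  have hx39all := hlong 11 39 act11_51
  -- step 7: conclusion
  apply le_of_pos_nodes chevE6 hE6 gE6 chkGraphPerm_gE6 f rho6 orbits (twistedE6 K q) 2 hyp K0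
    (wpow [1, 3, 2, 4, 0, 5] 6) w0chk6 oppOK6' (hnjK 6) (hnjG 6)
  intro J hJ t ht
  simp only [orbits, List.mem_cons, List.not_mem_nil, or_false] at hJ
  rcases hJ with rfl | rfl | rfl | rfl
  · exact hXall t
  · have e1 : xT chevE6 hE6 f [1] t = xGL chevE6 hE6 46 t := by
      unfold xT
      simp only [List.map_cons, List.map_nil, wordGL, List.prod_cons, List.prod_nil, mul_one]
      rfl
    rw [e1]
    apply hx46all
    have : (f ^ 1) t = t := ht
    rw [pow_one, hf] at this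
    exact this
  · exact hX24 t
  · have e1 : xT chevE6 hE6 f [3] t = xGL chevE6 hE6 39 t := by
      unfold xT
      simp only [List.map_cons, List.map_nil, wordGL, List.prod_cons, List.prod_nil, mul_one]
      rfl
    rw [e1]
    apply hx39all
    have : (f ^ 1) t = t := ht
    rw [pow_one, hf] at this
    exact this

end Cfsg.Agent.Lib.Helper7.TwGen
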