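import Mathlib
import Cfsg.Agent.Lib.Helper1.F4Out.Defs
import Cfsg.Agent.Lib.Helper2.F4OutS1
import Cfsg.Agent.Lib.Helper2.F4OutS2
import Cfsg.Agent.Lib.Helper2.F4OutS4
import Cfsg.Agent.Lib.Helper9.F4OutTorus
import Cfsg.Agent.Lib.Helper9.F4OutNum
import Cfsg.Agent.Lib.Helper7.TwGen1

set_option autoImplicit false

/-!
S2408 (`²F₄(q)` is two-generated): abstract lemmas, numerics on the field with `2^(2m+1)` elements,
uniqueness of the parameters of the words of `x1`, `x2`.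
-/

namespace Cfsg.Agent.Lib.Helper7.TwGenF

open Cfsg Cfsg.Lie Cfsg.Agent.Lib.Helper5.ChevSym Cfsg.Agent.Lib.Helper5.ChevSymP
  Cfsg.Agent.Lib.Helper5.ChevStruct Cfsg.Agent.Lib.Helper5.Ree Cfsg.Agent.Lib.Helper5.TwX
  Cfsg.Agent.Lib.Helper5.MatPow Cfsg.Agent.Lib.Helper5.F4T Cfsg.Agent.Lib.Helper5.TwAut
  Cfsg.Agent.Lib.Helper1.F4Out

/-- an additive subgroup stable under multiplication by `c`, where a power of `c` generates `Fˣ`,
is trivial or everything -/
theorem sweep_abs {F : Type*} [Field F] (A : AddSubgroup F) (c k : F) (N : ℕ)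
    (hA : ∀ t ∈ A, c * t ∈ A) (hck : c ^ N = k)
    (hgen : ∀ x : F, x ≠ 0 → ∃ j : ℕ, x = k ^ j) (v0 : F) (hv0 : v0 ≠ 0) (hv : v0 ∈ A) :
    ∀ t : F, t ∈ A := by
  intro t
  by_cases ht : t = 0
  · rw [ht]; exact A.zero_mem
  · obtain ⟨j, hj⟩ := hgen (t / v0) (div_ne_zero ht hv0)
    have e : t = c ^ (N * j) * v0 := by
      rw [pow_mul, hck, ← hj]
      field_simp
    rw [e]
    exact Cfsg.Agent.Lib.Helper7.TwGen.mul_pow_mem A c hA (N * j) v0 hv

variable {K : Type*} [Field K] [Fintype K]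

/-- a generator of the multiplicative group of a finite field -/
theorem exists_genF : ∃ k : K, k ≠ 0 ∧ ∀ x : K, x ≠ 0 → ∃ j : ℕ, x = k ^ j := by
  classical
  obtain ⟨g, hg⟩ := IsCyclic.exists_generator (α := Kˣ)
  refine ⟨(g : K), Units.ne_zero g, fun x hx => ?_⟩
  have h1 : Units.mk0 x hx ∈ Subgroup.zpowers g := hg _
  rw [← mem_powers_iff_mem_zpowers] at h1
  obtain ⟨j, hj⟩ := h1
  refine ⟨j, ?_⟩
  have := congrArg (fun u : Kˣ => (u : K)) hj
  simpa using this.symm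

variable [CharP K 2] (m : ℕ) (hq : ∀ x : K, x ^ 2 ^ (2 * m + 1) = x)

/-! ### Numerics -/

include hq in
omit [Fintype K] in
/-- `(k^θ)^(2θ) = k` -/
theorem ph_pow_two_theta (k : K) : (ph m k) ^ (2 * 2 ^ m) = k := by
  rw [ph_apply, ← pow_mul]
  have : 2 ^ m * (2 * 2 ^ m) = 2 ^ (2 * m + 1) := by ring
  rw [this, hq]

include hq in
omit [Fintype K] in
/-- the character `c₁ = (k^θ)² k⁻²` : its inverse to the power `θ + 1` is `k` -/
theorem num_c1 (k : K) (hk : k ≠ 0) :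
    (((ph m k) ^ 2 * (k ^ 2)⁻¹)⁻¹) ^ (2 ^ m + 1) = k := by
  have hP : ph m k ≠ 0 := (map_ne_zero _).2 hk
  have h1 := ph_pow_two_theta m hq k
  have h2 : k ^ 2 ^ m = ph m k := (ph_apply m k).symm
  have e : ((ph m k) ^ 2 * (k ^ 2)⁻¹)⁻¹ = k ^ 2 * ((ph m k) ^ 2)⁻¹ := by
    field_simp
  rw [e, mul_pow, inv_pow]
  have e1 : (k ^ 2) ^ (2 ^ m + 1) = (ph m k) ^ 2 * k ^ 2 := by
    rw [← h2]
    ring
  have e2 : ((ph m k) ^ 2) ^ (2 ^ m + 1) = k * (ph m k) ^ 2 := by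
    have : ((ph m k) ^ 2) ^ (2 ^ m + 1) = (ph m k) ^ (2 * 2 ^ m) * (ph m k) ^ 2 := by
      ring
    rw [this, h1]
  rw [e1, e2]
  field_simp

include hq in
omit [Fintype K] in
/-- the character `c₂ = k⁴ (k^θ)⁻⁴ k⁻¹` : its power `4θ + 3` is `k` -/
theorem num_c2 (k : K) (hk : k ≠ 0) :
    (k ^ 4 * ((ph m k) ^ 4)⁻¹ * k⁻¹) ^ (4 * 2 ^ m + 3) = k := by
  have hP : ph m k ≠ 0 := (map_ne_zero _).2 hk
  have h1 := ph_pow_two_theta m hq k
  have h2 : k ^ 2 ^ m = ph m k := (ph_apply m k).symm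
  have e : k ^ 4 * ((ph m k) ^ 4)⁻¹ * k⁻¹ = k ^ 3 * ((ph m k) ^ 4)⁻¹ := by
    field_simp
  rw [e, mul_pow, inv_pow]
  have e1 : (k ^ 3) ^ (4 * 2 ^ m + 3) = (ph m k) ^ 12 * k ^ 9 := by
    rw [← h2]
    ring
  have e2 : ((ph m k) ^ 4) ^ (4 * 2 ^ m + 3) = k ^ 8 * (ph m k) ^ 12 := by
    have : ((ph m k) ^ 4) ^ (4 * 2 ^ m + 3) = ((ph m k) ^ (2 * 2 ^ m)) ^ 8 * (ph m k) ^ 12 := by
      ring
    rw [this, h1]
  rw [e1, e2]
  field_simp

include hq in
/-- `(k^θ)² k⁻¹ ≠ 1` for a generator `k`, when `m ≥ 1` -/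
theorem num_c' (hm : 1 ≤ m) (hK : Fintype.card K = 2 ^ (2 * m + 1)) (k : K) (hk : k ≠ 0)
    (hgen : ∀ x : K, x ≠ 0 → ∃ j : ℕ, x = k ^ j) :
    (ph m k) ^ 2 * k⁻¹ ≠ 1 := by
  intro h
  have h1 : (ph m k) ^ 2 = k := by
    have := congrArg (fun x => x * k) h
    simpa [mul_assoc, inv_mul_cancel₀ hk] using this
  have hord := Cfsg.Agent.Lib.Helper7.TwGen.orderOf_gen k hk hgen
  rw [hK] at hord
  obtain ⟨b, hb⟩ : ∃ b, 2 * 2 ^ m = b + 1 :=
    ⟨2 * 2 ^ m - 1, by have := Nat.one_le_two_pow (n := m); omega⟩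
  have h2 : k ^ b = 1 := by
    have h3 : k ^ (b + 1) = k := by
      rw [← hb, mul_comm, pow_mul, ← ph_apply, h1]
    rw [pow_succ] at h3
    have := congrArg (fun x => x * k⁻¹) h3
    simpa [mul_assoc, mul_inv_cancel₀ hk] using this
  have h4 : orderOf k ∣ b := orderOf_dvd_of_pow_eq_one h2
  rw [hord] at h4
  have hlt : 2 ^ (m + 1) < 2 ^ (2 * m + 1) := Nat.pow_lt_pow_right (by norm_num) (by omega)
  have h5 : 2 * 2 ^ m = 2 ^ (m + 1) := by ring
  have hb0 : 0 < b := by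
    have : 2 ≤ 2 ^ m := by
      calc 2 = 2 ^ 1 := by norm_num
        _ ≤ 2 ^ m := Nat.pow_le_pow_right (by norm_num) hm
    omega
  have := Nat.le_of_dvd hb0 h4
  omega

/-! ### Uniqueness of the parameters of the words -/

/-- parameters of the word `[(33, A), (24, B)]` along `Lpos` -/
noncomputable def par2 (A B : K) (r : ℕ) : K :=
  if r = 33 then A else if r = 24 then B else 0

omit [Fintype K] [CharP K 2] in
theorem word2_eq_prodL (A B : K) :
    wordGL chevF4 hF4 [(33, A), (24, B)] = prodL chevF4 hF4 Lpos (par2 A B) := by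
  rw [prodL_filter Lpos (fun r => r == 33 || r == 24) (par2 A B)]
  · have e : Lpos.filter (fun r => r == 33 || r == 24) = [33, 24] := by decide
    rw [e]
    unfold prodL
    simp [par2]
  · intro r _ hr
    simp only [Bool.or_eq_false_iff, beq_eq_false_iff_ne, ne_eq] at hr
    unfold par2
    rw [if_neg hr.1, if_neg hr.2]

omit [CharP K 2] in
theorem word2_inj (A B A' B' : K)
    (h : wordGL chevF4 hF4 [(33, A), (24, B)] = wordGL chevF4 hF4 [(33, A'), (24, B')]) :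
    B = B' := by
  rw [word2_eq_prodL, word2_eq_prodL] at h
  have := prodL_unique chevF4 hF4 Lpos Lpos_good Lpos_nodup Lpos_pos Lpos_len _ _ h 24 (by decide)
  simpa [par2] using this

/-- parameters of the word `[(27, A), (25, B), (28, C), (30, D)]` along `Lpos` -/
noncomputable def par4 (A B C D : K) (r : ℕ) : K :=
  if r = 27 then A else if r = 25 then B else if r = 28 then C else if r = 30 then D else 0

omit [Fintype K] [CharP K 2] in
theorem word4_eq_prodL (A B C D : K) :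
    wordGL chevF4 hF4 [(27, A), (25, B), (28, C), (30, D)]
      = prodL chevF4 hF4 Lpos (par4 A B C D) := by
  rw [prodL_filter Lpos (fun r => r == 27 || r == 25 || r == 28 || r == 30) (par4 A B C D)]
  · have e : Lpos.filter (fun r => r == 27 || r == 25 || r == 28 || r == 30) = [27, 25, 28, 30] := by
      decide
    rw [e]
    unfold prodL
    simp [par4]
  · intro r _ hr
    simp only [Bool.or_eq_false_iff, beq_eq_false_iff_ne, ne_eq] at hr
    unfold par4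
    rw [if_neg hr.1.1.1, if_neg hr.1.1.2, if_neg hr.1.2, if_neg hr.2]

omit [CharP K 2] in
theorem word4_inj (A B C D A' B' C' D' : K)
    (h : wordGL chevF4 hF4 [(27, A), (25, B), (28, C), (30, D)]
      = wordGL chevF4 hF4 [(27, A'), (25, B'), (28, C'), (30, D')]) :
    B = B' := by
  rw [word4_eq_prodL, word4_eq_prodL] at h
  have := prodL_unique chevF4 hF4 Lpos Lpos_good Lpos_nodup Lpos_pos Lpos_len _ _ h 25 (by decide)
  simpa [par4] using this

end Cfsg.Agent.Lib.Helper7.TwGenF
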