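import Mathlib
import Cfsg.Agent.Lib.Helper7.TwGenF1

set_option autoImplicit false

/-!
S2408 (`²F₄(q)` is two-generated): the element `n = n₁ n₂`, the conjugate `n h n⁻¹` of a torus
element and its action on `X₁`, `X₂`.
-/

namespace Cfsg.Agent.Lib.Helper7.TwGenF

open Cfsg Cfsg.Lie Cfsg.Agent.Lib.Helper5.ChevSym Cfsg.Agent.Lib.Helper5.ChevSymP
  Cfsg.Agent.Lib.Helper5.ChevStruct Cfsg.Agent.Lib.Helper5.Ree Cfsg.Agent.Lib.Helper5.TwX
  Cfsg.Agent.Lib.Helper5.MatPow Cfsg.Agent.Lib.Helper5.F4T Cfsg.Agent.Lib.Helper5.TwAut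
  Cfsg.Agent.Lib.Helper1.F4Out Cfsg.Agent.Lib.Helper2.F4Out Cfsg.Agent.Lib.Helper9.F4Out

variable {K : Type*} [Field K] [Fintype K] [CharP K 2] (m : ℕ)
  (hq : ∀ x : K, x ^ 2 ^ (2 * m + 1) = x)

/-- the Coxeter word `w = w_{[0,3]} w_{[1,2,1,2]}` -/
def wF : List ℕ := [0, 3, 1, 2, 1, 2]

theorem wdF : Wd chevF4 wF := by
  unfold Wd wF
  decide

theorem actF : wAct chevF4 wF 10 = 33 ∧ wAct chevF4 wF 15 = 24 ∧ wAct chevF4 wF 35 = 27 ∧
    wAct chevF4 wF 31 = 25 ∧ wAct chevF4 wF 40 = 28 ∧ wAct chevF4 wF 46 = 30 := by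
  decide +kernel

/-- `n = n₁ n₂` -/
noncomputable def nF : GL chevF4.Idx K := wGL chevF4 hF4 wF

omit [Fintype K] [CharP K 2] in
theorem nF_eq : (nF : GL chevF4.Idx K) = n1 * n2 := by
  unfold nF n1 n2
  exact wGL_append chevF4 hF4 [0, 3] [1, 2, 1, 2]

include hq in
theorem nF_mem_fix : (nF : GL chevF4.Idx K) ∈ fixG (K := K) m := by
  rw [nF_eq]
  exact mul_mem (n1_mem_fix m hq) (n2_mem_fix m hq)

omit [Fintype K] [CharP K 2] in
theorem nF_mem_mono : (nF : GL chevF4.Idx K) ∈ chevF4.monomialSubgroup K :=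
  wGL_mem chevF4 hF4 wF wdF

/-- conjugation of a word by `n h n⁻¹` -/
theorem conj_nh_word (p : Kˣ × Kˣ) (l : List (ℕ × K)) (hl : ∀ q ∈ l, q.1 < 48) :
    (nF * hz m p * nF⁻¹) * wordGL chevF4 hF4 (l.map fun q => (wAct chevF4 wF q.1, q.2))
        * (nF * hz m p * nF⁻¹)⁻¹
      = wordGL chevF4 hF4
          (l.map fun q => (wAct chevF4 wF q.1, chi chevF4 (czF m p) q.1 * q.2)) := by
  have h1 := Cfsg.Agent.Lib.Helper5.F4T.wGL_conj_word (K := K) wF wdF l hl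
  have hl' : ∀ q ∈ l.map (fun q : ℕ × K => (q.1, chi chevF4 (czF m p) q.1 * q.2)), q.1 < 48 := by
    intro q hq'
    rw [List.mem_map] at hq'
    obtain ⟨q0, hq0, rfl⟩ := hq'
    exact hl q0 hq0
  have h2 := Cfsg.Agent.Lib.Helper5.F4T.wGL_conj_word (K := K) wF wdF _ hl'
  rw [List.map_map] at h2
  have h3 := hz_mul_word m p l
  have e : (fun q : ℕ × K => (wAct chevF4 wF q.1, chi chevF4 (czF m p) q.1 * q.2))
      = ((fun p : ℕ × K => (wAct chevF4 wF p.1, p.2)) ∘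
          fun q : ℕ × K => (q.1, chi chevF4 (czF m p) q.1 * q.2)) := by
    funext q
    rfl
  rw [e, ← h2, ← h1]
  have h4 : wordGL chevF4 hF4 (l.map fun q : ℕ × K => (q.1, chi chevF4 (czF m p) q.1 * q.2))
      = hz m p * wordGL chevF4 hF4 l * (hz m p)⁻¹ := by
    rw [h3]
    group
  rw [h4]
  unfold nF
  group

include hq in
/-- `n h n⁻¹` lies in the torus of `G1` -/
theorem h1_exists (p : Kˣ × Kˣ) : ∃ p1 : Kˣ × Kˣ, nF * hz m p * nF⁻¹ = hz m p1 := by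
  apply (diag_fix_iff m hq _).1
  refine Subgroup.mem_inf.2 ⟨?_, ?_⟩
  · exact (conj_monomial_diag_mem chevF4 hF4 nF nF_mem_mono (hz m p) (hz_mem_diag m p)).1
  · exact mul_mem (mul_mem (nF_mem_fix m hq) (hz_mem_fixG m hq p)) (inv_mem (nF_mem_fix m hq))

theorem key_x1 (p : Kˣ × Kˣ) (s : K) :
    (nF * hz m p * nF⁻¹) * x1 m s * (nF * hz m p * nF⁻¹)⁻¹
      = wordGL chevF4 hF4 [(33, chi chevF4 (czF m p) 10 * ph m s),
          (24, chi chevF4 (czF m p) 15 * s)] := by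
  have := conj_nh_word m p [(10, ph m s), (15, s)] (by
    intro q hq'
    simp only [List.mem_cons, List.not_mem_nil, or_false] at hq'
    rcases hq' with rfl | rfl <;> norm_num)
  simp only [List.map_cons, List.map_nil] at this
  rw [actF.1, actF.2.1] at this
  exact this

theorem key_x2 (p : Kˣ × Kˣ) (t u : K) :
    (nF * hz m p * nF⁻¹) * x2 m t u * (nF * hz m p * nF⁻¹)⁻¹
      = wordGL chevF4 hF4 [(27, chi chevF4 (czF m p) 35 * ph m t),
          (25, chi chevF4 (czF m p) 31 * t), (28, chi chevF4 (czF m p) 40 * (t * ph m t + u)),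
          (30, chi chevF4 (czF m p) 46 * ps m u)] := by
  have := conj_nh_word m p [(35, ph m t), (31, t), (40, t * ph m t + u), (46, ps m u)] (by
    intro q hq'
    simp only [List.mem_cons, List.not_mem_nil, or_false] at hq'
    rcases hq' with rfl | rfl | rfl | rfl <;> norm_num)
  simp only [List.map_cons, List.map_nil] at this
  rw [actF.2.2.1, actF.2.2.2.1, actF.2.2.2.2.1, actF.2.2.2.2.2] at this
  exact this

include hq in
/-- `n h n⁻¹` acts on `X₁` through the character of `h` on the root `15 = w⁻¹(24)` -/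
theorem h1_conj_x1 (p : Kˣ × Kˣ) (t : K) :
    (nF * hz m p * nF⁻¹) * x1 m t * (nF * hz m p * nF⁻¹)⁻¹
      = x1 m (chi chevF4 (czF m p) 15 * t) := by
  obtain ⟨p1, hp1⟩ := h1_exists m hq p
  have h1 := key_x1 m p 1
  rw [hp1, hz_conj_x1] at h1
  unfold x1 at h1
  have hc := word2_inj _ _ _ _ h1
  rw [mul_one, mul_one] at hc
  rw [hp1, hz_conj_x1, hc]

include hq in
/-- `n h n⁻¹` acts on `X₂ / Z(X₂)` through the character of `h` on the root `31 = w⁻¹(25)` -/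
theorem h1_conj_x2 (p : Kˣ × Kˣ) (t u : K) :
    ∃ v : K, (nF * hz m p * nF⁻¹) * x2 m t u * (nF * hz m p * nF⁻¹)⁻¹
      = x2 m (chi chevF4 (czF m p) 31 * t) v := by
  obtain ⟨p1, hp1⟩ := h1_exists m hq p
  have h1 := key_x2 m p 1 0
  rw [hp1, hz_conj_x2 m hq] at h1
  unfold x2 at h1
  have hc := word4_inj _ _ _ _ _ _ _ _ h1
  rw [mul_one, mul_one] at hc
  refine ⟨(chi2 m p1 : K) * ph m (chi2 m p1 : K) * u, ?_⟩
  rw [hp1, hz_conj_x2 m hq, hc]

/-! ### The two characters -/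

theorem cartan_tblF :
    (chevF4.cartan 0 15 = 2 ∧ chevF4.cartan 1 15 = 0 ∧ chevF4.cartan 2 15 = -1
      ∧ chevF4.cartan 3 15 = 0) ∧
    (chevF4.cartan 0 31 = -2 ∧ chevF4.cartan 1 31 = 2 ∧ chevF4.cartan 2 31 = -1
      ∧ chevF4.cartan 3 31 = 1) := by decide

theorem chi_15 (p : Kˣ × Kˣ) :
    chi chevF4 (czF m p) 15 = (ph m (p.2 : K)) ^ 2 * (p.1 : K)⁻¹ := by
  obtain ⟨⟨a0, a1, a2, a3⟩, -⟩ := cartan_tblF
  rw [chi_F4, a0, a1, a2, a3]
  simp [czF]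

theorem chi_31 (p : Kˣ × Kˣ) :
    chi chevF4 (czF m p) 31
      = ((ph m (p.2 : K)) ^ 2)⁻¹ * (ph m (p.1 : K)) ^ 2 * (p.1 : K)⁻¹ * (p.2 : K) := by
  obtain ⟨-, ⟨a0, a1, a2, a3⟩⟩ := cartan_tblF
  rw [chi_F4, a0, a1, a2, a3]
  simp [czF, mul_assoc]

end Cfsg.Agent.Lib.Helper7.TwGenF
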