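import Mathlib
import Cfsg.Agent.Lib.Helper7.TwGenF2
import Cfsg.Agent.Lib.Helper4.F4OutGen

set_option autoImplicit false
set_option maxHeartbeats 1000000

/-!
S2408: the large Ree group `²F₄(2^(2m+1))`, `m ≥ 1`, is generated by the two elements
`a = h x₁(1)` (`h = h(k², k)`, which centralises `X₁`) and `b = x₂(1, 0) n₁ n₂`.
-/

namespace Cfsg.Agent.Lib.Helper7.TwGenF

open Cfsg Cfsg.Lie Cfsg.Agent.Lib.Helper5.ChevSym Cfsg.Agent.Lib.Helper5.ChevSymP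
  Cfsg.Agent.Lib.Helper5.ChevStruct Cfsg.Agent.Lib.Helper5.Ree Cfsg.Agent.Lib.Helper5.TwX
  Cfsg.Agent.Lib.Helper5.MatPow Cfsg.Agent.Lib.Helper5.F4T Cfsg.Agent.Lib.Helper5.TwAut
  Cfsg.Agent.Lib.Helper1.F4Out Cfsg.Agent.Lib.Helper2.F4Out Cfsg.Agent.Lib.Helper9.F4Out
  Cfsg.Agent.Lib.Helper4.F4Out

variable {K : Type*} [Field K] [Fintype K]

theorem w0_eq_wF4 : (w0Js.flatten : List ℕ) = wF ++ (wF ++ (wF ++ wF)) := by decide

omit [Fintype K] in
theorem n0_eq_nF4 [CharP K 2] : (n0 : GL chevF4.Idx K) = nF * (nF * (nF * nF)) := by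
  unfold n0 nF
  rw [w0_eq_wF4, wGL_append, wGL_append, wGL_append]

theorem twoGen_F4 {m : ℕ} (hm : 1 ≤ m) (hK : Fintype.card K = 2 ^ (2 * m + 1)) :
    ∃ a b : GL chevF4.Idx K, a ∈ twistedF4 K (2 ^ m) ∧ b ∈ twistedF4 K (2 ^ m) ∧
      twistedF4 K (2 ^ m) ≤ Subgroup.closure {a, b} := by
  classical
  have : CharP K 2 := charP_of_card hK
  have hq : ∀ x : K, x ^ 2 ^ (2 * m + 1) = x := pow_card_eq hK
  have h2' : (2 : K) = 0 := by
    have := CharP.cast_eq_zero K 2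
    exact_mod_cast this
  rw [twisted_eq_fixG m hK hq]
  obtain ⟨k, hk0, hgen⟩ := exists_genF (K := K)
  obtain ⟨ku, hku⟩ : ∃ ku : Kˣ, (ku : K) = k := ⟨Units.mk0 k hk0, rfl⟩
  obtain ⟨p, hp⟩ : ∃ p : Kˣ × Kˣ, p = (ku ^ 2, ku) := ⟨_, rfl⟩
  have hp1 : ((p.1 : Kˣ) : K) = k ^ 2 := by rw [hp]; simp [hku]
  have hp2 : ((p.2 : Kˣ) : K) = k := by rw [hp]; simp [hku]
  have hchi1 : chi1 p = 1 := by rw [hp]; simp [chi1]
  have hPk0 : ph m k ≠ 0 := (map_ne_zero _).2 hk0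
  -- the characters
  obtain ⟨c2, hc2⟩ : ∃ c2 : K, c2 = (chi2 m p : K) := ⟨_, rfl⟩
  have hc2v : c2 = k ^ 4 * ((ph m k) ^ 4)⁻¹ * k⁻¹ := by
    rw [hc2, chi2_val, hp1, hp2, map_pow]
    ring
  have hc2k : c2 ^ (4 * 2 ^ m + 3) = k := by rw [hc2v]; exact num_c2 m hq k hk0
  obtain ⟨c1, hc1⟩ : ∃ c1 : K, c1 = chi chevF4 (czF m p) 15 := ⟨_, rfl⟩
  have hc1v : c1 = (ph m k) ^ 2 * (k ^ 2)⁻¹ := by rw [hc1, chi_15, hp1, hp2]
  have hc10 : c1 ≠ 0 := by
    rw [hc1v]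
    exact mul_ne_zero (pow_ne_zero _ hPk0) (inv_ne_zero (pow_ne_zero _ hk0))
  obtain ⟨c', hc'⟩ : ∃ c' : K, c' = chi chevF4 (czF m p) 31 := ⟨_, rfl⟩
  have hc'v : c' = (ph m k) ^ 2 * k⁻¹ := by
    rw [hc', chi_31, hp1, hp2, map_pow]
    field_simp
  have hc'1 : c' ≠ 1 := by rw [hc'v]; exact num_c' m hq hm hK k hk0 hgen
  have hk1 : k ≠ 1 := by
    intro h
    apply hc'1
    rw [hc'v, h]
    simp
  have hc21 : c2 ≠ 1 := by
    intro h
    rw [h, one_pow] at hc2k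
    exact hk1 hc2k.symm
  -- notation
  obtain ⟨h, hh⟩ : ∃ h : GL chevF4.Idx K, h = hz m p := ⟨_, rfl⟩
  obtain ⟨X, hX⟩ : ∃ X : GL chevF4.Idx K, X = x2 m 1 0 := ⟨_, rfl⟩
  obtain ⟨n, hn⟩ : ∃ n : GL chevF4.Idx K, n = nF := ⟨_, rfl⟩
  obtain ⟨h1, hh1⟩ : ∃ h1 : GL chevF4.Idx K, h1 = n * h * n⁻¹ := ⟨_, rfl⟩
  -- group laws
  have hx1_0 : x1 m (0 : K) = 1 := by
    have := x1_add m (0 : K) 0
    rw [add_zero] at this
    exact (mul_eq_left.1 this.symm)
  have hx2_0 : x2 m (0 : K) 0 = 1 := by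
    have := x2_mul m hq (0 : K) 0 0 0
    simp only [add_zero, zero_mul] at this
    exact (mul_eq_left.1 this)
  have hx2_inv : ∀ t u : K, (x2 m t u)⁻¹ = x2 m t (u + t * ph m t) := by
    intro t u
    symm
    rw [eq_inv_iff_mul_eq_one, x2_mul m hq, ← hx2_0]
    congr 1
    · linear_combination t * h2'
    · linear_combination (u + t * ph m t) * h2'
  have hhx1 : ∀ t : K, h * x1 m t * h⁻¹ = x1 m t := by
    intro t
    rw [hh, hz_conj_x1, hchi1]
    simp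
  have hhx2 : ∀ t u : K, h * x2 m t u * h⁻¹ = x2 m (c2 * t) (c2 * ph m c2 * u) := by
    intro t u
    rw [hh, hc2]
    exact hz_conj_x2 m hq p t u
  have hh1x1 : ∀ t : K, h1 * x1 m t * h1⁻¹ = x1 m (c1 * t) := by
    intro t
    rw [hh1, hn, hh, hc1]
    exact h1_conj_x1 m hq p t
  have hh1x2 : ∀ t u : K, ∃ v : K, h1 * x2 m t u * h1⁻¹ = x2 m (c' * t) v := by
    intro t u
    rw [hh1, hn, hh, hc']
    exact h1_conj_x2 m hq p t u
  have hh1D : h1 ∈ chevF4.diagonalSubgroup K := by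
    rw [hh1, hn, hh]
    exact (conj_monomial_diag_mem chevF4 hF4 nF nF_mem_mono (hz m p) (hz_mem_diag m p)).1
  have hcomm : h * h1 = h1 * h :=
    Cfsg.Agent.Lib.Helper7.TwGen.diag_commute chevF4 hF4 h h1 (by rw [hh]; exact hz_mem_diag m p)
      hh1D
  have hnG : n ∈ fixG (K := K) m := by rw [hn]; exact nF_mem_fix m hq
  refine ⟨h * x1 m 1, X * n, ?_, ?_, ?_⟩
  · rw [hh]
    exact mul_mem (hz_mem_fixG m hq p) (x1_mem_fix m hq 1)
  · rw [hX]
    exact mul_mem (x2_mem_fix m hq 1 0) hnG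
  obtain ⟨K0, hK0⟩ : ∃ K0 : Subgroup (GL chevF4.Idx K),
      K0 = Subgroup.closure {h * x1 m 1, X * n} := ⟨_, rfl⟩
  rw [← hK0]
  have haK : h * x1 m 1 ∈ K0 := by rw [hK0]; exact Subgroup.subset_closure (by simp)
  have hbK : X * n ∈ K0 := by rw [hK0]; exact Subgroup.subset_closure (by simp)
  -- step 1: `h ∈ K0`
  have hhK : h ∈ K0 := by
    have hc : Commute h (x1 m 1) := by
      have e := hhx1 1
      show h * x1 m 1 = x1 m 1 * h
      calc h * x1 m 1 = (h * x1 m 1 * h⁻¹) * h := by group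
        _ = x1 m 1 * h := by rw [e]
    have e1 : h ^ 2 ^ (2 * m + 1) = h := by
      rw [hh, ← map_pow]
      congr 1
      apply Prod.ext
      · apply Units.ext
        rw [Prod.pow_fst, Units.val_pow_eq_pow_val]
        exact hq _
      · apply Units.ext
        rw [Prod.pow_snd, Units.val_pow_eq_pow_val]
        exact hq _
    have e2 : (x1 m (1 : K)) ^ 2 ^ (2 * m + 1) = 1 := by
      have e3 : (x1 m (1 : K)) ^ 2 = 1 := by
        rw [pow_two, ← x1_add, ← hx1_0]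
        congr 1
        linear_combination h2'
      have : 2 ^ (2 * m + 1) = 2 * 2 ^ (2 * m) := by ring
      rw [this, pow_mul, e3, one_pow]
    have e : (h * x1 m 1) ^ 2 ^ (2 * m + 1) = h := by
      rw [hc.mul_pow, e1, e2, mul_one]
    rw [← e]
    exact K0.pow_mem haK _
  have hx11K : x1 m 1 ∈ K0 := by
    have : x1 m 1 = h⁻¹ * (h * x1 m 1) := by group
    rw [this]
    exact mul_mem (inv_mem hhK) haK
  -- step 2: the trick
  have hgK : X * h1 * X⁻¹ ∈ K0 := by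
    have : X * h1 * X⁻¹ = (X * n) * h * (X * n)⁻¹ := by
      rw [hh1]
      group
    rw [this]
    exact mul_mem (mul_mem hbK hhK) (inv_mem hbK)
  have hcK : h * (X * h1 * X⁻¹) * h⁻¹ * (X * h1 * X⁻¹)⁻¹ ∈ K0 :=
    mul_mem (mul_mem (mul_mem hhK hgK) (inv_mem hhK)) (inv_mem hgK)
  have hcform : ∃ v : K, h * (X * h1 * X⁻¹) * h⁻¹ * (X * h1 * X⁻¹)⁻¹
      = x2 m ((c2 + 1) * (c' + 1)) v := by
    have e1 : h * h1 * h⁻¹ = h1 := by
      rw [hcomm]
      group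
    have e2 : h * (X * h1 * X⁻¹) * h⁻¹ * (X * h1 * X⁻¹)⁻¹
        = (h * X * h⁻¹) * (h1 * ((h * X * h⁻¹)⁻¹ * X) * h1⁻¹) * X⁻¹ := by
      calc h * (X * h1 * X⁻¹) * h⁻¹ * (X * h1 * X⁻¹)⁻¹
          = (h * X * h⁻¹) * (h * h1 * h⁻¹) * (h * X * h⁻¹)⁻¹ * X * h1⁻¹ * X⁻¹ := by group
        _ = (h * X * h⁻¹) * h1 * (h * X * h⁻¹)⁻¹ * X * h1⁻¹ * X⁻¹ := by rw [e1]
        _ = (h * X * h⁻¹) * (h1 * ((h * X * h⁻¹)⁻¹ * X) * h1⁻¹) * X⁻¹ := by group
    rw [e2, hX, hhx2, hx2_inv, hx2_inv, x2_mul m hq]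
    obtain ⟨v, hv⟩ := hh1x2 (c2 * 1 + 1)
      (c2 * ph m c2 * 0 + c2 * 1 * ph m (c2 * 1) + 0 + 1 * ph m (c2 * 1))
    rw [hv, x2_mul m hq, x2_mul m hq]
    have key : ∀ a b : K, a = (c2 + 1) * (c' + 1) →
        ∃ v : K, x2 m a b = x2 m ((c2 + 1) * (c' + 1)) v := fun a b h => ⟨b, by rw [h]⟩
    apply key
    ring
  obtain ⟨v0, hv0⟩ := hcform
  rw [hv0] at hcK
  have ht0 : (c2 + 1) * (c' + 1) ≠ 0 := by
    apply mul_ne_zero
    · intro h0
      apply hc21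
      have := eq_neg_of_add_eq_zero_left h0
      rw [this, CharTwo.neg_eq]
    · intro h0
      apply hc'1
      have := eq_neg_of_add_eq_zero_left h0
      rw [this, CharTwo.neg_eq]
  -- step 3: the sweep of `X₂` modulo its centre
  let T : AddSubgroup K :=
    { carrier := {t | ∃ u, x2 m t u ∈ K0}
      zero_mem' := ⟨0, by rw [hx2_0]; exact K0.one_mem⟩
      add_mem' := by
        rintro s t ⟨u, hu⟩ ⟨v, hv⟩
        have := K0.mul_mem hu hv
        rw [x2_mul m hq] at this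
        exact ⟨_, this⟩
      neg_mem' := by
        rintro t ⟨u, hu⟩
        rw [CharTwo.neg_eq]
        exact ⟨u, hu⟩ }
  have hTc : ∀ t ∈ T, c2 * t ∈ T := by
    rintro t ⟨u, hu⟩
    have := mul_mem (mul_mem hhK hu) (inv_mem hhK)
    rw [hhx2] at this
    exact ⟨_, this⟩
  have hTall : ∀ t : K, t ∈ T :=
    sweep_abs T c2 k (4 * 2 ^ m + 3) hTc hc2k hgen _ ht0 ⟨v0, hcK⟩
  -- step 4: the centre of `X₂`
  have hcomm2 : ∀ s t : K, x2 m 0 (s * ph m t + t * ph m s) ∈ K0 := by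
    intro s t
    obtain ⟨u, hu⟩ := hTall t
    obtain ⟨v, hv⟩ := hTall s
    have e : x2 m 0 (s * ph m t + t * ph m s)
        = (x2 m s v * x2 m t u)⁻¹ * (x2 m t u * x2 m s v) := by
      rw [eq_inv_mul_iff_mul_eq, x2_mul m hq, x2_mul m hq, x2_mul m hq]
      congr 1
      · ring
      · linear_combination (t * ph m s) * h2'
    rw [e]
    exact mul_mem (inv_mem (mul_mem hv hu)) (mul_mem hu hv)
  have hZall : ∀ u : K, x2 m 0 u ∈ K0 := by
    intro u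
    obtain ⟨t0, ht00, ht0ne⟩ := exists_ph_ne (K := K) m hm hK
    have hv0' : ph m t0 + t0 ≠ 0 := by
      intro h0
      apply ht0ne
      have := eq_neg_of_add_eq_zero_left h0
      rw [this, CharTwo.neg_eq]
    obtain ⟨c, hc⟩ := exists_mul_ph (K := K) m hK (u / (ph m t0 + t0))
    have := hcomm2 c (c * t0)
    have e : c * ph m (c * t0) + c * t0 * ph m c = u := by
      rw [map_mul]
      have : c * (ph m c * ph m t0) + c * t0 * ph m c = (c * ph m c) * (ph m t0 + t0) := by ring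
      rw [this, hc]
      field_simp
    rw [e] at this
    exact this
  have hX2all : ∀ t u : K, x2 m t u ∈ K0 := by
    intro t u
    obtain ⟨u', hu'⟩ := hTall t
    have e : x2 m t u = x2 m t u' * x2 m 0 (u + u') := by
      rw [x2_mul m hq]
      congr 1
      · ring
      · linear_combination (-u') * h2'
    rw [e]
    exact mul_mem hu' (hZall _)
  -- step 5: `n ∈ K0`, `h1 ∈ K0`
  have hnK : n ∈ K0 := by
    have : n = X⁻¹ * (X * n) := by group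
    rw [this]
    exact mul_mem (inv_mem (by rw [hX]; exact hX2all 1 0)) hbK
  have hh1K : h1 ∈ K0 := by
    rw [hh1]
    exact mul_mem (mul_mem hnK hhK) (inv_mem hnK)
  -- step 6: the sweep of `X₁`
  let T1 : AddSubgroup K :=
    { carrier := {t | x1 m t ∈ K0}
      zero_mem' := by
        show x1 m 0 ∈ K0
        rw [hx1_0]
        exact K0.one_mem
      add_mem' := by
        intro s t hs ht
        show x1 m (s + t) ∈ K0
        rw [x1_add]
        exact K0.mul_mem hs ht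
      neg_mem' := by
        intro t ht
        show x1 m (-t) ∈ K0
        rw [CharTwo.neg_eq]
        exact ht }
  have hT1c : ∀ t ∈ T1, c1⁻¹ * t ∈ T1 := by
    intro t ht
    have ht' : x1 m t ∈ K0 := ht
    show x1 m (c1⁻¹ * t) ∈ K0
    have e := hh1x1 (c1⁻¹ * t)
    rw [← mul_assoc, mul_inv_cancel₀ hc10, one_mul] at e
    have e' : x1 m (c1⁻¹ * t) = h1⁻¹ * x1 m t * h1 := by
      rw [← e]
      group
    rw [e']
    exact mul_mem (mul_mem (inv_mem hh1K) ht') hh1K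
  have hc1k : (c1⁻¹) ^ (2 ^ m + 1) = k := by
    rw [hc1v]
    exact num_c1 m hq k hk0
  have hX1all : ∀ t : K, x1 m t ∈ K0 :=
    sweep_abs T1 c1⁻¹ k (2 ^ m + 1) hT1c hc1k hgen 1 one_ne_zero hx11K
  -- step 7: the negative root groups
  have hn0K : (n0 : GL chevF4.Idx K) ∈ K0 := by
    rw [n0_eq_nF4, ← hn]
    exact mul_mem hnK (mul_mem hnK (mul_mem hnK hnK))
  have hY1all : ∀ t : K, y1 m t ∈ K0 := by
    intro t
    rw [← n0_conj_x1]
    exact mul_mem (mul_mem hn0K (hX1all t)) (inv_mem hn0K)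
  have hY2all : ∀ t u : K, y2 m t u ∈ K0 := by
    intro t u
    rw [← n0_conj_x2]
    exact mul_mem (mul_mem hn0K (hX2all t u)) (inv_mem hn0K)
  -- conclusion
  rw [fixG_eq_closure m hK]
  apply (Subgroup.closure_le _).2
  rintro g (⟨t, rfl | rfl⟩ | ⟨t, u, rfl | rfl⟩)
  · exact hX1all t
  · exact hY1all t
  · exact hX2all t u
  · exact hY2all t u

end Cfsg.Agent.Lib.Helper7.TwGenF
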