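import Mathlib
import Cfsg.Agent.Lib.Helper7.TwOutE3
import Cfsg.Agent.Lib.Helper7.OutAbs

set_option autoImplicit false

/-!
Twisted-Out farm, units E4-E6: the order of `Out G1` for a twisted group `G1` from Steinberg's
theorem (`hstein`), the characterisation of `H ∩ G1` (`hdiag`) and the action of `H ∩ G1` on the
twisted root elements (`hT5`):  `|Out G1| · |H ∩ G1| = |σ-stable families| · |Aut K|`.
-/

namespace Cfsg.Agent.Lib.Helper7.TwOut

open Cfsg Cfsg.Lie Cfsg.Agent.Lib.Helper5.ChevSym Cfsg.Agent.Lib.Helper5.ChevStruct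
open Cfsg.Agent.Lib.Helper8.ChevAut Cfsg.Agent.Lib.Helper8.ChevRootChar
open Cfsg.Agent.Lib.Helper5.TwAut

/-- a non-commutative simple group has trivial centre -/
theorem conj_eq_one_of_simple {Γ : Type*} [Group Γ] (hs : IsSimpleGroup Γ)
    (hnc : ¬ IsMulCommutative Γ) (h : Γ) (hh : MulAut.conj h = 1) : h = 1 := by
  have hcen : h ∈ Subgroup.center Γ := by
    rw [Subgroup.mem_center_iff]
    intro g
    have h1 : MulAut.conj h g = g := by rw [hh]; rfl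
    rw [MulAut.conj_apply] at h1
    calc g * h = (h * g * h⁻¹) * h := by rw [h1]
      _ = h * g := by group
  rcases (inferInstance : (Subgroup.center Γ).Normal).eq_bot_or_eq_top with hb | ht
  · rw [hb, Subgroup.mem_bot] at hcen
    exact hcen
  · exfalso
    apply hnc
    refine ⟨⟨fun a b => ?_⟩⟩
    have ha : a ∈ Subgroup.center Γ := by rw [ht]; exact Subgroup.mem_top a
    rw [Subgroup.mem_center_iff] at ha
    exact (ha b).symm

variable {K : Type*} [Field K] [Fintype K]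

section main

variable (D : ChevalleyDatum) (hD : D ∈ Seven) (G : GraphData)
  (hp : checkGraphPerm D G = true) (hG : ∀ r < D.nroots, checkGraphAt D G r = true)
  (f : K →+* K) (G1 : Subgroup (GL D.Idx K)) (hG1 : G1 = D.group K ⊓ sigmaFix D G hp f)
  (rho : Equiv.Perm (Fin D.rank)) (rc : List (List ℤ)) (hrcOK : RCOK D rc)
  (hrc : ∀ r < D.nroots, ∀ i : Fin D.rank,
    rcGet rc (G.pr.getD r 0) (rho i).val = rcGet rc r i.val)
  (hcomm : ∀ (τ : K ≃+* K) (x : K), τ (f x) = f (τ x))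
  (orbs : List (List ℕ)) (m : ℕ) (hyp : TwAutHyp D hD G hp f rho orbs G1 m)

include hyp hG hG1 hrcOK hrc hcomm in
/-- `|Out G1| · |H ∩ G1| = |σ-stable families| · |Aut K|` -/
theorem card_out_mul_card_diag
    (hdisj : ∀ J ∈ orbs, ∀ J' ∈ orbs, ∀ i, i ∈ J → i ∈ J' → J = J')
    (hex : ∃ J ∈ orbs, J.length = m)
    (hxmem : ∀ J ∈ orbs, ∀ t, InK f J t → xT D hD f J t ∈ G1)
    (hxinj : ∀ J ∈ orbs, ∀ a b, xT D hD f J a = xT D hD f J b → a = b)
    (hstein : ∀ θ : ↥G1 ≃* ↥G1, ∃ (x : ↥G1) (c : List ℕ → K) (τ : K ≃+* K),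
      (∀ J ∈ orbs, c J ≠ 0 ∧ InK f J (c J)) ∧
      ∀ J ∈ orbs, ∀ t, InK f J t → ∀ g : ↥G1,
        ((g : GL D.Idx K) = xT D hD f J t →
          ((θ.trans (MulAut.conj x)) g : GL D.Idx K) = xT D hD f J (c J * τ t)) ∧
        ((g : GL D.Idx K) = yT D hD f J t →
          ((θ.trans (MulAut.conj x)) g : GL D.Idx K) = yT D hD f J ((c J)⁻¹ * τ t)))
    (hdiag : ∀ g : GL D.Idx K, g ∈ G1 → (g ∈ D.diagonalSubgroup K ↔
      (∀ u ∈ D.posUnipotent K ⊓ G1, g * u * g⁻¹ ∈ D.posUnipotent K) ∧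
      (∀ v ∈ D.negUnipotent K ⊓ G1, g * v * g⁻¹ ∈ D.negUnipotent K)))
    (hT5 : ∀ J ∈ orbs, ∀ h : GL D.Idx K, h ∈ D.diagonalSubgroup K → h ∈ G1 →
      ∃ c : K, c ≠ 0 ∧ InK f J c ∧ (∀ t, h * xT D hD f J t * h⁻¹ = xT D hD f J (c * t)) ∧
        (∀ t, h * yT D hD f J t * h⁻¹ = yT D hD f J (c⁻¹ * t)))
    (hZ : ∀ h : ↥G1, MulAut.conj h = 1 → h = 1) :
    Nat.card (Cfsg.Out ↥G1) * Nat.card ↥(D.diagonalSubgroup K ⊓ G1)
      = Nat.card ↥((sigC D.rank rho f).eqLocus (MonoidHom.id (Fin D.rank → Kˣ)))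
        * Nat.card (K ≃+* K) := by
  classical
  rw [← card_A0 D hD G hp hG f G1 hG1 rho rc hrcOK hrc hcomm orbs m hyp hex hxmem hxinj]
  have hcardH : Nat.card ↥((D.diagonalSubgroup K ⊓ G1).subgroupOf G1)
      = Nat.card ↥(D.diagonalSubgroup K ⊓ G1) :=
    Nat.card_congr (Subgroup.subgroupOfEquivOfLe inf_le_right).toEquiv
  rw [← hcardH]
  have conj_val : ∀ (x g : ↥G1), ((MulAut.conj x g : ↥G1) : GL D.Idx K)
      = (x : GL D.Idx K) * g * (x : GL D.Idx K)⁻¹ := by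
    intro x g
    simp [MulAut.conj_apply]
  apply OutAbs.card_out_mul_of_cover
  · -- hZ
    intro h _ hh
    exact hZ h hh
  · -- hcover
    intro θ
    obtain ⟨x, c, τ, hc, hact⟩ := hstein θ
    refine ⟨x⁻¹, MulAut.conj x * θ, ?_, ?_⟩
    · apply mem_A0_of_action D hD G hp hG f G1 hG1 rho rc hrcOK hrc hcomm orbs m hyp hdisj
        (MulAut.conj x * θ) τ c (fun J hJ => (hc J hJ).1) (fun J hJ => (hc J hJ).2)
      · intro J hJ t ht g hg
        exact (hact J hJ t ht g).1 hg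
      · intro J hJ t ht g hg
        exact (hact J hJ t ht g).2 hg
    · rw [← mul_assoc, ← map_mul, inv_mul_cancel, map_one, one_mul]
  · -- hH
    intro h hh
    rw [Subgroup.mem_subgroupOf] at hh
    have hh5 : ∀ J ∈ orbs, ∃ c : K, c ≠ 0 ∧ InK f J c ∧
        (∀ t, (h : GL D.Idx K) * xT D hD f J t * (h : GL D.Idx K)⁻¹ = xT D hD f J (c * t)) ∧
        (∀ t, (h : GL D.Idx K) * yT D hD f J t * (h : GL D.Idx K)⁻¹ = yT D hD f J (c⁻¹ * t)) :=
      fun J hJ => hT5 J hJ h.1 hh.1 hh.2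
    choose! cJ hcJ using hh5
    apply mem_A0_of_action D hD G hp hG f G1 hG1 rho rc hrcOK hrc hcomm orbs m hyp hdisj
      (MulAut.conj h) 1 cJ (fun J hJ => (hcJ J hJ).1) (fun J hJ => (hcJ J hJ).2.1)
    · intro J hJ t _ g hg
      rw [conj_val, hg, (hcJ J hJ).2.2.1 t]
      rfl
    · intro J hJ t _ g hg
      rw [conj_val, hg, (hcJ J hJ).2.2.2 t]
      rfl
  · -- hinn
    intro x hx
    refine ⟨x, ?_, rfl⟩
    rw [Subgroup.mem_subgroupOf]
    refine ⟨?_, x.2⟩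
    show (x : GL D.Idx K) ∈ D.diagonalSubgroup K
    rw [hdiag x.1 x.2]
    constructor
    · intro u hu
      have h1 := (A0_mapsT_pos D hD G hp hG f G1 hG1 rho rc hrcOK hrc hcomm _ hx ⟨u, hu.2⟩).2 hu.1
      rwa [conj_val] at h1
    · intro v hv
      have h1 := (A0_mapsT_neg D hD G hp hG f G1 hG1 rho rc hrcOK hrc hcomm _ hx ⟨v, hv.2⟩).2 hv.1
      rwa [conj_val] at h1

end main

end Cfsg.Agent.Lib.Helper7.TwOut
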