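import Mathlib
import Cfsg.Prelude.Def_LieTwisted
import Cfsg.Agent.Lib.Helper5.Tw3D4H
import Cfsg.Agent.Lib.Helper5.Tw2E6H
import Cfsg.Agent.Lib.Helper8.ChevRootChar1

set_option autoImplicit false

/-!
Twisted-Out farm: the root-coordinate tables of `D₄` and `E₆` are compatible with the graph
permutations used for `³D₄` and `²E₆`: `m_{ρ i}(ρ r) = m_i(r)`.
-/

namespace Cfsg.Agent.Lib.Helper7.TwOut

open Cfsg Cfsg.Lie Cfsg.Agent.Lib.Helper5.ChevSym Cfsg.Agent.Lib.Helper5.ChevStruct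
open Cfsg.Agent.Lib.Helper8.ChevRootChar

set_option maxRecDepth 1000000 in
theorem hrc_D4 : ∀ r < chevD4.nroots, ∀ i : Fin chevD4.rank,
    rcGet h8rcD4 (gD4a.pr.getD r 0) (Cfsg.Agent.Lib.Helper5.Tw3D4.rho4 i).val
      = rcGet h8rcD4 r i.val := by
  decide +kernel

set_option maxRecDepth 1000000 in
theorem hrc_E6 : ∀ r < chevE6.nroots, ∀ i : Fin chevE6.rank,
    rcGet h8rcE6 (gE6.pr.getD r 0) (Cfsg.Agent.Lib.Helper5.Tw2E6.rho6 i).val
      = rcGet h8rcE6 r i.val := by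
  decide +kernel

end Cfsg.Agent.Lib.Helper7.TwOut
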