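import Mathlib
import Cfsg.Agent.Lib.Helper7.TwOutE4
import Cfsg.Agent.Lib.Helper7.TwOutTbl
import Cfsg.Agent.Lib.Helper1.TwAutT1
import Cfsg.Agent.Lib.Helper9.TwAutT5
import Cfsg.Agent.Lib.Helper5.Tw3D4Simple
import Cfsg.Agent.Lib.Helper5.Tw2E6Simple

set_option autoImplicit false

/-!
Twisted-Out farm, unit E7: the orders of `Out ³D₄(q)` and `Out ²E₆(q)` from Steinberg's theorem
(`hstein`) and the characterisation of `H ∩ G1` (`hdiag`).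
-/

namespace Cfsg.Agent.Lib.Helper7.TwOut

open Cfsg Cfsg.Lie Cfsg.Agent.Lib.Helper5.ChevSym Cfsg.Agent.Lib.Helper5.ChevStruct
open Cfsg.Agent.Lib.Helper8.ChevAut Cfsg.Agent.Lib.Helper8.ChevRootChar
open Cfsg.Agent.Lib.Helper5.TwAut

variable {K : Type*} [Field K] [Fintype K]

open Cfsg.Agent.Lib.Helper5.Tw3D4 in
/-- `|Out ³D₄(q)| = |Aut K|` -/
theorem card_out_D4 {q : ℕ} (hq : IsPrimePow q) (hK : Fintype.card K = q ^ 3)
    (f : K →+* K) (hf : ∀ x, f x = x ^ q) (hf3 : ∀ x, f (f (f x)) = x)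
    (hyp : TwAutHyp chevD4 hD4 gD4a chkGraphPerm_gD4a f rho4 Cfsg.Agent.Lib.Helper5.Tw3D4.orbits
      (twistedD4 K q) 3)
    (hstein : ∀ θ : ↥(twistedD4 K q) ≃* ↥(twistedD4 K q),
      ∃ (x : ↥(twistedD4 K q)) (c : List ℕ → K) (τ : K ≃+* K),
      (∀ J ∈ Cfsg.Agent.Lib.Helper5.Tw3D4.orbits, c J ≠ 0 ∧ InK f J (c J)) ∧
      ∀ J ∈ Cfsg.Agent.Lib.Helper5.Tw3D4.orbits, ∀ t, InK f J t → ∀ g : ↥(twistedD4 K q),
        ((g : GL chevD4.Idx K) = xT chevD4 hD4 f J t →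
          ((θ.trans (MulAut.conj x)) g : GL chevD4.Idx K) = xT chevD4 hD4 f J (c J * τ t)) ∧
        ((g : GL chevD4.Idx K) = yT chevD4 hD4 f J t →
          ((θ.trans (MulAut.conj x)) g : GL chevD4.Idx K)
            = yT chevD4 hD4 f J ((c J)⁻¹ * τ t)))
    (hdiag : ∀ g : GL chevD4.Idx K, g ∈ twistedD4 K q → (g ∈ chevD4.diagonalSubgroup K ↔
      (∀ u ∈ chevD4.posUnipotent K ⊓ twistedD4 K q, g * u * g⁻¹ ∈ chevD4.posUnipotent K) ∧
      (∀ v ∈ chevD4.negUnipotent K ⊓ twistedD4 K q, g * v * g⁻¹ ∈ chevD4.negUnipotent K))) :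
    Nat.card (Cfsg.Out ↥(twistedD4 K q)) = Nat.card (K ≃+* K) := by
  have hmain := card_out_mul_card_diag chevD4 hD4 gD4a chkGraphPerm_gD4a
    (fun r hr => chkGraph_gD4a r hr) f (twistedD4 K q) (twisted_eq_fix4 f hf hf3) rho4
    h8rcD4 h8rcOK_D4 hrc_D4 (fun τ x => by rw [hf, hf, map_pow])
    Cfsg.Agent.Lib.Helper5.Tw3D4.orbits 3 hyp (by decide) ⟨[0, 2, 3], by decide, rfl⟩
    (fun J hJ t ht => Cfsg.Agent.Lib.Helper1.TwAut.xT_mem chevD4 hD4 gD4a chkGraphPerm_gD4a f rho4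
      _ _ 3 hyp J hJ t ht)
    (fun J hJ a b h => Cfsg.Agent.Lib.Helper1.TwAut.xT_injective chevD4 hD4 gD4a
      chkGraphPerm_gD4a f rho4 _ _ 3 hyp J hJ a b h)
    hstein hdiag
    (fun J hJ h hh hh1 => Cfsg.Agent.Lib.Helper9.TwAut.diag_conj_xT chevD4 hD4 gD4a
      chkGraphPerm_gD4a f rho4 _ _ 3 hyp J hJ h hh hh1)
    (fun h hh => conj_eq_one_of_simple (twisted_simple4 hq hK).1 (twisted_simple4 hq hK).2 h hh)
  have hE : Nat.card ↥((sigC chevD4.rank rho4 f).eqLocus (MonoidHom.id (Fin chevD4.rank → Kˣ)))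
      = (q - 1) ^ 2 * (q ^ 2 + q + 1) := card_eqLocus f hf hf3 hq.two_le hK
  rw [card_diag_twisted hq hK, hE, mul_comm] at hmain
  have hpos : 0 < (q - 1) ^ 2 * (q ^ 2 + q + 1) := by
    have h2 := hq.two_le
    have h1 : 0 < q - 1 := by omega
    positivity
  exact Nat.eq_of_mul_eq_mul_left hpos hmain

open Cfsg.Agent.Lib.Helper5.Tw2E6 in
/-- `|Out ²E₆(q)| = (3, q + 1) |Aut K|` -/
theorem card_out_E6 {q : ℕ} (hq : IsPrimePow q) (hK : Fintype.card K = q ^ 2)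
    (f : K →+* K) (hf : ∀ x, f x = x ^ q) (hf2 : ∀ x, f (f x) = x)
    (hyp : TwAutHyp chevE6 hE6 gE6 chkGraphPerm_gE6 f rho6 Cfsg.Agent.Lib.Helper5.Tw2E6.orbits
      (twistedE6 K q) 2)
    (hstein : ∀ θ : ↥(twistedE6 K q) ≃* ↥(twistedE6 K q),
      ∃ (x : ↥(twistedE6 K q)) (c : List ℕ → K) (τ : K ≃+* K),
      (∀ J ∈ Cfsg.Agent.Lib.Helper5.Tw2E6.orbits, c J ≠ 0 ∧ InK f J (c J)) ∧
      ∀ J ∈ Cfsg.Agent.Lib.Helper5.Tw2E6.orbits, ∀ t, InK f J t → ∀ g : ↥(twistedE6 K q),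
        ((g : GL chevE6.Idx K) = xT chevE6 hE6 f J t →
          ((θ.trans (MulAut.conj x)) g : GL chevE6.Idx K) = xT chevE6 hE6 f J (c J * τ t)) ∧
        ((g : GL chevE6.Idx K) = yT chevE6 hE6 f J t →
          ((θ.trans (MulAut.conj x)) g : GL chevE6.Idx K)
            = yT chevE6 hE6 f J ((c J)⁻¹ * τ t)))
    (hdiag : ∀ g : GL chevE6.Idx K, g ∈ twistedE6 K q → (g ∈ chevE6.diagonalSubgroup K ↔
      (∀ u ∈ chevE6.posUnipotent K ⊓ twistedE6 K q, g * u * g⁻¹ ∈ chevE6.posUnipotent K) ∧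
      (∀ v ∈ chevE6.negUnipotent K ⊓ twistedE6 K q, g * v * g⁻¹ ∈ chevE6.negUnipotent K))) :
    Nat.card (Cfsg.Out ↥(twistedE6 K q)) = Nat.gcd 3 (q + 1) * Nat.card (K ≃+* K) := by
  have hmain := card_out_mul_card_diag chevE6 hE6 gE6 chkGraphPerm_gE6
    (fun r hr => chkGraph_gE6 r hr) f (twistedE6 K q) (twisted_eq_fix6 f hf hf2) rho6
    h8rcE6 h8rcOK_E6 hrc_E6 (fun τ x => by rw [hf, hf, map_pow])
    Cfsg.Agent.Lib.Helper5.Tw2E6.orbits 2 hyp (by decide) ⟨[0, 5], by decide, rfl⟩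
    (fun J hJ t ht => Cfsg.Agent.Lib.Helper1.TwAut.xT_mem chevE6 hE6 gE6 chkGraphPerm_gE6 f rho6
      _ _ 2 hyp J hJ t ht)
    (fun J hJ a b h => Cfsg.Agent.Lib.Helper1.TwAut.xT_injective chevE6 hE6 gE6
      chkGraphPerm_gE6 f rho6 _ _ 2 hyp J hJ a b h)
    hstein hdiag
    (fun J hJ h hh hh1 => Cfsg.Agent.Lib.Helper9.TwAut.diag_conj_xT chevE6 hE6 gE6
      chkGraphPerm_gE6 f rho6 _ _ 2 hyp J hJ h hh hh1)
    (fun h hh => conj_eq_one_of_simple (twisted_simple6 hq hK).1 (twisted_simple6 hq hK).2 h hh)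
  have hH := card_diag_twisted hq hK
  have hE : Nat.card ↥((sigC chevE6.rank rho6 f).eqLocus (MonoidHom.id (Fin chevE6.rank → Kˣ)))
      = (q - 1) ^ 4 * (q + 1) ^ 2 := card_eqLocus f hf hf2 hq.two_le hK
  rw [hE, ← hH] at hmain
  have hpos : 0 < Nat.card ↥(chevE6.diagonalSubgroup K ⊓ twistedE6 K q) := by
    rcases Nat.eq_zero_or_pos (Nat.card ↥(chevE6.diagonalSubgroup K ⊓ twistedE6 K q)) with h0 | h0
    · exfalso
      rw [h0, mul_zero] at hH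
      have h2 := hq.two_le
      have h1 : 0 < q - 1 := by omega
      have : 0 < (q - 1) ^ 4 * (q + 1) ^ 2 := by positivity
      omega
    · exact h0
  have e : Nat.card ↥(chevE6.diagonalSubgroup K ⊓ twistedE6 K q) * Nat.card (Cfsg.Out ↥(twistedE6 K q))
      = Nat.card ↥(chevE6.diagonalSubgroup K ⊓ twistedE6 K q)
        * (Nat.gcd 3 (q + 1) * Nat.card (K ≃+* K)) := by
    rw [mul_comm, hmain]
    ring
  exact Nat.eq_of_mul_eq_mul_left hpos e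

end Cfsg.Agent.Lib.Helper7.TwOut
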