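import Mathlib
import Cfsg.Agent.Lib.Helper5.TwAutAsm
import Cfsg.Agent.Lib.Helper2.TwAutB7a
import Cfsg.Agent.Lib.Helper4.TwAutA2a
import Cfsg.Agent.Lib.Helper4.TwAutB3a
import Cfsg.Agent.Lib.Helper4.TwAutB6
import Cfsg.Agent.Lib.Helper6.TwAutT2
import Cfsg.Agent.Lib.Helper6.TwAutB2
import Cfsg.Agent.Lib.Helper6.TwAutB5

set_option autoImplicit false

/-!
Twisted-Out farm: Steinberg's theorem for the twisted groups, wired from the landed units
(assembly `tw_steinberg_of` of helper5 + B7 generic of helper2 + A2a', B3 generic, B6 of helper4 +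
T2, B2, B5 of helper6).
-/

namespace Cfsg.Agent.Lib.Helper7.TwOut

open Cfsg Cfsg.Lie Cfsg.Agent.Lib.Helper5.ChevStruct Cfsg.Agent.Lib.Helper5.ChevSym
open Cfsg.Agent.Lib.Helper5.TwAut

variable {K : Type*} [Field K] [Fintype K] (D : ChevalleyDatum) (hD : D ∈ Seven) (G : GraphData)
  (hp : checkGraphPerm D G = true) (f : K →+* K) (rho : Equiv.Perm (Fin D.rank))
  (orbs : List (List ℕ)) (G1 : Subgroup (GL D.Idx K)) (m : ℕ)
  (hyp : TwAutHyp D hD G hp f rho orbs G1 m)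

include hyp in
theorem tw_steinberg_h7 (hfne : ∃ t : K, f t ≠ t) (hrig : Rigid D orbs)
    (Js : List (List ℕ)) (hJs : ∀ J ∈ Js, J ∈ orbs) (hw : checkW0 D Js.flatten = true)
    (hopp : OppOK D orbs Js.flatten) (J₀ : List ℕ) (hJ₀ : J₀ ∈ orbs) (hJ₀m : J₀.length = m)
    (hlink : Linked D orbs J₀) (θ : ↥G1 ≃* ↥G1) :
    ∃ (x : ↥G1) (c : List ℕ → K) (τ : K ≃+* K),
      (∀ J ∈ orbs, c J ≠ 0 ∧ InK f J (c J)) ∧
      ∀ J ∈ orbs, ∀ t, InK f J t → ∀ g : ↥G1,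
        ((g : GL D.Idx K) = xT D hD f J t →
          ((θ.trans (MulAut.conj x)) g : GL D.Idx K) = xT D hD f J (c J * τ t)) ∧
        ((g : GL D.Idx K) = yT D hD f J t →
          ((θ.trans (MulAut.conj x)) g : GL D.Idx K) = yT D hD f J ((c J)⁻¹ * τ t)) := by
  have hBorel : ∀ θ : ↥G1 ≃* ↥G1, MapsT G1 θ (D.posUnipotent K) (D.posUnipotent K) →
      MapsT G1 θ (D.borelSubgroup K) (D.borelSubgroup K) := fun θ hU =>
    Cfsg.Agent.Lib.Helper4.TwAut.mapsT_borel D hD G hp f rho orbs G1 m hyp θ hU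
  have hB7 : ∀ θ : ↥G1 ≃* ↥G1, MapsT G1 θ (D.posUnipotent K) (D.posUnipotent K) →
      MapsT G1 θ (D.negUnipotent K) (D.negUnipotent K) → ∀ J ∈ orbs,
      MapsT G1 θ (rootSetSub D K (negJ D J)) (rootSetSub D K (negJ D J)) := by
    intro θ hU hV J hJ
    refine Cfsg.Agent.Lib.Helper2.TwAut.mapsT_neg_node_of D hD G hp f rho orbs G1 m hyp hBorel
      ?_ ?_ ?_ hrig θ hU hV J hJ
    · intro θ hU hV J hJ
      exact Cfsg.Agent.Lib.Helper4.TwAut.h4_exists_node_map D hD G hp f rho orbs G1 m hyp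
        (fun J hJ g hg hgV => Cfsg.Agent.Lib.Helper6.TwAutB2.parabolic_inf_neg_T D hD G hp f rho
          orbs G1 m hyp J hJ g hg hgV)
        (fun J hJ g hg hg1 => Cfsg.Agent.Lib.Helper6.TwAutT2.exists_yT_of_mem D hD G hp f rho
          orbs G1 m hyp J hJ g hg hg1)
        θ (hBorel θ hU) hV J hJ
    · intro θ J J' hJ hJ' h
      exact Cfsg.Agent.Lib.Helper6.TwAutB5.node_length_eq D hD G hp f rho orbs G1 m hyp hfne θ
        J J' hJ hJ' h
    · intro θ hB J₁ J₂ J₁' J₂' h1 h2 h1' h2' e1 e2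
      exact Cfsg.Agent.Lib.Helper4.TwAut.node_commW_iff D hD G hp f rho orbs G1 m hyp θ hB
        J₁ J₂ J₁' J₂' h1 h2 h1' h2' e1 e2
  exact Cfsg.Agent.Lib.Helper5.TwAutAsm.tw_steinberg_of D hD G hp f rho orbs G1 m hyp hB7 Js hJs
    hw hopp J₀ hJ₀ hJ₀m hlink θ

end Cfsg.Agent.Lib.Helper7.TwOut
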