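import Mathlib
import Cfsg.Prelude.Def_Balance
import Cfsg.Agent.S1337
import Cfsg.Agent.Lib.Helper1.Nilpotent
import Cfsg.Agent.Lib.Helper7.NormalE4c

/-! A `3`-group of rank at least `4` is `2`-connected. -/

set_option autoImplicit false
set_option linter.unusedSectionVars false
universe u
namespace Cfsg.Agent.Lib.Helper7.TwoConn3

open Cfsg Cfsg.Agent.Lib.Helper1

theorem reflTransGen_symm {α : Type*} {r : α → α → Prop} (hr : ∀ a b, r a b → r b a) {a b : α}
    (h : Relation.ReflTransGen r a b) : Relation.ReflTransGen r b a := by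
  induction h with
  | refl => exact Relation.ReflTransGen.refl
  | tail _ hbc ih => exact Relation.ReflTransGen.head (hr _ _ hbc) ih

/-- An endomorphism with trivial cube has a kernel of order at least the cube root. -/
theorem card_le_ker_pow_three {A : Type*} [Group A] [Finite A] (φ : A →* A)
    (h : ∀ a, φ (φ (φ a)) = 1) : Nat.card A ≤ Nat.card φ.ker ^ 3 := by
  have h1 : Nat.card φ.ker * Nat.card φ.range = Nat.card A := by
    rw [← Subgroup.index_ker φ]; exact Subgroup.card_mul_index φ.ker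
  let ψ : φ.range →* A := φ.comp φ.range.subtype
  have h2 : Nat.card ψ.ker * Nat.card ψ.range = Nat.card φ.range := by
    rw [← Subgroup.index_ker ψ]; exact Subgroup.card_mul_index ψ.ker
  have hmem : ∀ x : ψ.ker, ((x : φ.range) : A) ∈ φ.ker := by
    intro x
    have hx := x.2
    rw [MonoidHom.mem_ker] at hx ⊢
    exact hx
  have h3 : Nat.card ψ.ker ≤ Nat.card φ.ker := by
    apply Nat.card_le_card_of_injective (fun x : ψ.ker => (⟨((x : φ.range) : A), hmem x⟩ : φ.ker))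
    intro a b hab
    have h' : ((a : φ.range) : A) = ((b : φ.range) : A) :=
      congrArg (Subtype.val : ↥φ.ker → A) hab
    exact Subtype.ext (Subtype.ext h')
  have h4 : ψ.range ≤ φ.ker := by
    rintro _ ⟨⟨_, a, rfl⟩, rfl⟩
    rw [MonoidHom.mem_ker]
    exact h a
  have h5 := Subgroup.card_le_of_le h4
  calc Nat.card A = Nat.card φ.ker * (Nat.card ψ.ker * Nat.card ψ.range) := by rw [h2, h1]
    _ ≤ Nat.card φ.ker * (Nat.card φ.ker * Nat.card φ.ker) :=
        Nat.mul_le_mul_left _ (Nat.mul_le_mul h3 h5)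
    _ = Nat.card φ.ker ^ 3 := by ring

section elem
variable {P : Type u} [Group P]

/-- The cube of `u ↦ u⁻¹ u^x` vanishes on commuting conjugates of exponent `3` when `x³ = 1`. -/
theorem comm_cube_eq_one {a x : P} (hx3 : x ^ 3 = 1) (b c : P) (hb : b = x⁻¹ * a * x)
    (hc : c = x⁻¹ * b * x) (hab : a * b = b * a) (hac : a * c = c * a) (hbc : b * c = c * b)
    (hb3 : b ^ 3 = 1) (hc3 : c ^ 3 = 1) :
    ((a⁻¹ * b)⁻¹ * (b⁻¹ * c))⁻¹ * (x⁻¹ * ((a⁻¹ * b)⁻¹ * (b⁻¹ * c)) * x) = 1 := by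
  have hca : x⁻¹ * c * x = a := by
    rw [hc, hb]
    have hxxx : x * x * x = 1 := by rw [← pow_three']; exact hx3
    have h1 : x⁻¹ * (x⁻¹ * (x⁻¹ * a * x) * x) * x = (x * x * x)⁻¹ * a * (x * x * x) := by group
    rw [h1, hxxx]; simp
  have h3 : x⁻¹ * ((a⁻¹ * b)⁻¹ * (b⁻¹ * c)) * x =
      ((x⁻¹ * a * x)⁻¹ * (x⁻¹ * b * x))⁻¹ * ((x⁻¹ * b * x)⁻¹ * (x⁻¹ * c * x)) := by group
  rw [h3, ← hb, ← hc, hca]
  have hbb : b⁻¹ * b⁻¹ = b := by
    have h1 : b * b * b = 1 := by rw [← pow_three']; exact hb3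
    calc b⁻¹ * b⁻¹ = b⁻¹ * b⁻¹ * (b * b * b) := by rw [h1, mul_one]
      _ = b := by group
  have hcc : c⁻¹ * c⁻¹ = c := by
    have h1 : c * c * c = 1 := by rw [← pow_three']; exact hc3
    calc c⁻¹ * c⁻¹ = c⁻¹ * c⁻¹ * (c * c * c) := by rw [h1, mul_one]
      _ = c := by group
  have hbc' : b * c⁻¹ = c⁻¹ * b := (Commute.inv_right (show Commute b c from hbc)).eq
  have hab' : a * b⁻¹ = b⁻¹ * a := (Commute.inv_right (show Commute a b from hab)).eq
  have key : (b⁻¹ * c)⁻¹ * (c⁻¹ * a) = (a⁻¹ * b)⁻¹ * (b⁻¹ * c) := by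
    calc (b⁻¹ * c)⁻¹ * (c⁻¹ * a) = c⁻¹ * (b * c⁻¹) * a := by group
      _ = c⁻¹ * (c⁻¹ * b) * a := by rw [hbc']
      _ = (c⁻¹ * c⁻¹) * b * a := by group
      _ = c * b * a := by rw [hcc]
      _ = b * c * a := by rw [hbc]
      _ = b * (c * a) := by group
      _ = b * (a * c) := by rw [hac]
      _ = (b⁻¹ * b⁻¹) * a * c := by rw [hbb]; group
      _ = b⁻¹ * (b⁻¹ * a) * c := by group
      _ = b⁻¹ * (a * b⁻¹) * c := by rw [hab']
      _ = (a⁻¹ * b)⁻¹ * (b⁻¹ * c) := by group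
  rw [key]
  exact inv_mul_cancel _

theorem comm_cube_eq_one' {a x : P} (hx3 : x ^ 3 = 1) (b c : P) (hb : b = x⁻¹ * a * x)
    (hc : c = x⁻¹ * b * x) (hab : a * b = b * a) (hac : a * c = c * a) (hbc : b * c = c * b)
    (hb3 : b ^ 3 = 1) (hc3 : c ^ 3 = 1) :
    ((a⁻¹ * (x⁻¹ * a * x))⁻¹ * (x⁻¹ * (a⁻¹ * (x⁻¹ * a * x)) * x))⁻¹ *
      (x⁻¹ * ((a⁻¹ * (x⁻¹ * a * x))⁻¹ * (x⁻¹ * (a⁻¹ * (x⁻¹ * a * x)) * x)) * x) = 1 := by
  have e : (a⁻¹ * (x⁻¹ * a * x))⁻¹ * (x⁻¹ * (a⁻¹ * (x⁻¹ * a * x)) * x) =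
      (a⁻¹ * b)⁻¹ * (b⁻¹ * c) := by
    rw [hc, hb]; group
  rw [e]
  exact comm_cube_eq_one hx3 b c hb hc hab hac hbc hb3 hc3

variable [Finite P]

/-- An element of order `3` of a `3`-group centralizes at least `9` elements of a normal `E_81`. -/
theorem card_fix_ge (N : Subgroup P) [hNn : N.Normal] (hN : IsElementaryAbelian 3 N)
    (hNc : Nat.card N = 81) {x : P} (hx3 : x ^ 3 = 1) (hP : IsPGroup 3 P) :
    9 ≤ Nat.card (N ⊓ Subgroup.centralizer ({x} : Set P) : Subgroup P) := by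
  have hconj : ∀ n : P, n ∈ N → x⁻¹ * n * x ∈ N := by
    intro n hn
    have := hNn.conj_mem n hn x⁻¹
    rwa [inv_inv] at this
  have hcomm : ∀ a ∈ N, ∀ b ∈ N, a * b = b * a := fun a ha b hb => isElementaryAbelian_comm hN ha hb
  let φ : N →* N :=
    { toFun := fun n => ⟨(n : P)⁻¹ * (x⁻¹ * n * x), N.mul_mem (N.inv_mem n.2) (hconj n n.2)⟩
      map_one' := by
        apply Subtype.ext
        show ((1 : N) : P)⁻¹ * (x⁻¹ * ((1 : N) : P) * x) = ((1 : N) : P)
        rw [Subgroup.coe_one]; group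
      map_mul' := by
        intro a b
        apply Subtype.ext
        show (((a * b : N) : P))⁻¹ * (x⁻¹ * ((a * b : N) : P) * x) =
          ((a : P)⁻¹ * (x⁻¹ * a * x)) * ((b : P)⁻¹ * (x⁻¹ * b * x))
        rw [Subgroup.coe_mul]
        have hc : (b : P)⁻¹ * ((a : P)⁻¹ * (x⁻¹ * a * x)) =
            ((a : P)⁻¹ * (x⁻¹ * a * x)) * (b : P)⁻¹ :=
          hcomm _ (N.inv_mem b.2) _ (N.mul_mem (N.inv_mem a.2) (hconj a a.2))
        calc ((a : P) * b)⁻¹ * (x⁻¹ * ((a : P) * b) * x)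
            = ((b : P)⁻¹ * ((a : P)⁻¹ * (x⁻¹ * a * x))) * (x⁻¹ * b * x) := by group
          _ = (((a : P)⁻¹ * (x⁻¹ * a * x)) * (b : P)⁻¹) * (x⁻¹ * b * x) := by rw [hc]
          _ = ((a : P)⁻¹ * (x⁻¹ * a * x)) * ((b : P)⁻¹ * (x⁻¹ * b * x)) := by group }
  have hφ3 : ∀ n : N, φ (φ (φ n)) = 1 := by
    intro n
    apply Subtype.ext
    have hb := hconj n n.2
    have hc := hconj _ hb
    have h := comm_cube_eq_one' hx3 (x⁻¹ * (n : P) * x) (x⁻¹ * (x⁻¹ * (n : P) * x) * x) rfl rfl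
      (hcomm _ n.2 _ hb) (hcomm _ n.2 _ hc) (hcomm _ hb _ hc) (hN.2 _ hb) (hN.2 _ hc)
    exact h
  have h1 := card_le_ker_pow_three φ hφ3
  have hkmem : ∀ n : φ.ker, ((n : N) : P) ∈ N ⊓ Subgroup.centralizer ({x} : Set P) := by
    intro n
    refine ⟨n.1.2, ?_⟩
    show ((n : N) : P) ∈ Subgroup.centralizer ({x} : Set P)
    rw [Subgroup.mem_centralizer_singleton_iff]
    have hn := n.2
    rw [MonoidHom.mem_ker] at hn
    have hker : ((n : N) : P)⁻¹ * (x⁻¹ * ((n : N) : P) * x) = 1 :=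
      congrArg (Subtype.val : ↥N → P) hn
    have h2 : ((n : N) : P) = x⁻¹ * ((n : N) : P) * x := inv_mul_eq_one.mp hker
    calc ((n : N) : P) * x = x * (x⁻¹ * ((n : N) : P) * x) := by group
      _ = x * ((n : N) : P) := by rw [← h2]
  have h2 : Nat.card φ.ker ≤ Nat.card (N ⊓ Subgroup.centralizer ({x} : Set P) : Subgroup P) := by
    apply Nat.card_le_card_of_injective
      (fun n : φ.ker => (⟨((n : N) : P), hkmem n⟩ :
        (N ⊓ Subgroup.centralizer ({x} : Set P) : Subgroup P)))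
    intro a b hab
    have h' : ((a : N) : P) = ((b : N) : P) :=
      congrArg (Subtype.val : ↥(N ⊓ Subgroup.centralizer ({x} : Set P) : Subgroup P) → P) hab
    exact Subtype.ext (Subtype.ext h')
  obtain ⟨j, hj⟩ := IsPGroup.iff_card.mp
    (hP.to_subgroup (N ⊓ Subgroup.centralizer ({x} : Set P)))
  rw [hj]
  have h3 : 81 ≤ (3 ^ j) ^ 3 := by
    rw [← hNc, ← hj]
    exact h1.trans (Nat.pow_le_pow_left h2 3)
  have hj2 : 2 ≤ j := by
    by_contra hlt
    push Not at hlt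
    interval_cases j <;> norm_num at h3
  calc 9 = 3 ^ 2 := by norm_num
    _ ≤ 3 ^ j := Nat.pow_le_pow_right (by norm_num) hj2

theorem exists_centralizing_not_mem (hP : IsPGroup 3 P) (N : Subgroup P) [hNn : N.Normal]
    (hN : IsElementaryAbelian 3 N) (hNc : Nat.card N = 81) (X : Subgroup P)
    (hX : IsElementaryAbelian 3 X) (hXc : Nat.card X = 9) :
    ∃ c ∈ N, (∀ y ∈ X, c * y = y * c) ∧ c ∉ X := by
  have hNcomm : ∀ a ∈ N, ∀ b ∈ N, a * b = b * a :=
    fun a ha b hb => isElementaryAbelian_comm hN ha hb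
  by_cases hXN : X ≤ N
  · have hex : ∃ c ∈ N, c ∉ X := by
      by_contra hno
      push Not at hno
      have h1 : N ≤ X := hno
      have h2 := Subgroup.card_le_of_le h1
      rw [hNc, hXc] at h2
      omega
    obtain ⟨c, hcN, hcX⟩ := hex
    exact ⟨c, hcN, fun y hy => hNcomm c hcN y (hXN hy), hcX⟩
  · obtain ⟨x, hxX, hxN⟩ := SetLike.not_le_iff_exists.mp hXN
    by_cases hbot : X ⊓ N = ⊥
    · have hnil : Group.IsNilpotent P := hP.isNilpotent
      have hNne : N ≠ ⊥ := by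
        intro h
        rw [h, Subgroup.card_bot] at hNc
        omega
      have h1 := normal_inf_center_ne_bot N hNne
      obtain ⟨z, hz1⟩ := (Subgroup.ne_bot_iff_exists_ne_one).mp h1
      have hzN : (z : P) ∈ N := z.2.1
      have hzZ : (z : P) ∈ Subgroup.center P := z.2.2
      refine ⟨z, hzN, fun y _ => (Subgroup.mem_center_iff.mp hzZ y).symm, ?_⟩
      intro hzX
      have : (z : P) ∈ X ⊓ N := ⟨hzX, hzN⟩
      rw [hbot, Subgroup.mem_bot] at this
      exact hz1 (Subtype.ext this)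
    · have hcard3 : Nat.card (X ⊓ N : Subgroup P) = 3 := by
        have hdvd : Nat.card (X ⊓ N : Subgroup P) ∣ 3 ^ 2 := by
          have := Subgroup.card_dvd_of_le (inf_le_left : X ⊓ N ≤ X)
          rw [hXc] at this
          norm_num
          exact this
        obtain ⟨k, hk2, hk⟩ := (Nat.dvd_prime_pow Nat.prime_three).mp hdvd
        interval_cases k
        · exfalso
          apply hbot
          rw [pow_zero] at hk
          exact Subgroup.card_eq_one.mp hk
        · rw [hk]; norm_num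
        · exfalso
          apply hXN
          have h1 : X ⊓ N = X :=
            Subgroup.eq_of_le_of_card_ge inf_le_left (by rw [hk, hXc]; norm_num)
          rw [← h1]
          exact inf_le_right
      have hx3 : x ^ 3 = 1 := hX.2 x hxX
      have h9 := card_fix_ge N hN hNc hx3 hP
      have hex : ∃ c ∈ (N ⊓ Subgroup.centralizer ({x} : Set P) : Subgroup P), c ∉ X := by
        by_contra hno
        push Not at hno
        have h1 : (N ⊓ Subgroup.centralizer ({x} : Set P) : Subgroup P) ≤ X ⊓ N :=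
          fun c hc => ⟨hno c hc, hc.1⟩
        have h2 := Subgroup.card_le_of_le h1
        rw [hcard3] at h2
        omega
      obtain ⟨c, hc, hcX⟩ := hex
      refine ⟨c, hc.1, ?_, hcX⟩
      have hcx : c * x = x * c := Subgroup.mem_centralizer_singleton_iff.mp hc.2
      exact Cfsg.Agent.Lib.Helper7.NormalE4.commute_of_commute_gen Nat.prime_three
        (inf_le_left : X ⊓ N ≤ X) (by rw [hXc, hcard3]) hxX (fun h => hxN h.2)
        (fun a ha => hNcomm c hc.1 a ha.2) hcx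

theorem rank_centralizer (hP : IsPGroup 3 P) (N : Subgroup P) [hNn : N.Normal]
    (hN : IsElementaryAbelian 3 N) (hNc : Nat.card N = 81) (X : Subgroup P)
    (hX : IsElementaryAbelian 3 X) (hXc : 3 ^ 2 ≤ Nat.card X) :
    ¬ PRankLE 3 2 ↥(Subgroup.centralizer (X : Set P)) := by
  have hXX : X ≤ Subgroup.centralizer (X : Set P) := by
    intro a ha
    rw [Subgroup.mem_centralizer_iff]
    intro b hb
    exact isElementaryAbelian_comm hX hb ha
  by_cases h : 3 ^ 2 < Nat.card X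
  · exact Cfsg.Agent.S1337.rank_of_le_centralizer X X hX h hXX
  · have hXc9 : Nat.card X = 9 := by
      push Not at h
      have : Nat.card X = 3 ^ 2 := le_antisymm h hXc
      rw [this]; norm_num
    obtain ⟨c, hcN, hcX, hcnX⟩ := exists_centralizing_not_mem hP N hN hNc X hX hXc9
    have hc3 : c ^ 3 = 1 := hN.2 c hcN
    have hcC : c ∈ Subgroup.centralizer (X : Set P) := by
      rw [Subgroup.mem_centralizer_iff]
      intro y hy
      exact (hcX y hy).symm
    have hD : IsElementaryAbelian 3 (X ⊔ Subgroup.zpowers c) :=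
      isElementaryAbelian_sup_of_le_centralizer hX (isElementaryAbelian_zpowers hc3)
        (Subgroup.zpowers_le.mpr hcC)
    have hlt : X < X ⊔ Subgroup.zpowers c := by
      apply lt_of_le_of_ne le_sup_left
      intro heq
      apply hcnX
      rw [heq]
      exact (le_sup_right : Subgroup.zpowers c ≤ _) (Subgroup.mem_zpowers c)
    have hcard := Cfsg.Agent.Lib.Helper1.Rk.card_lt_of_lt hlt
    exact Cfsg.Agent.S1337.rank_of_le_centralizer X _ hD (lt_of_le_of_lt hXc hcard)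
      (sup_le hXX (Subgroup.zpowers_le.mpr hcC))

theorem isKConnected_three_two (hP : IsPGroup 3 P) (hrk : ¬ PRankLE 3 3 P) :
    IsKConnected 3 2 P := by
  have hrk' := hrk
  unfold PRankLE at hrk'
  push Not at hrk'
  obtain ⟨A, hAc, hAe, hAcard⟩ := hrk'
  have hA : IsElementaryAbelian 3 A := ⟨hAc, hAe⟩
  obtain ⟨j, hj⟩ := IsPGroup.iff_card.mp (hP.to_subgroup A)
  have hj4 : 4 ≤ j := by
    rw [hj] at hAcard
    have := (Nat.pow_lt_pow_iff_right (by norm_num : 1 < 3)).mp hAcard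
    omega
  have hdvd : 3 ^ 4 ∣ Nat.card A := by rw [hj]; exact pow_dvd_pow 3 hj4
  obtain ⟨K, hK⟩ := Sylow.exists_subgroup_card_pow_prime 3 hdvd
  have hE₀ : IsElementaryAbelian 3 (K.map A.subtype) :=
    isElementaryAbelian_mono hA (Subgroup.map_subtype_le K)
  have hE₀c : Nat.card (K.map A.subtype) = 3 ^ 4 := by
    rw [Subgroup.card_map_of_injective A.subtype_injective, hK]
  obtain ⟨N, hNn, hN, hNc⟩ :=
    Cfsg.Agent.Lib.Helper7.NormalE4.exists_normal_elementary_four (p := 3) (by norm_num) hP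
      (K.map A.subtype) hE₀ hE₀c
  have hNc' : Nat.card N = 81 := by rw [hNc]; norm_num
  have hrk2 : ¬ PRankLE 3 2 P := by
    intro h
    apply hrk
    intro B hBc hBe
    exact (h B hBc hBe).trans (by norm_num)
  obtain ⟨U, -, -, -, hiff⟩ := Cfsg.Agent.S1337.result 3 hP hrk2
  intro E E' hE hEc hE' hE'c
  have h1 := (hiff E hE hEc).mpr (rank_centralizer hP N hN hNc' E hE hEc)
  have h2 := (hiff E' hE' hE'c).mpr (rank_centralizer hP N hN hNc' E' hE' hE'c)
  refine h1.trans (reflTransGen_symm ?_ h2)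
  rintro B C ⟨hB, hBc, hC, hCc, hBC⟩
  exact ⟨hC, hCc, hB, hBc, fun c hc b hb => (hBC b hb c hc).symm⟩

end elem

end Cfsg.Agent.Lib.Helper7.TwoConn3
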