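import Mathlib
import Cfsg.Agent.Lib.Helper7.TwoFrob

/-! Structure of 2-Frobenius groups (S4001): main theorem. -/
set_option autoImplicit false
open scoped Pointwise commutatorElement
open Cfsg Cfsg.Agent.Lib.Helper1

namespace Cfsg.Agent.Lib.Helper7.TwoFrob

set_option maxHeartbeats 1600000 in
theorem main {G : Type*} [Group G] [Finite G] (H K : Subgroup G) [hHn : H.Normal] [hKn : K.Normal]
    (hlt : H < K)
    (hK : ∃ C : Subgroup ↥K, Cfsg.IsFrobeniusComplement C ∧
      Cfsg.frobeniusKernel C = (H.subgroupOf K : Set ↥K))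
    (hGH : ∃ C : Subgroup (G ⧸ H), Cfsg.IsFrobeniusComplement C ∧
      Cfsg.frobeniusKernel C = (K.map (QuotientGroup.mk' H) : Set (G ⧸ H))) :
    Group.IsSolvable G ∧ Odd (Nat.card (↥K ⧸ H.subgroupOf K)) ∧
      Nat.Coprime (Nat.card (↥K ⧸ H.subgroupOf K)) (Nat.card ↥H * Nat.card (G ⧸ K)) ∧
      IsCyclic (G ⧸ K) ∧
      ∀ p q : ℕ, p.Prime → q.Prime → p ≠ q → p ∣ Nat.card G → q ∣ Nat.card G →
        ((∃ g : G, orderOf g = p * q) ↔
          (p ∣ Nat.card (↥K ⧸ H.subgroupOf K) ↔ q ∣ Nat.card (↥K ⧸ H.subgroupOf K))) := by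
  classical
  obtain ⟨C₀, hC₀, hkerC⟩ := hK
  obtain ⟨D, hD, hkerD⟩ := hGH
  have hHK : H ≤ K := hlt.le
  obtain ⟨π, hπdef⟩ : ∃ π : G →* G ⧸ H, π = QuotientGroup.mk' H := ⟨_, rfl⟩
  obtain ⟨Kb, hKbdef⟩ : ∃ X : Subgroup (G ⧸ H), X = K.map (QuotientGroup.mk' H) := ⟨_, rfl⟩
  haveI hKbn : Kb.Normal := by
    rw [hKbdef]; exact Subgroup.Normal.map hKn _ (QuotientGroup.mk'_surjective H)
  rw [← hKbdef] at hkerD
  obtain ⟨hcomplK, hdisjK, hcopK, hnilK, hcentK, hHK1⟩ := frobPack C₀ (H.subgroupOf K) hC₀ hkerC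
  obtain ⟨hcomplD, hdisjD, hcopD, hnilD, hcentD, hKb1⟩ := frobPack D Kb hD hkerD
  -- cardinalities
  have hcardHK : Nat.card (H.subgroupOf K) = Nat.card H :=
    Nat.card_congr (Subgroup.subgroupOfEquivOfLe hHK).toEquiv
  have hc1 : Nat.card (H.subgroupOf K) * Nat.card C₀ = Nat.card K := hcomplK.card_mul_card
  have hc2 : Nat.card (↥K ⧸ H.subgroupOf K) * Nat.card (H.subgroupOf K) = Nat.card K :=
    (Subgroup.card_eq_card_quotient_mul_card_subgroup _).symm
  have hcC : Nat.card (↥K ⧸ H.subgroupOf K) = Nat.card C₀ := by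
    have hpos : 0 < Nat.card (H.subgroupOf K) := Nat.card_pos
    have h : Nat.card (↥K ⧸ H.subgroupOf K) * Nat.card (H.subgroupOf K) =
        Nat.card C₀ * Nat.card (H.subgroupOf K) := by rw [hc2, mul_comm, hc1]
    exact Nat.eq_of_mul_eq_mul_right hpos h
  have hd1 : Nat.card Kb * Nat.card D = Nat.card (G ⧸ H) := hcomplD.card_mul_card
  have hKbidx : Kb.index = K.index := by
    rw [hKbdef]
    exact Subgroup.index_map_eq K (QuotientGroup.mk'_surjective H)
      (by rw [QuotientGroup.ker_mk']; exact hHK)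
  have hcardD : Nat.card D = Nat.card (G ⧸ K) := by
    have h1 := Kb.card_mul_index
    rw [hKbidx, ← hd1] at h1
    have hpos : 0 < Nat.card Kb := Nat.card_pos
    have h2 := Nat.eq_of_mul_eq_mul_left hpos h1
    rw [← h2, Subgroup.index_eq_card]
  have hcardG : Nat.card G = Nat.card H * Nat.card C₀ * Nat.card D := by
    have h2 : Nat.card K * K.index = Nat.card G := K.card_mul_index
    rw [← h2, ← hc1, hcardHK, hcardD, Subgroup.index_eq_card]
  have hcardKb : Nat.card Kb = Nat.card C₀ := by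
    have h1 : Nat.card G = Nat.card (G ⧸ H) * Nat.card H :=
      Subgroup.card_eq_card_quotient_mul_card_subgroup H
    have h4 : Nat.card Kb * (Nat.card D * Nat.card H) =
        Nat.card C₀ * (Nat.card D * Nat.card H) := by
      calc Nat.card Kb * (Nat.card D * Nat.card H)
          = (Nat.card Kb * Nat.card D) * Nat.card H := by ring
        _ = Nat.card G := by rw [hd1, ← h1]
        _ = Nat.card H * Nat.card C₀ * Nat.card D := hcardG
        _ = Nat.card C₀ * (Nat.card D * Nat.card H) := by ring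
    exact Nat.eq_of_mul_eq_mul_right (Nat.mul_pos Nat.card_pos Nat.card_pos) h4
  have hcopcd : (Nat.card C₀).Coprime (Nat.card (G ⧸ K)) := by
    rw [← hcardD, ← hcardKb]; exact hcopD
  have hcopch : (Nat.card C₀).Coprime (Nat.card H) := by
    rw [← hcardHK]; exact hcopK.symm
  have hG3 : Nat.Coprime (Nat.card (↥K ⧸ H.subgroupOf K)) (Nat.card ↥H * Nat.card (G ⧸ K)) := by
    rw [hcC]
    exact Nat.Coprime.mul_right hcopch hcopcd
  -- element-level facts
  have hπK : ∀ g : G, π g ∈ Kb ↔ g ∈ K := by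
    intro g
    rw [hKbdef, hπdef]
    constructor
    · rintro ⟨k, hk, hkg⟩
      have h1 : k⁻¹ * g ∈ H := by
        rw [← QuotientGroup.eq]; exact hkg
      have h2 : g = k * (k⁻¹ * g) := by group
      rw [h2]; exact K.mul_mem hk (hHK h1)
    · intro hg; exact Subgroup.mem_map_of_mem _ hg
  have hπ1 : ∀ g : G, π g = 1 ↔ g ∈ H := by
    intro g; rw [hπdef]; exact QuotientGroup.eq_one_iff g
  have hπsurj : ∀ x : G ⧸ H, ∃ g : G, π g = x := by
    intro x; rw [hπdef]; exact QuotientGroup.mk'_surjective H x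
  have hE1 : ∀ a : G, a ∈ K → a ∉ H → ∀ x ∈ H, a * x = x * a → x = 1 := by
    intro a haK haH x hxH hcomm
    have h1 : (⟨a, haK⟩ : ↥K) ∉ H.subgroupOf K := by
      rw [Subgroup.mem_subgroupOf]; exact haH
    have h2 := hcentK ⟨a, haK⟩ h1
    have h3 : (⟨x, hHK hxH⟩ : ↥K) ∈
        H.subgroupOf K ⊓ Subgroup.centralizer {(⟨a, haK⟩ : ↥K)} := by
      refine Subgroup.mem_inf.mpr ⟨?_, ?_⟩
      · rw [Subgroup.mem_subgroupOf]; exact hxH
      · rw [Subgroup.mem_centralizer_singleton_iff]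
        exact Subtype.ext hcomm.symm
    rw [h2, Subgroup.mem_bot] at h3
    exact congrArg Subtype.val h3
  have hE2 : ∀ b : G, b ∉ K → ∀ a ∈ K, a * b = b * a → a ∈ H := by
    intro b hbK a haK hcomm
    have h1 : π b ∉ Kb := fun h => hbK ((hπK b).mp h)
    have h2 := hcentD (π b) h1
    have h3 : π a ∈ Kb ⊓ Subgroup.centralizer {π b} := by
      refine Subgroup.mem_inf.mpr ⟨(hπK a).mpr haK, ?_⟩
      rw [Subgroup.mem_centralizer_singleton_iff, ← map_mul, ← map_mul, hcomm]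
    rw [h2, Subgroup.mem_bot] at h3
    exact (hπ1 a).mp h3
  have hH1 : H ≠ ⊥ := by
    intro h
    apply hHK1
    rw [h]; exact Subgroup.bot_subgroupOf K
  -- the complement as a subgroup of G
  obtain ⟨C, hCdef⟩ : ∃ C : Subgroup G, C = C₀.map K.subtype := ⟨_, rfl⟩
  have hCK : C ≤ K := by rw [hCdef]; exact Subgroup.map_subtype_le C₀
  have hCH : ∀ x ∈ C, x ∈ H → x = 1 := by
    intro x hxC hxH
    rw [hCdef] at hxC
    obtain ⟨x', hx', rfl⟩ := hxC
    have h : x' ∈ H.subgroupOf K ⊓ C₀ :=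
      Subgroup.mem_inf.mpr ⟨by rw [Subgroup.mem_subgroupOf]; exact hxH, hx'⟩
    rw [hdisjK, Subgroup.mem_bot] at h
    rw [h]; rfl
  have hKfac : ∀ k ∈ K, ∃ n ∈ H, ∃ c ∈ C, k = n * c := by
    intro k hk
    obtain ⟨⟨⟨n, hn⟩, ⟨c, hc⟩⟩, hnc, -⟩ := hcomplK.existsUnique ⟨k, hk⟩
    have hn' : (n : G) ∈ H := by
      have := hn
      rw [SetLike.mem_coe, Subgroup.mem_subgroupOf] at this
      exact this
    refine ⟨(n : G), hn', (c : G), ?_, ?_⟩
    · rw [hCdef]; exact Subgroup.mem_map_of_mem K.subtype hc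
    · have h := congrArg Subtype.val hnc
      exact h.symm
  have hfpfC : ∀ a ∈ C, a ≠ 1 → H ⊓ Subgroup.centralizer {a} = ⊥ := by
    intro a ha ha1
    rw [eq_bot_iff]
    intro x hx
    obtain ⟨hxH, hxc⟩ := Subgroup.mem_inf.mp hx
    rw [Subgroup.mem_centralizer_singleton_iff] at hxc
    rw [Subgroup.mem_bot]
    exact hE1 a (hCK ha) (fun h => ha1 (hCH a ha h)) x hxH hxc.symm
  -- oddness
  have hG2 : Odd (Nat.card (↥K ⧸ H.subgroupOf K)) := by
    rw [hcC, ← Nat.not_even_iff_odd]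
    intro heven
    have h2 : 2 ∣ Nat.card C₀ := heven.two_dvd
    have hfpf : ∀ h ∈ C₀, h ≠ 1 → H.subgroupOf K ⊓ Subgroup.centralizer {h} = ⊥ :=
      (frobenius_iff_fpf (H.subgroupOf K) C₀ hcomplK hHK1 hC₀.1).mp hC₀
    obtain ⟨⟨s, hsC, hs2, hsuniq, -⟩, -⟩ :=
      frobenius_even_complement (H.subgroupOf K) C₀ hcomplK hHK1 hfpf h2
    obtain ⟨d, hd1'⟩ := (Subgroup.ne_bot_iff_exists_ne_one).mp hD.1
    obtain ⟨g, hg⟩ := hπsurj (d : G ⧸ H)
    have huK : g * (s : G) * g⁻¹ ∈ K := hKn.conj_mem _ s.2 g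
    obtain ⟨u, hudef⟩ : ∃ u : ↥K, u = ⟨g * (s : G) * g⁻¹, huK⟩ := ⟨_, rfl⟩
    have hu2 : orderOf u = 2 := by
      rw [← Subgroup.orderOf_coe, hudef]
      show orderOf (g * (s : G) * g⁻¹) = 2
      have h := MulEquiv.orderOf_eq (MulAut.conj g) (s : G)
      rw [MulAut.conj_apply] at h
      rw [h, Subgroup.orderOf_coe, hs2]
    have huHK : u ∉ H.subgroupOf K := by
      intro hu
      have h3 : 2 ∣ Nat.card (H.subgroupOf K) := by
        have := (H.subgroupOf K).orderOf_dvd_natCard hu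
        rwa [hu2] at this
      have h4 := Nat.dvd_gcd h3 h2
      rw [Nat.Coprime.gcd_eq_one hcopK] at h4
      omega
    have huker : u ∉ Cfsg.frobeniusKernel C₀ := by rw [hkerC]; exact huHK
    have hex : ∃ k : ↥K, u ∈ MulAut.conj k • C₀ := by
      by_contra hno
      push Not at hno
      exact huker (Or.inr hno)
    obtain ⟨k, hk⟩ := hex
    rw [mem_conj_smul_iff] at hk
    have hk2 : orderOf (k⁻¹ * u * k) = 2 := by
      have h := MulEquiv.orderOf_eq (MulAut.conj k⁻¹) u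
      rw [MulAut.conj_apply, inv_inv] at h
      rw [h, hu2]
    have hks := hsuniq _ hk hk2
    have hsH : (s : G) ∉ H := by
      intro hsH
      have h : s ∈ H.subgroupOf K ⊓ C₀ :=
        Subgroup.mem_inf.mpr ⟨by rw [Subgroup.mem_subgroupOf]; exact hsH, hsC⟩
      rw [hdisjK, Subgroup.mem_bot] at h
      rw [h, orderOf_one] at hs2
      omega
    have hcomm : (s : G) * ((k : G)⁻¹ * g) = ((k : G)⁻¹ * g) * (s : G) := by
      have h1 : (k : G)⁻¹ * (g * (s : G) * g⁻¹) * (k : G) = (s : G) := by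
        have h := congrArg Subtype.val hks
        rw [hudef] at h
        exact h
      calc (s : G) * ((k : G)⁻¹ * g)
          = ((k : G)⁻¹ * (g * (s : G) * g⁻¹) * (k : G)) * ((k : G)⁻¹ * g) := by rw [h1]
        _ = ((k : G)⁻¹ * g) * (s : G) := by group
    have hzK : (k : G)⁻¹ * g ∈ K := by
      by_contra hz
      exact hsH (hE2 _ hz (s : G) s.2 hcomm)
    have hgK : g ∈ K := by
      have h : g = (k : G) * ((k : G)⁻¹ * g) := by group
      rw [h]; exact K.mul_mem k.2 hzK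
    have hdm : (d : G ⧸ H) ∈ Kb ⊓ D :=
      Subgroup.mem_inf.mpr ⟨by rw [← hg]; exact (hπK g).mpr hgK, d.2⟩
    rw [hdisjD, Subgroup.mem_bot] at hdm
    exact hd1' (Subtype.ext hdm)
  -- a cyclic normal subgroup W of G/H inside Kb
  obtain ⟨W, hWKb, hW1, hWn, hWcent⟩ := nil_min Kb hnilD Kb (le_refl Kb) hKb1
  haveI := hWn
  have hWcomm : ∀ a ∈ W, ∀ b ∈ W, a * b = b * a := by
    intro a ha b hb
    have h := hWcent ha
    rw [Subgroup.mem_centralizer_iff] at h
    exact (h b (hWKb hb)).symm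
  have hWcyc : IsCyclic ↥W := by
    obtain ⟨E, hEdef⟩ : ∃ E : Subgroup G, E = C ⊓ W.comap π := ⟨_, rfl⟩
    have hEC : E ≤ C := by rw [hEdef]; exact inf_le_left
    have hEW : ∀ e ∈ E, π e ∈ W := by
      intro e he; rw [hEdef] at he; exact (Subgroup.mem_inf.mp he).2
    have hEcomm : ∀ a ∈ E, ∀ b ∈ E, a * b = b * a := by
      intro a ha b hb
      have h1 : π (a * b) = π (b * a) := by
        rw [map_mul, map_mul]; exact hWcomm _ (hEW a ha) _ (hEW b hb)
      have h2 : (b * a)⁻¹ * (a * b) ∈ H := by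
        rw [← hπ1, map_mul, map_inv, h1, inv_mul_cancel]
      have h3 : (b * a)⁻¹ * (a * b) ∈ C :=
        C.mul_mem (C.inv_mem (C.mul_mem (hEC hb) (hEC ha))) (C.mul_mem (hEC ha) (hEC hb))
      have h4 := hCH _ h3 h2
      exact (inv_mul_eq_one.mp h4).symm
    haveI hEc : IsMulCommutative ↥E :=
      ⟨⟨fun a b => Subtype.ext (hEcomm a a.2 b b.2)⟩⟩
    have hEcyc : IsCyclic ↥E :=
      isCyclic_of_fpf_of_abelian E H hH1
        (by rw [Subgroup.normalizer_eq_top]; exact le_top)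
        (fun a ha ha1 => hfpfC a (hEC ha) ha1)
    let f : ↥E →* ↥W :=
      { toFun := fun e => ⟨π (e : G), hEW e e.2⟩
        map_one' := by apply Subtype.ext; exact map_one π
        map_mul' := fun a b => by apply Subtype.ext; exact map_mul π (a : G) (b : G) }
    have hfs : Function.Surjective f := by
      intro w
      have hw : (w : G ⧸ H) ∈ Kb := hWKb w.2
      obtain ⟨k, hkw⟩ := hπsurj (w : G ⧸ H)
      have hkK : k ∈ K := by rw [← hπK, hkw]; exact hw
      obtain ⟨n, hn, c, hc, hknc⟩ := hKfac k hkK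
      have hcw : π c = (w : G ⧸ H) := by
        rw [← hkw, hknc, map_mul, (hπ1 n).mpr hn, one_mul]
      have hcE : c ∈ E := by
        rw [hEdef]; refine Subgroup.mem_inf.mpr ⟨hc, ?_⟩
        rw [Subgroup.mem_comap, hcw]; exact w.2
      exact ⟨⟨c, hcE⟩, Subtype.ext hcw⟩
    exact isCyclic_of_surjective f hfs
  -- D is abelian, hence cyclic
  have hDcomm : ∀ d₁ ∈ D, ∀ d₂ ∈ D, d₁ * d₂ = d₂ * d₁ := by
    intro d₁ hd₁ d₂ hd₂
    have hcD : ⁅d₁, d₂⁆ ∈ D := by
      rw [commutatorElement_def]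
      exact D.mul_mem (D.mul_mem (D.mul_mem hd₁ hd₂) (D.inv_mem hd₁)) (D.inv_mem hd₂)
    have hcW : ∀ w ∈ W, w * ⁅d₁, d₂⁆ = ⁅d₁, d₂⁆ * w := by
      intro w hw
      haveI := hWcyc
      have hab : ∀ α β : MulAut ↥W, α * β = β * α := by
        intro α β
        apply (IsCyclic.mulAutMulEquiv ↥W).injective
        rw [map_mul, map_mul, mul_comm]
      have h1 : (MulAut.conjNormal (H := W)) ⁅d₁, d₂⁆ = 1 := by
        rw [map_commutatorElement, commutatorElement_def,
          hab (MulAut.conjNormal d₁) (MulAut.conjNormal d₂)]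
        group
      have h2 := MulAut.conjNormal_apply (H := W) ⁅d₁, d₂⁆ ⟨w, hw⟩
      rw [h1] at h2
      have h3 : w = ⁅d₁, d₂⁆ * w * ⁅d₁, d₂⁆⁻¹ := h2
      obtain ⟨c, hcdef⟩ : ∃ c : G ⧸ H, c = ⁅d₁, d₂⁆ := ⟨_, rfl⟩
      rw [← hcdef] at h3 ⊢
      have h4 : w * c = c * w * c⁻¹ * c := by rw [← h3]
      rw [inv_mul_cancel_right] at h4
      exact h4
    have hc1 : ⁅d₁, d₂⁆ = 1 := by
      by_contra hne
      have hnK : ⁅d₁, d₂⁆ ∉ Kb := by
        intro h
        have h' : ⁅d₁, d₂⁆ ∈ Kb ⊓ D := Subgroup.mem_inf.mpr ⟨h, hcD⟩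
        rw [hdisjD, Subgroup.mem_bot] at h'
        exact hne h'
      have h2 := hcentD _ hnK
      obtain ⟨w, hw1⟩ := (Subgroup.ne_bot_iff_exists_ne_one).mp hW1
      have h3 : (w : G ⧸ H) ∈ Kb ⊓ Subgroup.centralizer {⁅d₁, d₂⁆} := by
        refine Subgroup.mem_inf.mpr ⟨hWKb w.2, ?_⟩
        rw [Subgroup.mem_centralizer_singleton_iff]
        exact hcW w w.2
      rw [h2, Subgroup.mem_bot] at h3
      exact hw1 (Subtype.ext h3)
    exact commutatorElement_eq_one_iff_mul_comm.mp hc1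
  haveI hDc : IsMulCommutative ↥D :=
    ⟨⟨fun a b => Subtype.ext (hDcomm a a.2 b b.2)⟩⟩
  have hDcyc : IsCyclic ↥D := by
    apply isCyclic_of_fpf_of_abelian D Kb hKb1
      (by rw [Subgroup.normalizer_eq_top]; exact le_top)
    intro a ha ha1
    apply hcentD
    intro haK
    have h' : a ∈ Kb ⊓ D := Subgroup.mem_inf.mpr ⟨haK, ha⟩
    rw [hdisjD, Subgroup.mem_bot] at h'
    exact ha1 h'
  -- the map G/H → G/K
  obtain ⟨φ, hφ⟩ : ∃ φ : G ⧸ H →* G ⧸ K, ∀ g : G, φ (π g) = QuotientGroup.mk' K g :=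
    ⟨QuotientGroup.lift H (QuotientGroup.mk' K) (by rw [QuotientGroup.ker_mk']; exact hHK),
      fun g => by rw [hπdef]; rfl⟩
  have hφKb : ∀ x ∈ Kb, φ x = 1 := by
    intro x hx
    obtain ⟨k, hk⟩ := hπsurj x
    rw [← hk, hφ]
    rw [← hk, hπK] at hx
    exact (QuotientGroup.eq_one_iff k).mpr hx
  have hG4 : IsCyclic (G ⧸ K) := by
    haveI := hDcyc
    let f : ↥D →* G ⧸ K := φ.comp D.subtype
    have hfs : Function.Surjective f := by
      intro y
      obtain ⟨g, rfl⟩ := QuotientGroup.mk'_surjective K y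
      obtain ⟨⟨⟨k', hk'⟩, ⟨d', hd'⟩⟩, hkd, -⟩ := hcomplD.existsUnique (π g)
      refine ⟨⟨d', hd'⟩, ?_⟩
      show φ d' = _
      have hk'' : φ k' = 1 := hφKb k' hk'
      have h : φ (π g) = φ k' * φ d' := by
        rw [← map_mul]; exact congrArg φ hkd.symm
      rw [hφ, hk'', one_mul] at h
      exact h.symm
    exact isCyclic_of_surjective f hfs
  have hGKcomm : ∀ x y : G ⧸ K, x * y = y * x := by
    intro x y
    haveI := hG4
    obtain ⟨g, hg⟩ := IsCyclic.exists_generator (α := G ⧸ K)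
    obtain ⟨i, rfl⟩ := Subgroup.mem_zpowers_iff.mp (hg x)
    obtain ⟨j, rfl⟩ := Subgroup.mem_zpowers_iff.mp (hg y)
    exact (Commute.zpow_zpow_self g i j).eq
  -- solvability
  have hG1 : Group.IsSolvable G := by
    haveI := hnilK
    haveI hsH : Group.IsSolvable ↥H :=
      Group.isSolvable_of_surjective (f := (Subgroup.subgroupOfEquivOfLe hHK).toMonoidHom)
        (Subgroup.subgroupOfEquivOfLe hHK).surjective
    haveI hsGK : Group.IsSolvable (G ⧸ K) := Group.isSolvable_of_comm hGKcomm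
    haveI := hnilD
    haveI hsGH : Group.IsSolvable (G ⧸ H) := by
      apply Group.isSolvable_of_ker_le_range Kb.subtype φ
      intro x hx
      rw [MonoidHom.mem_ker] at hx
      obtain ⟨g, hg⟩ := hπsurj x
      rw [← hg, hφ] at hx
      have hgK : g ∈ K := (QuotientGroup.eq_one_iff g).mp hx
      rw [Subgroup.range_subtype, ← hg]
      exact (hπK g).mpr hgK
    exact Group.isSolvable_of_ker_le_range H.subtype (QuotientGroup.mk' H)
      (by rw [QuotientGroup.ker_mk', Subgroup.range_subtype])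
  -- the cut
  have hcut : ∀ p q : ℕ, p.Prime → q.Prime → p ∣ Nat.card C₀ → ¬ q ∣ Nat.card C₀ →
      ∀ a b : G, orderOf a = p → orderOf b = q → a * b = b * a → False := by
    intro p q hp hq hpc hqc a b ha hb hcomm
    have hpd : ¬ p ∣ Nat.card (G ⧸ K) := fun h =>
      hp.one_lt.ne' ((Nat.Coprime.coprime_dvd_left hpc hcopcd).eq_one_of_dvd h)
    have hph : ¬ p ∣ Nat.card H := fun h =>
      hp.one_lt.ne' ((Nat.Coprime.coprime_dvd_left hpc hcopch).eq_one_of_dvd h)
    have haK : a ∈ K := by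
      by_contra haK
      have h1 : orderOf (QuotientGroup.mk' K a) ∣ p := by
        rw [← ha]; exact orderOf_map_dvd _ a
      have h2 : orderOf (QuotientGroup.mk' K a) ∣ Nat.card (G ⧸ K) := orderOf_dvd_natCard _
      rcases (Nat.dvd_prime hp).mp h1 with h | h
      · rw [orderOf_eq_one_iff] at h
        exact haK ((QuotientGroup.eq_one_iff a).mp h)
      · rw [h] at h2; exact hpd h2
    have haH : a ∉ H := by
      intro haH
      have h := H.orderOf_dvd_natCard haH
      rw [ha] at h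
      exact hph h
    by_cases hbK : b ∈ K
    · have hbH : b ∈ H := by
        by_contra hbH
        have h1 : orderOf (QuotientGroup.mk' (H.subgroupOf K) ⟨b, hbK⟩) ∣ q := by
          rw [← hb, ← Subgroup.orderOf_mk b hbK]; exact orderOf_map_dvd _ _
        have h2 : orderOf (QuotientGroup.mk' (H.subgroupOf K) ⟨b, hbK⟩) ∣
            Nat.card (↥K ⧸ H.subgroupOf K) := orderOf_dvd_natCard _
        rcases (Nat.dvd_prime hq).mp h1 with h | h
        · rw [orderOf_eq_one_iff] at h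
          have h3 := (QuotientGroup.eq_one_iff (⟨b, hbK⟩ : ↥K)).mp h
          rw [Subgroup.mem_subgroupOf] at h3
          exact hbH h3
        · rw [h, hcC] at h2; exact hqc h2
      have hb1 := hE1 a haK haH b hbH hcomm
      rw [hb1, orderOf_one] at hb
      exact hq.one_lt.ne hb
    · exact haH (hE2 b hbK a haK hcomm)
  -- mixed primes: p ∣ |H|, q ∣ |D|
  have hmixed : ∀ p q : ℕ, p.Prime → q.Prime → p ≠ q → p ∣ Nat.card H → q ∣ Nat.card D →
      ∃ g : G, orderOf g = p * q := by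
    intro p q hp hq hpq hph hqd
    haveI : Fact p.Prime := ⟨hp⟩
    haveI : Fact q.Prime := ⟨hq⟩
    haveI := hnilK
    have hnilH : Group.IsNilpotent ↥H :=
      Group.nilpotent_of_mulEquiv (Subgroup.subgroupOfEquivOfLe hHK)
    obtain ⟨P⟩ : Nonempty (Sylow p ↥H) := inferInstance
    have htfae : Group.IsNilpotent ↥H ↔ ∀ (r : ℕ) (_ : Fact r.Prime) (P : Sylow r ↥H),
        (P : Subgroup ↥H).Normal := (Group.isNilpotent_of_finite_tfae (G := ↥H)).out 0 3
    have hPn : (P : Subgroup ↥H).Normal := htfae.mp hnilH p inferInstance P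
    haveI hPc : (P : Subgroup ↥H).Characteristic := Sylow.characteristic_of_normal P hPn
    obtain ⟨PG, hPGdef⟩ : ∃ X : Subgroup G, X = (P : Subgroup ↥H).map H.subtype := ⟨_, rfl⟩
    haveI hPGn : PG.Normal := by
      rw [hPGdef]; exact ConjAct.normal_of_characteristic_of_normal
    have hPG1 : PG ≠ ⊥ := by
      rw [hPGdef]
      intro h
      exact P.ne_bot_of_dvd_card hph
        ((Subgroup.map_eq_bot_iff_of_injective _ H.subtype_injective).mp h)
    have hPGH : PG ≤ H := by rw [hPGdef]; exact Subgroup.map_subtype_le _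
    have hPGp : IsPGroup p ↥PG := by rw [hPGdef]; exact P.isPGroup'.map H.subtype
    obtain ⟨V, hVP, hV1, hVn, hVcent⟩ := nil_min H hnilH PG hPGH hPG1
    haveI := hVn
    have hVH : V ≤ H := hVP.trans hPGH
    have hVp : IsPGroup p ↥V := hPGp.to_le hVP
    have hcopV : (Nat.card V).Coprime (Nat.card Kb) := by
      rw [hcardKb]
      exact Nat.Coprime.coprime_dvd_left (Subgroup.card_dvd_of_le hVH) hcopch.symm
    obtain ⟨c₀, hc₀⟩ := (Subgroup.ne_bot_iff_exists_ne_one).mp hC₀.1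
    have hc₀K : ((c₀ : ↥K) : G) ∈ K := (c₀ : ↥K).2
    have hc₀H : ((c₀ : ↥K) : G) ∉ H := by
      intro h
      have h' : (c₀ : ↥K) ∈ H.subgroupOf K ⊓ C₀ :=
        Subgroup.mem_inf.mpr ⟨by rw [Subgroup.mem_subgroupOf]; exact h, c₀.2⟩
      rw [hdisjK, Subgroup.mem_bot] at h'
      exact hc₀ (Subtype.ext h')
    have hfixN : ∀ v ∈ V, (∀ g : G, QuotientGroup.mk' H g ∈ Kb → g * v = v * g) → v = 1 := by
      intro v hv hall
      have h1 := hall ((c₀ : ↥K) : G) (by rw [← hπdef]; exact (hπK _).mpr hc₀K)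
      exact hE1 _ hc₀K hc₀H v (hVH hv) h1
    obtain ⟨v, hvV, hv1, hvD⟩ := quotFix H V hVcent hVH hV1 D Kb hD hkerD.symm hcopV hfixN
    obtain ⟨yb, hyb⟩ := exists_prime_orderOf_dvd_card' (G := ↥D) q hqd
    obtain ⟨g₀, hg₀⟩ := hπsurj (yb : G ⧸ H)
    have hord : orderOf (π g₀) = q := by rw [hg₀, Subgroup.orderOf_coe, hyb]
    obtain ⟨k, hk⟩ := lift_order π g₀ hord
    have hyD : QuotientGroup.mk' H (g₀ ^ k) ∈ D := by
      rw [← hπdef, map_pow, hg₀]; exact D.pow_mem yb.2 k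
    have hcomm : g₀ ^ k * v = v * g₀ ^ k := hvD _ hyD
    have hpv : p ∣ orderOf v := by
      obtain ⟨m, hm⟩ := (IsPGroup.iff_orderOf.mp hVp) ⟨v, hvV⟩
      rw [Subgroup.orderOf_mk] at hm
      have hm0 : m ≠ 0 := by
        intro h; rw [h, pow_zero, orderOf_eq_one_iff] at hm; exact hv1 hm
      rw [hm]; exact dvd_pow_self p hm0
    have hv' : orderOf (v ^ (orderOf v / p)) = p :=
      orderOf_pow_orderOf_div (orderOf_pos v).ne' hpv
    have hcomm' : Commute (v ^ (orderOf v / p)) (g₀ ^ k) :=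
      Commute.pow_left (show Commute v (g₀ ^ k) from hcomm.symm) _
    exact ⟨v ^ (orderOf v / p) * g₀ ^ k, order_mul hp hq hpq _ _ hv' hk hcomm'.eq⟩
  -- the prime graph
  have hG5 : ∀ p q : ℕ, p.Prime → q.Prime → p ≠ q → p ∣ Nat.card G → q ∣ Nat.card G →
      ((∃ g : G, orderOf g = p * q) ↔ (p ∣ Nat.card C₀ ↔ q ∣ Nat.card C₀)) := by
    intro p q hp hq hpq hpG hqG
    haveI : Fact p.Prime := ⟨hp⟩
    haveI : Fact q.Prime := ⟨hq⟩
    constructor
    · rintro ⟨g, hg⟩
      have hgq : orderOf (g ^ q) = p := by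
        rw [orderOf_pow' g hq.ne_zero, hg, Nat.gcd_eq_right (Dvd.intro_left p rfl),
          Nat.mul_div_cancel _ hq.pos]
      have hgp : orderOf (g ^ p) = q := by
        rw [orderOf_pow' g hp.ne_zero, hg, Nat.gcd_eq_right (Dvd.intro q rfl),
          Nat.mul_div_cancel_left _ hp.pos]
      constructor
      · intro hpc
        by_contra hqc
        exact hcut p q hp hq hpc hqc (g ^ q) (g ^ p) hgq hgp (Commute.pow_pow_self g q p).eq
      · intro hqc
        by_contra hpc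
        exact hcut q p hq hp hqc hpc (g ^ p) (g ^ q) hgp hgq (Commute.pow_pow_self g p q).eq
    · intro hiff
      by_cases hpc : p ∣ Nat.card C₀
      · have hqc := hiff.mp hpc
        rw [← hcardKb] at hpc hqc
        obtain ⟨x, hx⟩ := exists_prime_orderOf_dvd_card' (G := ↥Kb) p hpc
        obtain ⟨y, hy⟩ := exists_prime_orderOf_dvd_card' (G := ↥Kb) q hqc
        have hxy : x * y = y * x := nil_comm hnilD hp hq hpq x y hx hy
        have hz : orderOf ((x * y : ↥Kb) : G ⧸ H) = p * q := by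
          rw [Subgroup.orderOf_coe]; exact order_mul hp hq hpq x y hx hy hxy
        obtain ⟨g, hg⟩ := hπsurj ((x * y : ↥Kb) : G ⧸ H)
        rw [← hg] at hz
        obtain ⟨k, hk⟩ := lift_order π g hz
        exact ⟨g ^ k, hk⟩
      · have hqc : ¬ q ∣ Nat.card C₀ := fun h => hpc (hiff.mpr h)
        have hp' : p ∣ Nat.card H ∨ p ∣ Nat.card D := by
          rw [hcardG] at hpG
          rcases (Nat.Prime.dvd_mul hp).mp hpG with h | h
          · rcases (Nat.Prime.dvd_mul hp).mp h with h | h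
            · exact Or.inl h
            · exact absurd h hpc
          · exact Or.inr h
        have hq' : q ∣ Nat.card H ∨ q ∣ Nat.card D := by
          rw [hcardG] at hqG
          rcases (Nat.Prime.dvd_mul hq).mp hqG with h | h
          · rcases (Nat.Prime.dvd_mul hq).mp h with h | h
            · exact Or.inl h
            · exact absurd h hqc
          · exact Or.inr h
        rcases hp' with hpH | hpD <;> rcases hq' with hqH | hqD
        · rw [← hcardHK] at hpH hqH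
          obtain ⟨x, hx⟩ := exists_prime_orderOf_dvd_card' (G := ↥(H.subgroupOf K)) p hpH
          obtain ⟨y, hy⟩ := exists_prime_orderOf_dvd_card' (G := ↥(H.subgroupOf K)) q hqH
          have hxy : x * y = y * x := nil_comm hnilK hp hq hpq x y hx hy
          refine ⟨(((x * y : ↥(H.subgroupOf K)) : ↥K) : G), ?_⟩
          rw [Subgroup.orderOf_coe, Subgroup.orderOf_coe]
          exact order_mul hp hq hpq x y hx hy hxy
        · exact hmixed p q hp hq hpq hpH hqD
        · obtain ⟨g, hg⟩ := hmixed q p hq hp hpq.symm hqH hpD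
          exact ⟨g, by rw [hg, mul_comm]⟩
        · rw [hcardD] at hpD hqD
          obtain ⟨x, hx⟩ := exists_prime_orderOf_dvd_card' (G := G ⧸ K) p hpD
          obtain ⟨y, hy⟩ := exists_prime_orderOf_dvd_card' (G := G ⧸ K) q hqD
          have hz : orderOf (x * y) = p * q := order_mul hp hq hpq x y hx hy (hGKcomm x y)
          obtain ⟨g, hg⟩ := QuotientGroup.mk'_surjective K (x * y)
          rw [← hg] at hz
          obtain ⟨k, hk⟩ := lift_order (QuotientGroup.mk' K) g hz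
          exact ⟨g ^ k, hk⟩
  refine ⟨hG1, hG2, hG3, hG4, ?_⟩
  intro p q hp hq hpq hpG hqG
  rw [hcC]
  exact hG5 p q hp hq hpq hpG hqG

end Cfsg.Agent.Lib.Helper7.TwoFrob
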