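import Mathlib
import Cfsg.Agent.Lib.Helper7.U33G1
import Cfsg.Agent.S0283
import Cfsg.Agent.S0280
import Cfsg.Agent.S2366

/-! S3670, unit G1 for the actual type `Cfsg.PSU 3 F 3`, `|F| = 9`: order `6048`, simple, no
elements of order `14` or `21`, hence a character degree divisible by `6`. -/

set_option autoImplicit false
set_option linter.unusedSectionVars false
set_option linter.unusedVariables false
set_option linter.style.longLine false
set_option linter.unusedSimpArgs false
set_option linter.style.haveILetI false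

namespace Cfsg.Agent.Lib.Helper7.U33G1

open Cfsg

theorem h7_u33_prod_eval :
    ∏ i ∈ Finset.range 3, (if Even i then 3 ^ (i + 1) + 1 else 3 ^ (i + 1) - 1) = 896 := by
  decide

section psu

variable {F : Type*} [Field F] [Fintype F]

/-- `|PSU₃(3)| = 6048`. -/
theorem card_PSU33 (hF : Fintype.card F = 9) : Nat.card (Cfsg.PSU 3 F 3) = 6048 := by
  have h := Cfsg.Agent.S0280.result (F := F) (q := 3) (by rw [hF]; norm_num) 3 (by norm_num)
  rw [h7_u33_prod_eval] at h
  have h2 : Nat.gcd 3 (3 + 1) = 1 := by decide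
  rw [h2] at h
  norm_num at h
  omega

/-- `PSU₃(3)` is simple. -/
theorem isSimpleGroup_PSU33 (hF : Fintype.card F = 9) : IsSimpleGroup (Cfsg.PSU 3 F 3) :=
  Cfsg.Agent.S0283.result (F := F) (q := 3) (by rw [hF]; norm_num) 3 le_rfl (by omega)

/-- a field with `9` elements has characteristic `3`. -/
theorem charP_three (hF : Fintype.card F = 9) : CharP F 3 := by
  obtain ⟨p, hp⟩ := CharP.exists F
  haveI := hp
  obtain ⟨n, hpp, hn⟩ := FiniteField.card F p
  rw [hF] at hn
  have h1 : p ∣ 3 ^ 2 := by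
    have : (9 : ℕ) = 3 ^ 2 := by norm_num
    rw [← this, hn]
    exact dvd_pow_self p n.ne_zero
  have h2 : p = 3 := (Nat.prime_dvd_prime_iff_eq hpp (by norm_num)).mp (hpp.dvd_of_dvd_pow h1)
  rw [← h2]
  exact hp

/-- the element orders of `PSU₃(3)` divide `4`, `12`, `8` or `7`. -/
theorem orderOf_PSU33 (hF : Fintype.card F = 9) (g : Cfsg.PSU 3 F 3) :
    orderOf g ∣ 4 ∨ orderOf g ∣ 12 ∨ orderOf g ∣ 8 ∨ orderOf g ∣ 7 := by
  haveI : Fact (Nat.Prime 3) := ⟨by norm_num⟩
  haveI := charP_three hF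
  have hspec := Cfsg.Agent.S2366.result (F := F) 3 (by norm_num) 3 (by rw [hF]; norm_num)
  have hmem : orderOf g ∈ Set.range (orderOf : Cfsg.PSU 3 F 3 → ℕ) := ⟨g, rfl⟩
  rw [hspec] at hmem
  simp only [Set.mem_union, Set.mem_ofPred_eq] at hmem
  have e1 : (3 : ℕ) + 1 = 4 := by norm_num
  have e2 : 3 * (3 + 1) / Nat.gcd 3 (3 + 1) = 12 := by norm_num
  have e3 : (3 ^ 2 - 1) / Nat.gcd 3 (3 + 1) = 8 := by norm_num
  have e4 : (3 ^ 2 - 3 + 1) / Nat.gcd 3 (3 + 1) = 7 := by norm_num
  rw [e2, e3, e4, e1] at hmem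
  tauto

/-- **Unit G1 of S3670 for `PSU₃(3)`**: some irreducible character degree is divisible by `6`. -/
theorem psu33_exists_six_dvd (hF : Fintype.card F = 9) :
    ∃ d ∈ Cfsg.charDegrees (Cfsg.PSU 3 F 3), 6 ∣ d := by
  classical
  haveI : Finite (Cfsg.PSU 3 F 3) := Nat.finite_of_card_ne_zero (by rw [card_PSU33 hF]; norm_num)
  haveI : Fintype (Cfsg.PSU 3 F 3) := Fintype.ofFinite _
  haveI := isSimpleGroup_PSU33 hF
  refine exists_six_dvd (card_PSU33 hF) ?_ ?_
  · intro g hg
    have h := orderOf_PSU33 hF g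
    rw [hg] at h
    omega
  · intro g hg
    have h := orderOf_PSU33 hF g
    rw [hg] at h
    omega

end psu

end Cfsg.Agent.Lib.Helper7.U33G1
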