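import Mathlib
import Cfsg.Agent.Lib.Helper7.U33G1b

/-! S3670: `PSU₃(3)` is perfect; no elements of order `14` or `21`. -/

set_option autoImplicit false
set_option linter.unusedSectionVars false
set_option linter.unusedVariables false
set_option linter.style.longLine false

namespace Cfsg.Agent.Lib.Helper7.U33G1

open Cfsg Cfsg.Agent.Lib.Lead.SmallSimple2

/-- a non-abelian simple group is perfect -/
theorem h7_commutator_eq_top_of_simple {G : Type*} [Group G] [Finite G] [IsSimpleGroup G]
    (h : ¬ (Nat.card G).Prime) : commutator G = ⊤ := by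
  rcases (inferInstance : (commutator G).Normal).eq_bot_or_eq_top with h1 | h1
  · exfalso
    exact not_comm_of_not_prime h ((_root_.commutator_eq_bot_iff G).mp h1)
  · exact h1

section psu

variable {F : Type*} [Field F] [Fintype F]

/-- `PSU₃(3)` is perfect. -/
theorem commutator_PSU33 (hF : Fintype.card F = 9) : commutator (Cfsg.PSU 3 F 3) = ⊤ := by
  have := isSimpleGroup_PSU33 hF
  have : Finite (Cfsg.PSU 3 F 3) := Nat.finite_of_card_ne_zero (by rw [card_PSU33 hF]; norm_num)
  apply h7_commutator_eq_top_of_simple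
  rw [card_PSU33 hF]
  norm_num

theorem orderOf_ne_14_PSU33 (hF : Fintype.card F = 9) (g : Cfsg.PSU 3 F 3) : orderOf g ≠ 14 := by
  intro hg
  have h := orderOf_PSU33 hF g
  rw [hg] at h
  omega

theorem orderOf_ne_21_PSU33 (hF : Fintype.card F = 9) (g : Cfsg.PSU 3 F 3) : orderOf g ≠ 21 := by
  intro hg
  have h := orderOf_PSU33 hF g
  rw [hg] at h
  omega

end psu

end Cfsg.Agent.Lib.Helper7.U33G1
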