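import Mathlib
import Cfsg.Prelude
import Cfsg.Agent.Lib.Helper5.SUNondegMax

set_option autoImplicit false
set_option linter.unusedSectionVars false
set_option linter.unusedVariables false
open Cfsg

/-! Unitary decompositions, part 1: vectors of prescribed norm in a non-degenerate subspace of
dimension at least two of the standard hermitian space. -/

namespace Cfsg.Agent.Lib.Helper7.UD

open Matrix Cfsg.Agent.Lib.Helper5.Herm Cfsg.Agent.Lib.Helper5.HermBridge
  Cfsg.Agent.Lib.Helper5.HermTv Cfsg.Agent.Lib.Helper5.HermGen Cfsg.Agent.Lib.Helper5.HermEich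
  Cfsg.Agent.Lib.Helper5.SUCentres Cfsg.Agent.Lib.Helper5.SpSingularMax
  Cfsg.Agent.Lib.Helper5.SUSingularMax Cfsg.Agent.Lib.Helper5.HermPair

variable {F : Type*} [Field F] [Fintype F] {q : ℕ} (hF : Fintype.card F = q ^ 2) {n : ℕ}

include hF in
theorem hnorm_add (x y : Fin n → F) :
    hermForm n F q (x + y) (x + y) =
      hermForm n F q x x + hermForm n F q x y + hermForm n F q y x + hermForm n F q y y := by
  rw [hermForm_add_left, hermForm_add_right hF, hermForm_add_right hF]
  ring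

include hF in
/-- an anisotropic vector orthogonal to a given anisotropic vector -/
theorem perp_aniso {A B : Submodule F (Fin n → F)} (h : OrthoPair q A B)
    (h2 : 2 ≤ Module.finrank F A) (x : Fin n → F) (hx : x ∈ A)
    (hνx : hermForm n F q x x ≠ 0) :
    ∃ w ∈ A, hermForm n F q w x = 0 ∧ hermForm n F q w w ≠ 0 := by
  by_contra hcon
  push Not at hcon
  obtain ⟨U, hU⟩ : ∃ U : Submodule F (Fin n → F),
      U = A ⊓ perpS hF (Submodule.span F {x}) := ⟨_, rfl⟩
  have hmemU : ∀ v, v ∈ A → hermForm n F q v x = 0 → v ∈ U := by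
    intro v hv hvx
    rw [hU, Submodule.mem_inf, mem_perpS]
    refine ⟨hv, ?_⟩
    intro w hw
    obtain ⟨s, rfl⟩ := Submodule.mem_span_singleton.mp hw
    rw [hermForm_smul_left, herm_symm_zero hF n hvx, mul_zero]
  have hUA : ∀ v ∈ U, v ∈ A ∧ hermForm n F q v x = 0 := by
    intro v hv
    rw [hU, Submodule.mem_inf, mem_perpS] at hv
    exact ⟨hv.1, herm_symm_zero hF n (hv.2 x (Submodule.mem_span_singleton_self x))⟩
  have hiso : ∀ u ∈ U, hermForm n F q u u = 0 :=
    fun u hu => hcon u (hUA u hu).1 (hUA u hu).2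
  have hpol := polar0 hF U hiso
  obtain ⟨e', he'A, he'0, he'x⟩ := exists_ne_zero_perp hF A 1 (fun _ => x) (by omega)
  have he'x' : hermForm n F q e' x = 0 := he'x 0
  obtain ⟨z, hzA, hz⟩ := h.nondeg hF e' he'A he'0
  have hz'A : z + (-(hermForm n F q z x / hermForm n F q x x)) • x ∈ A :=
    A.add_mem hzA (A.smul_mem _ hx)
  have hz'x : hermForm n F q (z + (-(hermForm n F q z x / hermForm n F q x x)) • x) x = 0 := by
    rw [hermForm_add_left, hermForm_smul_left, neg_mul, div_mul_cancel₀ _ hνx, add_neg_cancel]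
  have h1 := hpol e' _ (hmemU e' he'A he'x') (hmemU _ hz'A hz'x)
  rw [hermForm_add_right hF, hermForm_smul_right, herm_symm_zero hF n
    (herm_symm_zero hF n he'x'), mul_zero, add_zero] at h1
  exact hz h1

include hF in
/-- vectors of every norm orthogonal to a given anisotropic vector (zero allowed) -/
theorem perp_norm {A B : Submodule F (Fin n → F)} (h : OrthoPair q A B)
    (h2 : 2 ≤ Module.finrank F A) (x : Fin n → F) (hx : x ∈ A)
    (hνx : hermForm n F q x x ≠ 0) (c : F) (hc : c ^ q = c) :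
    ∃ w ∈ A, hermForm n F q w x = 0 ∧ hermForm n F q w w = c := by
  by_cases hc0 : c = 0
  · refine ⟨0, A.zero_mem, hermForm_zero_left n q x, ?_⟩
    rw [hermForm_zero_left]
    exact hc0.symm
  obtain ⟨w₀, hw₀A, hw₀x, hw₀n⟩ := perp_aniso hF h h2 x hx hνx
  obtain ⟨l, hl⟩ := Cfsg.Agent.Lib.Helper5.HermCount.exists_norm_eq hF
    (c / hermForm n F q w₀ w₀) (div_ne_zero hc0 hw₀n) (by
      rw [div_pow, hc, herm_self_fixed hF])
  refine ⟨l • w₀, A.smul_mem _ hw₀A, ?_, ?_⟩
  · rw [hermForm_smul_left, hw₀x, mul_zero]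
  · rw [hermForm_smul_left, hermForm_smul_right, ← mul_assoc, ← pow_succ', hl,
      div_mul_cancel₀ _ hw₀n]

include hF in
/-- a non-zero isotropic vector in a non-degenerate subspace of dimension at least two -/
theorem iso2 {A B : Submodule F (Fin n → F)} (h : OrthoPair q A B)
    (h2 : 2 ≤ Module.finrank F A) :
    ∃ e ∈ A, e ≠ 0 ∧ hermForm n F q e e = 0 := by
  obtain ⟨x, hx, hx0, -⟩ := exists_ne_zero_perp hF A 0 (fun i => Fin.elim0 i) (by omega)
  by_cases hνx : hermForm n F q x x = 0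
  · exact ⟨x, hx, hx0, hνx⟩
  obtain ⟨w, hwA, hwx, hwn⟩ := perp_norm hF h h2 x hx hνx (-(hermForm n F q x x)) (by
    rw [pow_q_neg hF, herm_self_fixed hF])
  refine ⟨x + w, A.add_mem hx hwA, ?_, ?_⟩
  · intro h0
    have h1 : hermForm n F q (x + w) x = 0 := by rw [h0, hermForm_zero_left]
    rw [hermForm_add_left, hwx, add_zero] at h1
    exact hνx h1
  · rw [hnorm_add hF, herm_symm_zero hF n hwx, hwx, hwn]
    ring

include hF in
/-- an anisotropic vector not orthogonal to a given non-zero vector -/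
theorem aniso_nonorth {A B : Submodule F (Fin n → F)} (h : OrthoPair q A B)
    (x : Fin n → F) (hx : x ∈ A) (hx0 : x ≠ 0) :
    ∃ d ∈ A, hermForm n F q d d ≠ 0 ∧ hermForm n F q x d ≠ 0 := by
  by_cases hνx : hermForm n F q x x = 0
  · obtain ⟨z, hzA, hz⟩ := h.nondeg hF x hx hx0
    by_cases hνz : hermForm n F q z z = 0
    · obtain ⟨μ, hμ⟩ := exists_trace_eq hF 1 (one_pow q)
      obtain ⟨l, hl⟩ : ∃ l : F, l * hermForm n F q x z = μ :=
        ⟨μ / hermForm n F q x z, div_mul_cancel₀ _ hz⟩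
      have e1 : l ^ q * (hermForm n F q x z) ^ q = μ ^ q := by rw [← mul_pow, hl]
      have hd : hermForm n F q (z + l • x) (z + l • x) = 1 := by
        simp only [hermForm_add_left, hermForm_add_right hF, hermForm_smul_left,
          hermForm_smul_right, hνx, hνz]
        rw [← hermForm_conj hF n x z]
        linear_combination e1 + hl + hμ
      have hxd : hermForm n F q x (z + l • x) = hermForm n F q x z := by
        simp only [hermForm_add_right hF, hermForm_smul_right, hνx, mul_zero, add_zero]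
      refine ⟨z + l • x, A.add_mem hzA (A.smul_mem _ hx), ?_, ?_⟩
      · rw [hd]
        exact one_ne_zero
      · rw [hxd]
        exact hz
    · exact ⟨z, hzA, hνz, hz⟩
  · exact ⟨x, hx, hνx, hνx⟩

include hF in
/-- the vector used to shrink the support of an isotropic vector by one block -/
theorem exists_K {A B : Submodule F (Fin n → F)} (h : OrthoPair q A B)
    (h2 : 2 ≤ Module.finrank F A) (h3 : ¬ 3 ≤ q → 3 ≤ Module.finrank F A)
    (x : Fin n → F) (hx : x ∈ A) (hx0 : x ≠ 0) (m : F) (hm : m ^ q = m) :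
    ∃ u ∈ A, hermForm n F q u u = m ∧
      hermForm n F q x u + (hermForm n F q x u) ^ q = 2 * m ∧ hermForm n F q x u ≠ m := by
  obtain ⟨τ₀, hτ₀0, hτ₀⟩ := exists_trace_zero hF
  by_cases hνx : hermForm n F q x x = 0
  · obtain ⟨e, heA, he, hxe⟩ := h.exists_partner hF x hx hx0 hνx
    have hex : hermForm n F q e x = 1 := by rw [← hermForm_conj hF n x e, hxe, one_pow]
    by_cases hτ : ∃ τ : F, τ ^ q = -τ ∧ τ ≠ 0 ∧ m + τ ≠ 0
    · obtain ⟨τ, hτq, hτ0, hφ0⟩ := hτ
      obtain ⟨η, hη⟩ := exists_trace_eq hF m hm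
      obtain ⟨φ, hφ⟩ : ∃ φ : F, φ = m + τ := ⟨_, rfl⟩
      have hφ0' : φ ≠ 0 := by rw [hφ]; exact hφ0
      have hφq : φ ^ q = m - τ := by
        rw [hφ, pow_q_add hF, hm, hτq]
        ring
      obtain ⟨a, ha⟩ : ∃ a : F, a * φ = η := ⟨η / φ, div_mul_cancel₀ _ hφ0'⟩
      have e1 : a ^ q * φ ^ q = η ^ q := by rw [← mul_pow, ha]
      have hxu : hermForm n F q x (a • x + (φ ^ q) • e) = φ := by
        simp only [hermForm_add_right hF, hermForm_smul_right, hνx, hxe, pow_q_pow_q hF]
        ring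
      refine ⟨a • x + (φ ^ q) • e, A.add_mem (A.smul_mem _ hx) (A.smul_mem _ heA), ?_, ?_, ?_⟩
      · simp only [hermForm_add_left, hermForm_add_right hF, hermForm_smul_left,
          hermForm_smul_right, hνx, he, hxe, hex, pow_q_pow_q hF]
        linear_combination ha + e1 + hη
      · rw [hxu, hφq, hφ]
        ring
      · rw [hxu, hφ]
        intro h0
        apply hτ0
        linear_combination h0
    · push Not at hτ
      have hmτ : m + τ₀ = 0 := hτ τ₀ hτ₀ hτ₀0
      have hq3 : ¬ 3 ≤ q := by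
        intro hq3
        obtain ⟨r, hr, hr0, hr1⟩ := exists_fixed_ne hF hq3
        have h1 := hτ (r * τ₀) (by rw [mul_pow, hr, hτ₀]; ring) (mul_ne_zero hr0 hτ₀0)
        have h4 : (r - 1) * τ₀ = 0 := by linear_combination h1 - hmτ
        rcases mul_eq_zero.mp h4 with h5 | h5
        · exact hr1 (sub_eq_zero.mp h5)
        · exact hτ₀0 h5
      obtain ⟨d, hdA, hd0, hdx, hdn⟩ := h.exists_norm_vec hF (h3 hq3) x hx m hm
      have hxd : hermForm n F q x d = 0 := herm_symm_zero hF n hdx
      have hm0 : m ≠ 0 := by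
        intro h0
        rw [h0, zero_add] at hmτ
        exact hτ₀0 hmτ
      have h2m : 2 * m = 0 := by
        have e1 : m = -τ₀ := by linear_combination hmτ
        have e2 : m ^ q = τ₀ := by
          rw [e1, pow_q_neg hF, hτ₀]
          ring
        rw [hm] at e2
        linear_combination e2 + e1
      refine ⟨d, hdA, hdn, ?_, ?_⟩
      · rw [hxd, zero_pow (q_ne_zero hF), add_zero, h2m]
      · rw [hxd]
        exact fun h0 => hm0 h0.symm
  · obtain ⟨φ, hφ⟩ : ∃ φ : F, φ = m + τ₀ := ⟨_, rfl⟩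
    have hνq : (hermForm n F q x x) ^ q = hermForm n F q x x := herm_self_fixed hF n x
    obtain ⟨μ, hμ⟩ : ∃ μ : F, μ = (φ / hermForm n F q x x) ^ q := ⟨_, rfl⟩
    have hμq : μ ^ q * hermForm n F q x x = φ := by
      rw [hμ, pow_q_pow_q hF, div_mul_cancel₀ _ hνx]
    have hc : (m - μ * μ ^ q * hermForm n F q x x) ^ q =
        m - μ * μ ^ q * hermForm n F q x x := by
      rw [pow_q_sub hF, mul_pow, mul_pow, pow_q_pow_q hF, hm, hνq]
      ring
    obtain ⟨w, hwA, hwx, hwn⟩ := perp_norm hF h h2 x hx hνx _ hc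
    have hxw : hermForm n F q x w = 0 := herm_symm_zero hF n hwx
    have hxu : hermForm n F q x (μ • x + w) = φ := by
      rw [hermForm_add_right hF, hermForm_smul_right, hxw, add_zero, hμq]
    refine ⟨μ • x + w, A.add_mem (A.smul_mem _ hx) hwA, ?_, ?_, ?_⟩
    · simp only [hermForm_add_left, hermForm_add_right hF, hermForm_smul_left,
        hermForm_smul_right, hwx, hxw, hwn]
      ring
    · rw [hxu, hφ, pow_q_add hF, hm, hτ₀]
      ring
    · rw [hxu, hφ]
      intro h0
      apply hτ₀0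
      linear_combination h0

end Cfsg.Agent.Lib.Helper7.UD
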