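import Mathlib
import Cfsg.Prelude
import Cfsg.Agent.Lib.Helper7.UD1

set_option autoImplicit false
set_option linter.unusedSectionVars false
set_option linter.unusedVariables false
open Cfsg

/-! Unitary decompositions, part 2: basic facts on an orthogonal decomposition into
non-degenerate blocks, block transvections, and the mixed centre. -/

namespace Cfsg.Agent.Lib.Helper7.UD

open Matrix Cfsg.Agent.Lib.Helper5.Herm Cfsg.Agent.Lib.Helper5.HermBridge
  Cfsg.Agent.Lib.Helper5.HermTv Cfsg.Agent.Lib.Helper5.HermGen Cfsg.Agent.Lib.Helper5.HermEich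
  Cfsg.Agent.Lib.Helper5.SUCentres Cfsg.Agent.Lib.Helper5.SpSingularMax
  Cfsg.Agent.Lib.Helper5.SUSingularMax Cfsg.Agent.Lib.Helper5.HermPair

variable {F : Type*} [Field F] [Fintype F] {q : ℕ} (hF : Fintype.card F = q ^ 2) {n : ℕ}
  {t k : ℕ} {D : Fin t → Submodule F (Fin n → F)}
  (hD : Cfsg.Geo.IsNondegenerateMDecomposition (hermForm n F q) k D)

include hD in
theorem orth' {i j : Fin t} (hij : i ≠ j) {u v : Fin n → F} (hu : u ∈ D i) (hv : v ∈ D j) :
    hermForm n F q u v = 0 := hD.orthogonal i j hij u hu v hv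

include hD in
theorem ndp (i : Fin t) : OrthoPair q (D i) (perpS hF (D i)) :=
  orthoPair_of_nondeg hF (D i) (hD.nondegenerate i)

include hD in
theorem le_perpS {i j : Fin t} (hij : i ≠ j) : D j ≤ perpS hF (D i) := by
  intro v hv
  rw [mem_perpS]
  intro w hw
  exact orth' hD hij hw hv

include hF hD in
theorem inter_eq_zero {i j : Fin t} (hij : i ≠ j) {x : Fin n → F} (hi : x ∈ D i)
    (hj : x ∈ D j) : x = 0 :=
  (ndp hF hD i).disjoint hF x hi (le_perpS hF hD hij hj)

include hD in
theorem block_ne_bot (i : Fin t) : D i ≠ ⊥ := by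
  intro h
  have h1 := hD.decomp.finrank_eq i
  rw [h, finrank_bot] at h1
  have := hD.decomp.pos
  omega

include hF hD in
/-- vectors of a partial sum are orthogonal to the other blocks -/
theorem sup_orth (S : Finset (Fin t)) {l : Fin t} (hl : l ∉ S) {x w : Fin n → F}
    (hx : x ∈ S.sup D) (hw : w ∈ D l) : hermForm n F q w x = 0 := by
  have hle : S.sup D ≤ perpS hF (D l) :=
    Finset.sup_le (fun j hj => le_perpS hF hD (fun h => hl (h ▸ hj)))
  exact (mem_perpS hF (D l) x).mp (hle hx) w hw

include hF hD in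
theorem sup_orth' (S : Finset (Fin t)) {l : Fin t} (hl : l ∉ S) {x w : Fin n → F}
    (hx : x ∈ S.sup D) (hw : w ∈ D l) : hermForm n F q x w = 0 :=
  herm_symm_zero hF n (sup_orth hF hD S hl hx hw)

/-- splitting off one block -/
theorem exists_split (S : Finset (Fin t)) {a : Fin t} (ha : a ∈ S) {x : Fin n → F}
    (hx : x ∈ S.sup D) : ∃ y ∈ D a, ∃ e ∈ (S.erase a).sup D, y + e = x := by
  rw [← Finset.insert_erase ha, Finset.sup_insert] at hx
  exact Submodule.mem_sup.mp hx

include hD in
theorem mem_sup_univ (x : Fin n → F) : x ∈ (Finset.univ : Finset (Fin t)).sup D := by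
  rw [Finset.sup_univ_eq_iSup, hD.decomp.iSup_eq_top]
  exact Submodule.mem_top

theorem gl_injective (g : Matrix.GeneralLinearGroup (Fin n) F) :
    Function.Injective (Matrix.toLin' (g : Matrix (Fin n) (Fin n) F)) := by
  intro a b hab
  have := congrArg (fun y => ((g⁻¹ : Matrix.GeneralLinearGroup (Fin n) F) :
    Matrix (Fin n) (Fin n) F) *ᵥ y) hab
  simp only [Matrix.toLin'_apply, mulVec_mulVec] at this
  rw [← Units.val_mul, inv_mul_cancel, Units.val_one, one_mulVec, one_mulVec] at this
  exact this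

theorem gl_ne_zero (g : Matrix.GeneralLinearGroup (Fin n) F) (x : Fin n → F) (hx : x ≠ 0) :
    (g : Matrix (Fin n) (Fin n) F) *ᵥ x ≠ 0 := by
  intro h0
  apply hx
  apply gl_injective g
  rw [Matrix.toLin'_apply, h0, map_zero]

include hD in
/-- an invertible matrix mapping blocks into blocks according to a permutation is in the
stabiliser of the decomposition -/
theorem mem_decompStab_of_le (g : Matrix.GeneralLinearGroup (Fin n) F)
    (σ : Equiv.Perm (Fin t))
    (h : ∀ i, ∀ x ∈ D i, (g : Matrix (Fin n) (Fin n) F) *ᵥ x ∈ D (σ i)) :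
    g ∈ Cfsg.Geo.decompositionStabilizer D := by
  refine ⟨σ, fun i => ?_⟩
  apply Submodule.eq_of_le_of_finrank_eq
  · rintro _ ⟨x, hx, rfl⟩
    rw [Matrix.toLin'_apply]
    exact h i x hx
  · rw [← (Submodule.equivMapOfInjective _ (gl_injective g) (D i)).finrank_eq,
      hD.decomp.finrank_eq, hD.decomp.finrank_eq]

include hF hD in
/-- a vector orthogonal to all blocks vanishes -/
theorem eq_zero_of_orth (x : Fin n → F) (h : ∀ i, ∀ w ∈ D i, hermForm n F q w x = 0) :
    x = 0 := by
  have hle : (⊤ : Submodule F (Fin n → F)) ≤ perpS hF (Submodule.span F {x}) := by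
    rw [← hD.decomp.iSup_eq_top]
    apply iSup_le
    intro i w hw
    rw [mem_perpS]
    intro y hy
    obtain ⟨s, rfl⟩ := Submodule.mem_span_singleton.mp hy
    rw [hermForm_smul_left, herm_symm_zero hF n (h i w hw), mul_zero]
  funext i
  have h1 := (mem_perpS hF _ _).mp
    (hle (Submodule.mem_top : (Pi.single i 1 : Fin n → F) ∈ ⊤)) x
    (Submodule.mem_span_singleton_self x)
  rw [hermForm_single_right n q (q_ne_zero hF)] at h1
  exact h1

include hF hD in
/-- a non-zero vector is non-orthogonal to some block -/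
theorem exists_block (x : Fin n → F) (hx : x ≠ 0) :
    ∃ i, ∃ w ∈ D i, hermForm n F q x w ≠ 0 := by
  by_contra hcon
  push Not at hcon
  exact hx (eq_zero_of_orth hF hD x (fun i w hw => herm_symm_zero hF n (hcon i w hw)))

include hD in
theorem card_blocks : t * k = n := by
  have hInt : DirectSum.IsInternal D :=
    DirectSum.isInternal_submodule_of_iSupIndep_of_iSup_eq_top hD.decomp.indep
      hD.decomp.iSup_eq_top
  have h1 := Module.finrank_eq_card_basis (hInt.collectedBasis
    (fun i => Module.finBasisOfFinrankEq F (D i) (hD.decomp.finrank_eq i)))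
  rw [Module.finrank_fintype_fun_eq_card, Fintype.card_fin, Fintype.card_sigma] at h1
  simp only [Fintype.card_fin, Finset.sum_const, Finset.card_univ, smul_eq_mul] at h1
  exact h1.symm

include hD in
/-- transvections and quasi-reflections with centre in a block preserve every block -/
theorem qtv_block {i : Fin t} {v : Fin n → F} (hv : v ∈ D i) (c : F) (hc : QCond n q v c)
    (j : Fin t) (x : Fin n → F) (hx : x ∈ D j) : gact n (qtv hF n v c hc) x ∈ D j := by
  rw [gact_qtv]
  by_cases hij : j = i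
  · subst hij
    exact (D j).add_mem hx ((D j).smul_mem _ hv)
  · rw [orth' hD hij hx hv, mul_zero, zero_smul, add_zero]
    exact hx

include hD in
theorem mem_N_of_blocks (g : ↥(Cfsg.GU n F q)) (σ : Equiv.Perm (Fin t))
    (h : ∀ i, ∀ x ∈ D i, gact n g x ∈ D (σ i))
    (hdet : ((g : Matrix.GeneralLinearGroup (Fin n) F) : Matrix (Fin n) (Fin n) F).det = 1) :
    (g : Matrix.GeneralLinearGroup (Fin n) F) ∈ Cfsg.Geo.decompositionStabilizer D ⊓
      (Cfsg.GU n F q ⊓ Cfsg.Geo.specialLinear (Fin n) F) := by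
  rw [Subgroup.mem_inf, mem_SU_iff]
  exact ⟨mem_decompStab_of_le hD _ σ h, g.2, hdet⟩

section centres

variable {M : Subgroup (Matrix.GeneralLinearGroup (Fin n) F)}
  (hNM : Cfsg.Geo.decompositionStabilizer D ⊓
    (Cfsg.GU n F q ⊓ Cfsg.Geo.specialLinear (Fin n) F) ≤ M)
  (hMS : M ≤ Cfsg.GU n F q ⊓ Cfsg.Geo.specialLinear (Fin n) F)

include hD hNM in
/-- isotropic vectors of the blocks are centres -/
theorem isCentre_block (i : Fin t) (v : Fin n → F) (hv : v ∈ D i)
    (hiso : hermForm n F q v v = 0) : IsCentre hF n M v := by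
  refine ⟨hiso, fun c hc => hNM (mem_N_of_blocks hD _ 1 (fun j x hx => ?_) ?_)⟩
  · rw [Equiv.Perm.one_apply]
    exact qtv_block hF hD hv c hc j x hx
  · rw [qtv_coe, det_tv, hiso, mul_zero, add_zero]

theorem isCentre_zero : IsCentre hF n M (0 : Fin n → F) := by
  refine ⟨hermForm_zero_left n q 0, fun c hc => ?_⟩
  have h1 : qtv hF n (0 : Fin n → F) c hc = 1 := by
    apply ext_gact
    intro x
    rw [gact_qtv, smul_zero, add_zero, gact_one]
  rw [h1]
  exact M.one_mem

include hD hNM hMS in
/-- an element of `M` outside the stabiliser produces a centre outside all blocks -/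
theorem exists_mixed_centre (hk : 2 ≤ k) (g : Matrix.GeneralLinearGroup (Fin n) F)
    (hgM : g ∈ M) (hg : g ∉ Cfsg.Geo.decompositionStabilizer D) :
    ∃ p, IsCentre hF n M p ∧ ∀ j, p ∉ D j := by
  by_contra hcon
  push Not at hcon
  apply hg
  have hgU : g ∈ Cfsg.GU n F q := (hMS hgM).1
  have hgh : ∀ u v, hermForm n F q ((g : Matrix (Fin n) (Fin n) F) *ᵥ u)
      ((g : Matrix (Fin n) (Fin n) F) *ᵥ v) = hermForm n F q u v := fun u v => hgU u v
  have hblk : ∀ i, ∀ v ∈ D i, hermForm n F q v v = 0 →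
      ∃ j, (g : Matrix (Fin n) (Fin n) F) *ᵥ v ∈ D j := fun i v hv hiso =>
    hcon _ (isCentre_gact hF hMS g hgM (isCentre_block hF hD hNM i v hv hiso))
  have h1 : ∀ i, ∃ j, ∀ x ∈ D i, (g : Matrix (Fin n) (Fin n) F) *ᵥ x ∈ D j := by
    intro i
    have hfr : 2 ≤ Module.finrank F (D i) := by
      rw [hD.decomp.finrank_eq]
      exact hk
    have hOP := ndp hF hD i
    obtain ⟨e, heA, he0, he⟩ := iso2 hF hOP hfr
    obtain ⟨f', hfA, hf, hef⟩ := hOP.exists_partner hF e heA he0 he
    obtain ⟨j, hj⟩ := hblk i e heA he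
    refine ⟨j, ?_⟩
    have hge0 : (g : Matrix (Fin n) (Fin n) F) *ᵥ e ≠ 0 := gl_ne_zero g e he0
    have hall : ∀ v ∈ D i, hermForm n F q v v = 0 →
        (g : Matrix (Fin n) (Fin n) F) *ᵥ v ∈ D j := by
      intro v hv hiso
      by_cases hv0 : v = 0
      · rw [hv0, mulVec_zero]
        exact (D j).zero_mem
      obtain ⟨j', hj'⟩ := hblk i v hv hiso
      by_cases hjj : j' = j
      · rw [← hjj]
        exact hj'
      exfalso
      have h10 : hermForm n F q e v = 0 := by
        rw [← hgh e v]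
        exact orth' hD (Ne.symm hjj) hj hj'
      have h01 : hermForm n F q v e = 0 := herm_symm_zero hF n h10
      have hsum : hermForm n F q (e + v) (e + v) = 0 := by
        rw [hnorm_add hF, he, hiso, h10, h01]
        ring
      obtain ⟨j'', hj''⟩ := hblk i (e + v) ((D i).add_mem heA hv) hsum
      rw [mulVec_add] at hj''
      by_cases h2 : j'' = j
      · rw [h2] at hj''
        have h3 : (g : Matrix (Fin n) (Fin n) F) *ᵥ v ∈ D j :=
          (Submodule.add_mem_iff_right (D j) hj).mp hj''
        exact gl_ne_zero g v hv0 (inter_eq_zero hF hD hjj hj' h3)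
      · obtain ⟨y, hy, hgy⟩ := (ndp hF hD j).nondeg hF _ hj hge0
        have h4 : hermForm n F q ((g : Matrix (Fin n) (Fin n) F) *ᵥ e +
            (g : Matrix (Fin n) (Fin n) F) *ᵥ v) y = 0 := orth' hD h2 hj'' hy
        rw [hermForm_add_left, orth' hD hjj hj' hy, add_zero] at h4
        exact hgy h4
    intro x hx
    obtain ⟨u₁, h₁, u₂, h₂, u₃, h₃, i₁, i₂, i₃, rfl⟩ :=
      hOP.span3 hF e f' heA hfA he hf hef x hx
    rw [mulVec_add, mulVec_add]
    exact (D j).add_mem ((D j).add_mem (hall u₁ h₁ i₁) (hall u₂ h₂ i₂)) (hall u₃ h₃ i₃)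
  choose τ hτ using h1
  have h2 : ∀ i, (D i).map (Matrix.toLin' (g : Matrix (Fin n) (Fin n) F)) = D (τ i) := by
    intro i
    apply Submodule.eq_of_le_of_finrank_eq
    · rintro _ ⟨x, hx, rfl⟩
      rw [Matrix.toLin'_apply]
      exact hτ i x hx
    · rw [← (Submodule.equivMapOfInjective _ (gl_injective g) (D i)).finrank_eq,
        hD.decomp.finrank_eq, hD.decomp.finrank_eq]
  have hDinj : Function.Injective D := hD.decomp.indep.injective (block_ne_bot hD)
  have hτinj : Function.Injective τ := by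
    intro i i' hii
    apply hDinj
    apply Submodule.map_injective_of_injective (gl_injective g)
    rw [h2, h2, hii]
  have hτbij : Function.Bijective τ := Finite.injective_iff_bijective.mp hτinj
  refine mem_decompStab_of_le hD g (Equiv.ofBijective τ hτbij) ?_
  intro i x hx
  rw [Equiv.ofBijective_apply]
  exact hτ i x hx

end centres

end Cfsg.Agent.Lib.Helper7.UD
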