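import Mathlib
import Cfsg.Prelude
import Cfsg.Agent.Lib.Helper7.UD2

set_option autoImplicit false
set_option linter.unusedSectionVars false
set_option linter.unusedVariables false
open Cfsg

/-! Unitary decompositions, part 3: transitivity of the stabiliser inside a block, and the
centres supported on two blocks. -/

namespace Cfsg.Agent.Lib.Helper7.UD

open Matrix Cfsg.Agent.Lib.Helper5.Herm Cfsg.Agent.Lib.Helper5.HermBridge
  Cfsg.Agent.Lib.Helper5.HermTv Cfsg.Agent.Lib.Helper5.HermGen Cfsg.Agent.Lib.Helper5.HermEich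
  Cfsg.Agent.Lib.Helper5.SUCentres Cfsg.Agent.Lib.Helper5.SpSingularMax
  Cfsg.Agent.Lib.Helper5.SUSingularMax Cfsg.Agent.Lib.Helper5.HermPair

variable {F : Type*} [Field F] [Fintype F] {q : ℕ} (hF : Fintype.card F = q ^ 2) {n : ℕ}
  {t k : ℕ} {D : Fin t → Submodule F (Fin n → F)}
  (hD : Cfsg.Geo.IsNondegenerateMDecomposition (hermForm n F q) k D)

include hF hD in
/-- an anisotropic block vector orthogonal to `x₂` and to the block `b` -/
theorem fix_vec (hn : 13 ≤ n) (hk : 2 ≤ k) {a b : Fin t} (hab : a ≠ b) (x₂ : Fin n → F)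
    (hx₂ : x₂ ∈ D a) :
    ∃ c, c ≠ b ∧ ∃ d ∈ D c, hermForm n F q d d ≠ 0 ∧ hermForm n F q x₂ d = 0 := by
  by_cases hk3 : 3 ≤ k
  · obtain ⟨d, hd, hdx, hdn⟩ := (ndp hF hD a).exists_aniso_perp hF (by
      rw [hD.decomp.finrank_eq]
      exact hk3) x₂ hx₂
    exact ⟨a, hab, d, hd, hdn, herm_symm_zero hF n hdx⟩
  · have hk2 : k = 2 := by omega
    have htk := card_blocks hD
    have ht : 3 ≤ t := by
      rw [hk2] at htk
      omega
    obtain ⟨c, hca, hcb⟩ : ∃ c : Fin t, c ≠ a ∧ c ≠ b := by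
      by_contra hcon
      push Not at hcon
      have hsub : (Finset.univ : Finset (Fin t)) ⊆ {a, b} := by
        intro c _
        by_cases h : c = a
        · rw [h]
          exact Finset.mem_insert_self a {b}
        · rw [hcon c h]
          exact Finset.mem_insert_of_mem (Finset.mem_singleton_self b)
      have h1 := Finset.card_le_card hsub
      rw [Finset.card_univ, Fintype.card_fin] at h1
      have h2 : ({a, b} : Finset (Fin t)).card ≤ 2 := Finset.card_le_two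
      omega
    obtain ⟨z, hz, hz0⟩ := (Submodule.ne_bot_iff (D c)).1 (block_ne_bot hD c)
    obtain ⟨d, hd, hdn, -⟩ := aniso_nonorth hF (ndp hF hD c) z hz hz0
    exact ⟨c, hcb, d, hd, hdn, orth' hD (Ne.symm hca) hx₂ hd⟩

include hF hD in
/-- the stabiliser of the decomposition is transitive on the vectors of a given norm of a
block, fixing another block vector-wise -/
theorem move_block (hn : 13 ≤ n) (hk : 2 ≤ k) {a b : Fin t} (hab : a ≠ b)
    (x₁ x₂ : Fin n → F) (hx₁ : x₁ ∈ D a) (hx₂ : x₂ ∈ D a) (h₁0 : x₁ ≠ 0) (h₂0 : x₂ ≠ 0)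
    (hν : hermForm n F q x₁ x₁ = hermForm n F q x₂ x₂) :
    ∃ h : ↥(Cfsg.GU n F q),
      (h : Matrix.GeneralLinearGroup (Fin n) F) ∈ Cfsg.Geo.decompositionStabilizer D ⊓
        (Cfsg.GU n F q ⊓ Cfsg.Geo.specialLinear (Fin n) F) ∧
      gact n h x₁ = x₂ ∧ ∀ y ∈ D b, gact n h y = y := by
  have hOP := ndp hF hD a
  have hnot : ∀ x ∈ D a, x ≠ 0 → x ∉ perpS hF (D a) :=
    fun x hx hx0 hxp => hx0 (hOP.disjoint hF x hx hxp)
  have hH : ∀ w ∈ perpS hF (D a), hermForm n F q w x₁ = hermForm n F q w x₂ := by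
    intro w hw
    rw [herm_symm_zero hF n (hOP.orth x₁ hx₁ w hw), herm_symm_zero hF n (hOP.orth x₂ hx₂ w hw)]
  obtain ⟨g, hgfix, hgx⟩ := move_fix hF (perpS hF (D a)) x₁ x₂ hν hH (hnot x₁ hx₁ h₁0)
    (hnot x₂ hx₂ h₂0)
  have hgblk : ∀ j, ∀ y ∈ D j, gact n g y ∈ D j := by
    intro j y hy
    by_cases hja : j = a
    · subst hja
      apply hOP.mem_left_of_perp hF
      intro w hw
      have h1 := herm_gact n g y w
      rw [hgfix w hw] at h1
      rw [h1]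
      exact hOP.orth y hy w hw
    · rw [hgfix y (le_perpS hF hD (Ne.symm hja) hy)]
      exact hy
  obtain ⟨c, hcb, d, hd, hdn, hxd⟩ := fix_vec hF hD hn hk hab x₂ hx₂
  obtain ⟨s, hs, hdet⟩ := det_fix hF g d hdn
  refine ⟨qtv hF n d s hs * g, mem_N_of_blocks hD _ 1 ?_ hdet, ?_, ?_⟩
  · intro j y hy
    rw [gact_mul, Equiv.Perm.one_apply]
    exact qtv_block hF hD hd s hs j _ (hgblk j y hy)
  · rw [gact_mul, hgx, gact_qtv, hxd, mul_zero, zero_smul, add_zero]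
  · intro y hy
    rw [gact_mul, hgfix y (le_perpS hF hD hab hy), gact_qtv, orth' hD (Ne.symm hcb) hy hd,
      mul_zero, zero_smul, add_zero]

section centres

variable {M : Subgroup (Matrix.GeneralLinearGroup (Fin n) F)}
  (hNM : Cfsg.Geo.decompositionStabilizer D ⊓
    (Cfsg.GU n F q ⊓ Cfsg.Geo.specialLinear (Fin n) F) ≤ M)
  (hMS : M ≤ Cfsg.GU n F q ⊓ Cfsg.Geo.specialLinear (Fin n) F)

include hF hD hNM hMS in
theorem transfer (hn : 13 ≤ n) (hk : 2 ≤ k) {a b : Fin t} (hab : a ≠ b)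
    (a₁ a₂ b₁ b₂ : Fin n → F)
    (ha₁ : a₁ ∈ D a) (ha₂ : a₂ ∈ D a) (hb₁ : b₁ ∈ D b) (hb₂ : b₂ ∈ D b)
    (ha₁0 : a₁ ≠ 0) (ha₂0 : a₂ ≠ 0) (hb₁0 : b₁ ≠ 0) (hb₂0 : b₂ ≠ 0)
    (hna : hermForm n F q a₁ a₁ = hermForm n F q a₂ a₂)
    (hnb : hermForm n F q b₁ b₁ = hermForm n F q b₂ b₂)
    (hC : IsCentre hF n M (a₁ + b₁)) : IsCentre hF n M (a₂ + b₂) := by
  obtain ⟨h₁, hh₁N, hh₁a, hh₁b⟩ := move_block hF hD hn hk hab a₁ a₂ ha₁ ha₂ ha₁0 ha₂0 hna
  obtain ⟨h₂, hh₂N, hh₂b, hh₂a⟩ := move_block hF hD hn hk hab.symm b₁ b₂ hb₁ hb₂ hb₁0 hb₂0 hnb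
  have c1 := isCentre_gact hF hMS _ (hNM hh₁N) hC
  have e1 : ((h₁ : Matrix.GeneralLinearGroup (Fin n) F) : Matrix (Fin n) (Fin n) F) *ᵥ
      (a₁ + b₁) = a₂ + b₁ := by
    have h3 := gact_add n h₁ a₁ b₁
    rw [hh₁a, hh₁b b₁ hb₁] at h3
    exact h3
  rw [e1] at c1
  have c2 := isCentre_gact hF hMS _ (hNM hh₂N) c1
  have e2 : ((h₂ : Matrix.GeneralLinearGroup (Fin n) F) : Matrix (Fin n) (Fin n) F) *ᵥ
      (a₂ + b₁) = a₂ + b₂ := by
    have h3 := gact_add n h₂ a₂ b₁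
    rw [hh₂a a₂ ha₂, hh₂b] at h3
    exact h3
  rw [e2] at c2
  exact c2

include hF hD hNM hMS in
theorem all_N (hn : 13 ≤ n) (hk : 2 ≤ k) {a b : Fin t} (hab : a ≠ b) (a₀ b₀ : Fin n → F)
    (ha₀ : a₀ ∈ D a) (hb₀ : b₀ ∈ D b)
    (hl : hermForm n F q a₀ a₀ ≠ 0) (hs : IsCentre hF n M (a₀ + b₀)) :
    ∀ u ∈ D a, ∀ v ∈ D b, hermForm n F q u u ≠ 0 → hermForm n F q u u + hermForm n F q v v = 0 →
      IsCentre hF n M (u + v) := by
  have hab0 : hermForm n F q a₀ b₀ = 0 := orth' hD hab ha₀ hb₀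
  have hsum0 : hermForm n F q a₀ a₀ + hermForm n F q b₀ b₀ = 0 := by
    have h1 := hs.1
    rw [hnorm_add hF, hab0, herm_symm_zero hF n hab0] at h1
    linear_combination h1
  intro u hu v hv hne hsum
  obtain ⟨μ, hμ⟩ := Cfsg.Agent.Lib.Helper5.HermCount.exists_norm_eq hF
    (hermForm n F q u u / hermForm n F q a₀ a₀) (div_ne_zero hne hl) (by
      rw [div_pow, herm_self_fixed hF, herm_self_fixed hF])
  have hμ' : μ * μ ^ q * hermForm n F q a₀ a₀ = hermForm n F q u u := by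
    rw [mul_comm μ, ← pow_succ, hμ, div_mul_cancel₀ _ hl]
  have hμ0 : μ ≠ 0 := by
    rintro rfl
    rw [zero_mul, zero_mul] at hμ'
    exact hne hμ'.symm
  have hb₀n : hermForm n F q b₀ b₀ ≠ 0 := by
    intro h0
    rw [h0, add_zero] at hsum0
    exact hl hsum0
  have hbn : hermForm n F q v v ≠ 0 := by
    intro h0
    rw [h0, add_zero] at hsum
    exact hne hsum
  have h1 := isCentre_smul hF μ hs
  rw [smul_add] at h1
  refine transfer hF hD hNM hMS hn hk hab (μ • a₀) u (μ • b₀) v ((D a).smul_mem _ ha₀) hu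
    ((D b).smul_mem _ hb₀) hv
    (smul_ne_zero hμ0 (Cfsg.Agent.Lib.Helper5.SUNondegMax.ne_zero_of_herm hl))
    (Cfsg.Agent.Lib.Helper5.SUNondegMax.ne_zero_of_herm hne)
    (smul_ne_zero hμ0 (Cfsg.Agent.Lib.Helper5.SUNondegMax.ne_zero_of_herm hb₀n))
    (Cfsg.Agent.Lib.Helper5.SUNondegMax.ne_zero_of_herm hbn) ?_ ?_ h1
  · rw [hermForm_smul_left, hermForm_smul_right, ← mul_assoc, hμ']
  · rw [hermForm_smul_left, hermForm_smul_right, ← mul_assoc]
    linear_combination (μ * μ ^ q) * hsum0 - hμ' - hsum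

include hF hD hNM hMS in
theorem all_I (hn : 13 ≤ n) (hk : 2 ≤ k) {a b : Fin t} (hab : a ≠ b) (a₀ b₀ : Fin n → F)
    (ha₀ : a₀ ∈ D a) (hb₀ : b₀ ∈ D b) (ha₀0 : a₀ ≠ 0) (hb₀0 : b₀ ≠ 0)
    (hia : hermForm n F q a₀ a₀ = 0) (hib : hermForm n F q b₀ b₀ = 0)
    (hs : IsCentre hF n M (a₀ + b₀)) :
    ∀ u ∈ D a, ∀ v ∈ D b, hermForm n F q u u = 0 → hermForm n F q v v = 0 →
      IsCentre hF n M (u + v) := by
  intro u hu v hv hia' hib'
  by_cases hu0 : u = 0
  · rw [hu0, zero_add]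
    exact isCentre_block hF hD hNM b v hv hib'
  by_cases hv0 : v = 0
  · rw [hv0, add_zero]
    exact isCentre_block hF hD hNM a u hu hia'
  exact transfer hF hD hNM hMS hn hk hab a₀ u b₀ v ha₀ hu hb₀ hv ha₀0 hu0 hb₀0 hv0
    (by rw [hia, hia']) (by rw [hib, hib']) hs

include hF hD hNM hMS in
theorem I_to_N (hk : 2 ≤ k) {a b : Fin t} (hab : a ≠ b)
    (hI : ∀ u ∈ D a, ∀ v ∈ D b, hermForm n F q u u = 0 → hermForm n F q v v = 0 →
      IsCentre hF n M (u + v)) :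
    ∀ u ∈ D a, ∀ v ∈ D b, hermForm n F q u u ≠ 0 → hermForm n F q u u + hermForm n F q v v = 0 →
      IsCentre hF n M (u + v) := by
  intro a' ha' b' hb' hne hsum
  have hOPa := ndp hF hD a
  have hOPb := ndp hF hD b
  have hfra : 2 ≤ Module.finrank F (D a) := by
    rw [hD.decomp.finrank_eq]
    exact hk
  have hfrb : 2 ≤ Module.finrank F (D b) := by
    rw [hD.decomp.finrank_eq]
    exact hk
  obtain ⟨a₀, ha₀, ha₀0, hia⟩ := iso2 hF hOPa hfra
  obtain ⟨b₀, hb₀, hb₀0, hib⟩ := iso2 hF hOPb hfrb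
  have hbn : hermForm n F q b' b' ≠ 0 := by
    intro h0
    rw [h0, add_zero] at hsum
    exact hne hsum
  have ha'0 : a' ≠ 0 := Cfsg.Agent.Lib.Helper5.SUNondegMax.ne_zero_of_herm hne
  have hb'0 : b' ≠ 0 := Cfsg.Agent.Lib.Helper5.SUNondegMax.ne_zero_of_herm hbn
  obtain ⟨u, huW, hu, hau⟩ := hOPa.exists_iso_nonorth hF a₀ ha₀ ha₀0 hia a' ha' ha'0
  obtain ⟨ηa, hηa⟩ := exists_trace_eq hF (-(hermForm n F q a' a')) (by
    rw [pow_q_neg hF, herm_self_fixed hF])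
  obtain ⟨τ, hτ0, hτ⟩ := exists_trace_zero hF
  obtain ⟨v, hvWp, hv, hbv⟩ := hOPb.exists_iso_nonorth hF b₀ hb₀ hb₀0 hib b' hb' hb'0
  obtain ⟨a₁, ha₁def⟩ : ∃ a₁ : Fin n → F, a₁ = ((ηa / hermForm n F q a' u) ^ q) • u := ⟨_, rfl⟩
  obtain ⟨b₁, hb₁def⟩ : ∃ b₁ : Fin n → F, b₁ = (((τ - ηa) / hermForm n F q b' v) ^ q) • v :=
    ⟨_, rfl⟩
  have ha₁W : a₁ ∈ D a := by rw [ha₁def]; exact (D a).smul_mem _ huW
  have hb₁W : b₁ ∈ D b := by rw [hb₁def]; exact (D b).smul_mem _ hvWp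
  have ha₁n : hermForm n F q a₁ a₁ = 0 := by
    rw [ha₁def, hermForm_smul_left, hermForm_smul_right, hu, mul_zero, mul_zero]
  have hb₁n : hermForm n F q b₁ b₁ = 0 := by
    rw [hb₁def, hermForm_smul_left, hermForm_smul_right, hv, mul_zero, mul_zero]
  have ha'a₁ : hermForm n F q a' a₁ = ηa := by
    rw [ha₁def, hermForm_smul_right, pow_q_pow_q hF, div_mul_cancel₀ _ hau]
  have hb'b₁ : hermForm n F q b' b₁ = τ - ηa := by
    rw [hb₁def, hermForm_smul_right, pow_q_pow_q hF, div_mul_cancel₀ _ hbv]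
  have ha₁a' : hermForm n F q a₁ a' = ηa ^ q := by rw [← ha'a₁, hermForm_conj hF]
  have hb₁b' : hermForm n F q b₁ b' = (τ - ηa) ^ q := by rw [← hb'b₁, hermForm_conj hF]
  have hs' : IsCentre hF n M (a₁ + b₁) := hI a₁ ha₁W b₁ hb₁W ha₁n hb₁n
  have ha₂W : a₁ + a' ∈ D a := (D a).add_mem ha₁W ha'
  have hb₂W : b₁ + b' ∈ D b := (D b).add_mem hb₁W hb'
  have ha₂n : hermForm n F q (a₁ + a') (a₁ + a') = 0 := by
    rw [hermForm_add_left, hermForm_add_right hF, hermForm_add_right hF, ha₁n, ha'a₁, ha₁a']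
    linear_combination hηa
  have hb₂n : hermForm n F q (b₁ + b') (b₁ + b') = 0 := by
    rw [hermForm_add_left, hermForm_add_right hF, hermForm_add_right hF, hb₁n, hb'b₁, hb₁b',
      pow_q_sub hF, hτ]
    linear_combination hsum - hηa
  have hs : IsCentre hF n M ((a₁ + a') + (b₁ + b')) := hI _ ha₂W _ hb₂W ha₂n hb₂n
  have hss' : hermForm n F q ((a₁ + a') + (b₁ + b')) (a₁ + b₁) = τ := by
    rw [hermForm_add_left, hermForm_add_right hF, hermForm_add_right hF,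
      orth' hD hab ha₂W hb₁W, herm_symm_zero hF n (orth' hD hab ha₁W hb₂W),
      hermForm_add_left, hermForm_add_left, ha₁n, hb₁n, ha'a₁, hb'b₁]
    ring
  have hc : (-τ⁻¹) ^ q = -(-τ⁻¹) := by
    rw [pow_q_neg hF, inv_pow, hτ, inv_neg]
  have h1 := isCentre_hyp hF hMS hs' hs (-τ⁻¹) hc
  rw [hss', neg_mul, inv_mul_cancel₀ hτ0] at h1
  have e : (a₁ + a') + (b₁ + b') + (-1 : F) • (a₁ + b₁) = a' + b' := by
    rw [neg_smul, one_smul]
    abel
  rw [e] at h1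
  exact h1

include hF hD hNM hMS in
theorem N_to_I (h3 : 3 ≤ k) {a b : Fin t} (hab : a ≠ b)
    (hN : ∀ u ∈ D a, ∀ v ∈ D b, hermForm n F q u u ≠ 0 →
      hermForm n F q u u + hermForm n F q v v = 0 → IsCentre hF n M (u + v)) :
    ∀ u ∈ D a, ∀ v ∈ D b, hermForm n F q u u = 0 → hermForm n F q v v = 0 →
      IsCentre hF n M (u + v) := by
  intro a' ha' b' hb' hia hib
  have hOPa := ndp hF hD a
  have hOPb := ndp hF hD b
  have hfrb : 3 ≤ Module.finrank F (D b) := by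
    rw [hD.decomp.finrank_eq]
    exact h3
  by_cases ha'0 : a' = 0
  · rw [ha'0, zero_add]
    exact isCentre_block hF hD hNM b b' hb' hib
  obtain ⟨z, hzW, hz⟩ := hOPa.nondeg hF a' ha' ha'0
  obtain ⟨μ', hμ'⟩ := exists_trace_eq hF (1 - hermForm n F q z z) (by
    rw [pow_q_sub hF, one_pow, herm_self_fixed hF])
  obtain ⟨a₁, ha₁def⟩ : ∃ a₁ : Fin n → F, a₁ = z + (μ' / hermForm n F q a' z) • a' := ⟨_, rfl⟩
  have htη : μ' / hermForm n F q a' z * hermForm n F q a' z = μ' := div_mul_cancel₀ _ hz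
  have ha₁W : a₁ ∈ D a := by rw [ha₁def]; exact (D a).add_mem hzW ((D a).smul_mem _ ha')
  have ha₁n : hermForm n F q a₁ a₁ = 1 := by
    rw [ha₁def, hermForm_add_left, hermForm_add_right hF, hermForm_add_right hF,
      hermForm_smul_left, hermForm_smul_left, hermForm_smul_right, hermForm_smul_right,
      hia, ← hermForm_conj hF n a' z, ← mul_pow, htη]
    linear_combination hμ'
  have ha'a₁ : hermForm n F q a' a₁ = hermForm n F q a' z := by
    rw [ha₁def, hermForm_add_right hF, hermForm_smul_right, hia, mul_zero, add_zero]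
  have ha₁a' : hermForm n F q a₁ a' = (hermForm n F q a' z) ^ q := by
    rw [← ha'a₁, hermForm_conj hF]
  obtain ⟨b₁, hb₁, hb₁0, hb₁b', hb₁n⟩ := hOPb.exists_norm_vec hF hfrb b' hb' (-1) (by
    rw [pow_q_neg hF, one_pow])
  have hb'b₁ : hermForm n F q b' b₁ = 0 := herm_symm_zero hF n hb₁b'
  have hs' : IsCentre hF n M (a₁ + b₁) := hN a₁ ha₁W b₁ hb₁ (by rw [ha₁n]; exact one_ne_zero)
    (by rw [ha₁n, hb₁n]; ring)
  obtain ⟨τ, hτ0, hτ⟩ := exists_trace_zero hF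
  obtain ⟨α, hαdef⟩ : ∃ α : F, α = τ / hermForm n F q a' z := ⟨_, rfl⟩
  have hαη : α * hermForm n F q a' z = τ := by rw [hαdef]; exact div_mul_cancel₀ _ hz
  have hα0 : α ≠ 0 := by
    rintro rfl
    rw [zero_mul] at hαη
    exact hτ0 hαη.symm
  have ha₂W : a₁ + α • a' ∈ D a := (D a).add_mem ha₁W ((D a).smul_mem _ ha')
  have hb₂W : b₁ + α • b' ∈ D b := (D b).add_mem hb₁ ((D b).smul_mem _ hb')
  have ha₂n : hermForm n F q (a₁ + α • a') (a₁ + α • a') = 1 := by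
    rw [hermForm_add_left, hermForm_add_right hF, hermForm_add_right hF,
      hermForm_smul_left, hermForm_smul_left, hermForm_smul_right, hermForm_smul_right,
      hia, ha₁n, ha'a₁, ha₁a', ← mul_pow, hαη, hτ]
    ring
  have hb₂n : hermForm n F q (b₁ + α • b') (b₁ + α • b') = -1 := by
    rw [hermForm_add_left, hermForm_add_right hF, hermForm_add_right hF,
      hermForm_smul_left, hermForm_smul_left, hermForm_smul_right, hermForm_smul_right,
      hib, hb₁n, hb₁b', hb'b₁]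
    ring
  have hs : IsCentre hF n M ((a₁ + α • a') + (b₁ + α • b')) :=
    hN _ ha₂W _ hb₂W (by rw [ha₂n]; exact one_ne_zero) (by rw [ha₂n, hb₂n]; ring)
  have hss' : hermForm n F q ((a₁ + α • a') + (b₁ + α • b')) (a₁ + b₁) = τ := by
    rw [hermForm_add_left, hermForm_add_right hF, hermForm_add_right hF,
      orth' hD hab ha₂W hb₁, herm_symm_zero hF n (orth' hD hab ha₁W hb₂W),
      hermForm_add_left, hermForm_add_left, hermForm_smul_left, hermForm_smul_left,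
      ha₁n, hb₁n, ha'a₁, hb'b₁, hαη]
    ring
  have hc : (-τ⁻¹) ^ q = -(-τ⁻¹) := by
    rw [pow_q_neg hF, inv_pow, hτ, inv_neg]
  have h1 := isCentre_hyp hF hMS hs' hs (-τ⁻¹) hc
  rw [hss', neg_mul, inv_mul_cancel₀ hτ0] at h1
  have e : (a₁ + α • a') + (b₁ + α • b') + (-1 : F) • (a₁ + b₁) = α • (a' + b') := by
    rw [neg_smul, one_smul, smul_add]
    abel
  rw [e] at h1
  have h2 := isCentre_smul hF α⁻¹ h1
  rw [smul_smul, inv_mul_cancel₀ hα0, one_smul] at h2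
  exact h2

include hF hD hNM hMS in
/-- one centre with non-zero components in exactly two blocks gives all isotropic vectors of
the sum of these two blocks -/
theorem pair_of_centre (hn : 13 ≤ n) (hk : 2 ≤ k) {a b : Fin t} (hab : a ≠ b)
    (u₀ v₀ : Fin n → F) (hu₀ : u₀ ∈ D a) (hv₀ : v₀ ∈ D b) (hu₀0 : u₀ ≠ 0) (hv₀0 : v₀ ≠ 0)
    (hc : IsCentre hF n M (u₀ + v₀)) (htype : hermForm n F q u₀ u₀ = 0 ∨ 3 ≤ k) :
    ∀ u ∈ D a, ∀ v ∈ D b, hermForm n F q (u + v) (u + v) = 0 → IsCentre hF n M (u + v) := by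
  have huv0 : hermForm n F q u₀ v₀ = 0 := orth' hD hab hu₀ hv₀
  have hsum0 : hermForm n F q u₀ u₀ + hermForm n F q v₀ v₀ = 0 := by
    have h1 := hc.1
    rw [hnorm_add hF, huv0, herm_symm_zero hF n huv0] at h1
    linear_combination h1
  obtain ⟨hN, hI⟩ : (∀ u ∈ D a, ∀ v ∈ D b, hermForm n F q u u ≠ 0 →
      hermForm n F q u u + hermForm n F q v v = 0 → IsCentre hF n M (u + v)) ∧
      (∀ u ∈ D a, ∀ v ∈ D b, hermForm n F q u u = 0 → hermForm n F q v v = 0 →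
        IsCentre hF n M (u + v)) := by
    by_cases hl : hermForm n F q u₀ u₀ = 0
    · have hib : hermForm n F q v₀ v₀ = 0 := by
        rw [hl, zero_add] at hsum0
        exact hsum0
      have hI := all_I hF hD hNM hMS hn hk hab u₀ v₀ hu₀ hv₀ hu₀0 hv₀0 hl hib hc
      exact ⟨I_to_N hF hD hNM hMS hk hab hI, hI⟩
    · have h3 : 3 ≤ k := htype.resolve_left hl
      have hN := all_N hF hD hNM hMS hn hk hab u₀ v₀ hu₀ hv₀ hl hc
      exact ⟨hN, N_to_I hF hD hNM hMS h3 hab hN⟩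
  intro u hu v hv hx
  have huv : hermForm n F q u v = 0 := orth' hD hab hu hv
  have hsum : hermForm n F q u u + hermForm n F q v v = 0 := by
    rw [hnorm_add hF, huv, herm_symm_zero hF n huv] at hx
    linear_combination hx
  by_cases hl : hermForm n F q u u = 0
  · exact hI u hu v hv hl (by rw [hl, zero_add] at hsum; exact hsum)
  · exact hN u hu v hv hl hsum

end centres

end Cfsg.Agent.Lib.Helper7.UD
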