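import Mathlib
import Cfsg.Prelude
import Cfsg.Agent.Lib.Helper7.UD3
import Cfsg.Agent.Lib.Helper2.UppE

set_option autoImplicit false
set_option linter.unusedSectionVars false
set_option linter.unusedVariables false
open Cfsg

/-! Unitary decompositions, part 4: block permutations inside the stabiliser, and a centre
supported on exactly two blocks. -/

namespace Cfsg.Agent.Lib.Helper7.UD

open Matrix Cfsg.Agent.Lib.Helper5.Herm Cfsg.Agent.Lib.Helper5.HermBridge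
  Cfsg.Agent.Lib.Helper5.HermTv Cfsg.Agent.Lib.Helper5.HermGen Cfsg.Agent.Lib.Helper5.HermEich
  Cfsg.Agent.Lib.Helper5.SUCentres Cfsg.Agent.Lib.Helper5.SpSingularMax
  Cfsg.Agent.Lib.Helper5.SUSingularMax Cfsg.Agent.Lib.Helper5.HermPair

variable {F : Type*} [Field F] [Fintype F] {q : ℕ} (hF : Fintype.card F = q ^ 2) {n : ℕ}
  {t k : ℕ} {D : Fin t → Submodule F (Fin n → F)}
  (hD : Cfsg.Geo.IsNondegenerateMDecomposition (hermForm n F q) k D)

include hF hD in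
/-- an orthonormal basis of a block, indexed by `Fin k` -/
theorem exists_onb (i : Fin t) :
    ∃ v : Module.Basis (Fin k) F (D i), ∀ x y : Fin k,
      hermForm n F q (v x : Fin n → F) (v y : Fin n → F) = if x = y then 1 else 0 := by
  have hnd : ∀ m ∈ D i, (∀ m' ∈ D i, hermForm n F q m' m = 0) → m = 0 := by
    intro m hm h
    by_contra hm0
    obtain ⟨⟨x, hx, hne⟩, -⟩ := hD.nondegenerate i m hm hm0
    exact hne (h x hx)
  obtain ⟨b, hb⟩ := Cfsg.Agent.Lib.Helper2.Upp.exists_orthonormal_of_nondeg hF (D i) hnd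
  refine ⟨b.reindex (finCongr (hD.decomp.finrank_eq i)), fun x y => ?_⟩
  rw [Module.Basis.reindex_apply, Module.Basis.reindex_apply, hb]
  by_cases hxy : x = y
  · rw [if_pos hxy, if_pos (by rw [hxy])]
  · rw [if_neg hxy,
      if_neg (fun h => hxy ((finCongr (hD.decomp.finrank_eq i)).symm.injective h))]

include hF hD in
/-- every permutation of the blocks is induced by an element of the stabiliser -/
theorem exists_perm (σ : Equiv.Perm (Fin t)) :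
    ∃ h : Matrix.GeneralLinearGroup (Fin n) F,
      h ∈ Cfsg.Geo.decompositionStabilizer D ⊓
        (Cfsg.GU n F q ⊓ Cfsg.Geo.specialLinear (Fin n) F) ∧
      ∀ i, ∀ x ∈ D i, (h : Matrix (Fin n) (Fin n) F) *ᵥ x ∈ D (σ i) := by
  classical
  choose v hv using exists_onb hF hD
  have hInt : DirectSum.IsInternal D :=
    DirectSum.isInternal_submodule_of_iSupIndep_of_iSup_eq_top hD.decomp.indep
      hD.decomp.iSup_eq_top
  have hB : ∀ a, hInt.collectedBasis v a = (v a.1 a.2 : Fin n → F) := fun a => by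
    rw [DirectSum.IsInternal.collectedBasis_coe]
  have hgram : ∀ a c : (Σ _ : Fin t, Fin k),
      hermForm n F q (hInt.collectedBasis v ⟨σ a.1, a.2⟩)
        (hInt.collectedBasis v ⟨σ c.1, c.2⟩) =
        hermForm n F q (hInt.collectedBasis v a) (hInt.collectedBasis v c) := by
    rintro ⟨i, x⟩ ⟨j, y⟩
    rw [hB, hB, hB, hB]
    show hermForm n F q (v (σ i) x : Fin n → F) (v (σ j) y) =
      hermForm n F q (v i x : Fin n → F) (v j y)
    by_cases hij : i = j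
    · subst hij
      rw [hv, hv]
    · rw [orth' hD hij (v i x).2 (v j y).2,
        orth' hD (fun h => hij (σ.injective h)) (v (σ i) x).2 (v (σ j) y).2]
  obtain ⟨A, hAU, hA⟩ := Cfsg.Agent.Lib.Helper2.Upp.exists_GU_of_gram hF
    (hInt.collectedBasis v) (fun a => hInt.collectedBasis v ⟨σ a.1, a.2⟩) hgram
  have hAv : ∀ i (y : Fin k), (A : Matrix (Fin n) (Fin n) F) *ᵥ (v i y : Fin n → F) =
      (v (σ i) y : Fin n → F) := by
    intro i y
    have h1 : (A : Matrix (Fin n) (Fin n) F) *ᵥ (hInt.collectedBasis v ⟨i, y⟩) =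
        hInt.collectedBasis v ⟨σ i, y⟩ := hA ⟨i, y⟩
    rw [hB, hB] at h1
    exact h1
  have hmap : ∀ i, ∀ x ∈ D i, (A : Matrix (Fin n) (Fin n) F) *ᵥ x ∈ D (σ i) := by
    intro i x hx
    have h1 := (v i).sum_repr ⟨x, hx⟩
    have h2 : x = ∑ y, ((v i).repr ⟨x, hx⟩ y) • ((v i y : D i) : Fin n → F) := by
      have h3 := congrArg (Submodule.subtype (D i)) h1
      rw [map_sum] at h3
      simp only [map_smul, Submodule.subtype_apply] at h3
      exact h3.symm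
    have h4 : (A : Matrix (Fin n) (Fin n) F) *ᵥ x =
        ∑ y, ((v i).repr ⟨x, hx⟩ y) • ((v (σ i) y : D (σ i)) : Fin n → F) := by
      conv_lhs => rw [h2]
      rw [Matrix.mulVec_sum]
      apply Finset.sum_congr rfl
      intro y _
      rw [Matrix.mulVec_smul, hAv]
    rw [h4]
    exact Submodule.sum_mem _ (fun y _ => Submodule.smul_mem _ _ (v (σ i) y).2)
  have ht := hD.decomp.two_le
  obtain ⟨z, hz, hz0⟩ := (Submodule.ne_bot_iff (D ⟨0, by omega⟩)).1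
    (block_ne_bot hD ⟨0, by omega⟩)
  obtain ⟨d, hd, hdn, -⟩ := aniso_nonorth hF (ndp hF hD ⟨0, by omega⟩) z hz hz0
  obtain ⟨s, hs, hdet⟩ := det_fix hF (⟨A, hAU⟩ : ↥(Cfsg.GU n F q)) d hdn
  have hblk : ∀ i, ∀ x ∈ D i,
      gact n (qtv hF n d s hs * (⟨A, hAU⟩ : ↥(Cfsg.GU n F q))) x ∈ D (σ i) := by
    intro i x hx
    rw [gact_mul]
    exact qtv_block hF hD hd s hs (σ i) _ (hmap i x hx)
  exact ⟨_, mem_N_of_blocks hD _ σ hblk hdet, hblk⟩

include hF hD in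
/-- a vector outside all blocks has non-zero components in two blocks -/
theorem split_two (p : Fin n → F) (hpD : ∀ j, p ∉ D j) :
    ∃ a b, a ≠ b ∧ ∃ xa ∈ D a, ∃ xb ∈ D b, xa ≠ 0 ∧ xb ≠ 0 ∧
      (∀ y ∈ D a, hermForm n F q p y = hermForm n F q xa y) ∧
      (∀ y ∈ D b, hermForm n F q p y = hermForm n F q xb y) := by
  classical
  have ht := hD.decomp.two_le
  have hp0 : p ≠ 0 := by
    intro h0
    exact hpD ⟨0, by omega⟩ (h0 ▸ Submodule.zero_mem _)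
  obtain ⟨a, w, hw, hpw⟩ := exists_block hF hD p hp0
  obtain ⟨xa, hxa, e, he, hsum⟩ :=
    exists_split (D := D) Finset.univ (Finset.mem_univ a) (mem_sup_univ hD p)
  have haS : a ∉ (Finset.univ : Finset (Fin t)).erase a := Finset.notMem_erase a _
  have he0 : e ≠ 0 := by
    intro h0
    rw [h0, add_zero] at hsum
    exact hpD a (hsum ▸ hxa)
  have hea : ∀ y ∈ D a, hermForm n F q e y = 0 := fun y hy => sup_orth' hF hD _ haS he hy
  have hxa0 : xa ≠ 0 := by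
    intro h0
    apply hpw
    rw [← hsum, h0, zero_add]
    exact hea w hw
  obtain ⟨b, w', hw', hew'⟩ := exists_block hF hD e he0
  have hbS : b ∈ (Finset.univ : Finset (Fin t)).erase a := by
    by_contra hbS
    exact hew' (sup_orth' hF hD _ hbS he hw')
  have hba : b ≠ a := Finset.ne_of_mem_erase hbS
  obtain ⟨xb, hxb, e', he', hsum'⟩ := exists_split (D := D) _ hbS he
  have hbS' : b ∉ ((Finset.univ : Finset (Fin t)).erase a).erase b :=
    Finset.notMem_erase b _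
  have hxb0 : xb ≠ 0 := by
    intro h0
    apply hew'
    rw [← hsum', h0, zero_add]
    exact sup_orth' hF hD _ hbS' he' hw'
  refine ⟨a, b, hba.symm, xa, hxa, xb, hxb, hxa0, hxb0, ?_, ?_⟩
  · intro y hy
    rw [← hsum, hermForm_add_left, hea y hy, add_zero]
  · intro y hy
    rw [← hsum, ← hsum', hermForm_add_left, hermForm_add_left, orth' hD hba.symm hxa hy,
      sup_orth' hF hD _ hbS' he' hy, zero_add, add_zero]

section centres

variable {M : Subgroup (Matrix.GeneralLinearGroup (Fin n) F)}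
  (hNM : Cfsg.Geo.decompositionStabilizer D ⊓
    (Cfsg.GU n F q ⊓ Cfsg.Geo.specialLinear (Fin n) F) ≤ M)
  (hMS : M ≤ Cfsg.GU n F q ⊓ Cfsg.Geo.specialLinear (Fin n) F)

include hF hD hNM hMS in
/-- transport of the "all isotropic vectors of a pair of blocks are centres" property -/
theorem pair_perm {a₀ b₀ : Fin t} (hab₀ : a₀ ≠ b₀)
    (h0 : ∀ u ∈ D a₀, ∀ v ∈ D b₀, hermForm n F q (u + v) (u + v) = 0 →
      IsCentre hF n M (u + v))
    {a b : Fin t} (hab : a ≠ b) :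
    ∀ u ∈ D a, ∀ v ∈ D b, hermForm n F q (u + v) (u + v) = 0 → IsCentre hF n M (u + v) := by
  intro u hu v hv hiso
  obtain ⟨σ, hσa, hσb⟩ : ∃ σ : Equiv.Perm (Fin t), σ a = a₀ ∧ σ b = b₀ := by
    refine ⟨Equiv.swap (Equiv.swap a a₀ b) b₀ * Equiv.swap a a₀, ?_, ?_⟩
    · rw [Equiv.Perm.mul_apply, Equiv.swap_apply_left]
      apply Equiv.swap_apply_of_ne_of_ne
      · intro h
        have := (Equiv.swap a a₀).injective
          (show Equiv.swap a a₀ a = Equiv.swap a a₀ b by rw [Equiv.swap_apply_left]; exact h)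
        exact hab this
      · exact hab₀
    · rw [Equiv.Perm.mul_apply, Equiv.swap_apply_left]
  obtain ⟨h, hhN, hmap⟩ := exists_perm hF hD σ
  have hhM : h ∈ M := hNM hhN
  have hhU : h ∈ Cfsg.GU n F q := (hMS hhM).1
  have hgh : ∀ x y, hermForm n F q ((h : Matrix (Fin n) (Fin n) F) *ᵥ x)
      ((h : Matrix (Fin n) (Fin n) F) *ᵥ y) = hermForm n F q x y := fun x y => hhU x y
  have hu' : (h : Matrix (Fin n) (Fin n) F) *ᵥ u ∈ D a₀ := by
    rw [← hσa]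
    exact hmap a u hu
  have hv' : (h : Matrix (Fin n) (Fin n) F) *ᵥ v ∈ D b₀ := by
    rw [← hσb]
    exact hmap b v hv
  have h1 : IsCentre hF n M ((h : Matrix (Fin n) (Fin n) F) *ᵥ u +
      (h : Matrix (Fin n) (Fin n) F) *ᵥ v) := by
    apply h0 _ hu' _ hv'
    rw [← mulVec_add, hgh]
    exact hiso
  have h2 := isCentre_gact hF hMS h⁻¹ (M.inv_mem hhM) h1
  rw [← mulVec_add, mulVec_mulVec, ← Units.val_mul, inv_mul_cancel, Units.val_one,
    one_mulVec] at h2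
  exact h2

include hF hD hNM hMS in
/-- two-block centre, `q ≥ 3`: both components isotropic -/
theorem two_centre_big (hk : 2 ≤ k) (hq3 : 3 ≤ q) {a b : Fin t} (hab : a ≠ b)
    (p : Fin n → F) (hp : IsCentre hF n M p) (xa xb : Fin n → F) (hxa : xa ∈ D a)
    (hxb : xb ∈ D b) (hxa0 : xa ≠ 0) (hxb0 : xb ≠ 0)
    (hpa : ∀ y ∈ D a, hermForm n F q p y = hermForm n F q xa y)
    (hpb : ∀ y ∈ D b, hermForm n F q p y = hermForm n F q xb y) :
    ∃ u ∈ D a, ∃ v ∈ D b, u ≠ 0 ∧ v ≠ 0 ∧ IsCentre hF n M (u + v) ∧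
      hermForm n F q u u = 0 := by
  have hfa : 2 ≤ Module.finrank F (D a) := by
    rw [hD.decomp.finrank_eq]
    exact hk
  have hfb : 2 ≤ Module.finrank F (D b) := by
    rw [hD.decomp.finrank_eq]
    exact hk
  obtain ⟨e₁', h₁'A, h₁'0, h₁'iso⟩ := iso2 hF (ndp hF hD a) hfa
  obtain ⟨e₁, he₁, he₁iso, hζ₁⟩ :=
    (ndp hF hD a).exists_iso_nonorth hF e₁' h₁'A h₁'0 h₁'iso xa hxa hxa0
  obtain ⟨e₂', h₂'A, h₂'0, h₂'iso⟩ := iso2 hF (ndp hF hD b) hfb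
  obtain ⟨e₂, he₂, he₂iso, hζ₂⟩ :=
    (ndp hF hD b).exists_iso_nonorth hF e₂' h₂'A h₂'0 h₂'iso xb hxb hxb0
  obtain ⟨τ, hτ0, hτ⟩ := exists_trace_zero hF
  obtain ⟨ζ₁, hζ₁def⟩ : ∃ ζ₁ : F, ζ₁ = hermForm n F q xa e₁ := ⟨_, rfl⟩
  obtain ⟨ζ₂, hζ₂def⟩ : ∃ ζ₂ : F, ζ₂ = hermForm n F q xb e₂ := ⟨_, rfl⟩
  rw [← hζ₁def] at hζ₁
  rw [← hζ₂def] at hζ₂
  have hpe₁ : hermForm n F q p e₁ = ζ₁ := by rw [hpa e₁ he₁, hζ₁def]
  have hpe₂ : hermForm n F q p e₂ = ζ₂ := by rw [hpb e₂ he₂, hζ₂def]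
  have he₂₁ : hermForm n F q e₂ e₁ = 0 := orth' hD hab.symm he₂ he₁
  have he₁0 : e₁ ≠ 0 := by
    intro h0
    apply hζ₁
    rw [hζ₁def, h0, hermForm_zero_right hF]
  have he₂0 : e₂ ≠ 0 := by
    intro h0
    apply hζ₂
    rw [hζ₂def, h0, hermForm_zero_right hF]
  obtain ⟨r, hr, hr0, hN⟩ : ∃ r : F, r ^ q = r ∧ r ≠ 0 ∧
      ζ₁ ^ q * ζ₁ + r * (ζ₂ ^ q * ζ₂) ≠ 0 := by
    by_cases h1 : ζ₁ ^ q * ζ₁ + 1 * (ζ₂ ^ q * ζ₂) ≠ 0
    · exact ⟨1, one_pow q, one_ne_zero, h1⟩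
    · push Not at h1
      obtain ⟨ν, hν, hν0, hν1⟩ := exists_fixed_ne hF hq3
      refine ⟨ν, hν, hν0, ?_⟩
      intro h2
      have h3 : (ν - 1) * (ζ₂ ^ q * ζ₂) = 0 := by linear_combination h2 - h1
      rcases mul_eq_zero.mp h3 with h4 | h4
      · exact hν1 (sub_eq_zero.mp h4)
      · exact mul_ne_zero (pow_ne_zero q hζ₂) hζ₂ h4
  have hC₁ : IsCentre hF n M e₁ := isCentre_block hF hD hNM a e₁ he₁ he₁iso
  have hC₂ : IsCentre hF n M e₂ := isCentre_block hF hD hNM b e₂ he₂ he₂iso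
  have hrτ : (r * τ) ^ q = -(r * τ) := by
    rw [mul_pow, hr, hτ]
    ring
  have hu₁ := isCentre_hyp hF hMS hC₂ hp (r * τ) hrτ
  rw [hpe₂] at hu₁
  have hu := isCentre_hyp hF hMS hC₁ hu₁ τ hτ
  have e1 : hermForm n F q (p + (r * τ * ζ₂) • e₂) e₁ = ζ₁ := by
    rw [hermForm_add_left, hermForm_smul_left, hpe₁, he₂₁, mul_zero, add_zero]
  rw [e1] at hu
  obtain ⟨β, hβ⟩ : ∃ β : F,
      β = hermForm n F q p (p + (r * τ * ζ₂) • e₂ + (τ * ζ₁) • e₁) := ⟨_, rfl⟩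
  have hβ' : β = -τ * (ζ₁ ^ q * ζ₁ + r * (ζ₂ ^ q * ζ₂)) := by
    rw [hβ, hermForm_add_right hF, hermForm_add_right hF, hermForm_smul_right,
      hermForm_smul_right, hp.1, hpe₁, hpe₂]
    simp only [mul_pow, hr, hτ]
    ring
  have hβ0 : β ≠ 0 := by
    rw [hβ']
    exact mul_ne_zero (neg_ne_zero.mpr hτ0) hN
  have hβq : β ^ q = -β := by
    rw [hβ']
    simp only [mul_pow, pow_q_neg hF, pow_q_add hF, pow_q_pow_q hF, hr, hτ]
    ring
  have hc : (-β⁻¹) ^ q = -(-β⁻¹) := by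
    rw [pow_q_neg hF, inv_pow, hβq, inv_neg]
  have hfin := isCentre_hyp hF hMS hu hp (-β⁻¹) hc
  rw [← hβ] at hfin
  have e2 : -β⁻¹ * β = -1 := by
    rw [neg_mul, inv_mul_cancel₀ hβ0]
  rw [e2] at hfin
  have e3 : p + (-1 : F) • (p + (r * τ * ζ₂) • e₂ + (τ * ζ₁) • e₁) =
      (-(τ * ζ₁)) • e₁ + (-(r * τ * ζ₂)) • e₂ := by module
  rw [e3] at hfin
  refine ⟨(-(τ * ζ₁)) • e₁, (D a).smul_mem _ he₁, (-(r * τ * ζ₂)) • e₂,
    (D b).smul_mem _ he₂, ?_, ?_, hfin, ?_⟩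
  · exact smul_ne_zero (neg_ne_zero.mpr (mul_ne_zero hτ0 hζ₁)) he₁0
  · exact smul_ne_zero (neg_ne_zero.mpr (mul_ne_zero (mul_ne_zero hr0 hτ0) hζ₂)) he₂0
  · rw [hermForm_smul_left, hermForm_smul_right, he₁iso, mul_zero, mul_zero]

include hF hD hNM hMS in
/-- two-block centre, `q = 2` and blocks of dimension at least three: both components
anisotropic -/
theorem two_centre_small (hq : q = 2) {a b : Fin t} (hab : a ≠ b)
    (p : Fin n → F) (hp : IsCentre hF n M p) (xa xb : Fin n → F) (hxa : xa ∈ D a)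
    (hxb : xb ∈ D b) (hxa0 : xa ≠ 0) (hxb0 : xb ≠ 0)
    (hpa : ∀ y ∈ D a, hermForm n F q p y = hermForm n F q xa y)
    (hpb : ∀ y ∈ D b, hermForm n F q p y = hermForm n F q xb y) :
    ∃ u ∈ D a, ∃ v ∈ D b, u ≠ 0 ∧ v ≠ 0 ∧ IsCentre hF n M (u + v) := by
  subst hq
  have h2 : (2 : F) = 0 := by
    have h := Nat.cast_card_eq_zero F
    rw [hF] at h
    push_cast at h
    have h' : (2 : F) ^ 2 = 0 := by linear_combination h
    exact (pow_eq_zero_iff two_ne_zero).mp h'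
  have hcube : ∀ x : F, x ≠ 0 → x ^ 3 = 1 := by
    intro x hx
    have h := FiniteField.pow_card_sub_one_eq_one x hx
    rw [hF] at h
    exact h
  obtain ⟨d₁, hd₁, hd₁n, hζ₁⟩ := aniso_nonorth hF (ndp hF hD a) xa hxa hxa0
  obtain ⟨d₂, hd₂, hd₂n, hζ₂⟩ := aniso_nonorth hF (ndp hF hD b) xb hxb hxb0
  have hnorm1 : ∀ d : Fin n → F, hermForm n F 2 d d ≠ 0 → hermForm n F 2 d d = 1 := by
    intro d hd
    have h1 := herm_self_fixed hF n d
    have h3 : hermForm n F 2 d d * (hermForm n F 2 d d - 1) = 0 := by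
      linear_combination h1
    rcases mul_eq_zero.mp h3 with h4 | h4
    · exact absurd h4 hd
    · exact sub_eq_zero.mp h4
  have hν₁ := hnorm1 d₁ hd₁n
  have hν₂ := hnorm1 d₂ hd₂n
  obtain ⟨ω, hω⟩ := exists_not_fixed hF
  have hω0 : ω ≠ 0 := by
    intro h
    apply hω
    rw [h]
    ring
  have hω1 : ω ≠ 1 := by
    intro h
    apply hω
    rw [h]
    ring
  have hω3 := hcube ω hω0
  have hωq : ω ^ 2 + ω + 1 = 0 := by
    have h3 : (ω - 1) * (ω ^ 2 + ω + 1) = 0 := by linear_combination hω3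
    rcases mul_eq_zero.mp h3 with h4 | h4
    · exact absurd (sub_eq_zero.mp h4) hω1
    · exact h4
  obtain ⟨ζ₁, hζ₁def⟩ : ∃ ζ₁ : F, ζ₁ = hermForm n F 2 xa d₁ := ⟨_, rfl⟩
  obtain ⟨ζ₂, hζ₂def⟩ : ∃ ζ₂ : F, ζ₂ = hermForm n F 2 xb d₂ := ⟨_, rfl⟩
  rw [← hζ₁def] at hζ₁
  rw [← hζ₂def] at hζ₂
  have hpd₁ : hermForm n F 2 p d₁ = ζ₁ := by rw [hpa d₁ hd₁, hζ₁def]
  have hpd₂ : hermForm n F 2 p d₂ = ζ₂ := by rw [hpb d₂ hd₂, hζ₂def]
  have hζ₁3 := hcube ζ₁ hζ₁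
  have hζ₂3 := hcube ζ₂ hζ₂
  have hd₁0 : d₁ ≠ 0 := by
    intro h0
    apply hd₁n
    rw [h0, hermForm_zero_left]
  have hd₂0 : d₂ ≠ 0 := by
    intro h0
    apply hd₂n
    rw [h0, hermForm_zero_left]
  have hQ₁ : QCond n 2 d₁ ω := by
    show ω + ω ^ 2 + ω * ω ^ 2 * hermForm n F 2 d₁ d₁ = 0
    rw [hν₁]
    linear_combination hωq + hω3
  have hQ₂ : QCond n 2 d₂ (ω ^ 2) := by
    show ω ^ 2 + (ω ^ 2) ^ 2 + ω ^ 2 * (ω ^ 2) ^ 2 * hermForm n F 2 d₂ d₂ = 0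
    rw [hν₂]
    linear_combination hωq + ω * hω3 + (ω ^ 3 + 1) * hω3
  have hdet : (((qtv hF n d₁ ω hQ₁ * qtv hF n d₂ (ω ^ 2) hQ₂ : ↥(Cfsg.GU n F 2)) :
      Matrix.GeneralLinearGroup (Fin n) F) : Matrix (Fin n) (Fin n) F).det = 1 := by
    rw [Subgroup.coe_mul, Units.val_mul, Matrix.det_mul, qtv_coe, qtv_coe, det_tv, det_tv,
      hν₁, hν₂]
    linear_combination hωq + hω3
  have hgN := mem_N_of_blocks hD (qtv hF n d₁ ω hQ₁ * qtv hF n d₂ (ω ^ 2) hQ₂) 1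
    (fun i x hx => by
      rw [gact_mul, Equiv.Perm.one_apply]
      exact qtv_block hF hD hd₁ ω hQ₁ i _ (qtv_block hF hD hd₂ (ω ^ 2) hQ₂ i x hx)) hdet
  have hgp := isCentre_gact hF hMS _ (hNM hgN) hp
  have hact : gact n (qtv hF n d₁ ω hQ₁ * qtv hF n d₂ (ω ^ 2) hQ₂) p =
      p + (ω ^ 2 * ζ₂) • d₂ + (ω * ζ₁) • d₁ := by
    rw [gact_mul, gact_qtv, gact_qtv, hpd₂, hermForm_add_left, hermForm_smul_left, hpd₁,
      orth' hD hab.symm hd₂ hd₁, mul_zero, add_zero]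
  have hgp' : IsCentre hF n M (p + (ω ^ 2 * ζ₂) • d₂ + (ω * ζ₁) • d₁) := by
    rw [← hact]
    exact hgp
  have hβ : hermForm n F 2 p (p + (ω ^ 2 * ζ₂) • d₂ + (ω * ζ₁) • d₁) = 1 := by
    rw [hermForm_add_right hF, hermForm_add_right hF, hermForm_smul_right,
      hermForm_smul_right, hp.1, hpd₁, hpd₂]
    linear_combination ω ^ 4 * hζ₂3 + ω ^ 2 * hζ₁3 + (ω ^ 2 - ω + 1) * hωq - h2
  have h1 : (1 : F) ^ 2 = -1 := by
    linear_combination h2
  have hfin := isCentre_hyp hF hMS hgp' hp 1 h1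
  rw [hβ] at hfin
  have e : p + ((1 : F) * 1) • (p + (ω ^ 2 * ζ₂) • d₂ + (ω * ζ₁) • d₁) =
      (p + p) + ((ω * ζ₁) • d₁ + (ω ^ 2 * ζ₂) • d₂) := by module
  rw [e, ← two_smul F p, h2, zero_smul, zero_add] at hfin
  exact ⟨(ω * ζ₁) • d₁, (D a).smul_mem _ hd₁, (ω ^ 2 * ζ₂) • d₂, (D b).smul_mem _ hd₂,
    smul_ne_zero (mul_ne_zero hω0 hζ₁) hd₁0,
    smul_ne_zero (mul_ne_zero (pow_ne_zero 2 hω0) hζ₂) hd₂0, hfin⟩

include hF hD hNM hMS in
/-- a centre outside all blocks yields a centre supported on exactly two blocks -/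
theorem exists_two_centre (hk : 2 ≤ k) (h3 : ¬ 3 ≤ q → 3 ≤ k) (p : Fin n → F)
    (hp : IsCentre hF n M p) (hpD : ∀ j, p ∉ D j) :
    ∃ a b, a ≠ b ∧ ∃ u ∈ D a, ∃ v ∈ D b, u ≠ 0 ∧ v ≠ 0 ∧ IsCentre hF n M (u + v) ∧
      (hermForm n F q u u = 0 ∨ 3 ≤ k) := by
  obtain ⟨a, b, hab, xa, hxa, xb, hxb, hxa0, hxb0, hpa, hpb⟩ := split_two hF hD p hpD
  by_cases hq3 : 3 ≤ q
  · obtain ⟨u, hu, v, hv, hu0, hv0, hc, hiso⟩ :=
      two_centre_big hF hD hNM hMS hk hq3 hab p hp xa xb hxa hxb hxa0 hxb0 hpa hpb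
    exact ⟨a, b, hab, u, hu, v, hv, hu0, hv0, hc, Or.inl hiso⟩
  · have hq2 : q = 2 := by
      have := two_le_q hF
      omega
    obtain ⟨u, hu, v, hv, hu0, hv0, hc⟩ :=
      two_centre_small hF hD hNM hMS hq2 hab p hp xa xb hxa hxb hxa0 hxb0 hpa hpb
    exact ⟨a, b, hab, u, hu, v, hv, hu0, hv0, hc, Or.inr (h3 hq3)⟩

end centres

end Cfsg.Agent.Lib.Helper7.UD
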