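import Mathlib
import Cfsg.Prelude
import Cfsg.Agent.Lib.Helper7.UD4

set_option autoImplicit false
set_option linter.unusedSectionVars false
set_option linter.unusedVariables false
open Cfsg

/-! Unitary decompositions, part 5: all isotropic vectors are centres of a proper overgroup of the
stabiliser of an orthogonal decomposition into non-degenerate blocks of dimension at least two;
the stabiliser is maximal in the special unitary group. -/

namespace Cfsg.Agent.Lib.Helper7.UD

open Matrix Cfsg.Agent.Lib.Helper5.Herm Cfsg.Agent.Lib.Helper5.HermBridge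
  Cfsg.Agent.Lib.Helper5.HermTv Cfsg.Agent.Lib.Helper5.HermGen Cfsg.Agent.Lib.Helper5.HermEich
  Cfsg.Agent.Lib.Helper5.SUCentres Cfsg.Agent.Lib.Helper5.SpSingularMax
  Cfsg.Agent.Lib.Helper5.SUSingularMax Cfsg.Agent.Lib.Helper5.HermPair

variable {F : Type*} [Field F] [Fintype F] {q : ℕ} (hF : Fintype.card F = q ^ 2) {n : ℕ}
  {t k : ℕ} {D : Fin t → Submodule F (Fin n → F)}
  (hD : Cfsg.Geo.IsNondegenerateMDecomposition (hermForm n F q) k D)

section centres

variable {M : Subgroup (Matrix.GeneralLinearGroup (Fin n) F)}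
  (hNM : Cfsg.Geo.decompositionStabilizer D ⊓
    (Cfsg.GU n F q ⊓ Cfsg.Geo.specialLinear (Fin n) F) ≤ M)
  (hMS : M ≤ Cfsg.GU n F q ⊓ Cfsg.Geo.specialLinear (Fin n) F)

include hF hD hNM hMS in
/-- if all isotropic two-block vectors are centres, then all isotropic vectors are centres -/
theorem all_centres (hk : 2 ≤ k) (h3 : ¬ 3 ≤ q → 3 ≤ k)
    (hpair : ∀ a b : Fin t, a ≠ b → ∀ u ∈ D a, ∀ v ∈ D b,
      hermForm n F q (u + v) (u + v) = 0 → IsCentre hF n M (u + v))
    (x : Fin n → F) (hx : hermForm n F q x x = 0) : IsCentre hF n M x := by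
  classical
  suffices H : ∀ S : Finset (Fin t), ∀ x ∈ S.sup D, hermForm n F q x x = 0 →
      IsCentre hF n M x from H Finset.univ x (mem_sup_univ hD x) hx
  intro S
  induction S using Finset.induction_on with
  | empty =>
    intro x hx _
    rw [Finset.sup_empty, Submodule.mem_bot] at hx
    rw [hx]
    exact isCentre_zero hF
  | insert b S' hb ih =>
    intro x hx hiso
    rw [Finset.sup_insert] at hx
    obtain ⟨y, hy, x', hx', rfl⟩ := Submodule.mem_sup.mp hx
    have hyx' : hermForm n F q y x' = 0 := sup_orth hF hD S' hb hx' hy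
    have hx'y : hermForm n F q x' y = 0 := sup_orth' hF hD S' hb hx' hy
    have hnorm : hermForm n F q y y + hermForm n F q x' x' = 0 := by
      have h1 := hiso
      rw [hnorm_add hF, hyx', hx'y] at h1
      linear_combination h1
    by_cases hy0 : y = 0
    · rw [hy0, zero_add]
      apply ih x' hx'
      rw [hy0, hermForm_zero_left, zero_add] at hnorm
      exact hnorm
    by_cases hx'0 : x' = 0
    · rw [hx'0, add_zero]
      apply isCentre_block hF hD hNM b y hy
      rw [hx'0, hermForm_zero_left, add_zero] at hnorm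
      exact hnorm
    obtain ⟨a, w, hw, hx'w⟩ := exists_block hF hD x' hx'0
    have haS : a ∈ S' := by
      by_contra haS
      exact hx'w (sup_orth' hF hD S' haS hx' hw)
    have hab : a ≠ b := fun h => hb (h ▸ haS)
    obtain ⟨xa, hxa, e, he, hsum⟩ := exists_split (D := D) S' haS hx'
    have haE : a ∉ S'.erase a := Finset.notMem_erase a S'
    have hxa0 : xa ≠ 0 := by
      intro h0
      apply hx'w
      rw [← hsum, h0, zero_add]
      exact sup_orth' hF hD _ haE he hw
    obtain ⟨m, hm⟩ : ∃ m : F, m = hermForm n F q x' x' := ⟨_, rfl⟩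
    have hmq : m ^ q = m := by
      rw [hm]
      exact herm_self_fixed hF n x'
    have hyy : hermForm n F q y y = -m := by
      rw [hm]
      linear_combination hnorm
    have hfr : 2 ≤ Module.finrank F (D a) := by
      rw [hD.decomp.finrank_eq]
      exact hk
    have h3' : ¬ 3 ≤ q → 3 ≤ Module.finrank F (D a) := by
      rw [hD.decomp.finrank_eq]
      exact h3
    obtain ⟨ua, hua, huan, htr, hne⟩ := exists_K hF (ndp hF hD a) hfr h3' xa hxa hxa0 m hmq
    obtain ⟨φ, hφ⟩ : ∃ φ : F, φ = hermForm n F q xa ua := ⟨_, rfl⟩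
    rw [← hφ] at htr hne
    have hx'ua : hermForm n F q x' ua = φ := by
      rw [← hsum, hermForm_add_left, sup_orth' hF hD _ haE he hua, add_zero, hφ]
    have huax' : hermForm n F q ua x' = φ ^ q := by
      rw [← hx'ua, hermForm_conj hF]
    have hyua : hermForm n F q y ua = 0 := orth' hD hab.symm hy hua
    have huay : hermForm n F q ua y = 0 := orth' hD hab hua hy
    have hu : IsCentre hF n M (y + ua) := by
      apply hpair b a hab.symm y hy ua hua
      rw [hnorm_add hF, hyy, hyua, huay, huan]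
      ring
    have hneg1 : (-1 : F) ^ q = -1 := by
      rw [pow_q_neg hF, one_pow]
    have hvS : x' + (-1 : F) • ua ∈ S'.sup D :=
      Submodule.add_mem _ hx' (Submodule.smul_mem _ _ ((Finset.le_sup (f := D) haS) hua))
    have hviso : hermForm n F q (x' + (-1 : F) • ua) (x' + (-1 : F) • ua) = 0 := by
      simp only [hermForm_add_left, hermForm_add_right hF, hermForm_smul_left,
        hermForm_smul_right, hx'ua, huax', huan, ← hm, hneg1]
      linear_combination (-1 : F) * htr
    have hv := ih _ hvS hviso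
    have hβ : hermForm n F q (x' + (-1 : F) • ua) (y + ua) = φ - m := by
      simp only [hermForm_add_left, hermForm_add_right hF, hermForm_smul_left, hx'y, hx'ua,
        huay, huan]
      ring
    have hβ0 : φ - m ≠ 0 := sub_ne_zero.mpr hne
    have hβq : (φ - m) ^ q = -(φ - m) := by
      rw [pow_q_sub hF, hmq]
      linear_combination htr
    have hc : ((φ - m)⁻¹) ^ q = -(φ - m)⁻¹ := by
      rw [inv_pow, hβq, inv_neg]
    have hfin := isCentre_hyp hF hMS hu hv (φ - m)⁻¹ hc
    rw [hβ, inv_mul_cancel₀ hβ0] at hfin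
    have e1 : x' + (-1 : F) • ua + (1 : F) • (y + ua) = y + x' := by module
    rw [e1] at hfin
    exact hfin

end centres

/-- The stabiliser in `SU_n(q)` of an orthogonal decomposition into non-degenerate subspaces of
dimension `k ≥ 2` is a maximal subgroup of `SU_n(q)`, unless `k = 2` and `q = 2`. -/
theorem isMaximalIn_of_two_le {F : Type*} [Field F] [Fintype F] {n q : ℕ}
    (hF : Fintype.card F = q ^ 2) (hn : 13 ≤ n) {t k : ℕ}
    {D : Fin t → Submodule F (Fin n → F)}
    (hD : Cfsg.Geo.IsNondegenerateMDecomposition (hermForm n F q) k D) (hk : 2 ≤ k)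
    (hex : ¬ (k = 2 ∧ q = 2)) :
    Cfsg.Geo.IsMaximalIn (Cfsg.GU n F q ⊓ Cfsg.Geo.specialLinear (Fin n) F)
      (Cfsg.Geo.decompositionStabilizer D ⊓
        (Cfsg.GU n F q ⊓ Cfsg.Geo.specialLinear (Fin n) F)) := by
  have h3 : ¬ 3 ≤ q → 3 ≤ k := by
    intro hq
    have h2q := two_le_q hF
    by_contra hk3
    exact hex ⟨by omega, by omega⟩
  refine ⟨lt_of_le_of_ne inf_le_right ?_, ?_⟩
  · intro h
    have ht := hD.decomp.two_le
    obtain ⟨a, b, hab⟩ : ∃ a b : Fin t, a ≠ b := by
      refine ⟨⟨0, by omega⟩, ⟨1, by omega⟩, ?_⟩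
      intro h'
      have h'' := congrArg Fin.val h'
      simp at h''
    have hfa : 2 ≤ Module.finrank F (D a) := by
      rw [hD.decomp.finrank_eq]
      exact hk
    have hfb : 2 ≤ Module.finrank F (D b) := by
      rw [hD.decomp.finrank_eq]
      exact hk
    obtain ⟨u, hu, hu0, huiso⟩ := iso2 hF (ndp hF hD a) hfa
    obtain ⟨v, hv, hv0, hviso⟩ := iso2 hF (ndp hF hD b) hfb
    obtain ⟨w, hw, hwiso, huw⟩ := (ndp hF hD a).exists_partner hF u hu hu0 huiso
    obtain ⟨τ, hτ0, hτ⟩ := exists_trace_zero hF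
    have hwu1 : hermForm n F q w u = 1 := by
      rw [← hermForm_conj hF n u w, huw, one_pow]
    have huv : hermForm n F q (u + v) (u + v) = 0 := by
      rw [hnorm_add hF, huiso, hviso, orth' hD hab hu hv, orth' hD hab.symm hv hu]
      ring
    have hQ : QCond n q (u + v) τ := (qcond_iso n huv τ).mpr hτ
    have hmem : ((qtv hF n (u + v) τ hQ : ↥(Cfsg.GU n F q)) :
        Matrix.GeneralLinearGroup (Fin n) F) ∈ Cfsg.Geo.decompositionStabilizer D ⊓
          (Cfsg.GU n F q ⊓ Cfsg.Geo.specialLinear (Fin n) F) := by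
      rw [h, mem_SU_iff]
      refine ⟨(qtv hF n (u + v) τ hQ).2, ?_⟩
      rw [qtv_coe, det_tv, huv, mul_zero, add_zero]
    obtain ⟨σ, hσ⟩ := hmem.1
    have h1 : gact n (qtv hF n (u + v) τ hQ) w ∈ D (σ a) := by
      rw [← hσ a]
      exact ⟨w, hw, Matrix.toLin'_apply _ _⟩
    rw [gact_qtv, hermForm_add_right hF, orth' hD hab hw hv, add_zero, hwu1] at h1
    have hc0 : τ * 1 ≠ 0 := mul_ne_zero hτ0 one_ne_zero
    by_cases hσa : σ a = a
    · rw [hσa] at h1
      have h2 : (τ * 1) • (u + v) ∈ D a := (Submodule.add_mem_iff_right _ hw).mp h1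
      have h4 : u + v ∈ D a := by
        have h5 := (D a).smul_mem (τ * 1)⁻¹ h2
        rwa [smul_smul, inv_mul_cancel₀ hc0, one_smul] at h5
      have h6 : v ∈ D a := (Submodule.add_mem_iff_right _ hu).mp h4
      exact hv0 (inter_eq_zero hF hD hab h6 hv)
    · have h2 : hermForm n F q (w + (τ * 1) • (u + v)) u = 0 := orth' hD hσa h1 hu
      rw [hermForm_add_left, hermForm_smul_left, hermForm_add_left, huiso,
        orth' hD hab.symm hv hu, add_zero, mul_zero, add_zero, hwu1] at h2
      exact one_ne_zero h2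
  · intro M hNM hMS
    by_cases hMN : M ≤ Cfsg.Geo.decompositionStabilizer D ⊓
        (Cfsg.GU n F q ⊓ Cfsg.Geo.specialLinear (Fin n) F)
    · left
      exact le_antisymm hMN hNM
    right
    apply le_antisymm hMS
    apply SU_le hF (by omega) (by omega)
    obtain ⟨g, hgM, hgN⟩ := SetLike.not_le_iff_exists.mp hMN
    have hg : g ∉ Cfsg.Geo.decompositionStabilizer D := fun h => hgN ⟨h, hMS hgM⟩
    obtain ⟨p, hp, hpD⟩ := exists_mixed_centre hF hD hNM hMS hk g hgM hg
    obtain ⟨a₀, b₀, hab₀, u₀, hu₀, v₀, hv₀, hu₀0, hv₀0, hc, htype⟩ :=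
      exists_two_centre hF hD hNM hMS hk h3 p hp hpD
    have h0 := pair_of_centre hF hD hNM hMS hn hk hab₀ u₀ v₀ hu₀ hv₀ hu₀0 hv₀0 hc htype
    exact all_centres hF hD hNM hMS hk h3
      (fun a b hab => pair_perm hF hD hNM hMS hab₀ h0 hab)

end Cfsg.Agent.Lib.Helper7.UD
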