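import Mathlib
import Cfsg.Prelude
import Cfsg.Agent.Lib.Helper7.UD5

set_option autoImplicit false
set_option linter.unusedSectionVars false
set_option linter.unusedVariables false
open Cfsg

/-! Unitary decompositions, part 6: coordinate subspaces of the standard hermitian space; the
special unitary group of a coordinate plane is transitive on plane vectors of a given non-zero
norm; the special unitary group is generated by the stabilisers of the standard basis vectors. -/

namespace Cfsg.Agent.Lib.Helper7.UD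

open Matrix Cfsg.Agent.Lib.Helper5.Herm Cfsg.Agent.Lib.Helper5.HermBridge
  Cfsg.Agent.Lib.Helper5.HermTv Cfsg.Agent.Lib.Helper5.HermGen Cfsg.Agent.Lib.Helper5.HermEich
  Cfsg.Agent.Lib.Helper5.SUCentres Cfsg.Agent.Lib.Helper5.SpSingularMax
  Cfsg.Agent.Lib.Helper5.SUSingularMax Cfsg.Agent.Lib.Helper5.HermPair

/-- coordinate subspace: the vectors vanishing outside `p` -/
def csub (F : Type*) [Field F] {n : ℕ} (p : Fin n → Prop) : Submodule F (Fin n → F) where
  carrier := {y | ∀ k, ¬ p k → y k = 0}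
  add_mem' := by
    intro x y hx hy k hk
    rw [Pi.add_apply, hx k hk, hy k hk, add_zero]
  zero_mem' := fun k _ => rfl
  smul_mem' := by
    intro c x hx k hk
    rw [Pi.smul_apply, hx k hk, smul_zero]

variable {F : Type*} [Field F] [Fintype F] {q : ℕ} (hF : Fintype.card F = q ^ 2) {n : ℕ}

theorem mem_csub {p : Fin n → Prop} {y : Fin n → F} :
    y ∈ csub F p ↔ ∀ k, ¬ p k → y k = 0 := Iff.rfl

theorem single_mem_csub {p : Fin n → Prop} {k : Fin n} (hk : p k) :
    (Pi.single k (1 : F) : Fin n → F) ∈ csub F p := by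
  intro j hj
  rw [Pi.single_apply, if_neg]
  intro h
  exact hj (h ▸ hk)

include hF in
theorem csub_nondeg (p : Fin n → Prop) :
    Cfsg.Geo.IsNondegenerateOn (hermForm n F q) (csub F p) := by
  intro w hw hw0
  obtain ⟨j, hj⟩ := Function.ne_iff.mp hw0
  have hj' : w j ≠ 0 := hj
  have hpj : p j := by
    by_contra h
    exact hj' (hw j h)
  refine ⟨⟨Pi.single j 1, single_mem_csub hpj, ?_⟩, ⟨Pi.single j 1, single_mem_csub hpj, ?_⟩⟩
  · rw [hermForm_single_left]
    exact pow_ne_zero q hj'
  · rw [hermForm_single_right n q (q_ne_zero hF)]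
    exact hj'

include hF in
/-- complementary coordinate subspaces are orthogonal -/
theorem herm_csub {p : Fin n → Prop} {y z : Fin n → F} (hy : y ∈ csub F p)
    (hz : z ∈ csub F (fun k => ¬ p k)) : hermForm n F q y z = 0 := by
  show ∑ i, y i * z i ^ q = 0
  apply Finset.sum_eq_zero
  intro k _
  by_cases hk : p k
  · rw [hz k (not_not.mpr hk), zero_pow (q_ne_zero hF), mul_zero]
  · rw [hy k hk, zero_mul]

theorem card_le_finrank_csub {p : Fin n → Prop} (s : Finset (Fin n)) (hs : ∀ k ∈ s, p k) :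
    s.card ≤ Module.finrank F (csub F p) := by
  have hli : LinearIndependent F (fun i : ↥s => (Pi.single (i : Fin n) (1 : F) : Fin n → F)) := by
    have h1 := (Pi.basisFun F (Fin n)).linearIndependent.comp (Subtype.val : ↥s → Fin n)
      Subtype.val_injective
    have h2 : (⇑(Pi.basisFun F (Fin n)) ∘ (Subtype.val : ↥s → Fin n)) =
        fun i : ↥s => (Pi.single (i : Fin n) (1 : F) : Fin n → F) := by
      funext i
      rw [Function.comp_apply, Pi.basisFun_apply]
    rw [h2] at h1
    exact h1
  have hli' : LinearIndependent F (fun i : ↥s =>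
      (⟨Pi.single (i : Fin n) 1, single_mem_csub (hs i i.2)⟩ : csub F p)) := by
    apply LinearIndependent.of_comp (csub F p).subtype
    exact hli
  have h3 := hli'.fintype_card_le_finrank
  rwa [Fintype.card_coe] at h3

include hF in
/-- the special unitary group of a coordinate plane is transitive on the plane vectors of a given
non-zero norm -/
theorem plane_move {a b : Fin n} (hab : a ≠ b) (w w' : Fin n → F)
    (hw : w ∈ csub F (fun k : Fin n => k = a ∨ k = b))
    (hw' : w' ∈ csub F (fun k : Fin n => k = a ∨ k = b))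
    (hν : hermForm n F q w w = hermForm n F q w' w') (hν0 : hermForm n F q w w ≠ 0) :
    ∃ g : ↥(Cfsg.GU n F q),
      ((g : Matrix.GeneralLinearGroup (Fin n) F) : Matrix (Fin n) (Fin n) F).det = 1 ∧
      (∀ y ∈ csub F (fun k : Fin n => ¬ (k = a ∨ k = b)), gact n g y = y) ∧
      gact n g w = w' := by
  obtain ⟨P, hP⟩ : ∃ P, P = csub F (fun k : Fin n => k = a ∨ k = b) := ⟨_, rfl⟩
  rw [← hP] at hw hw'
  have hOP : OrthoPair q P (perpS hF P) := by
    rw [hP]
    exact orthoPair_of_nondeg hF _ (csub_nondeg hF _)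
  have h2 : 2 ≤ Module.finrank F P := by
    rw [hP]
    have h1 := card_le_finrank_csub (F := F) (p := fun k : Fin n => k = a ∨ k = b) {a, b} (by
      intro k hk
      rw [Finset.mem_insert, Finset.mem_singleton] at hk
      exact hk)
    rwa [Finset.card_pair hab] at h1
  have hperp : ∀ y ∈ csub F (fun k : Fin n => ¬ (k = a ∨ k = b)), y ∈ perpS hF P := by
    intro y hy
    rw [mem_perpS]
    intro z hz
    rw [hP] at hz
    exact herm_csub hF hz hy
  have hnot : ∀ x ∈ P, x ≠ 0 → x ∉ perpS hF P :=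
    fun x hx hx0 hxp => hx0 (hOP.disjoint hF x hx hxp)
  have hw0 : w ≠ 0 := by
    intro h0
    apply hν0
    rw [h0, hermForm_zero_left]
  have hν0' : hermForm n F q w' w' ≠ 0 := by
    rw [← hν]
    exact hν0
  have hw'0 : w' ≠ 0 := by
    intro h0
    apply hν0'
    rw [h0, hermForm_zero_left]
  have hH : ∀ y ∈ perpS hF P, hermForm n F q y w = hermForm n F q y w' := by
    intro y hy
    rw [herm_symm_zero hF n (hOP.orth w hw y hy), herm_symm_zero hF n (hOP.orth w' hw' y hy)]
  obtain ⟨g, hgfix, hgw⟩ := move_fix hF (perpS hF P) w w' hν hH (hnot w hw hw0)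
    (hnot w' hw' hw'0)
  obtain ⟨d, hdP, hdw', hdn⟩ := perp_aniso hF hOP h2 w' hw' hν0'
  obtain ⟨s, hs, hdet⟩ := det_fix hF g d hdn
  refine ⟨qtv hF n d s hs * g, hdet, ?_, ?_⟩
  · intro y hy
    have hy' := hperp y hy
    rw [gact_mul, hgfix y hy', gact_qtv, herm_symm_zero hF n (hOP.orth d hdP y hy'), mul_zero,
      zero_smul, add_zero]
  · rw [gact_mul, hgw, gact_qtv, herm_symm_zero hF n hdw', mul_zero, zero_smul, add_zero]

include hF in
/-- an isotropic vector with a vanishing coordinate is the centre of transvections fixing the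
corresponding basis vector -/
theorem qtv_fix_single (v : Fin n → F) (c : F) (hc : QCond n q v c) (i : Fin n)
    (hvi : v i = 0) : gact n (qtv hF n v c hc) (Pi.single i 1) = Pi.single i 1 := by
  rw [gact_qtv, hermForm_single_left, hvi, zero_pow (q_ne_zero hF), mul_zero, zero_smul,
    add_zero]

include hF in
theorem qtv_mem_SU (v : Fin n → F) (hv : hermForm n F q v v = 0) (c : F)
    (hc : QCond n q v c) :
    ((qtv hF n v c hc : ↥(Cfsg.GU n F q)) : Matrix.GeneralLinearGroup (Fin n) F) ∈
      Cfsg.GU n F q ⊓ Cfsg.Geo.specialLinear (Fin n) F := by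
  rw [mem_SU_iff]
  refine ⟨(qtv hF n v c hc).2, ?_⟩
  rw [qtv_coe, det_tv, hv, mul_zero, add_zero]

/-- (G1) the special unitary group is generated by the stabilisers of the standard basis
vectors -/
theorem SU_le_of_point_stabs {F : Type*} [Field F] [Fintype F] {q n : ℕ}
    (hF : Fintype.card F = q ^ 2) (hn : 4 ≤ n) (hq : ¬ 3 ≤ q → 5 ≤ n)
    {X : Subgroup (Matrix.GeneralLinearGroup (Fin n) F)}
    (hX : ∀ i : Fin n, ∀ g : Matrix.GeneralLinearGroup (Fin n) F,
      g ∈ Cfsg.GU n F q ⊓ Cfsg.Geo.specialLinear (Fin n) F →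
      (g : Matrix (Fin n) (Fin n) F) *ᵥ Pi.single i 1 = Pi.single i 1 → g ∈ X) :
    Cfsg.GU n F q ⊓ Cfsg.Geo.specialLinear (Fin n) F ≤ X := by
  obtain ⟨M, hM⟩ : ∃ M : Subgroup (Matrix.GeneralLinearGroup (Fin n) F),
      M = X ⊓ (Cfsg.GU n F q ⊓ Cfsg.Geo.specialLinear (Fin n) F) := ⟨_, rfl⟩
  have hMS : M ≤ Cfsg.GU n F q ⊓ Cfsg.Geo.specialLinear (Fin n) F := by
    rw [hM]
    exact inf_le_right
  have hMX : M ≤ X := by
    rw [hM]
    exact inf_le_left
  refine le_trans ?_ hMX
  have hzero : ∀ i : Fin n, ∀ v : Fin n → F, hermForm n F q v v = 0 → v i = 0 →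
      IsCentre hF n M v := by
    intro i v hv hvi
    refine ⟨hv, fun c hc => ?_⟩
    have hSU := qtv_mem_SU hF v hv c hc
    rw [hM]
    exact ⟨hX i _ hSU (qtv_fix_single hF v c hc i hvi), hSU⟩
  apply SU_le hF (by omega) (by omega)
  intro x hx
  by_cases hfull : ∃ i, x i = 0
  · obtain ⟨i, hi⟩ := hfull
    exact hzero i x hx hi
  push Not at hfull
  obtain ⟨a, b, c, hab, hac, hbc⟩ : ∃ a b c : Fin n, a ≠ b ∧ a ≠ c ∧ b ≠ c := by
    refine ⟨⟨0, by omega⟩, ⟨1, by omega⟩, ⟨2, by omega⟩, ?_, ?_, ?_⟩ <;>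
    · intro h
      have h' := congrArg Fin.val h
      simp at h'
  obtain ⟨A, hA⟩ : ∃ A, A = csub F (fun k : Fin n => ¬ (k = a ∨ k = b)) := ⟨_, rfl⟩
  have hOP : OrthoPair q A (perpS hF A) := by
    rw [hA]
    exact orthoPair_of_nondeg hF _ (csub_nondeg hF _)
  have hcard : n - 2 ≤ Module.finrank F A := by
    rw [hA]
    have h1 := card_le_finrank_csub (F := F) (p := fun k : Fin n => ¬ (k = a ∨ k = b))
      ((Finset.univ.erase a).erase b) (by
        intro k hk
        rw [Finset.mem_erase, Finset.mem_erase] at hk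
        intro h
        rcases h with h | h
        · exact hk.2.1 h
        · exact hk.1 h)
    rw [Finset.card_erase_of_mem (Finset.mem_erase.mpr ⟨hab.symm, Finset.mem_univ b⟩),
      Finset.card_erase_of_mem (Finset.mem_univ a), Finset.card_univ, Fintype.card_fin] at h1
    omega
  obtain ⟨y, hy⟩ : ∃ y : Fin n → F, y = fun k => if k = a ∨ k = b then 0 else x k := ⟨_, rfl⟩
  have hyA : y ∈ A := by
    rw [hA]
    intro k hk
    rw [hy]
    exact if_pos (not_not.mp hk)
  have hy0 : y ≠ 0 := by
    intro h0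
    have h1 := congrFun h0 c
    rw [hy] at h1
    have h2 : ¬ (c = a ∨ c = b) := by
      intro h
      rcases h with h | h
      · exact hac h.symm
      · exact hbc h.symm
    have h3 : (if c = a ∨ c = b then 0 else x c) = (0 : F) := h1
    rw [if_neg h2] at h3
    exact hfull c h3
  obtain ⟨m, hm⟩ : ∃ m : F, m = -(x b * x b ^ q) := ⟨_, rfl⟩
  have hmq : m ^ q = m := by
    rw [hm, pow_q_neg hF, mul_pow, pow_q_pow_q hF]
    ring
  obtain ⟨u', hu'A, hu'n, htr, hne⟩ := exists_K hF hOP (by omega)
    (fun h => by have := hq h; omega) y hyA hy0 m hmq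
  obtain ⟨φ, hφ⟩ : ∃ φ : F, φ = hermForm n F q y u' := ⟨_, rfl⟩
  rw [← hφ] at htr hne
  have hu'a : u' a = 0 := by
    rw [hA] at hu'A
    exact hu'A a (not_not.mpr (Or.inl rfl))
  have hu'b : u' b = 0 := by
    rw [hA] at hu'A
    exact hu'A b (not_not.mpr (Or.inr rfl))
  have hxu' : hermForm n F q x u' = φ := by
    rw [hφ]
    show ∑ i, x i * u' i ^ q = ∑ i, y i * u' i ^ q
    apply Finset.sum_congr rfl
    intro k _
    by_cases hk : k = a ∨ k = b
    · have h1 : u' k = 0 := by
        rcases hk with h | h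
        · rw [h]
          exact hu'a
        · rw [h]
          exact hu'b
      rw [h1, zero_pow (q_ne_zero hF), mul_zero, mul_zero]
    · have h1 : y k = x k := by
        rw [hy]
        exact if_neg hk
      rw [h1]
  have hq0 := q_ne_zero hF
  have hfe1 : hermForm n F q u' (Pi.single b 1) = 0 := by
    rw [hermForm_single_right n q hq0, hu'b]
  have hfe2 : hermForm n F q (Pi.single b 1) u' = 0 := by
    rw [hermForm_single_left, hu'b, zero_pow hq0]
  have hfe3 : hermForm n F q (Pi.single b (1 : F) : Fin n → F) (Pi.single b 1) = 1 := by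
    rw [herm_single_single n b b hq0, if_pos rfl]
  have hxe : hermForm n F q x (Pi.single b 1) = x b := hermForm_single_right n q hq0 b x
  -- the two centres
  have hun : hermForm n F q (u' + x b • Pi.single b 1) (u' + x b • Pi.single b 1) = 0 := by
    simp only [hermForm_add_left, hermForm_add_right hF, hermForm_smul_left,
      hermForm_smul_right, hu'n, hfe1, hfe2, hfe3]
    rw [hm]
    ring
  have hua : (u' + x b • (Pi.single b (1 : F) : Fin n → F)) a = 0 := by
    rw [Pi.add_apply, Pi.smul_apply, hu'a, Pi.single_apply, if_neg hab, smul_zero, add_zero]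
  have hu := hzero a _ hun hua
  have hxu : hermForm n F q x (u' + x b • Pi.single b 1) = φ - m := by
    rw [hermForm_add_right hF, hermForm_smul_right, hxu', hxe, hm]
    ring
  have hux : hermForm n F q (u' + x b • Pi.single b 1) x = (φ - m) ^ q := by
    rw [← hxu, hermForm_conj hF]
  have hβq : (φ - m) ^ q = -(φ - m) := by
    rw [pow_q_sub hF, hmq]
    linear_combination htr
  have hneg1 : (-1 : F) ^ q = -1 := by
    rw [pow_q_neg hF, one_pow]
  have hvn : hermForm n F q (x + (-1 : F) • (u' + x b • Pi.single b 1))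
      (x + (-1 : F) • (u' + x b • Pi.single b 1)) = 0 := by
    rw [hnorm_add hF, hermForm_smul_right, hermForm_smul_left, hermForm_smul_left,
      hermForm_smul_right, hx, hun, hxu, hux, hβq, hneg1]
    ring
  have hvb : (x + (-1 : F) • (u' + x b • (Pi.single b (1 : F) : Fin n → F))) b = 0 := by
    rw [Pi.add_apply, Pi.smul_apply, Pi.add_apply, Pi.smul_apply, hu'b, Pi.single_apply,
      if_pos rfl]
    simp
  have hv := hzero b _ hvn hvb
  have hβ : hermForm n F q (x + (-1 : F) • (u' + x b • Pi.single b 1))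
      (u' + x b • Pi.single b 1) = φ - m := by
    rw [hermForm_add_left, hermForm_smul_left, hxu, hun]
    ring
  have hβ0 : φ - m ≠ 0 := sub_ne_zero.mpr hne
  have hc : ((φ - m)⁻¹) ^ q = -(φ - m)⁻¹ := by
    rw [inv_pow, hβq, inv_neg]
  have hfin := isCentre_hyp hF hMS hu hv (φ - m)⁻¹ hc
  rw [hβ, inv_mul_cancel₀ hβ0] at hfin
  have e1 : x + (-1 : F) • (u' + x b • (Pi.single b (1 : F) : Fin n → F)) +
      (1 : F) • (u' + x b • Pi.single b 1) = x := by module
  rw [e1] at hfin
  exact hfin

end Cfsg.Agent.Lib.Helper7.UD
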