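import Mathlib
import Cfsg.Prelude
import Cfsg.Agent.Lib.Helper7.UD6

set_option autoImplicit false
set_option linter.unusedSectionVars false
set_option linter.unusedVariables false
open Cfsg

/-! Unitary decompositions, part 7: for `q ≥ 3` the special unitary group is generated by the
special unitary groups of the coordinate planes. -/

namespace Cfsg.Agent.Lib.Helper7.UD

open Matrix Cfsg.Agent.Lib.Helper5.Herm Cfsg.Agent.Lib.Helper5.HermBridge
  Cfsg.Agent.Lib.Helper5.HermTv Cfsg.Agent.Lib.Helper5.HermGen Cfsg.Agent.Lib.Helper5.HermEich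
  Cfsg.Agent.Lib.Helper5.SUCentres Cfsg.Agent.Lib.Helper5.SpSingularMax
  Cfsg.Agent.Lib.Helper5.SUSingularMax Cfsg.Agent.Lib.Helper5.HermPair

variable {F : Type*} [Field F] [Fintype F] {q : ℕ} (hF : Fintype.card F = q ^ 2) {n : ℕ}

/-- the form on a coordinate plane -/
theorem herm_plane {a b : Fin n} (hab : a ≠ b) {u : Fin n → F}
    (hu : u ∈ csub F (fun k : Fin n => k = a ∨ k = b)) (v : Fin n → F) :
    hermForm n F q u v = u a * v a ^ q + u b * v b ^ q := by
  show ∑ i, u i * v i ^ q = _
  rw [← Finset.sum_subset (Finset.subset_univ {a, b}) (fun k _ hk => by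
    rw [Finset.mem_insert, Finset.mem_singleton] at hk
    rw [hu k hk, zero_mul]), Finset.sum_pair hab]

theorem pair_mem_plane {a b : Fin n} (hab : a ≠ b) (s t : F) :
    s • (Pi.single a (1 : F) : Fin n → F) + t • Pi.single b 1 ∈
      csub F (fun k : Fin n => k = a ∨ k = b) :=
  Submodule.add_mem _ (Submodule.smul_mem _ _ (single_mem_csub (Or.inl rfl)))
    (Submodule.smul_mem _ _ (single_mem_csub (Or.inr rfl)))

theorem pair_apply_left {a b : Fin n} (hab : a ≠ b) (s t : F) :
    (s • (Pi.single a (1 : F) : Fin n → F) + t • (Pi.single b (1 : F) : Fin n → F) : Fin n → F) a = s := by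
  rw [Pi.add_apply, Pi.smul_apply, Pi.smul_apply, Pi.single_apply, Pi.single_apply, if_pos rfl,
    if_neg hab, smul_eq_mul, smul_eq_mul, mul_one, mul_zero, add_zero]

theorem pair_apply_right {a b : Fin n} (hab : a ≠ b) (s t : F) :
    (s • (Pi.single a (1 : F) : Fin n → F) + t • (Pi.single b (1 : F) : Fin n → F) : Fin n → F) b = t := by
  rw [Pi.add_apply, Pi.smul_apply, Pi.smul_apply, Pi.single_apply, Pi.single_apply, if_pos rfl,
    if_neg hab.symm, smul_eq_mul, smul_eq_mul, mul_one, mul_zero, zero_add]

theorem pair_apply_other {a b k : Fin n} (hka : k ≠ a) (hkb : k ≠ b) (s t : F) :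
    (s • (Pi.single a (1 : F) : Fin n → F) + t • (Pi.single b (1 : F) : Fin n → F) : Fin n → F) k = 0 := by
  rw [Pi.add_apply, Pi.smul_apply, Pi.smul_apply, Pi.single_apply, Pi.single_apply, if_neg hka,
    if_neg hkb, smul_zero, smul_zero, add_zero]

/-- splitting a vector along a coordinate plane -/
theorem split_plane {a b : Fin n} (hab : a ≠ b) (x : Fin n → F) :
    ∃ z ∈ csub F (fun k : Fin n => ¬ (k = a ∨ k = b)),
      x = (x a • (Pi.single a (1 : F) : Fin n → F) + x b • Pi.single b 1) + z ∧
      ∀ k, k ≠ a → k ≠ b → z k = x k := by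
  refine ⟨fun k => if k = a ∨ k = b then 0 else x k, ?_, ?_, ?_⟩
  · intro k hk
    exact if_pos (not_not.mp hk)
  · funext k
    by_cases hka : k = a
    · subst hka
      rw [Pi.add_apply, pair_apply_left hab]
      show x k = x k + (if k = k ∨ k = b then 0 else x k)
      rw [if_pos (Or.inl rfl), add_zero]
    by_cases hkb : k = b
    · subst hkb
      rw [Pi.add_apply, pair_apply_right hab]
      show x k = x k + (if k = a ∨ k = k then 0 else x k)
      rw [if_pos (Or.inr rfl), add_zero]
    · rw [Pi.add_apply, pair_apply_other hka hkb]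
      show x k = 0 + (if k = a ∨ k = b then 0 else x k)
      rw [if_neg (by
        intro h
        rcases h with h | h
        · exact hka h
        · exact hkb h), zero_add]
  · intro k hka hkb
    show (if k = a ∨ k = b then 0 else x k) = x k
    rw [if_neg (by
      intro h
      rcases h with h | h
      · exact hka h
      · exact hkb h)]

section centres

variable {M : Subgroup (Matrix.GeneralLinearGroup (Fin n) F)}
  (hMS : M ≤ Cfsg.GU n F q ⊓ Cfsg.Geo.specialLinear (Fin n) F)
  (hXM : ∀ a b : Fin n, a ≠ b → ∀ g : Matrix.GeneralLinearGroup (Fin n) F,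
    g ∈ Cfsg.GU n F q ⊓ Cfsg.Geo.specialLinear (Fin n) F →
    (∀ k, k ≠ a → k ≠ b → (g : Matrix (Fin n) (Fin n) F) *ᵥ Pi.single k 1 = Pi.single k 1) →
    g ∈ M)

include hF hXM in
/-- isotropic vectors of a coordinate plane are centres -/
theorem centre_of_pair {a b : Fin n} (hab : a ≠ b) (x : Fin n → F)
    (hx : hermForm n F q x x = 0) (hsupp : ∀ k, k ≠ a → k ≠ b → x k = 0) :
    IsCentre hF n M x :=
  ⟨hx, fun c hc => hXM a b hab _ (qtv_mem_SU hF x hx c hc)
    (fun k hka hkb => qtv_fix_single hF x c hc k (hsupp k hka hkb))⟩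

include hF hMS hXM in
/-- shrinking the support with an element of the special unitary group of a coordinate plane -/
theorem reduce_pair {a c : Fin n} (hac : a ≠ c) (x : Fin n → F)
    (hx : hermForm n F q x x = 0) (hxa : x a ≠ 0) (hxc : x c ≠ 0)
    (hN : x a * x a ^ q + x c * x c ^ q ≠ 0)
    (IH : ∀ y : Fin n → F, hermForm n F q y y = 0 →
      (Function.support y).ncard < (Function.support x).ncard → IsCentre hF n M y) :
    IsCentre hF n M x := by
  have hq0 := q_ne_zero hF
  obtain ⟨z, hz, hxz, hzk⟩ := split_plane hac x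
  obtain ⟨w, hw⟩ : ∃ w : Fin n → F,
      w = x a • (Pi.single a (1 : F) : Fin n → F) + x c • Pi.single c 1 := ⟨_, rfl⟩
  rw [← hw] at hxz
  have hwP : w ∈ csub F (fun k : Fin n => k = a ∨ k = c) := by
    rw [hw]
    exact pair_mem_plane hac _ _
  have hwa : w a = x a := by
    rw [hw]
    exact pair_apply_left hac _ _
  have hwc : w c = x c := by
    rw [hw]
    exact pair_apply_right hac _ _
  have hνw : hermForm n F q w w = x a * x a ^ q + x c * x c ^ q := by
    rw [herm_plane hac hwP, hwa, hwc]
  obtain ⟨m, hm⟩ : ∃ m : F, m = x a * x a ^ q + x c * x c ^ q := ⟨_, rfl⟩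
  rw [← hm] at hνw hN
  have hmq : m ^ q = m := by
    rw [← hνw]
    exact herm_self_fixed hF n w
  obtain ⟨l, hl⟩ := Cfsg.Agent.Lib.Helper5.HermCount.exists_norm_eq hF m hN hmq
  obtain ⟨w', hw'⟩ : ∃ w' : Fin n → F,
      w' = l • (Pi.single a (1 : F) : Fin n → F) + (0 : F) • Pi.single c 1 := ⟨_, rfl⟩
  have hw'P : w' ∈ csub F (fun k : Fin n => k = a ∨ k = c) := by
    rw [hw']
    exact pair_mem_plane hac _ _
  have hw'a : w' a = l := by
    rw [hw']
    exact pair_apply_left hac _ _
  have hw'c : w' c = 0 := by
    rw [hw']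
    exact pair_apply_right hac _ _
  have hνw' : hermForm n F q w' w' = m := by
    rw [herm_plane hac hw'P, hw'a, hw'c, zero_mul, add_zero, ← hl, pow_succ]
    ring
  obtain ⟨g, hdet, hgfix, hgw⟩ := plane_move hF hac w w' hwP hw'P (by rw [hνw, hνw']) (by
    rw [hνw]
    exact hN)
  have hgSU : (g : Matrix.GeneralLinearGroup (Fin n) F) ∈
      Cfsg.GU n F q ⊓ Cfsg.Geo.specialLinear (Fin n) F := by
    rw [mem_SU_iff]
    exact ⟨g.2, hdet⟩
  have hgM : (g : Matrix.GeneralLinearGroup (Fin n) F) ∈ M := by
    apply hXM a c hac _ hgSU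
    intro k hka hkc
    apply hgfix
    apply single_mem_csub (p := fun k : Fin n => ¬ (k = a ∨ k = c))
    intro h
    rcases h with h | h
    · exact hka h
    · exact hkc h
  have hgx : gact n g x = w' + z := by
    rw [hxz, gact_add, hgw, hgfix z hz]
  have hiso' : hermForm n F q (w' + z) (w' + z) = 0 := by
    rw [← hgx, herm_gact]
    exact hx
  have hsub : Function.support (w' + z) ⊂ Function.support x := by
    refine ⟨?_, ?_⟩
    · intro k hk
      rw [Function.mem_support] at hk ⊢
      by_cases hka : k = a
      · rw [hka]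
        exact hxa
      by_cases hkc : k = c
      · exfalso
        apply hk
        rw [hkc, Pi.add_apply, hw'c, hz c (not_not.mpr (Or.inr rfl)), add_zero]
      · intro h0
        apply hk
        rw [Pi.add_apply, hw'P k (by
          intro h
          rcases h with h | h
          · exact hka h
          · exact hkc h), hzk k hka hkc, h0, add_zero]
    · intro hsup
      have h1 : c ∈ Function.support (w' + z) := hsup (Function.mem_support.mpr hxc)
      rw [Function.mem_support] at h1
      apply h1
      rw [Pi.add_apply, hw'c, hz c (not_not.mpr (Or.inr rfl)), add_zero]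
  have hcen := IH (w' + z) hiso' (Set.ncard_lt_ncard hsub (Set.toFinite _))
  have h2 := isCentre_gact hF hMS (g : Matrix.GeneralLinearGroup (Fin n) F)⁻¹ (M.inv_mem hgM) hcen
  have hgx' : ((g : Matrix.GeneralLinearGroup (Fin n) F) : Matrix (Fin n) (Fin n) F) *ᵥ x =
      w' + z := hgx
  rw [← hgx', mulVec_mulVec, ← Units.val_mul, inv_mul_cancel, Units.val_one, one_mulVec] at h2
  exact h2

include hF hMS hXM in
/-- all isotropic vectors are centres, by induction on the size of the support -/
theorem centres_of_planes (hq : 3 ≤ q) (hn : 3 ≤ n) :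
    ∀ r : ℕ, ∀ x : Fin n → F, hermForm n F q x x = 0 →
      (Function.support x).ncard ≤ r → IsCentre hF n M x := by
  have hq0 := q_ne_zero hF
  intro r
  induction r with
  | zero =>
    intro x hx hr
    have h0 : (Function.support x).ncard = 0 := by omega
    rw [Set.ncard_eq_zero (Set.toFinite _), Function.support_eq_empty_iff] at h0
    rw [h0]
    exact isCentre_zero hF
  | succ r ih =>
    intro x hx hr
    have IH' : ∀ y : Fin n → F, hermForm n F q y y = 0 →
        (Function.support y).ncard < (Function.support x).ncard → IsCentre hF n M y :=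
      fun y hy hlt => ih y hy (by omega)
    by_cases h3 : 2 < (Function.support x).ncard
    · obtain ⟨a, ha, b, hb, c, hc, hab, hac, hbc⟩ := (Set.two_lt_ncard (Set.toFinite _)).mp h3
      rw [Function.mem_support] at ha hb hc
      by_cases h1 : x a * x a ^ q + x b * x b ^ q ≠ 0
      · exact reduce_pair hF hMS hXM hab x hx ha hb h1 IH'
      by_cases h2 : x a * x a ^ q + x c * x c ^ q ≠ 0
      · exact reduce_pair hF hMS hXM hac x hx ha hc h2 IH'
      push Not at h1 h2
      -- the transvection step
      obtain ⟨z, hz, hxz, hzk⟩ := split_plane hab x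
      obtain ⟨w, hw⟩ : ∃ w : Fin n → F,
          w = x a • (Pi.single a (1 : F) : Fin n → F) + x b • Pi.single b 1 := ⟨_, rfl⟩
      rw [← hw] at hxz
      obtain ⟨P, hP⟩ : ∃ P, P = csub F (fun k : Fin n => k = a ∨ k = b) := ⟨_, rfl⟩
      have hOP : OrthoPair q P (perpS hF P) := by
        rw [hP]
        exact orthoPair_of_nondeg hF _ (csub_nondeg hF _)
      have hwP : w ∈ P := by
        rw [hw, hP]
        exact pair_mem_plane hab _ _
      have hwa : w a = x a := by
        rw [hw]
        exact pair_apply_left hab _ _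
      have hwb : w b = x b := by
        rw [hw]
        exact pair_apply_right hab _ _
      have hw0 : w ≠ 0 := by
        intro h0
        apply ha
        rw [← hwa, h0]
        rfl
      have hwiso : hermForm n F q w w = 0 := by
        rw [herm_plane hab (hP ▸ hwP), hwa, hwb]
        exact h1
      obtain ⟨u, huP, huiso, hwu⟩ := hOP.exists_partner hF w hwP hw0 hwiso
      have huP' : u ∈ csub F (fun k : Fin n => k = a ∨ k = b) := hP ▸ huP
      have hzu : hermForm n F q z u = 0 := herm_symm_zero hF n (herm_csub hF huP' hz)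
      have hxu : hermForm n F q x u = 1 := by
        rw [hxz, hermForm_add_left, hwu, hzu, add_zero]
      have hua : u a ≠ 0 := by
        intro h0
        have h4 := huiso
        rw [herm_plane hab huP', h0, zero_mul, zero_add] at h4
        have h5 : u b = 0 := by
          rcases mul_eq_zero.mp h4 with h6 | h6
          · exact h6
          · exact pow_eq_zero_iff hq0 |>.mp h6
        have h7 : u = 0 := by
          funext k
          by_cases hka : k = a
          · rw [hka, h0]
            rfl
          by_cases hkb : k = b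
          · rw [hkb, h5]
            rfl
          · exact huP' k (by
              intro h
              rcases h with h | h
              · exact hka h
              · exact hkb h)
        rw [h7, hermForm_zero_right hF] at hwu
        exact zero_ne_one hwu
      obtain ⟨τ, hτ0, hτ⟩ := exists_trace_zero hF
      obtain ⟨ν, hν, hν0, hν1⟩ := exists_fixed_ne hF hq
      obtain ⟨T, hT⟩ : ∃ T : F, T = u a * x a ^ q - x a * u a ^ q := ⟨_, rfl⟩
      obtain ⟨K, hK⟩ : ∃ K : F, K = u a * u a ^ q := ⟨_, rfl⟩
      have hK0 : K ≠ 0 := by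
        rw [hK]
        exact mul_ne_zero hua (pow_ne_zero q hua)
      obtain ⟨s, hs0, hsq, hsT⟩ : ∃ s : F, s ≠ 0 ∧ s ^ q = -s ∧ T - s * K ≠ 0 := by
        by_cases h5 : T - τ * K ≠ 0
        · exact ⟨τ, hτ0, hτ, h5⟩
        · push Not at h5
          refine ⟨ν * τ, mul_ne_zero hν0 hτ0, ?_, ?_⟩
          · rw [mul_pow, hν, hτ]
            ring
          · intro h6
            have h7 : (1 - ν) * (τ * K) = 0 := by linear_combination h6 - h5
            rcases mul_eq_zero.mp h7 with h8 | h8
            · apply hν1
              linear_combination -h8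
            · exact mul_ne_zero hτ0 hK0 h8
      have hQ : QCond n q u s := (qcond_iso n huiso s).mpr hsq
      have htM : ((qtv hF n u s hQ : ↥(Cfsg.GU n F q)) :
          Matrix.GeneralLinearGroup (Fin n) F) ∈ M := by
        apply hXM a b hab _ (qtv_mem_SU hF u huiso s hQ)
        intro k hka hkb
        apply qtv_fix_single hF u s hQ k
        exact huP' k (by
          intro h
          rcases h with h | h
          · exact hka h
          · exact hkb h)
      obtain ⟨x', hx'⟩ : ∃ x' : Fin n → F, x' = x + (s * 1) • u := ⟨_, rfl⟩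
      have htx : gact n (qtv hF n u s hQ) x = x' := by
        rw [gact_qtv, hxu, hx']
      have hx'iso : hermForm n F q x' x' = 0 := by
        rw [← htx, herm_gact]
        exact hx
      have hx'a : x' a = x a + s * u a := by
        rw [hx', Pi.add_apply, Pi.smul_apply, smul_eq_mul, mul_one]
      have hx'k : ∀ k, k ≠ a → k ≠ b → x' k = x k := by
        intro k hka hkb
        rw [hx', Pi.add_apply, Pi.smul_apply, huP' k (by
          intro h
          rcases h with h | h
          · exact hka h
          · exact hkb h), smul_zero, add_zero]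
      have hx'c : x' c = x c := hx'k c (Ne.symm hac) (Ne.symm hbc)
      have hsub : Function.support x' ⊆ Function.support x := by
        intro k hk
        rw [Function.mem_support] at hk ⊢
        by_cases hka : k = a
        · rw [hka]
          exact ha
        by_cases hkb : k = b
        · rw [hkb]
          exact hb
        · rw [← hx'k k hka hkb]
          exact hk
      have hle : (Function.support x').ncard ≤ (Function.support x).ncard :=
        Set.ncard_le_ncard hsub (Set.toFinite _)
      have hcen : IsCentre hF n M x' := by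
        by_cases hx'a0 : x' a = 0
        · apply IH' x' hx'iso
          apply Set.ncard_lt_ncard _ (Set.toFinite _)
          refine ⟨hsub, ?_⟩
          intro hsup
          have h5 : a ∈ Function.support x' := hsup (Function.mem_support.mpr ha)
          rw [Function.mem_support] at h5
          exact h5 hx'a0
        · apply reduce_pair hF hMS hXM hac x' hx'iso hx'a0 (by rw [hx'c]; exact hc) _
            (fun y hy hlt => IH' y hy (by omega))
          have h5 : x' a * x' a ^ q + x' c * x' c ^ q = s * (T - s * K) := by
            rw [hx'c, hx'a, pow_q_add hF, mul_pow, hsq, hT, hK]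
            linear_combination h2
          rw [h5]
          exact mul_ne_zero hs0 hsT
      have h2' := isCentre_gact hF hMS
        ((qtv hF n u s hQ : ↥(Cfsg.GU n F q)) : Matrix.GeneralLinearGroup (Fin n) F)⁻¹
        (M.inv_mem htM) hcen
      have htx' : (((qtv hF n u s hQ : ↥(Cfsg.GU n F q)) :
          Matrix.GeneralLinearGroup (Fin n) F) : Matrix (Fin n) (Fin n) F) *ᵥ x = x' := htx
      rw [← htx', mulVec_mulVec, ← Units.val_mul, inv_mul_cancel, Units.val_one,
        one_mulVec] at h2'
      exact h2'
    · -- support of size at most two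
      by_cases hx0 : x = 0
      · rw [hx0]
        exact isCentre_zero hF
      obtain ⟨a, ha⟩ := Function.ne_iff.mp hx0
      have ha' : x a ≠ 0 := ha
      by_cases hb : ∃ b, b ≠ a ∧ x b ≠ 0
      · obtain ⟨b, hba, hb'⟩ := hb
        apply centre_of_pair hF hXM hba.symm x hx
        intro k hka hkb
        by_contra hk
        apply h3
        rw [Set.two_lt_ncard (Set.toFinite _)]
        exact ⟨a, Function.mem_support.mpr ha', b, Function.mem_support.mpr hb', k,
          Function.mem_support.mpr hk, hba.symm, Ne.symm hka, Ne.symm hkb⟩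
      · push Not at hb
        obtain ⟨b, hba⟩ : ∃ b : Fin n, b ≠ a := by
          by_cases h0 : a.val = 0
          · refine ⟨⟨1, by omega⟩, ?_⟩
            intro h
            have h' := congrArg Fin.val h
            simp at h'
            omega
          · refine ⟨⟨0, by omega⟩, ?_⟩
            intro h
            have h' := congrArg Fin.val h
            simp at h'
            omega
        apply centre_of_pair hF hXM hba.symm x hx
        intro k hka _
        exact hb k hka

end centres

/-- (G2) for `q ≥ 3` the special unitary group is generated by the special unitary groups of the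
coordinate planes -/
theorem SU_le_of_plane_stabs {F : Type*} [Field F] [Fintype F] {q n : ℕ}
    (hF : Fintype.card F = q ^ 2) (hn : 3 ≤ n) (hq : 3 ≤ q)
    {X : Subgroup (Matrix.GeneralLinearGroup (Fin n) F)}
    (hX : ∀ a b : Fin n, a ≠ b → ∀ g : Matrix.GeneralLinearGroup (Fin n) F,
      g ∈ Cfsg.GU n F q ⊓ Cfsg.Geo.specialLinear (Fin n) F →
      (∀ k, k ≠ a → k ≠ b → (g : Matrix (Fin n) (Fin n) F) *ᵥ Pi.single k 1 = Pi.single k 1) →
      g ∈ X) :
    Cfsg.GU n F q ⊓ Cfsg.Geo.specialLinear (Fin n) F ≤ X := by
  obtain ⟨M, hM⟩ : ∃ M : Subgroup (Matrix.GeneralLinearGroup (Fin n) F),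
      M = X ⊓ (Cfsg.GU n F q ⊓ Cfsg.Geo.specialLinear (Fin n) F) := ⟨_, rfl⟩
  have hMS : M ≤ Cfsg.GU n F q ⊓ Cfsg.Geo.specialLinear (Fin n) F := by
    rw [hM]
    exact inf_le_right
  have hMX : M ≤ X := by
    rw [hM]
    exact inf_le_left
  refine le_trans ?_ hMX
  have hXM : ∀ a b : Fin n, a ≠ b → ∀ g : Matrix.GeneralLinearGroup (Fin n) F,
      g ∈ Cfsg.GU n F q ⊓ Cfsg.Geo.specialLinear (Fin n) F →
      (∀ k, k ≠ a → k ≠ b →
        (g : Matrix (Fin n) (Fin n) F) *ᵥ Pi.single k 1 = Pi.single k 1) → g ∈ M := by
    intro a b hab g hg hfix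
    rw [hM]
    exact ⟨hX a b hab g hg hfix, hg⟩
  apply SU_le hF hn (by omega)
  intro x hx
  exact centres_of_planes hF hMS hXM hq hn _ x hx le_rfl

end Cfsg.Agent.Lib.Helper7.UD
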