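import Mathlib
import Cfsg.Prelude
import Cfsg.Agent.Lib.Helper7.UD7
import Cfsg.Agent.Lib.Helper8.UM0
import Cfsg.Agent.Lib.Helper8.UM1

set_option autoImplicit false
set_option linter.unusedSectionVars false
set_option linter.unusedVariables false
open Cfsg

/-! Unitary decompositions, part 8: if all isotropic vectors of weight at most two are centres of
a subgroup of the special unitary group (`q ≥ 3`), then all isotropic vectors are. -/

namespace Cfsg.Agent.Lib.Helper7.UD

open Matrix Cfsg.Agent.Lib.Helper5.Herm Cfsg.Agent.Lib.Helper5.HermBridge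
  Cfsg.Agent.Lib.Helper5.HermTv Cfsg.Agent.Lib.Helper5.HermGen Cfsg.Agent.Lib.Helper5.HermEich
  Cfsg.Agent.Lib.Helper5.SUCentres Cfsg.Agent.Lib.Helper5.SpSingularMax
  Cfsg.Agent.Lib.Helper5.SUSingularMax Cfsg.Agent.Lib.Helper5.HermPair

variable {F : Type*} [Field F] [Fintype F] {q : ℕ} (hF : Fintype.card F = q ^ 2) {n : ℕ}

include hF in
/-- a norm-one element outside the fixed field -/
theorem exists_mu_not_fixed : ∃ ζ : F, ζ ^ (q + 1) = 1 ∧ ζ ^ q ≠ ζ := by
  classical
  have hq2 := two_le_q hF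
  have hcard : ({1, -1} : Finset F).card < (Cfsg.Agent.Lib.Helper8.UM.muF F q).card := by
    rw [Cfsg.Agent.Lib.Helper8.UM.card_muF hF]
    have := Finset.card_le_two (a := (1 : F)) (b := -1)
    omega
  obtain ⟨ζ, hζ, hζn⟩ := Finset.exists_mem_notMem_of_card_lt_card hcard
  rw [Cfsg.Agent.Lib.Helper8.UM.mem_muF] at hζ
  refine ⟨ζ, hζ, ?_⟩
  intro h
  apply hζn
  have h1 : ζ * ζ = 1 := by
    rw [pow_succ, h] at hζ
    exact hζ
  have h2 : (ζ - 1) * (ζ + 1) = 0 := by linear_combination h1
  rw [Finset.mem_insert, Finset.mem_singleton]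
  rcases mul_eq_zero.mp h2 with h3 | h3
  · left
    linear_combination h3
  · right
    linear_combination h3

include hF in
/-- elements of prescribed norm outside the fixed field -/
theorem exists_norm_not_fixed (μ₀ : F) (h0 : μ₀ ≠ 0) (hμ : μ₀ ^ q = μ₀) :
    ∃ ξ : F, ξ ^ (q + 1) = μ₀ ∧ ξ ^ q ≠ ξ := by
  obtain ⟨ξ₀, hξ₀⟩ := Cfsg.Agent.Lib.Helper5.HermCount.exists_norm_eq hF μ₀ h0 hμ
  by_cases h : ξ₀ ^ q ≠ ξ₀
  · exact ⟨ξ₀, hξ₀, h⟩
  · push Not at h
    obtain ⟨ζ, hζ, hζn⟩ := exists_mu_not_fixed hF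
    refine ⟨ξ₀ * ζ, by rw [mul_pow, hξ₀, hζ, mul_one], ?_⟩
    intro h1
    rw [mul_pow, h] at h1
    have hξ0 : ξ₀ ≠ 0 := by
      rintro rfl
      rw [zero_pow (Nat.succ_ne_zero q)] at hξ₀
      exact h0 hξ₀.symm
    exact hζn (mul_left_cancel₀ hξ0 h1)

/-- transvections with centre in a coordinate plane fix the complementary coordinate subspace -/
theorem tv_plane_fix {a c : Fin n} {u : Fin n → F}
    (huP : u ∈ csub F (fun k : Fin n => k = a ∨ k = c))
    (s : F) (hs : QCond n q u s) (y : Fin n → F)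
    (hy : y ∈ csub F (fun k : Fin n => ¬ (k = a ∨ k = c))) :
    gact n (qtv hF n u s hs) y = y := by
  rw [gact_qtv, herm_symm_zero hF n (herm_csub hF huP hy), mul_zero, zero_smul, add_zero]

section spread

variable {M : Subgroup (Matrix.GeneralLinearGroup (Fin n) F)}
  (hMS : M ≤ Cfsg.GU n F q ⊓ Cfsg.Geo.specialLinear (Fin n) F)
  (h2 : ∀ a b : Fin n, ∀ v : Fin n → F, hermForm n F q v v = 0 →
    (∀ k, k ≠ a → k ≠ b → v k = 0) → IsCentre hF n M v)

include h2 in
theorem tv_plane_mem {a c : Fin n} {u : Fin n → F}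
    (huP : u ∈ csub F (fun k : Fin n => k = a ∨ k = c)) (hu : hermForm n F q u u = 0)
    (s : F) (hs : QCond n q u s) :
    ((qtv hF n u s hs : ↥(Cfsg.GU n F q)) : Matrix.GeneralLinearGroup (Fin n) F) ∈ M :=
  (h2 a c u hu (fun k hka hkc => huP k (by
    intro h
    rcases h with h | h
    · exact hka h
    · exact hkc h))).2 s hs

include hF h2 in
/-- a plane vector of non-zero norm is moved onto a coordinate axis by a product of two
transvections with centres in the plane -/
theorem plane_reduce {a c : Fin n} (hac : a ≠ c) (w : Fin n → F)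
    (hwP : w ∈ csub F (fun k : Fin n => k = a ∨ k = c))
    (hN : hermForm n F q w w ≠ 0) :
    ∃ g : ↥(Cfsg.GU n F q), (g : Matrix.GeneralLinearGroup (Fin n) F) ∈ M ∧
      (∀ y ∈ csub F (fun k : Fin n => ¬ (k = a ∨ k = c)), gact n g y = y) ∧
      ∃ l : F, gact n g w = l • (Pi.single a (1 : F) : Fin n → F) := by
  have hq0 := q_ne_zero hF
  obtain ⟨xa, hxa⟩ : ∃ xa : F, xa = w a := ⟨_, rfl⟩
  obtain ⟨xc, hxc⟩ : ∃ xc : F, xc = w c := ⟨_, rfl⟩
  obtain ⟨m, hm⟩ : ∃ m : F, m = hermForm n F q w w := ⟨_, rfl⟩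
  have hm' : m = xa * xa ^ q + xc * xc ^ q := by
    rw [hm, herm_plane hac hwP, hxa, hxc]
  rw [← hm] at hN
  have hmq : m ^ q = m := by
    rw [hm]
    exact herm_self_fixed hF n w
  obtain ⟨κ, hκ⟩ := Cfsg.Agent.Lib.Helper5.HermCount.exists_norm_eq hF (-1 : F)
    (neg_ne_zero.mpr one_ne_zero) (pow_q_neg_one hF)
  have hκ' : κ * κ ^ q = -1 := by
    rw [← hκ, pow_succ, mul_comm]
  -- the first centre
  obtain ⟨u, hu⟩ : ∃ u : Fin n → F,
      u = (1 : F) • (Pi.single a (1 : F) : Fin n → F) + κ • Pi.single c 1 := ⟨_, rfl⟩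
  have huP : u ∈ csub F (fun k : Fin n => k = a ∨ k = c) := by
    rw [hu]
    exact pair_mem_plane hac _ _
  have hua : u a = 1 := by
    rw [hu]
    exact pair_apply_left hac _ _
  have huc : u c = κ := by
    rw [hu]
    exact pair_apply_right hac _ _
  have huiso : hermForm n F q u u = 0 := by
    rw [herm_plane hac huP, hua, huc, one_pow, one_mul, hκ']
    ring
  obtain ⟨φ, hφ⟩ : ∃ φ : F, φ = hermForm n F q w u := ⟨_, rfl⟩
  have hφ' : φ = xa + xc * κ ^ q := by
    rw [hφ, herm_plane hac hwP, hua, huc, one_pow, mul_one, hxa, hxc]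
  have hφ0 : φ ≠ 0 := by
    intro h0
    rw [hφ'] at h0
    have h1 : xa ^ q = -(xc ^ q * κ) := by
      have h3 : xa = -(xc * κ ^ q) := by linear_combination h0
      rw [h3, pow_q_neg hF, mul_pow, pow_q_pow_q hF]
    apply hN
    rw [hm']
    linear_combination xa * h1 - (xc ^ q * κ) * h0 + (xc * xc ^ q) * hκ'
  have hNφ0 : φ * φ ^ q ≠ 0 := mul_ne_zero hφ0 (pow_ne_zero q hφ0)
  have hNφq : (φ * φ ^ q) ^ q = φ * φ ^ q := by
    rw [mul_pow, pow_q_pow_q hF, mul_comm]
  obtain ⟨μ₀, hμ₀⟩ : ∃ μ₀ : F, μ₀ = m * (φ * φ ^ q)⁻¹ := ⟨_, rfl⟩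
  have hμ₀m : μ₀ * (φ * φ ^ q) = m := by
    rw [hμ₀, mul_assoc, inv_mul_cancel₀ hNφ0, mul_one]
  have hμ₀0 : μ₀ ≠ 0 := by
    intro h0
    rw [h0, zero_mul] at hμ₀m
    exact hN hμ₀m.symm
  have hμ₀q : μ₀ ^ q = μ₀ := by
    rw [hμ₀, mul_pow, inv_pow, hmq, hNφq]
  obtain ⟨ξ, hξN, hξq⟩ := exists_norm_not_fixed hF μ₀ hμ₀0 hμ₀q
  have hξN' : ξ * ξ ^ q = μ₀ := by
    rw [← hξN, pow_succ, mul_comm]
  obtain ⟨lam, hlam⟩ : ∃ lam : F, lam = ξ * φ := ⟨_, rfl⟩
  have hlamN : lam * lam ^ q = m := by
    rw [hlam, mul_pow]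
    linear_combination (φ * φ ^ q) * hξN' + hμ₀m
  obtain ⟨E, hE⟩ : ∃ E : F, E = ξ - ξ ^ q := ⟨_, rfl⟩
  have hE0 : E ≠ 0 := by
    rw [hE]
    exact sub_ne_zero.mpr (Ne.symm hξq)
  have hEq : E ^ q = -E := by
    rw [hE, pow_q_sub hF, pow_q_pow_q hF]
    ring
  obtain ⟨n₀, hn₀⟩ : ∃ n₀ : F, n₀ = m + m - (lam * xa ^ q + lam ^ q * xa) := ⟨_, rfl⟩
  have hn₀q : n₀ ^ q = n₀ := by
    rw [hn₀, pow_q_sub hF, pow_q_add hF, pow_q_add hF, mul_pow, mul_pow, pow_q_pow_q hF,
      pow_q_pow_q hF, hmq]
    ring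
  obtain ⟨ρ, hρ⟩ : ∃ ρ : F, ρ = n₀ * E⁻¹ := ⟨_, rfl⟩
  have hρE : ρ * E = n₀ := by
    rw [hρ, mul_assoc, inv_mul_cancel₀ hE0, mul_one]
  have hρq : ρ ^ q = -ρ := by
    have h : (ρ * E) ^ q = n₀ ^ q := by rw [hρE]
    rw [mul_pow, hEq, hn₀q] at h
    have h3 : (ρ ^ q + ρ) * E = 0 := by linear_combination -h + hρE
    have h4 := (mul_eq_zero.mp h3).resolve_right hE0
    linear_combination h4
  obtain ⟨c₁, hc₁⟩ : ∃ c₁ : F, c₁ = -ρ * (φ * φ ^ q)⁻¹ := ⟨_, rfl⟩
  have hc₁N : c₁ * (φ * φ ^ q) = -ρ := by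
    rw [hc₁, mul_assoc, inv_mul_cancel₀ hNφ0, mul_one]
  have hc₁q : c₁ ^ q = -c₁ := by
    have h : (c₁ * (φ * φ ^ q)) ^ q = (-ρ) ^ q := by rw [hc₁N]
    rw [mul_pow, hNφq, pow_q_neg hF, hρq, neg_neg] at h
    have h3 : (c₁ ^ q + c₁) * (φ * φ ^ q) = 0 := by linear_combination h + hc₁N
    have h4 := (mul_eq_zero.mp h3).resolve_right hNφ0
    linear_combination h4
  have hQ₁ : QCond n q u c₁ := (qcond_iso n huiso c₁).mpr hc₁q
  obtain ⟨β, hβ⟩ : ∃ β : F, β = c₁ * φ := ⟨_, rfl⟩
  obtain ⟨w₁, hw₁⟩ : ∃ w₁ : Fin n → F, w₁ = w + β • u := ⟨_, rfl⟩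
  have ht₁w : gact n (qtv hF n u c₁ hQ₁) w = w₁ := by
    rw [gact_qtv, ← hφ, ← hβ, hw₁]
  have hβlam : β ^ q * lam = ρ * ξ := by
    rw [hβ, mul_pow, hc₁q, hlam]
    linear_combination (-ξ) * hc₁N
  have hw₁P : w₁ ∈ csub F (fun k : Fin n => k = a ∨ k = c) := by
    rw [hw₁]
    exact Submodule.add_mem _ hwP (Submodule.smul_mem _ _ huP)
  have hw₁N : hermForm n F q w₁ w₁ = m := by
    rw [← ht₁w, herm_gact, ← hm]
  -- the target
  obtain ⟨w', hw'⟩ : ∃ w' : Fin n → F,
      w' = lam • (Pi.single a (1 : F) : Fin n → F) + (0 : F) • Pi.single c 1 := ⟨_, rfl⟩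
  have hw'P : w' ∈ csub F (fun k : Fin n => k = a ∨ k = c) := by
    rw [hw']
    exact pair_mem_plane hac _ _
  have hw'a : w' a = lam := by
    rw [hw']
    exact pair_apply_left hac _ _
  have hw'c : w' c = 0 := by
    rw [hw']
    exact pair_apply_right hac _ _
  have hw'N : hermForm n F q w' w' = m := by
    rw [herm_plane hac hw'P, hw'a, hw'c, zero_mul, add_zero]
    exact hlamN
  have hw'w : hermForm n F q w' w = lam * xa ^ q := by
    rw [herm_plane hac hw'P, hw'a, hw'c, zero_mul, add_zero, hxa]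
  have hw'u : hermForm n F q w' u = lam := by
    rw [herm_plane hac hw'P, hw'a, hw'c, zero_mul, add_zero, hua, one_pow, mul_one]
  obtain ⟨z, hz⟩ : ∃ z : F, z = hermForm n F q w' w₁ := ⟨_, rfl⟩
  have hz' : z = lam * xa ^ q + ρ * ξ := by
    rw [hz, hw₁, hermForm_add_right hF, hermForm_smul_right, hw'w, hw'u, hβlam]
  have hzz : z + z ^ q = m + m := by
    rw [hz', pow_q_add hF, mul_pow, mul_pow, pow_q_pow_q hF, hρq]
    linear_combination hρE + hn₀ - ρ * hE
  have hw₁w' : hermForm n F q w₁ w' = z ^ q := by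
    rw [hz, hermForm_conj hF]
  obtain ⟨d, hd⟩ : ∃ d : Fin n → F, d = w' + (-1 : F) • w₁ := ⟨_, rfl⟩
  have hdP : d ∈ csub F (fun k : Fin n => k = a ∨ k = c) := by
    rw [hd]
    exact Submodule.add_mem _ hw'P (Submodule.smul_mem _ _ hw₁P)
  have hdiso : hermForm n F q d d = 0 := by
    rw [hd]
    simp only [hermForm_add_left, hermForm_add_right hF, hermForm_smul_left, hermForm_smul_right,
      hw'N, hw₁N, hw₁w', ← hz, pow_q_neg_one hF]
    linear_combination -hzz
  obtain ⟨ψ, hψ⟩ : ∃ ψ : F, ψ = hermForm n F q w₁ d := ⟨_, rfl⟩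
  have hψ' : ψ = z ^ q - m := by
    rw [hψ, hd]
    simp only [hermForm_add_right hF, hermForm_smul_right, hw₁N, hw₁w', pow_q_neg_one hF]
    ring
  have hψq : ψ ^ q = -ψ := by
    rw [hψ', pow_q_sub hF, pow_q_pow_q hF, hmq]
    linear_combination hzz
  obtain ⟨c₂, hc₂⟩ : ∃ c₂ : F, c₂ = ψ⁻¹ := ⟨_, rfl⟩
  have hc₂q : c₂ ^ q = -c₂ := by
    rw [hc₂, inv_pow, hψq, inv_neg]
  have hQ₂ : QCond n q d c₂ := (qcond_iso n hdiso c₂).mpr hc₂q
  have hkey : (c₂ * ψ) • d = d := by
    by_cases hψ0 : ψ = 0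
    · have hd0 : d = 0 := by
        have h1 : w₁ a * d a ^ q + w₁ c * d c ^ q = 0 := by
          rw [← herm_plane hac hw₁P d, ← hψ, hψ0]
        have h2' : w₁ a ^ q * d a + w₁ c ^ q * d c = 0 := by
          have h : (w₁ a * d a ^ q + w₁ c * d c ^ q) ^ q = 0 := by rw [h1, zero_pow hq0]
          rw [pow_q_add hF, mul_pow, mul_pow, pow_q_pow_q hF, pow_q_pow_q hF] at h
          exact h
        have h3 : d a * d a ^ q + d c * d c ^ q = 0 := by
          rw [← herm_plane hac hdP d]
          exact hdiso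
        have h4 : w₁ a * w₁ a ^ q + w₁ c * w₁ c ^ q = m := by
          rw [← herm_plane hac hw₁P w₁]
          exact hw₁N
        have h5 : m * (d a * d a ^ q) = 0 := by
          linear_combination (w₁ a ^ q * d a) * h1 - (w₁ c * d c ^ q) * h2' +
            (w₁ c * w₁ c ^ q) * h3 - (d a * d a ^ q) * h4
        have hda : d a = 0 := by
          rcases mul_eq_zero.mp h5 with h6 | h6
          · exact absurd h6 hN
          · rcases mul_eq_zero.mp h6 with h7 | h7
            · exact h7
            · exact (pow_eq_zero_iff hq0).mp h7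
        have hdc : d c = 0 := by
          rw [hda, zero_mul, zero_add] at h3
          rcases mul_eq_zero.mp h3 with h7 | h7
          · exact h7
          · exact (pow_eq_zero_iff hq0).mp h7
        funext k
        by_cases hka : k = a
        · rw [hka, hda]
          rfl
        by_cases hkc : k = c
        · rw [hkc, hdc]
          rfl
        · exact hdP k (by
            intro h
            rcases h with h | h
            · exact hka h
            · exact hkc h)
      rw [hd0, smul_zero]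
    · rw [hc₂, inv_mul_cancel₀ hψ0, one_smul]
  have ht₂w : gact n (qtv hF n d c₂ hQ₂) w₁ = w' := by
    rw [gact_qtv, ← hψ, hkey, hd]
    module
  refine ⟨qtv hF n d c₂ hQ₂ * qtv hF n u c₁ hQ₁, ?_, ?_, lam, ?_⟩
  · rw [Subgroup.coe_mul]
    exact M.mul_mem (tv_plane_mem hF h2 hdP hdiso c₂ hQ₂) (tv_plane_mem hF h2 huP huiso c₁ hQ₁)
  · intro y hy
    rw [gact_mul, tv_plane_fix hF huP c₁ hQ₁ y hy, tv_plane_fix hF hdP c₂ hQ₂ y hy]
  · rw [gact_mul, ht₁w, ht₂w, hw', zero_smul, add_zero]

include hF hMS h2 in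
/-- shrinking the support along a coordinate plane -/
theorem shrink_pair {a c : Fin n} (hac : a ≠ c) (x : Fin n → F)
    (hx : hermForm n F q x x = 0) (hxa : x a ≠ 0) (hxc : x c ≠ 0)
    (hN : x a * x a ^ q + x c * x c ^ q ≠ 0)
    (IH : ∀ y : Fin n → F, hermForm n F q y y = 0 →
      (Function.support y).ncard < (Function.support x).ncard → IsCentre hF n M y) :
    IsCentre hF n M x := by
  obtain ⟨z, hz, hxz, hzk⟩ := split_plane hac x
  obtain ⟨w, hw⟩ : ∃ w : Fin n → F,
      w = x a • (Pi.single a (1 : F) : Fin n → F) + x c • Pi.single c 1 := ⟨_, rfl⟩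
  rw [← hw] at hxz
  have hwP : w ∈ csub F (fun k : Fin n => k = a ∨ k = c) := by
    rw [hw]
    exact pair_mem_plane hac _ _
  have hwa : w a = x a := by
    rw [hw]
    exact pair_apply_left hac _ _
  have hwc : w c = x c := by
    rw [hw]
    exact pair_apply_right hac _ _
  have hνw : hermForm n F q w w ≠ 0 := by
    rw [herm_plane hac hwP, hwa, hwc]
    exact hN
  obtain ⟨g, hgM, hgfix, l, hgw⟩ := plane_reduce hF h2 hac w hwP hνw
  obtain ⟨w', hw'⟩ : ∃ w' : Fin n → F, w' = l • (Pi.single a (1 : F) : Fin n → F) := ⟨_, rfl⟩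
  rw [← hw'] at hgw
  have hw'k : ∀ k, k ≠ a → w' k = 0 := by
    intro k hka
    rw [hw', Pi.smul_apply, Pi.single_apply, if_neg hka, smul_zero]
  have hgx : gact n g x = w' + z := by
    rw [hxz, gact_add, hgw, hgfix z hz]
  have hiso' : hermForm n F q (w' + z) (w' + z) = 0 := by
    rw [← hgx, herm_gact]
    exact hx
  have hsub : Function.support (w' + z) ⊂ Function.support x := by
    refine ⟨?_, ?_⟩
    · intro k hk
      rw [Function.mem_support] at hk ⊢
      by_cases hka : k = a
      · rw [hka]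
        exact hxa
      by_cases hkc : k = c
      · exfalso
        apply hk
        rw [hkc, Pi.add_apply, hw'k c (Ne.symm hac), hz c (not_not.mpr (Or.inr rfl)), add_zero]
      · intro h0
        apply hk
        rw [Pi.add_apply, hw'k k hka, hzk k hka hkc, h0, add_zero]
    · intro hsup
      have h1 : c ∈ Function.support (w' + z) := hsup (Function.mem_support.mpr hxc)
      rw [Function.mem_support] at h1
      apply h1
      rw [Pi.add_apply, hw'k c (Ne.symm hac), hz c (not_not.mpr (Or.inr rfl)), add_zero]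
  have hcen := IH (w' + z) hiso' (Set.ncard_lt_ncard hsub (Set.toFinite _))
  have h3 := isCentre_gact hF hMS (g : Matrix.GeneralLinearGroup (Fin n) F)⁻¹ (M.inv_mem hgM) hcen
  have hgx' : ((g : Matrix.GeneralLinearGroup (Fin n) F) : Matrix (Fin n) (Fin n) F) *ᵥ x =
      w' + z := hgx
  rw [← hgx', mulVec_mulVec, ← Units.val_mul, inv_mul_cancel, Units.val_one, one_mulVec] at h3
  exact h3

include hF hMS h2 in
/-- all isotropic vectors are centres, by induction on the size of the support -/
theorem spread_aux (hq : 3 ≤ q) :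
    ∀ r : ℕ, ∀ x : Fin n → F, hermForm n F q x x = 0 →
      (Function.support x).ncard ≤ r → IsCentre hF n M x := by
  have hq0 := q_ne_zero hF
  intro r
  induction r with
  | zero =>
    intro x hx hr
    have h0 : (Function.support x).ncard = 0 := by omega
    rw [Set.ncard_eq_zero (Set.toFinite _), Function.support_eq_empty_iff] at h0
    rw [h0]
    exact isCentre_zero hF
  | succ r ih =>
    intro x hx hr
    have IH' : ∀ y : Fin n → F, hermForm n F q y y = 0 →
        (Function.support y).ncard < (Function.support x).ncard → IsCentre hF n M y :=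
      fun y hy hlt => ih y hy (by omega)
    by_cases h3 : 2 < (Function.support x).ncard
    · obtain ⟨a, ha, b, hb, c, hc, hab, hac, hbc⟩ := (Set.two_lt_ncard (Set.toFinite _)).mp h3
      rw [Function.mem_support] at ha hb hc
      by_cases h1 : x a * x a ^ q + x b * x b ^ q ≠ 0
      · exact shrink_pair hF hMS h2 hab x hx ha hb h1 IH'
      by_cases h2' : x a * x a ^ q + x c * x c ^ q ≠ 0
      · exact shrink_pair hF hMS h2 hac x hx ha hc h2' IH'
      push Not at h1 h2'
      -- the transvection step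
      obtain ⟨z, hz, hxz, hzk⟩ := split_plane hab x
      obtain ⟨w, hw⟩ : ∃ w : Fin n → F,
          w = x a • (Pi.single a (1 : F) : Fin n → F) + x b • Pi.single b 1 := ⟨_, rfl⟩
      rw [← hw] at hxz
      obtain ⟨P, hP⟩ : ∃ P, P = csub F (fun k : Fin n => k = a ∨ k = b) := ⟨_, rfl⟩
      have hOP : OrthoPair q P (perpS hF P) := by
        rw [hP]
        exact orthoPair_of_nondeg hF _ (csub_nondeg hF _)
      have hwP : w ∈ P := by
        rw [hw, hP]
        exact pair_mem_plane hab _ _
      have hwa : w a = x a := by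
        rw [hw]
        exact pair_apply_left hab _ _
      have hwb : w b = x b := by
        rw [hw]
        exact pair_apply_right hab _ _
      have hw0 : w ≠ 0 := by
        intro h0
        apply ha
        rw [← hwa, h0]
        rfl
      have hwiso : hermForm n F q w w = 0 := by
        rw [herm_plane hab (hP ▸ hwP), hwa, hwb]
        exact h1
      obtain ⟨u, huP, huiso, hwu⟩ := hOP.exists_partner hF w hwP hw0 hwiso
      have huP' : u ∈ csub F (fun k : Fin n => k = a ∨ k = b) := hP ▸ huP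
      have hzu : hermForm n F q z u = 0 := herm_symm_zero hF n (herm_csub hF huP' hz)
      have hxu : hermForm n F q x u = 1 := by
        rw [hxz, hermForm_add_left, hwu, hzu, add_zero]
      have hua : u a ≠ 0 := by
        intro h0
        have h4 := huiso
        rw [herm_plane hab huP', h0, zero_mul, zero_add] at h4
        have h5 : u b = 0 := by
          rcases mul_eq_zero.mp h4 with h6 | h6
          · exact h6
          · exact pow_eq_zero_iff hq0 |>.mp h6
        have h7 : u = 0 := by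
          funext k
          by_cases hka : k = a
          · rw [hka, h0]
            rfl
          by_cases hkb : k = b
          · rw [hkb, h5]
            rfl
          · exact huP' k (by
              intro h
              rcases h with h | h
              · exact hka h
              · exact hkb h)
        rw [h7, hermForm_zero_right hF] at hwu
        exact zero_ne_one hwu
      obtain ⟨τ, hτ0, hτ⟩ := exists_trace_zero hF
      obtain ⟨ν, hν, hν0, hν1⟩ := exists_fixed_ne hF hq
      obtain ⟨T, hT⟩ : ∃ T : F, T = u a * x a ^ q - x a * u a ^ q := ⟨_, rfl⟩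
      obtain ⟨K, hK⟩ : ∃ K : F, K = u a * u a ^ q := ⟨_, rfl⟩
      have hK0 : K ≠ 0 := by
        rw [hK]
        exact mul_ne_zero hua (pow_ne_zero q hua)
      obtain ⟨s, hs0, hsq, hsT⟩ : ∃ s : F, s ≠ 0 ∧ s ^ q = -s ∧ T - s * K ≠ 0 := by
        by_cases h5 : T - τ * K ≠ 0
        · exact ⟨τ, hτ0, hτ, h5⟩
        · push Not at h5
          refine ⟨ν * τ, mul_ne_zero hν0 hτ0, ?_, ?_⟩
          · rw [mul_pow, hν, hτ]
            ring
          · intro h6
            have h7 : (1 - ν) * (τ * K) = 0 := by linear_combination h6 - h5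
            rcases mul_eq_zero.mp h7 with h8 | h8
            · apply hν1
              linear_combination -h8
            · exact mul_ne_zero hτ0 hK0 h8
      have hQ : QCond n q u s := (qcond_iso n huiso s).mpr hsq
      have htM : ((qtv hF n u s hQ : ↥(Cfsg.GU n F q)) :
          Matrix.GeneralLinearGroup (Fin n) F) ∈ M := tv_plane_mem hF h2 huP' huiso s hQ
      obtain ⟨x', hx'⟩ : ∃ x' : Fin n → F, x' = x + (s * 1) • u := ⟨_, rfl⟩
      have htx : gact n (qtv hF n u s hQ) x = x' := by
        rw [gact_qtv, hxu, hx']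
      have hx'iso : hermForm n F q x' x' = 0 := by
        rw [← htx, herm_gact]
        exact hx
      have hx'a : x' a = x a + s * u a := by
        rw [hx', Pi.add_apply, Pi.smul_apply, smul_eq_mul, mul_one]
      have hx'k : ∀ k, k ≠ a → k ≠ b → x' k = x k := by
        intro k hka hkb
        rw [hx', Pi.add_apply, Pi.smul_apply, huP' k (by
          intro h
          rcases h with h | h
          · exact hka h
          · exact hkb h), smul_zero, add_zero]
      have hx'c : x' c = x c := hx'k c (Ne.symm hac) (Ne.symm hbc)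
      have hsub : Function.support x' ⊆ Function.support x := by
        intro k hk
        rw [Function.mem_support] at hk ⊢
        by_cases hka : k = a
        · rw [hka]
          exact ha
        by_cases hkb : k = b
        · rw [hkb]
          exact hb
        · rw [← hx'k k hka hkb]
          exact hk
      have hle : (Function.support x').ncard ≤ (Function.support x).ncard :=
        Set.ncard_le_ncard hsub (Set.toFinite _)
      have hcen : IsCentre hF n M x' := by
        by_cases hx'a0 : x' a = 0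
        · apply IH' x' hx'iso
          apply Set.ncard_lt_ncard _ (Set.toFinite _)
          refine ⟨hsub, ?_⟩
          intro hsup
          have h5 : a ∈ Function.support x' := hsup (Function.mem_support.mpr ha)
          rw [Function.mem_support] at h5
          exact h5 hx'a0
        · apply shrink_pair hF hMS h2 hac x' hx'iso hx'a0 (by rw [hx'c]; exact hc) _
            (fun y hy hlt => IH' y hy (by omega))
          have h5 : x' a * x' a ^ q + x' c * x' c ^ q = s * (T - s * K) := by
            rw [hx'c, hx'a, pow_q_add hF, mul_pow, hsq, hT, hK]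
            linear_combination h2'
          rw [h5]
          exact mul_ne_zero hs0 hsT
      have h2'' := isCentre_gact hF hMS
        ((qtv hF n u s hQ : ↥(Cfsg.GU n F q)) : Matrix.GeneralLinearGroup (Fin n) F)⁻¹
        (M.inv_mem htM) hcen
      have htx' : (((qtv hF n u s hQ : ↥(Cfsg.GU n F q)) :
          Matrix.GeneralLinearGroup (Fin n) F) : Matrix (Fin n) (Fin n) F) *ᵥ x = x' := htx
      rw [← htx', mulVec_mulVec, ← Units.val_mul, inv_mul_cancel, Units.val_one,
        one_mulVec] at h2''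
      exact h2''
    · -- support of size at most two
      by_cases hx0 : x = 0
      · rw [hx0]
        exact isCentre_zero hF
      obtain ⟨a, ha⟩ := Function.ne_iff.mp hx0
      have ha' : x a ≠ 0 := ha
      by_cases hb : ∃ b, b ≠ a ∧ x b ≠ 0
      · obtain ⟨b, hba, hb'⟩ := hb
        apply h2 a b x hx
        intro k hka hkb
        by_contra hk
        apply h3
        rw [Set.two_lt_ncard (Set.toFinite _)]
        exact ⟨a, Function.mem_support.mpr ha', b, Function.mem_support.mpr hb', k,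
          Function.mem_support.mpr hk, hba.symm, Ne.symm hka, Ne.symm hkb⟩
      · push Not at hb
        apply h2 a a x hx
        intro k hka _
        exact hb k hka

end spread

/-- (SP) if all isotropic vectors of weight at most two are centres, all isotropic vectors are -/
theorem spread_of_weight_two {F : Type*} [Field F] [Fintype F] {q n : ℕ}
    (hF : Fintype.card F = q ^ 2) (hn : 3 ≤ n) (hq : 3 ≤ q)
    {M : Subgroup (Matrix.GeneralLinearGroup (Fin n) F)}
    (hMS : M ≤ Cfsg.Agent.Lib.Helper8.UM.SUg n F q)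
    (h2 : ∀ a b : Fin n, ∀ v : Fin n → F, hermForm n F q v v = 0 →
      (∀ k, k ≠ a → k ≠ b → v k = 0) → IsCentre hF n M v) :
    ∀ v, hermForm n F q v v = 0 → IsCentre hF n M v :=
  fun v hv => spread_aux hF hMS h2 hq _ v hv le_rfl

end Cfsg.Agent.Lib.Helper7.UD
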