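import Mathlib
import Cfsg.Prelude
import Cfsg.Agent.Lib.Helper7.UD8
import Cfsg.Agent.Lib.Helper8.UM2
import Cfsg.Agent.Lib.Helper8.UM5

set_option autoImplicit false
set_option linter.unusedSectionVars false
set_option linter.unusedVariables false
open Cfsg

/-! Unitary decompositions, part 9: characteristic two, overgroups of the monomial subgroup of
the special unitary group; the calculus of the transvections `x ↦ x + f(x,w) w`. -/

namespace Cfsg.Agent.Lib.Helper7.UD

open Matrix Cfsg.Agent.Lib.Helper5.Herm Cfsg.Agent.Lib.Helper5.HermBridge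
  Cfsg.Agent.Lib.Helper5.HermTv Cfsg.Agent.Lib.Helper5.HermGen Cfsg.Agent.Lib.Helper5.HermEich
  Cfsg.Agent.Lib.Helper5.SUCentres Cfsg.Agent.Lib.Helper5.SpSingularMax
  Cfsg.Agent.Lib.Helper5.SUSingularMax Cfsg.Agent.Lib.Helper5.HermPair
open Cfsg.Agent.Lib.Helper8

variable {F : Type*} [Field F] [Fintype F] {q : ℕ} (hF : Fintype.card F = q ^ 2) {n : ℕ}

include hF in
/-- even `q` means characteristic two -/
theorem two_eq_zero_of_even (hq : Even q) : (2 : F) = 0 := by
  obtain ⟨p, j, hp, hc, hqp⟩ := exists_char_pow hF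
  have h2p : p = 2 := by
    have h2 : 2 ∣ p ^ j := by
      rw [← hqp]
      exact hq.two_dvd
    exact ((Nat.prime_dvd_prime_iff_eq Nat.prime_two hp).mp
      (Nat.Prime.dvd_of_dvd_pow Nat.prime_two h2)).symm
  subst h2p
  have := hc
  have := CharP.cast_eq_zero F 2
  exact_mod_cast this

include hF in
/-- a norm-one element avoiding at most `q` given values -/
theorem exists_mu_avoid {m : ℕ} (hm : m ≤ q) (v : Fin m → F) :
    ∃ β : F, β ^ (q + 1) = 1 ∧ ∀ a, β ≠ v a := by
  classical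
  have hcard : (Finset.image v Finset.univ).card < (UM.muF F q).card := by
    rw [UM.card_muF hF]
    have h1 := Finset.card_image_le (s := (Finset.univ : Finset (Fin m))) (f := v)
    rw [Finset.card_univ, Fintype.card_fin] at h1
    omega
  obtain ⟨β, hβ, hβn⟩ := Finset.exists_mem_notMem_of_card_lt_card hcard
  refine ⟨β, UM.mem_muF.mp hβ, fun a h => hβn ?_⟩
  rw [h]
  exact Finset.mem_image_of_mem v (Finset.mem_univ a)

/-- `w` is isotropic and `X` contains the unitary transvection `x ↦ x + f(x,w) w` -/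
def TT (n q : ℕ) (X : Subgroup (Matrix.GeneralLinearGroup (Fin n) F)) (w : Fin n → F) : Prop :=
  hermForm n F q w w = 0 ∧ ∃ g ∈ X, ∀ x : Fin n → F,
    (g : Matrix (Fin n) (Fin n) F) *ᵥ x = x + hermForm n F q x w • w

/-- the entries of the transvection `x ↦ x + f(x,w) w` -/
theorem tt_entry {g : Matrix.GeneralLinearGroup (Fin n) F} {w : Fin n → F}
    (hg : ∀ x : Fin n → F,
      (g : Matrix (Fin n) (Fin n) F) *ᵥ x = x + hermForm n F q x w • w) (a x : Fin n) :
    (g : Matrix (Fin n) (Fin n) F) a x = (if a = x then 1 else 0) + w x ^ q * w a := by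
  have h := congrFun (hg (Pi.single x 1)) a
  rw [Matrix.mulVec_single_one, Matrix.col_apply, Pi.add_apply, Pi.smul_apply,
    hermForm_single_left, Pi.single_apply, smul_eq_mul] at h
  exact h

section ctx

variable {X : Subgroup (Matrix.GeneralLinearGroup (Fin n) F)} (hX : UM.Ctx n F q X)

include hF hX in
/-- (i) the standard isotropic vectors of weight two -/
theorem tt_pair (h2F : (2 : F) = 0) {i j : Fin n} (hij : i ≠ j) (β : F)
    (hβ : β ^ (q + 1) = 1) :
    TT n q X ((1 : F) • (Pi.single i (1 : F) : Fin n → F) + β • Pi.single j 1) := by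
  have hq0 := q_ne_zero hF
  obtain ⟨w, hw⟩ : ∃ w : Fin n → F,
      w = (1 : F) • (Pi.single i (1 : F) : Fin n → F) + β • Pi.single j 1 := ⟨_, rfl⟩
  rw [← hw]
  have h11 : (1 : F) + 1 = 0 := by linear_combination h2F
  have hββ : β ^ q * β = 1 := by
    rw [← pow_succ]
    exact hβ
  have hwP : w ∈ csub F (fun k : Fin n => k = i ∨ k = j) := by
    rw [hw]
    exact pair_mem_plane hij _ _
  have hwi : w i = 1 := by
    rw [hw]
    exact pair_apply_left hij _ _
  have hwj : w j = β := by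
    rw [hw]
    exact pair_apply_right hij _ _
  have hwk : ∀ k, k ≠ i → k ≠ j → w k = 0 := by
    intro k hki hkj
    rw [hw]
    exact pair_apply_other hki hkj _ _
  have hiso : hermForm n F q w w = 0 := by
    rw [herm_plane hij hwP, hwi, hwj, one_pow, one_mul]
    linear_combination h11 + hββ
  have hQ : QCond n q w 1 := by
    rw [qcond_iso n hiso, one_pow]
    linear_combination h11
  have hact : ∀ x : Fin n → F,
      (((qtv hF n w 1 hQ : ↥(Cfsg.GU n F q)) : Matrix.GeneralLinearGroup (Fin n) F) :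
        Matrix (Fin n) (Fin n) F) *ᵥ x = x + hermForm n F q x w • w := by
    intro x
    have h := gact_qtv hF n w 1 hQ x
    rw [one_mul] at h
    exact h
  refine ⟨hiso, _, hX.mono _ ?_ (qtv_mem_SU hF w hiso 1 hQ), hact⟩
  intro x
  by_cases hxi : x = i
  · refine ⟨j, fun a ha => ?_⟩
    rw [tt_entry hact a x, hxi, hwi, one_pow, one_mul]
    by_cases hai : a = i
    · rw [if_pos hai, hai, hwi]
      exact h11
    · rw [if_neg hai, zero_add, hwk a hai ha]
  by_cases hxj : x = j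
  · refine ⟨i, fun a ha => ?_⟩
    rw [tt_entry hact a x, hxj, hwj]
    by_cases haj : a = j
    · rw [if_pos haj, haj, hwj]
      linear_combination h11 + hββ
    · rw [if_neg haj, zero_add, hwk a ha haj, mul_zero]
  · refine ⟨x, fun a ha => ?_⟩
    rw [tt_entry hact a x, if_neg ha, hwk x hxi hxj, zero_pow hq0, zero_mul, add_zero]

include hX in
/-- (ii) the action of `X` -/
theorem tt_act {w : Fin n → F} (hw : TT n q X w) {g : Matrix.GeneralLinearGroup (Fin n) F}
    (hg : g ∈ X) : TT n q X ((g : Matrix (Fin n) (Fin n) F) *ᵥ w) := by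
  have hgU : g ∈ Cfsg.GU n F q := (hX.le hg).1
  obtain ⟨hiso, t, ht, hact⟩ := hw
  have hgg : ∀ x : Fin n → F, (g : Matrix (Fin n) (Fin n) F) *ᵥ
      (((g⁻¹ : Matrix.GeneralLinearGroup (Fin n) F) : Matrix (Fin n) (Fin n) F) *ᵥ x) = x := by
    intro x
    rw [mulVec_mulVec, ← Units.val_mul, mul_inv_cancel, Units.val_one, one_mulVec]
  refine ⟨(UM.GU_herm hgU w w).trans hiso, g * t * g⁻¹,
    X.mul_mem (X.mul_mem hg ht) (X.inv_mem hg), fun x => ?_⟩
  have h1 : hermForm n F q
      (((g⁻¹ : Matrix.GeneralLinearGroup (Fin n) F) : Matrix (Fin n) (Fin n) F) *ᵥ x) w =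
      hermForm n F q x ((g : Matrix (Fin n) (Fin n) F) *ᵥ w) := by
    have h2 := UM.GU_herm hgU
      (((g⁻¹ : Matrix.GeneralLinearGroup (Fin n) F) : Matrix (Fin n) (Fin n) F) *ᵥ x) w
    rw [hgg] at h2
    exact h2.symm
  rw [Units.val_mul, Units.val_mul, ← mulVec_mulVec, ← mulVec_mulVec, hact, mulVec_add,
    mulVec_smul, hgg, h1]

/-- (iii) scalars of norm one -/
theorem tt_smul {w : Fin n → F} (hw : TT n q X w) (c : F) (hc : c ^ (q + 1) = 1) :
    TT n q X (c • w) := by
  obtain ⟨hiso, t, ht, hact⟩ := hw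
  refine ⟨by rw [hermForm_smul_left, hermForm_smul_right, hiso, mul_zero, mul_zero], t, ht,
    fun x => ?_⟩
  rw [hact, hermForm_smul_right, smul_smul]
  congr 2
  rw [pow_succ] at hc
  linear_combination (-(hermForm n F q x w)) * hc

include hX in
/-- (iv) the transvection of one vector applied to another -/
theorem tt_hyp {w w' : Fin n → F} (hw : TT n q X w) (hw' : TT n q X w') :
    TT n q X (w' + hermForm n F q w' w • w) := by
  obtain ⟨t, ht, hact⟩ := hw.2
  have h := tt_act hX hw' ht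
  rw [hact] at h
  exact h

/-- (T3) a vector of weight at least three with a zero coordinate gives a non-monomial element
fixing a basis vector -/
theorem tt_witness (hq0 : q ≠ 0) {w : Fin n → F} (hw : TT n q X w) {a b c z : Fin n}
    (hab : a ≠ b) (hac : a ≠ c) (hbc : b ≠ c)
    (ha : w a ≠ 0) (hb : w b ≠ 0) (hc : w c ≠ 0) (hz : w z = 0) :
    ∃ g ∈ X, ¬ Mono.IsMono (g : Matrix (Fin n) (Fin n) F) ∧
      ∃ b' : Fin n, ∀ i, i ≠ b' → (g : Matrix (Fin n) (Fin n) F) i b' = 0 := by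
  obtain ⟨hiso, g, hg, hact⟩ := hw
  refine ⟨g, hg, ?_, z, ?_⟩
  · intro hmono
    obtain ⟨i₀, hi₀⟩ := hmono a
    have hba : (g : Matrix (Fin n) (Fin n) F) b a ≠ 0 := by
      rw [tt_entry hact b a, if_neg (Ne.symm hab), zero_add]
      exact mul_ne_zero (pow_ne_zero q ha) hb
    have hca : (g : Matrix (Fin n) (Fin n) F) c a ≠ 0 := by
      rw [tt_entry hact c a, if_neg (Ne.symm hac), zero_add]
      exact mul_ne_zero (pow_ne_zero q ha) hc
    by_cases hbi : b = i₀
    · apply hca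
      apply hi₀ c
      rw [← hbi]
      exact Ne.symm hbc
    · exact hba (hi₀ b hbi)
  · intro i hi
    rw [tt_entry hact i z, if_neg hi, hz, zero_pow hq0, zero_mul, add_zero]

include hF hX in
/-- (T1) for `q ≥ 3` a non-monomial element of `X` gives a vector of weight at least three -/
theorem tt_exists_three (h2F : (2 : F) = 0) (hq3 : 3 ≤ q) (hn : 3 ≤ n)
    (hne : ∃ g ∈ X, ¬ Mono.IsMono (g : Matrix (Fin n) (Fin n) F)) :
    ∃ w : Fin n → F, TT n q X w ∧ ∃ a b c : Fin n, a ≠ b ∧ a ≠ c ∧ b ≠ c ∧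
      w a ≠ 0 ∧ w b ≠ 0 ∧ w c ≠ 0 := by
  obtain ⟨z, hz, hzm⟩ := hne
  -- a column with two non-zero entries
  obtain ⟨i, hi⟩ : ∃ i : Fin n, ∀ i₀ : Fin n, ∃ i', i' ≠ i₀ ∧
      (z : Matrix (Fin n) (Fin n) F) i' i ≠ 0 := by
    by_contra hcon
    push Not at hcon
    apply hzm
    intro j
    obtain ⟨i₀, hi₀⟩ := hcon j
    exact ⟨i₀, hi₀⟩
  obtain ⟨a, -, ha⟩ := hi i
  obtain ⟨b, hba, hb⟩ := hi a
  -- a third row
  obtain ⟨c, hca, hcb⟩ : ∃ c : Fin n, c ≠ a ∧ c ≠ b := by
    have hcard : ({a, b} : Finset (Fin n)).card < (Finset.univ : Finset (Fin n)).card := by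
      rw [Finset.card_univ, Fintype.card_fin]
      have := Finset.card_le_two (a := a) (b := b)
      omega
    obtain ⟨c, -, hc⟩ := Finset.exists_mem_notMem_of_card_lt_card hcard
    rw [Finset.mem_insert, Finset.mem_singleton] at hc
    push Not at hc
    exact ⟨c, hc.1, hc.2⟩
  obtain ⟨j, hj⟩ : ∃ j : Fin n, (z : Matrix (Fin n) (Fin n) F) c j ≠ 0 := by
    by_contra hcon
    push Not at hcon
    have h1 : ((z : Matrix (Fin n) (Fin n) F) *
        ((z⁻¹ : Matrix.GeneralLinearGroup (Fin n) F) : Matrix (Fin n) (Fin n) F)) c c = 1 := by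
      rw [← Units.val_mul, mul_inv_cancel, Units.val_one, Matrix.one_apply_eq]
    rw [Matrix.mul_apply, Finset.sum_eq_zero (fun j _ => by rw [hcon j, zero_mul])] at h1
    exact zero_ne_one h1
  obtain ⟨j', hj'i, hrow⟩ : ∃ j' : Fin n, j' ≠ i ∧
      ((z : Matrix (Fin n) (Fin n) F) c i ≠ 0 ∨ (z : Matrix (Fin n) (Fin n) F) c j' ≠ 0) := by
    by_cases hji : j = i
    · obtain ⟨j', hj'⟩ : ∃ j' : Fin n, j' ≠ i := by
        by_cases h0 : i.val = 0
        · refine ⟨⟨1, by omega⟩, ?_⟩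
          intro h
          have h' := congrArg Fin.val h
          simp at h'
          omega
        · refine ⟨⟨0, by omega⟩, ?_⟩
          intro h
          have h' := congrArg Fin.val h
          simp at h'
          omega
      exact ⟨j', hj', Or.inl (hji ▸ hj)⟩
    · exact ⟨j, hji, Or.inr hj⟩
  -- choice of the scalar
  obtain ⟨β, hβ, hβv⟩ := exists_mu_avoid hF (m := 3) hq3
    ![-(z : Matrix (Fin n) (Fin n) F) a i * ((z : Matrix (Fin n) (Fin n) F) a j')⁻¹,
      -(z : Matrix (Fin n) (Fin n) F) b i * ((z : Matrix (Fin n) (Fin n) F) b j')⁻¹,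
      -(z : Matrix (Fin n) (Fin n) F) c i * ((z : Matrix (Fin n) (Fin n) F) c j')⁻¹]
  have hβ0 : β ≠ 0 := UM.mu_ne_zero hβ
  have hβa : β ≠ -(z : Matrix (Fin n) (Fin n) F) a i *
      ((z : Matrix (Fin n) (Fin n) F) a j')⁻¹ := hβv 0
  have hβb : β ≠ -(z : Matrix (Fin n) (Fin n) F) b i *
      ((z : Matrix (Fin n) (Fin n) F) b j')⁻¹ := hβv 1
  have hβc : β ≠ -(z : Matrix (Fin n) (Fin n) F) c i *
      ((z : Matrix (Fin n) (Fin n) F) c j')⁻¹ := hβv 2
  have key : ∀ k : Fin n, ((z : Matrix (Fin n) (Fin n) F) k i ≠ 0 ∨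
      (z : Matrix (Fin n) (Fin n) F) k j' ≠ 0) →
      β ≠ -(z : Matrix (Fin n) (Fin n) F) k i * ((z : Matrix (Fin n) (Fin n) F) k j')⁻¹ →
      (z : Matrix (Fin n) (Fin n) F) k i + β * (z : Matrix (Fin n) (Fin n) F) k j' ≠ 0 := by
    intro k hk hβk h0
    by_cases hkj : (z : Matrix (Fin n) (Fin n) F) k j' = 0
    · rw [hkj, mul_zero, add_zero] at h0
      rcases hk with hk | hk
      · exact hk h0
      · exact hk hkj
    · apply hβk
      field_simp
      linear_combination h0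
  obtain ⟨u, hu⟩ : ∃ u : Fin n → F,
      u = (1 : F) • (Pi.single i (1 : F) : Fin n → F) + β • Pi.single j' 1 := ⟨_, rfl⟩
  have huT : TT n q X u := by
    rw [hu]
    exact tt_pair hF hX h2F (Ne.symm hj'i) β hβ
  have hzu : ∀ k : Fin n, ((z : Matrix (Fin n) (Fin n) F) *ᵥ u) k =
      (z : Matrix (Fin n) (Fin n) F) k i + β * (z : Matrix (Fin n) (Fin n) F) k j' := by
    intro k
    rw [hu, mulVec_add, mulVec_smul, mulVec_smul, Matrix.mulVec_single_one,
      Matrix.mulVec_single_one, Pi.add_apply, Pi.smul_apply, Pi.smul_apply, Matrix.col_apply,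
      Matrix.col_apply, smul_eq_mul, smul_eq_mul, one_mul]
  refine ⟨(z : Matrix (Fin n) (Fin n) F) *ᵥ u, tt_act hX huT hz, a, b, c, Ne.symm hba,
    Ne.symm hca, Ne.symm hcb, ?_, ?_, ?_⟩
  · rw [hzu]
    exact key a (Or.inl ha) hβa
  · rw [hzu]
    exact key b (Or.inl hb) hβb
  · rw [hzu]
    exact key c hrow hβc

end ctx

end Cfsg.Agent.Lib.Helper7.UD
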