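import Mathlib
import Cfsg.Prelude
import Cfsg.Agent.Lib.Helper7.UD9

set_option autoImplicit false
set_option linter.unusedSectionVars false
set_option linter.unusedVariables false
open Cfsg

/-! Unitary decompositions, part 10: `q ≥ 4` even; a proper overgroup of the monomial subgroup
of the special unitary group contains a non-monomial element fixing a basis vector. -/

namespace Cfsg.Agent.Lib.Helper7.UD

open Matrix Cfsg.Agent.Lib.Helper5.Herm Cfsg.Agent.Lib.Helper5.HermBridge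
  Cfsg.Agent.Lib.Helper5.HermTv Cfsg.Agent.Lib.Helper5.HermGen Cfsg.Agent.Lib.Helper5.HermEich
  Cfsg.Agent.Lib.Helper5.SUCentres Cfsg.Agent.Lib.Helper5.SpSingularMax
  Cfsg.Agent.Lib.Helper5.SUSingularMax Cfsg.Agent.Lib.Helper5.HermPair
open Cfsg.Agent.Lib.Helper8

variable {F : Type*} [Field F] [Fintype F] {q : ℕ} (hF : Fintype.card F = q ^ 2) {n : ℕ}

include hF in
/-- the four-term lemma in functional form -/
theorem four_term_fin (c : Fin 4 → F) (hc : ∀ a, c a ≠ 0) (s : F) :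
    ∃ t : Fin 4 → F, (∀ a, t a ^ (q + 1) = 1) ∧ ∑ a, t a * c a = s := by
  obtain ⟨t₁, t₂, t₃, t₄, u₁, u₂, u₃, u₄, h1, h2, h3, h4, -, -, -, -, hs, -, -⟩ :=
    UM.four_term hF (c 0) (c 1) (c 2) (c 3) (hc 0) (hc 1) (hc 2) (hc 3) s
  refine ⟨![t₁, t₂, t₃, t₄], ?_, ?_⟩
  · intro a
    fin_cases a
    · exact h1
    · exact h2
    · exact h3
    · exact h4
  · rw [Fin.sum_univ_four]
    exact hs

/-- fourth roots of norm-one elements (`q` even) -/
theorem exists_fourth_root (hq : Even q) (u : F) (hu : u ^ (q + 1) = 1) :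
    ∃ β : F, β ^ (q + 1) = 1 ∧ β ^ 4 = u := by
  obtain ⟨j, hj⟩ := hq
  refine ⟨u ^ ((j + 1) * (j + 1)), ?_, ?_⟩
  · rw [← pow_mul, mul_comm, pow_mul, hu, one_pow]
  · rw [← pow_mul]
    have h : (j + 1) * (j + 1) * 4 = (q + 1) * (q + 3) + 1 := by
      rw [hj]
      ring
    rw [h, pow_succ, pow_mul, hu, one_pow, one_mul]

theorem sum_blocks {r : ℕ} (g : Fin (4 + (4 + (4 + r))) → F) :
    ∑ k, g k = ∑ a : Fin 4, g (Fin.castAdd _ a) +
      (∑ a : Fin 4, g (Fin.natAdd 4 (Fin.castAdd _ a)) +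
        (∑ a : Fin 4, g (Fin.natAdd 4 (Fin.natAdd 4 (Fin.castAdd r a))) +
          ∑ j : Fin r, g (Fin.natAdd 4 (Fin.natAdd 4 (Fin.natAdd 4 j))))) := by
  rw [Fin.sum_univ_add, Fin.sum_univ_add (fun i => g (Fin.natAdd 4 i)),
    Fin.sum_univ_add (fun i => g (Fin.natAdd 4 (Fin.natAdd 4 i)))]

theorem prod_blocks {r : ℕ} (g : Fin (4 + (4 + (4 + r))) → F) :
    ∏ k, g k = (∏ a : Fin 4, g (Fin.castAdd _ a)) *
      ((∏ a : Fin 4, g (Fin.natAdd 4 (Fin.castAdd _ a))) *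
        ((∏ a : Fin 4, g (Fin.natAdd 4 (Fin.natAdd 4 (Fin.castAdd r a)))) *
          ∏ j : Fin r, g (Fin.natAdd 4 (Fin.natAdd 4 (Fin.natAdd 4 j))))) := by
  rw [Fin.prod_univ_add, Fin.prod_univ_add (fun i => g (Fin.natAdd 4 i)),
    Fin.prod_univ_add (fun i => g (Fin.natAdd 4 (Fin.natAdd 4 i)))]

theorem prod_mu {m : ℕ} (t : Fin m → F) (ht : ∀ a, t a ^ (q + 1) = 1) :
    (∏ a, t a) ^ (q + 1) = 1 := by
  rw [← Finset.prod_pow]
  exact Finset.prod_eq_one (fun a _ => ht a)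

section ctx

variable {X : Subgroup (Matrix.GeneralLinearGroup (Fin n) F)} (hX : UM.Ctx n F q X)

include hF hX in
/-- (T2) a vector of full support gives a vector of weight at least three with a zero
coordinate -/
theorem tt_full_support (hq : Even q) (h4 : 4 ≤ q) (hn : 13 ≤ n) {w : Fin n → F}
    (hw : TT n q X w) (hfull : ∀ k, w k ≠ 0) :
    ∃ w' : Fin n → F, TT n q X w' ∧ ∃ a b c z : Fin n, a ≠ b ∧ a ≠ c ∧ b ≠ c ∧
      w' a ≠ 0 ∧ w' b ≠ 0 ∧ w' c ≠ 0 ∧ w' z = 0 := by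
  obtain ⟨r, rfl⟩ : ∃ r, n = 4 + (4 + (4 + r)) := ⟨n - 12, by omega⟩
  have h2F : (2 : F) = 0 := two_eq_zero_of_even hF hq
  have h11 : (1 : F) + 1 = 0 := by linear_combination h2F
  have hq0 := q_ne_zero hF
  obtain ⟨ν, hν⟩ : ∃ ν : Fin (4 + (4 + (4 + r))) → F, ν = fun k => w k * w k ^ q := ⟨_, rfl⟩
  have hν0 : ∀ k, ν k ≠ 0 := by
    intro k
    rw [hν]
    exact mul_ne_zero (hfull k) (pow_ne_zero q (hfull k))
  have hνsum : ∑ k, ν k = 0 := by
    rw [hν]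
    exact hw.1
  obtain ⟨x, hxmu, hxs⟩ := four_term_fin hF (fun a => ν (Fin.castAdd _ a)) (fun a => hν0 _)
    (1 + (∑ a : Fin 4, ν (Fin.castAdd _ a) +
      (∑ a : Fin 4, ν (Fin.natAdd 4 (Fin.castAdd _ a)) +
        ∑ a : Fin 4, ν (Fin.natAdd 4 (Fin.natAdd 4 (Fin.castAdd r a))))))
  obtain ⟨y, hymu, hys⟩ := four_term_fin hF (fun a => ν (Fin.natAdd 4 (Fin.castAdd _ a)))
    (fun a => hν0 _) 0
  obtain ⟨z, hzmu, hzs⟩ := four_term_fin hF
    (fun a => ν (Fin.natAdd 4 (Fin.natAdd 4 (Fin.castAdd r a)))) (fun a => hν0 _) 0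
  obtain ⟨β1, hβ1, hβ1y⟩ := exists_mu_avoid hF (m := 4) h4 (fun a => (y a)⁻¹)
  have hβ1y' : ∀ a, β1 * y a + 1 ≠ 0 := by
    intro a h
    apply hβ1y a
    apply eq_inv_of_mul_eq_one_left
    linear_combination h - h11
  obtain ⟨P, hP⟩ : ∃ P : F, P = (∏ a, x a) * (β1 ^ 4 * ∏ a, y a) * ∏ a, z a := ⟨_, rfl⟩
  have hPmu : P ^ (q + 1) = 1 := by
    rw [hP]
    exact UM.mu_mul (UM.mu_mul (prod_mu x hxmu) (UM.mu_mul (by
      rw [← pow_mul, mul_comm, pow_mul, hβ1, one_pow]) (prod_mu y hymu))) (prod_mu z hzmu)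
  have hP0 : P ≠ 0 := UM.mu_ne_zero hPmu
  obtain ⟨β2, hβ2, hβ2P⟩ := exists_fourth_root hq P⁻¹ (UM.mu_inv hPmu)
  obtain ⟨τ, hτ⟩ : ∃ τ : Fin (4 + (4 + (4 + r))) → F,
      τ = Fin.addCases (motive := fun _ => F) x
        (Fin.addCases (motive := fun _ => F) (fun a => β1 * y a)
          (Fin.addCases (motive := fun _ => F) (fun a => β2 * z a) (fun _ => (1 : F)))) :=
    ⟨_, rfl⟩
  have hτ0 : ∀ a, τ (Fin.castAdd _ a) = x a := by
    intro a
    rw [hτ, Fin.addCases_left]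
  have hτ1 : ∀ a, τ (Fin.natAdd 4 (Fin.castAdd _ a)) = β1 * y a := by
    intro a
    rw [hτ, Fin.addCases_right, Fin.addCases_left]
  have hτ2 : ∀ a, τ (Fin.natAdd 4 (Fin.natAdd 4 (Fin.castAdd r a))) = β2 * z a := by
    intro a
    rw [hτ, Fin.addCases_right, Fin.addCases_right, Fin.addCases_left]
  have hτ3 : ∀ j, τ (Fin.natAdd 4 (Fin.natAdd 4 (Fin.natAdd 4 j))) = 1 := by
    intro j
    rw [hτ, Fin.addCases_right, Fin.addCases_right, Fin.addCases_right]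
  have hτmu : ∀ k, τ k ^ (q + 1) = 1 := by
    intro k
    induction k using Fin.addCases with
    | left a =>
      rw [hτ0]
      exact hxmu a
    | right k1 =>
      induction k1 using Fin.addCases with
      | left a =>
        rw [hτ1]
        exact UM.mu_mul hβ1 (hymu a)
      | right k2 =>
        induction k2 using Fin.addCases with
        | left a =>
          rw [hτ2]
          exact UM.mu_mul hβ2 (hzmu a)
        | right j =>
          rw [hτ3]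
          exact one_pow _
  have hdet : ∏ k, τ k = 1 := by
    rw [prod_blocks]
    simp only [hτ0, hτ1, hτ2, hτ3]
    rw [Finset.prod_mul_distrib, Finset.prod_mul_distrib, Finset.prod_const, Finset.prod_const,
      Finset.prod_const_one, Finset.card_univ, Fintype.card_fin, hβ2P, mul_one]
    have h1 : P * P⁻¹ = 1 := mul_inv_cancel₀ hP0
    linear_combination h1 - P⁻¹ * hP
  have hc : ∑ k, τ k * ν k = 1 := by
    rw [sum_blocks]
    simp only [hτ0, hτ1, hτ2, hτ3]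
    have e1 : ∑ a : Fin 4, β1 * y a * ν (Fin.natAdd 4 (Fin.castAdd _ a)) =
        β1 * ∑ a : Fin 4, y a * ν (Fin.natAdd 4 (Fin.castAdd _ a)) := by
      rw [Finset.mul_sum]
      exact Finset.sum_congr rfl (fun a _ => mul_assoc _ _ _)
    have e2 : ∑ a : Fin 4, β2 * z a * ν (Fin.natAdd 4 (Fin.natAdd 4 (Fin.castAdd r a))) =
        β2 * ∑ a : Fin 4, z a * ν (Fin.natAdd 4 (Fin.natAdd 4 (Fin.castAdd r a))) := by
      rw [Finset.mul_sum]
      exact Finset.sum_congr rfl (fun a _ => mul_assoc _ _ _)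
    rw [e1, e2, hxs, hys, hzs]
    have h0 := hνsum
    rw [sum_blocks] at h0
    simp only [one_mul]
    linear_combination h0
  obtain ⟨dw, hdw⟩ : ∃ dw : Fin (4 + (4 + (4 + r))) → F, dw = fun k => τ k * w k := ⟨_, rfl⟩
  have hdwT : TT (4 + (4 + (4 + r))) q X dw := by
    have h := tt_act hX hw (UM.dgm_mem hF hX τ hτmu hdet)
    rw [UM.dgm_mulVec] at h
    rw [hdw]
    exact h
  have hcc : hermForm (4 + (4 + (4 + r))) F q dw w = 1 := by
    rw [← hc, hdw, hν]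
    exact Finset.sum_congr rfl (fun k _ => mul_assoc _ _ _)
  have h3 := tt_hyp hX hw hdwT
  rw [hcc, one_smul] at h3
  have hval : ∀ k, (dw + w) k = (τ k + 1) * w k := by
    intro k
    rw [Pi.add_apply, hdw]
    ring
  have hr : 0 < r := by omega
  refine ⟨dw + w, h3, Fin.natAdd 4 (Fin.castAdd _ 0), Fin.natAdd 4 (Fin.castAdd _ 1),
    Fin.natAdd 4 (Fin.castAdd _ 2), Fin.natAdd 4 (Fin.natAdd 4 (Fin.natAdd 4 ⟨0, hr⟩)),
    ?_, ?_, ?_, ?_, ?_, ?_, ?_⟩
  · intro h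
    exact absurd (Fin.castAdd_inj.mp ((Fin.natAdd_inj 4).mp h)) (by decide)
  · intro h
    exact absurd (Fin.castAdd_inj.mp ((Fin.natAdd_inj 4).mp h)) (by decide)
  · intro h
    exact absurd (Fin.castAdd_inj.mp ((Fin.natAdd_inj 4).mp h)) (by decide)
  · rw [hval, hτ1]
    exact mul_ne_zero (hβ1y' 0) (hfull _)
  · rw [hval, hτ1]
    exact mul_ne_zero (hβ1y' 1) (hfull _)
  · rw [hval, hτ1]
    exact mul_ne_zero (hβ1y' 2) (hfull _)
  · rw [hval, hτ3, h11, zero_mul]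

end ctx

/-- (EV) for even `q ≥ 4`, a proper overgroup of the monomial subgroup of the special unitary
group contains a non-monomial element fixing a basis vector up to a scalar -/
theorem mono_even {F : Type*} [Field F] [Fintype F] {q n : ℕ}
    (hF : Fintype.card F = q ^ 2) (hq : Even q) (h4 : 4 ≤ q) (hn : 13 ≤ n)
    {X : Subgroup (Matrix.GeneralLinearGroup (Fin n) F)} (hX : UM.Ctx n F q X)
    (hne : ∃ g ∈ X, ¬ Mono.IsMono (g : Matrix (Fin n) (Fin n) F)) :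
    ∃ g ∈ X, ¬ Mono.IsMono (g : Matrix (Fin n) (Fin n) F) ∧
      ∃ b : Fin n, ∀ i, i ≠ b → (g : Matrix (Fin n) (Fin n) F) i b = 0 := by
  have h2F : (2 : F) = 0 := two_eq_zero_of_even hF hq
  have hq0 := q_ne_zero hF
  obtain ⟨w, hw, a, b, c, hab, hac, hbc, ha, hb, hc⟩ :=
    tt_exists_three hF hX h2F (by omega) (by omega) hne
  by_cases hfull : ∀ k, w k ≠ 0
  · obtain ⟨w', hw', a', b', c', z, h1, h2, h3, h4', h5, h6, h7⟩ :=
      tt_full_support hF hX hq h4 hn hw hfull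
    exact tt_witness hq0 hw' h1 h2 h3 h4' h5 h6 h7
  · push Not at hfull
    obtain ⟨z, hz⟩ := hfull
    exact tt_witness hq0 hw hab hac hbc ha hb hc hz

end Cfsg.Agent.Lib.Helper7.UD
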