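import Mathlib
import Cfsg.Prelude
import Cfsg.Agent.Lib.Helper7.UD10

set_option autoImplicit false
set_option linter.unusedSectionVars false
set_option linter.unusedVariables false
open Cfsg

/-! Unitary decompositions, part 11: sparse vectors, diagonal scalings, and the field with four
elements. -/

namespace Cfsg.Agent.Lib.Helper7.UD

open Matrix Cfsg.Agent.Lib.Helper5.Herm Cfsg.Agent.Lib.Helper5.HermBridge
  Cfsg.Agent.Lib.Helper5.HermTv Cfsg.Agent.Lib.Helper5.HermGen Cfsg.Agent.Lib.Helper5.HermEich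
  Cfsg.Agent.Lib.Helper5.SUCentres Cfsg.Agent.Lib.Helper5.SpSingularMax
  Cfsg.Agent.Lib.Helper5.SUSingularMax Cfsg.Agent.Lib.Helper5.HermPair
open Cfsg.Agent.Lib.Helper8
open scoped Classical

variable {F : Type*} [Field F] [Fintype F] {q : ℕ} (hF : Fintype.card F = q ^ 2) {n : ℕ}

/-- the vector with entries `c i` at the positions `k i` -/
def sv {m : ℕ} (k : Fin m → Fin n) (c : Fin m → F) : Fin n → F :=
  fun b => ∑ i, if b = k i then c i else 0

theorem sv_apply_self {m : ℕ} {k : Fin m → Fin n} (hk : Function.Injective k) (c : Fin m → F)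
    (j : Fin m) : sv k c (k j) = c j := by
  unfold sv
  rw [Finset.sum_eq_single j]
  · rw [if_pos rfl]
  · intro i _ hij
    rw [if_neg]
    intro h
    exact hij (hk h).symm
  · intro h
    exact absurd (Finset.mem_univ j) h

theorem sv_apply_of_ne {m : ℕ} {k : Fin m → Fin n} (c : Fin m → F) {b : Fin n}
    (h : ∀ i, b ≠ k i) : sv k c b = 0 := by
  unfold sv
  exact Finset.sum_eq_zero (fun i _ => if_neg (h i))

theorem herm_sv_left {m : ℕ} (k : Fin m → Fin n) (c : Fin m → F) (v : Fin n → F) :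
    hermForm n F q (sv k c) v = ∑ i, c i * v (k i) ^ q := by
  unfold hermForm sv
  simp only [Finset.sum_mul]
  rw [Finset.sum_comm]
  refine Finset.sum_congr rfl (fun i _ => ?_)
  simp only [ite_mul, zero_mul]
  rw [Finset.sum_ite_eq']
  simp

section ctx

variable {X : Subgroup (Matrix.GeneralLinearGroup (Fin n) F)} (hX : UM.Ctx n F q X)

include hF hX in
/-- the action of the diagonal matrices with entries `A j` at the positions `B j` -/
theorem tt_diag (h2F : (2 : F) = 0) {w : Fin n → F} (hw : TT n q X w) {m : ℕ}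
    {B : Fin m → Fin n} (hB : Function.Injective B) (A : Fin m → F)
    (hA : ∀ j, A j ^ (q + 1) = 1) (hAprod : ∏ j, A j = 1) :
    TT n q X (w + sv B (fun j => (A j + 1) * w (B j))) := by
  obtain ⟨τ, hτ⟩ : ∃ τ : Fin n → F, τ = fun b => ∏ j, if b = B j then A j else 1 := ⟨_, rfl⟩
  have hτself : ∀ j, τ (B j) = A j := by
    intro j
    rw [hτ]
    show (∏ i, if B j = B i then A i else 1) = A j
    rw [Finset.prod_eq_single j]
    · rw [if_pos rfl]
    · intro i _ hij
      rw [if_neg]
      intro h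
      exact hij (hB h).symm
    · intro h
      exact absurd (Finset.mem_univ j) h
  have hτne : ∀ b, (∀ j, b ≠ B j) → τ b = 1 := by
    intro b hb
    rw [hτ]
    exact Finset.prod_eq_one (fun j _ => if_neg (hb j))
  have hτmu : ∀ b, τ b ^ (q + 1) = 1 := by
    intro b
    rw [hτ]
    apply prod_mu
    intro j
    split_ifs
    · exact hA j
    · exact one_pow _
  have hdet : ∏ b, τ b = 1 := by
    rw [hτ]
    show ∏ b, ∏ j, (if b = B j then A j else 1) = 1
    rw [Finset.prod_comm]
    refine Eq.trans ?_ hAprod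
    refine Finset.prod_congr rfl (fun j _ => ?_)
    rw [Finset.prod_ite_eq' Finset.univ (B j) (fun _ => A j), if_pos (Finset.mem_univ _)]
  have h := tt_act hX hw (UM.dgm_mem hF hX τ hτmu hdet)
  rw [UM.dgm_mulVec] at h
  have e : (fun a => τ a * w a) = w + sv B (fun j => (A j + 1) * w (B j)) := by
    funext b
    by_cases hb : ∃ j, b = B j
    · obtain ⟨j, rfl⟩ := hb
      rw [Pi.add_apply, sv_apply_self hB, hτself]
      linear_combination (-(w (B j))) * h2F
    · push Not at hb
      rw [Pi.add_apply, sv_apply_of_ne _ hb, hτne b hb, one_mul, add_zero]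
  rw [e] at h
  exact h

include hX in
theorem tt_zero : TT n q X (0 : Fin n → F) := by
  refine ⟨hermForm_zero_left n q 0, 1, X.one_mem, fun x => ?_⟩
  rw [Units.val_one, one_mulVec, smul_zero, add_zero]

end ctx

/-! ### the field with four elements -/

section four

variable (hF4 : Fintype.card F = 2 ^ 2)

include hF4 in
theorem cube_eq_one {x : F} (hx : x ≠ 0) : x ^ 3 = 1 := by
  have h := FiniteField.pow_card_sub_one_eq_one x hx
  rw [hF4] at h
  exact h

include hF4 in
theorem norm_eq_one {x : F} (hx : x ≠ 0) : x * x ^ 2 = 1 := by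
  rw [← cube_eq_one hF4 hx]
  ring

include hF4 in
/-- a primitive cube root of unity -/
theorem exists_omega : ∃ ω : F, ω ≠ 0 ∧ ω ≠ 1 ∧ ω ^ 2 + ω + 1 = 0 := by
  obtain ⟨t, ht⟩ := exists_not_fixed hF4
  have h0 : t ≠ 0 := by
    rintro rfl
    apply ht
    rw [zero_pow two_ne_zero]
  have h1 : t ≠ 1 := by
    rintro rfl
    apply ht
    rw [one_pow]
  refine ⟨t, h0, h1, ?_⟩
  have h3 := cube_eq_one hF4 h0
  have h4 : (t - 1) * (t ^ 2 + t + 1) = 0 := by linear_combination h3
  exact (mul_eq_zero.mp h4).resolve_left (sub_ne_zero.mpr h1)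

include hF4 in
/-- the norm of a vector is the parity of its weight -/
theorem herm_self_eq_card (w : Fin n → F) :
    hermForm n F 2 w w = ((Finset.univ.filter (fun k => w k ≠ 0)).card : F) := by
  rw [Finset.natCast_card_filter]
  unfold hermForm
  refine Finset.sum_congr rfl (fun k _ => ?_)
  by_cases hk : w k = 0
  · rw [if_neg (not_not.mpr hk), hk, zero_mul]
  · rw [if_pos hk, norm_eq_one hF4 hk]

include hF4 in
theorem even_weight {w : Fin n → F} (hw : hermForm n F 2 w w = 0) :
    Even (Finset.univ.filter (fun k => w k ≠ 0)).card := by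
  have h2F : (2 : F) = 0 := two_eq_zero_of_even hF4 even_two
  have : CharP F 2 := CharTwo.of_one_ne_zero_of_two_eq_zero one_ne_zero h2F
  rw [herm_self_eq_card hF4] at hw
  exact even_iff_two_dvd.mpr ((CharP.cast_eq_zero_iff F 2 _).mp hw)

include hF4 in
/-- among four elements of the field some non-zero value is taken at most once -/
theorem exists_rare (v : Fin 4 → F) :
    ∃ β : F, β ≠ 0 ∧ ∀ s t, v s = β → v t = β → s = t := by
  classical
  by_contra hcon
  push Not at hcon
  have h1 : ∀ β ∈ UM.muF F 2, 2 ≤ (Finset.univ.filter (fun s : Fin 4 => v s = β)).card := by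
    intro β hβ
    obtain ⟨s, t, hs, ht, hst⟩ := hcon β (UM.mu_ne_zero (UM.mem_muF.mp hβ))
    exact Finset.one_lt_card.mpr ⟨s, by simp [hs], t, by simp [ht], hst⟩
  have h2 : ∑ β ∈ UM.muF F 2, (Finset.univ.filter (fun s : Fin 4 => v s = β)).card ≤ 4 := by
    rw [← Finset.card_biUnion]
    · calc _ ≤ (Finset.univ : Finset (Fin 4)).card := Finset.card_le_card (Finset.subset_univ _)
        _ = 4 := by simp
    · intro β _ β' _ hne
      rw [Function.onFun, Finset.disjoint_left]
      intro s hs hs'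
      rw [Finset.mem_filter] at hs hs'
      exact hne (hs.2.symm.trans hs'.2)
  have h3 := Finset.card_nsmul_le_sum (UM.muF F 2) _ 2 h1
  rw [UM.card_muF hF4, smul_eq_mul] at h3
  omega

end four

/-- four distinct elements of a finset with at least four elements -/
theorem exists_four {s : Finset (Fin n)} (h : 4 ≤ s.card) :
    ∃ a b c d, a ∈ s ∧ b ∈ s ∧ c ∈ s ∧ d ∈ s ∧ a ≠ b ∧ a ≠ c ∧ a ≠ d ∧ b ≠ c ∧ b ≠ d ∧ c ≠ d := by
  obtain ⟨a, ha⟩ : s.Nonempty := Finset.card_pos.mp (by omega)
  have h3 : 2 < (s.erase a).card := by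
    rw [Finset.card_erase_of_mem ha]
    omega
  obtain ⟨b, hb, c, hc, d, hd, hbc, hbd, hcd⟩ := Finset.two_lt_card.mp h3
  rw [Finset.mem_erase] at hb hc hd
  exact ⟨a, b, c, d, ha, hb.2, hc.2, hd.2, Ne.symm hb.1, Ne.symm hc.1, Ne.symm hd.1, hbc, hbd, hcd⟩

section transport

variable (hF4 : Fintype.card F = 2 ^ 2)
  {X : Subgroup (Matrix.GeneralLinearGroup (Fin n) F)} (hX : UM.Ctx n F 2 X)

include hF4 hX in
/-- transport by monomial matrices -/
theorem tt_transport {u v : Fin n → F} (hu : TT n 2 X u) (σ : Equiv.Perm (Fin n))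
    (hσ : ∀ b, u b ≠ 0 ↔ v (σ b) ≠ 0) {z₀ : Fin n} (hz₀ : u z₀ = 0) : TT n 2 X v := by
  have h2F : (2 : F) = 0 := two_eq_zero_of_even hF4 even_two
  obtain ⟨r, hr⟩ : ∃ r : Fin n → F, r = fun b => if u b = 0 then 1 else v (σ b) * (u b)⁻¹ :=
    ⟨_, rfl⟩
  have hr0 : ∀ b, r b ≠ 0 := by
    intro b
    rw [hr]
    show (if u b = 0 then 1 else v (σ b) * (u b)⁻¹) ≠ 0
    split_ifs with h
    · exact one_ne_zero
    · exact mul_ne_zero ((hσ b).mp h) (inv_ne_zero h)
  obtain ⟨P, hP⟩ : ∃ P : F, P = ∏ b, r b := ⟨_, rfl⟩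
  have hP0 : P ≠ 0 := by
    rw [hP]
    exact Finset.prod_ne_zero_iff.mpr (fun b _ => hr0 b)
  obtain ⟨τ, hτ⟩ : ∃ τ : Fin n → F, τ = fun b => (if b = z₀ then P⁻¹ else 1) * r b := ⟨_, rfl⟩
  have hτ0 : ∀ b, τ b ≠ 0 := by
    intro b
    rw [hτ]
    refine mul_ne_zero ?_ (hr0 b)
    split_ifs
    · exact inv_ne_zero hP0
    · exact one_ne_zero
  have hτmu : ∀ b, τ b ^ (2 + 1) = 1 := fun b => cube_eq_one hF4 (hτ0 b)
  have hprod : ∏ b, τ b = 1 := by
    rw [hτ]
    show ∏ b, (if b = z₀ then P⁻¹ else 1) * r b = 1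
    rw [Finset.prod_mul_distrib, Finset.prod_ite_eq' Finset.univ z₀ (fun _ => P⁻¹),
      if_pos (Finset.mem_univ _), ← hP, inv_mul_cancel₀ hP0]
  have hsign : ((Equiv.Perm.sign σ : ℤ) : F) = 1 := by
    rcases Int.units_eq_one_or (Equiv.Perm.sign σ) with h | h
    · rw [h]
      simp
    · rw [h]
      simp only [Units.val_neg, Units.val_one, Int.cast_neg, Int.cast_one]
      linear_combination (-1 : F) * h2F
  have hm := UM.mon_mem hF4 hX σ τ hτmu (by rw [hsign, hprod, mul_one])
  have h := tt_act hX hu hm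
  rw [UM.mon_mulVec] at h
  have e : (fun a => τ (σ⁻¹ a) * u (σ⁻¹ a)) = v := by
    funext a
    obtain ⟨b, hb⟩ : ∃ b, b = σ⁻¹ a := ⟨_, rfl⟩
    have hσb : σ b = a := by
      rw [hb]
      exact Equiv.apply_symm_apply σ a
    rw [← hb]
    by_cases hub : u b = 0
    · rw [hub, mul_zero]
      by_contra hva
      rw [← hσb] at hva
      exact (hσ b).mpr (Ne.symm hva) hub
    · have hbz : b ≠ z₀ := by
        rintro rfl
        exact hub hz₀
      rw [hτ]
      show (if b = z₀ then P⁻¹ else 1) * r b * u b = v a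
      rw [if_neg hbz, one_mul, hr]
      show (if u b = 0 then 1 else v (σ b) * (u b)⁻¹) * u b = v a
      rw [if_neg hub, mul_assoc, inv_mul_cancel₀ hub, mul_one, hσb]
  rw [e] at h
  exact h

include hF4 hX in
/-- sparse vectors of a given weight less than `n` form a single orbit -/
theorem tt_sv_all {m : ℕ} (hm : m < n) {k' : Fin m → Fin n} (hk' : Function.Injective k')
    {c' : Fin m → F} (hc' : ∀ i, c' i ≠ 0) (hu : TT n 2 X (sv k' c'))
    {k : Fin m → Fin n} (hk : Function.Injective k) {c : Fin m → F} (hc : ∀ i, c i ≠ 0) :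
    TT n 2 X (sv k c) := by
  obtain ⟨σ, hσ⟩ := Equiv.Perm.exists_extending_pair k' k hk' hk
  obtain ⟨z₀, hz₀⟩ : ∃ z₀ : Fin n, ∀ i, z₀ ≠ k' i := by
    have hcard : (Finset.image k' Finset.univ).card < (Finset.univ : Finset (Fin n)).card := by
      rw [Finset.card_univ, Fintype.card_fin]
      have h1 := Finset.card_image_le (s := (Finset.univ : Finset (Fin m))) (f := k')
      rw [Finset.card_univ, Fintype.card_fin] at h1
      omega
    obtain ⟨z₀, -, hz₀⟩ := Finset.exists_mem_notMem_of_card_lt_card hcard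
    refine ⟨z₀, fun i h => hz₀ ?_⟩
    rw [h]
    exact Finset.mem_image_of_mem k' (Finset.mem_univ i)
  refine tt_transport hF4 hX hu σ ?_ (sv_apply_of_ne c' hz₀)
  intro b
  by_cases hb : ∃ i, b = k' i
  · obtain ⟨i, rfl⟩ := hb
    rw [sv_apply_self hk', hσ, sv_apply_self hk]
    exact ⟨fun _ => hc i, fun _ => hc' i⟩
  · push Not at hb
    have hb' : ∀ i, σ b ≠ k i := by
      intro i h
      rw [← hσ i] at h
      exact hb i (σ.injective h)
    rw [sv_apply_of_ne c' hb, sv_apply_of_ne c hb']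

end transport

end Cfsg.Agent.Lib.Helper7.UD
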