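import Mathlib
import Cfsg.Prelude
import Cfsg.Agent.Lib.Helper7.UD11

set_option autoImplicit false
set_option linter.unusedSectionVars false
set_option linter.unusedVariables false
open Cfsg

/-! Unitary decompositions, part 12: `q = 2`; a proper overgroup of the monomial subgroup of the
special unitary group is the whole special unitary group. -/

namespace Cfsg.Agent.Lib.Helper7.UD

open Matrix Cfsg.Agent.Lib.Helper5.Herm Cfsg.Agent.Lib.Helper5.HermBridge
  Cfsg.Agent.Lib.Helper5.HermTv Cfsg.Agent.Lib.Helper5.HermGen Cfsg.Agent.Lib.Helper5.HermEich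
  Cfsg.Agent.Lib.Helper5.SUCentres Cfsg.Agent.Lib.Helper5.SpSingularMax
  Cfsg.Agent.Lib.Helper5.SUSingularMax Cfsg.Agent.Lib.Helper5.HermPair
open Cfsg.Agent.Lib.Helper8
open scoped Classical

variable {F : Type*} [Field F] [Fintype F] {n : ℕ} (hF4 : Fintype.card F = 2 ^ 2)
  {X : Subgroup (Matrix.GeneralLinearGroup (Fin n) F)} (hX : UM.Ctx n F 2 X)

include hF4 hX in
/-- (T1) for `q = 2` -/
theorem tt_exists_three_two (hn : 5 ≤ n)
    (hne : ∃ g ∈ X, ¬ Mono.IsMono (g : Matrix (Fin n) (Fin n) F)) :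
    ∃ w : Fin n → F, TT n 2 X w ∧ ∃ a b c : Fin n, a ≠ b ∧ a ≠ c ∧ b ≠ c ∧
      w a ≠ 0 ∧ w b ≠ 0 ∧ w c ≠ 0 := by
  have h2F : (2 : F) = 0 := two_eq_zero_of_even hF4 even_two
  obtain ⟨z, hz, hzm⟩ := hne
  have hzU : z ∈ Cfsg.GU n F 2 := (hX.le hz).1
  obtain ⟨i, hi⟩ : ∃ i : Fin n, ∀ i₀ : Fin n, ∃ i', i' ≠ i₀ ∧
      (z : Matrix (Fin n) (Fin n) F) i' i ≠ 0 := by
    by_contra hcon
    push Not at hcon
    apply hzm
    intro j
    obtain ⟨i₀, hi₀⟩ := hcon j
    exact ⟨i₀, hi₀⟩
  obtain ⟨a, -, ha⟩ := hi i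
  obtain ⟨b, hba, hb⟩ := hi a
  -- a third row in the same column
  obtain ⟨c, hca, hcb, hc⟩ : ∃ c : Fin n, c ≠ a ∧ c ≠ b ∧
      (z : Matrix (Fin n) (Fin n) F) c i ≠ 0 := by
    by_contra hcon
    push Not at hcon
    obtain ⟨vi, hvi⟩ : ∃ vi : Fin n → F,
        vi = (z : Matrix (Fin n) (Fin n) F) *ᵥ Pi.single i 1 := ⟨_, rfl⟩
    have hvik : ∀ k, vi k = (z : Matrix (Fin n) (Fin n) F) k i := by
      intro k
      rw [hvi, Matrix.mulVec_single_one, Matrix.col_apply]
    have hviP : vi ∈ csub F (fun k : Fin n => k = a ∨ k = b) := by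
      intro k hk
      rw [hvik]
      exact hcon k (fun h => hk (Or.inl h)) (fun h => hk (Or.inr h))
    have h1 : hermForm n F 2 vi vi = 1 := by
      rw [hvi, UM.GU_herm hzU, hermForm_single_left, Pi.single_eq_same, one_pow]
    rw [herm_plane (Ne.symm hba) hviP, hvik, hvik, norm_eq_one hF4 ha, norm_eq_one hF4 hb] at h1
    exact one_ne_zero (α := F) (by linear_combination h1)
  -- a fourth row and a second column
  obtain ⟨d, hda, hdb, hdc, j, hji, hdj⟩ : ∃ d : Fin n, d ≠ a ∧ d ≠ b ∧ d ≠ c ∧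
      ∃ j : Fin n, j ≠ i ∧ (z : Matrix (Fin n) (Fin n) F) d j ≠ 0 := by
    by_contra hcon
    push Not at hcon
    obtain ⟨d, hd⟩ : ∃ d : Fin n, d ∉ ({a, b, c} : Finset (Fin n)) := by
      have hcard : ({a, b, c} : Finset (Fin n)).card <
          (Finset.univ : Finset (Fin n)).card := by
        rw [Finset.card_univ, Fintype.card_fin]
        have := Finset.card_le_three (a := a) (b := b) (c := c)
        omega
      obtain ⟨d, -, hd⟩ := Finset.exists_mem_notMem_of_card_lt_card hcard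
      exact ⟨d, hd⟩
    obtain ⟨d', hd'⟩ : ∃ d' : Fin n, d' ∉ ({a, b, c, d} : Finset (Fin n)) := by
      have hcard : ({a, b, c, d} : Finset (Fin n)).card <
          (Finset.univ : Finset (Fin n)).card := by
        rw [Finset.card_univ, Fintype.card_fin]
        have := Finset.card_le_four (a := a) (b := b) (c := c) (d := d)
        omega
      obtain ⟨d', -, hd'⟩ := Finset.exists_mem_notMem_of_card_lt_card hcard
      exact ⟨d', hd'⟩
    simp only [Finset.mem_insert, Finset.mem_singleton, not_or] at hd hd'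
    have hrow : ∀ e : Fin n, e ≠ a → e ≠ b → e ≠ c → ∀ e' : Fin n,
        ∑ k, (z : Matrix (Fin n) (Fin n) F) e k * (z : Matrix (Fin n) (Fin n) F) e' k ^ 2 =
          (z : Matrix (Fin n) (Fin n) F) e i * (z : Matrix (Fin n) (Fin n) F) e' i ^ 2 := by
      intro e h1 h2 h3 e'
      rw [Finset.sum_eq_single i]
      · intro k _ hki
        rw [hcon e h1 h2 h3 k hki, zero_mul]
      · intro h
        exact absurd (Finset.mem_univ i) h
    have h1 := UM.GU_row_orth hF4 hzU d d
    rw [hrow d hd.1 hd.2.1 hd.2.2, if_pos rfl] at h1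
    have h2 := UM.GU_row_orth hF4 hzU d' d'
    rw [hrow d' hd'.1 hd'.2.1 hd'.2.2.1, if_pos rfl] at h2
    have h3 := UM.GU_row_orth hF4 hzU d d'
    rw [hrow d hd.1 hd.2.1 hd.2.2, if_neg (fun h => hd'.2.2.2 h.symm)] at h3
    rcases mul_eq_zero.mp h3 with h4 | h4
    · rw [h4, zero_mul] at h1
      exact zero_ne_one h1
    · rw [pow_eq_zero_iff two_ne_zero] at h4
      rw [h4, zero_mul] at h2
      exact zero_ne_one h2
  -- the choice of the scalar
  obtain ⟨β, hβ0, hβ⟩ := exists_rare hF4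
    ![(z : Matrix (Fin n) (Fin n) F) a i * ((z : Matrix (Fin n) (Fin n) F) a j)⁻¹,
      (z : Matrix (Fin n) (Fin n) F) b i * ((z : Matrix (Fin n) (Fin n) F) b j)⁻¹,
      (z : Matrix (Fin n) (Fin n) F) c i * ((z : Matrix (Fin n) (Fin n) F) c j)⁻¹,
      (z : Matrix (Fin n) (Fin n) F) d i * ((z : Matrix (Fin n) (Fin n) F) d j)⁻¹]
  have hβmu : β ^ (2 + 1) = 1 := cube_eq_one hF4 hβ0
  obtain ⟨u, hu⟩ : ∃ u : Fin n → F,
      u = (1 : F) • (Pi.single i (1 : F) : Fin n → F) + β • Pi.single j 1 := ⟨_, rfl⟩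
  have huT : TT n 2 X u := by
    rw [hu]
    exact tt_pair hF4 hX h2F (Ne.symm hji) β hβmu
  obtain ⟨w, hw⟩ : ∃ w : Fin n → F, w = (z : Matrix (Fin n) (Fin n) F) *ᵥ u := ⟨_, rfl⟩
  have hwT : TT n 2 X w := by
    rw [hw]
    exact tt_act hX huT hz
  have hwk : ∀ k : Fin n, w k =
      (z : Matrix (Fin n) (Fin n) F) k i + β * (z : Matrix (Fin n) (Fin n) F) k j := by
    intro k
    rw [hw, hu, mulVec_add, mulVec_smul, mulVec_smul, Matrix.mulVec_single_one,
      Matrix.mulVec_single_one, Pi.add_apply, Pi.smul_apply, Pi.smul_apply, Matrix.col_apply,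
      Matrix.col_apply, smul_eq_mul, smul_eq_mul, one_mul]
  have key : ∀ k : Fin n, ((z : Matrix (Fin n) (Fin n) F) k i ≠ 0 ∨
      (z : Matrix (Fin n) (Fin n) F) k j ≠ 0) → w k = 0 →
      (z : Matrix (Fin n) (Fin n) F) k i * ((z : Matrix (Fin n) (Fin n) F) k j)⁻¹ = β := by
    intro k hk h0
    rw [hwk] at h0
    have hkj : (z : Matrix (Fin n) (Fin n) F) k j ≠ 0 := by
      intro h
      rw [h, mul_zero, add_zero] at h0
      rcases hk with hk | hk
      · exact hk h0
      · exact hk h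
    field_simp
    linear_combination h0 - (β * (z : Matrix (Fin n) (Fin n) F) k j) * h2F
  by_cases hwa : w a = 0
  · have ea := key a (Or.inl ha) hwa
    have hwb : w b ≠ 0 := fun h => absurd (hβ 0 1 ea (key b (Or.inl hb) h)) (by decide)
    have hwc : w c ≠ 0 := fun h => absurd (hβ 0 2 ea (key c (Or.inl hc) h)) (by decide)
    have hwd : w d ≠ 0 := fun h => absurd (hβ 0 3 ea (key d (Or.inr hdj) h)) (by decide)
    exact ⟨w, hwT, b, c, d, Ne.symm hcb, Ne.symm hdb, Ne.symm hdc, hwb, hwc, hwd⟩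
  by_cases hwb : w b = 0
  · have eb := key b (Or.inl hb) hwb
    have hwc : w c ≠ 0 := fun h => absurd (hβ 1 2 eb (key c (Or.inl hc) h)) (by decide)
    have hwd : w d ≠ 0 := fun h => absurd (hβ 1 3 eb (key d (Or.inr hdj) h)) (by decide)
    exact ⟨w, hwT, a, c, d, Ne.symm hca, Ne.symm hda, Ne.symm hdc, hwa, hwc, hwd⟩
  by_cases hwc : w c = 0
  · have ec := key c (Or.inl hc) hwc
    have hwd : w d ≠ 0 := fun h => absurd (hβ 2 3 ec (key d (Or.inr hdj) h)) (by decide)
    exact ⟨w, hwT, a, b, d, Ne.symm hba, Ne.symm hda, Ne.symm hdb, hwa, hwb, hwd⟩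
  · exact ⟨w, hwT, a, b, c, Ne.symm hba, Ne.symm hca, Ne.symm hcb, hwa, hwb, hwc⟩

include hF4 hX in
/-- (R) a vector of weight at least four with a zero coordinate gives a sparse vector of weight
four -/
theorem tt_reduce {w : Fin n → F} (hw : TT n 2 X w) {a b c d z₀ : Fin n}
    (hab : a ≠ b) (hac : a ≠ c) (had : a ≠ d) (hbc : b ≠ c) (hbd : b ≠ d) (hcd : c ≠ d)
    (ha : w a ≠ 0) (hb : w b ≠ 0) (hc : w c ≠ 0) (hd : w d ≠ 0) (hz : w z₀ = 0) :
    ∃ k : Fin 4 → Fin n, Function.Injective k ∧ ∃ c' : Fin 4 → F, (∀ i, c' i ≠ 0) ∧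
      TT n 2 X (sv k c') := by
  have h2F : (2 : F) = 0 := two_eq_zero_of_even hF4 even_two
  obtain ⟨ω, hω0, hω1, hω⟩ := exists_omega hF4
  have h3 := cube_eq_one hF4 hω0
  have hω1' : ω + 1 ≠ 0 := fun h => hω1 (by linear_combination h - h2F)
  have hω2' : ω ^ 2 + 1 ≠ 0 := fun h => hω0 (by linear_combination hω - h)
  have hza : z₀ ≠ a := by
    rintro rfl
    exact ha hz
  have hzb : z₀ ≠ b := by
    rintro rfl
    exact hb hz
  have hzc : z₀ ≠ c := by
    rintro rfl
    exact hc hz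
  have hzd : z₀ ≠ d := by
    rintro rfl
    exact hd hz
  have hB : Function.Injective ![a, b, c, d, z₀] := by
    intro i j hij
    have hba := hab.symm
    have hca := hac.symm
    have hda := had.symm
    have hcb := hbc.symm
    have hdb := hbd.symm
    have hdc := hcd.symm
    have haz := hza.symm
    have hbz := hzb.symm
    have hcz := hzc.symm
    have hdz := hzd.symm
    fin_cases i <;> fin_cases j <;> simp_all
  have hk : Function.Injective ![a, b, c, d] := by
    intro i j hij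
    have hba := hab.symm
    have hca := hac.symm
    have hda := had.symm
    have hcb := hbc.symm
    have hdb := hbd.symm
    have hdc := hcd.symm
    fin_cases i <;> fin_cases j <;> simp_all
  have hA : ∀ j, (![ω, ω, ω, ω ^ 2, ω] : Fin 5 → F) j ^ (2 + 1) = 1 := by
    intro j
    apply cube_eq_one hF4
    fin_cases j
    · exact hω0
    · exact hω0
    · exact hω0
    · exact pow_ne_zero 2 hω0
    · exact hω0
  have hAprod : ∏ j, (![ω, ω, ω, ω ^ 2, ω] : Fin 5 → F) j = 1 := by
    rw [Fin.prod_univ_five]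
    show ω * ω * ω * ω ^ 2 * ω = 1
    linear_combination (ω ^ 3 + 1) * h3
  have h1 := tt_diag hF4 hX h2F hw hB ![ω, ω, ω, ω ^ 2, ω] hA hAprod
  obtain ⟨s5, hs5⟩ : ∃ s5 : Fin n → F, s5 = sv ![a, b, c, d, z₀]
      (fun j => ((![ω, ω, ω, ω ^ 2, ω] : Fin 5 → F) j + 1) * w (![a, b, c, d, z₀] j)) :=
    ⟨_, rfl⟩
  rw [← hs5] at h1
  have na := norm_eq_one hF4 ha
  have nb := norm_eq_one hF4 hb
  have nc := norm_eq_one hF4 hc
  have nd := norm_eq_one hF4 hd
  have hs5w : hermForm n F 2 s5 w = 1 := by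
    rw [hs5, herm_sv_left, Fin.sum_univ_five]
    show (ω + 1) * w a * w a ^ 2 + (ω + 1) * w b * w b ^ 2 + (ω + 1) * w c * w c ^ 2 +
      (ω ^ 2 + 1) * w d * w d ^ 2 + (ω + 1) * w z₀ * w z₀ ^ 2 = 1
    rw [hz]
    linear_combination (ω + 1) * na + (ω + 1) * nb + (ω + 1) * nc + (ω ^ 2 + 1) * nd + hω +
      (ω + 1) * h2F
  have h2 := tt_hyp hX hw h1
  rw [hermForm_add_left, hw.1, zero_add, hs5w, one_smul] at h2
  have e : w + s5 + w = sv ![a, b, c, d]
      ![(ω + 1) * w a, (ω + 1) * w b, (ω + 1) * w c, (ω ^ 2 + 1) * w d] := by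
    funext x
    rw [Pi.add_apply, Pi.add_apply, hs5]
    unfold sv
    rw [Fin.sum_univ_five, Fin.sum_univ_four]
    show w x + ((if x = a then (ω + 1) * w a else 0) + (if x = b then (ω + 1) * w b else 0) +
      (if x = c then (ω + 1) * w c else 0) + (if x = d then (ω ^ 2 + 1) * w d else 0) +
      (if x = z₀ then (ω + 1) * w z₀ else 0)) + w x =
      (if x = a then (ω + 1) * w a else 0) + (if x = b then (ω + 1) * w b else 0) +
      (if x = c then (ω + 1) * w c else 0) + (if x = d then (ω ^ 2 + 1) * w d else 0)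
    rw [hz, mul_zero, ite_self, add_zero]
    linear_combination (w x) * h2F
  rw [e] at h2
  refine ⟨![a, b, c, d], hk, _, ?_, h2⟩
  intro i
  fin_cases i
  · exact mul_ne_zero hω1' ha
  · exact mul_ne_zero hω1' hb
  · exact mul_ne_zero hω1' hc
  · exact mul_ne_zero hω2' hd

include hF4 hX in
/-- a vector of full support gives a vector of weight six -/
theorem tt_full_two (hn : 13 ≤ n) {w : Fin n → F} (hw : TT n 2 X w) (hfull : ∀ k, w k ≠ 0) :
    ∃ w' : Fin n → F, TT n 2 X w' ∧ ∃ a b c d z₀ : Fin n, a ≠ b ∧ a ≠ c ∧ a ≠ d ∧ b ≠ c ∧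
      b ≠ d ∧ c ≠ d ∧ w' a ≠ 0 ∧ w' b ≠ 0 ∧ w' c ≠ 0 ∧ w' d ≠ 0 ∧ w' z₀ = 0 := by
  have h2F : (2 : F) = 0 := two_eq_zero_of_even hF4 even_two
  obtain ⟨ω, hω0, hω1, hω⟩ := exists_omega hF4
  have h3 := cube_eq_one hF4 hω0
  have hω1' : ω + 1 ≠ 0 := fun h => hω1 (by linear_combination h - h2F)
  have hω2' : ω ^ 2 + 1 ≠ 0 := fun h => hω0 (by linear_combination hω - h)
  have h6 : 6 ≤ n := by omega
  obtain ⟨B, hB⟩ : ∃ B : Fin 6 → Fin n, B = Fin.castLE h6 := ⟨_, rfl⟩
  have hBinj : Function.Injective B := by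
    rw [hB]
    exact Fin.castLE_injective h6
  have hA : ∀ j, (![ω, ω, ω, ω ^ 2, ω ^ 2, ω ^ 2] : Fin 6 → F) j ^ (2 + 1) = 1 := by
    intro j
    apply cube_eq_one hF4
    fin_cases j
    · exact hω0
    · exact hω0
    · exact hω0
    · exact pow_ne_zero 2 hω0
    · exact pow_ne_zero 2 hω0
    · exact pow_ne_zero 2 hω0
  have hAprod : ∏ j, (![ω, ω, ω, ω ^ 2, ω ^ 2, ω ^ 2] : Fin 6 → F) j = 1 := by
    rw [Fin.prod_univ_six]
    show ω * ω * ω * ω ^ 2 * ω ^ 2 * ω ^ 2 = 1
    linear_combination (ω ^ 6 + ω ^ 3 + 1) * h3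
  have h1 := tt_diag hF4 hX h2F hw hBinj ![ω, ω, ω, ω ^ 2, ω ^ 2, ω ^ 2] hA hAprod
  obtain ⟨s6, hs6⟩ : ∃ s6 : Fin n → F, s6 = sv B
      (fun j => ((![ω, ω, ω, ω ^ 2, ω ^ 2, ω ^ 2] : Fin 6 → F) j + 1) * w (B j)) := ⟨_, rfl⟩
  rw [← hs6] at h1
  have n0 := norm_eq_one hF4 (hfull (B 0))
  have n1 := norm_eq_one hF4 (hfull (B 1))
  have n2 := norm_eq_one hF4 (hfull (B 2))
  have n3 := norm_eq_one hF4 (hfull (B 3))
  have n4 := norm_eq_one hF4 (hfull (B 4))
  have n5 := norm_eq_one hF4 (hfull (B 5))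
  have hs6w : hermForm n F 2 s6 w = 1 := by
    rw [hs6, herm_sv_left, Fin.sum_univ_six]
    show (ω + 1) * w (B 0) * w (B 0) ^ 2 + (ω + 1) * w (B 1) * w (B 1) ^ 2 +
      (ω + 1) * w (B 2) * w (B 2) ^ 2 + (ω ^ 2 + 1) * w (B 3) * w (B 3) ^ 2 +
      (ω ^ 2 + 1) * w (B 4) * w (B 4) ^ 2 + (ω ^ 2 + 1) * w (B 5) * w (B 5) ^ 2 = 1
    linear_combination (ω + 1) * n0 + (ω + 1) * n1 + (ω + 1) * n2 + (ω ^ 2 + 1) * n3 +
      (ω ^ 2 + 1) * n4 + (ω ^ 2 + 1) * n5 + 3 * hω + h2F
  have h2 := tt_hyp hX hw h1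
  rw [hermForm_add_left, hw.1, zero_add, hs6w, one_smul] at h2
  have e : w + s6 + w = s6 := by
    funext x
    rw [Pi.add_apply, Pi.add_apply]
    linear_combination (w x) * h2F
  rw [e] at h2
  have hval : ∀ j, s6 (B j) =
      ((![ω, ω, ω, ω ^ 2, ω ^ 2, ω ^ 2] : Fin 6 → F) j + 1) * w (B j) := by
    intro j
    rw [hs6, sv_apply_self hBinj]
  have hz6 : s6 (⟨6, by omega⟩ : Fin n) = 0 := by
    rw [hs6]
    apply sv_apply_of_ne
    intro j h
    have h' := congrArg Fin.val h
    rw [hB] at h'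
    simp at h'
    omega
  refine ⟨s6, h2, B 0, B 1, B 2, B 3, ⟨6, by omega⟩, hBinj.ne (by decide), hBinj.ne (by decide),
    hBinj.ne (by decide), hBinj.ne (by decide), hBinj.ne (by decide), hBinj.ne (by decide),
    ?_, ?_, ?_, ?_, hz6⟩
  · rw [hval]
    exact mul_ne_zero hω1' (hfull _)
  · rw [hval]
    exact mul_ne_zero hω1' (hfull _)
  · rw [hval]
    exact mul_ne_zero hω1' (hfull _)
  · rw [hval]
    exact mul_ne_zero hω2' (hfull _)

include hF4 hX in
/-- spreading from weight four -/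
theorem tt_spread
    (h4 : ∀ k : Fin 4 → Fin n, Function.Injective k → ∀ c : Fin 4 → F, (∀ i, c i ≠ 0) →
      TT n 2 X (sv k c)) :
    ∀ r : ℕ, ∀ v : Fin n → F, hermForm n F 2 v v = 0 →
      (Finset.univ.filter (fun k => v k ≠ 0)).card ≤ r → TT n 2 X v := by
  have h2F : (2 : F) = 0 := two_eq_zero_of_even hF4 even_two
  obtain ⟨ω, hω0, hω1, hω⟩ := exists_omega hF4
  have hzero : ∀ v : Fin n → F, (Finset.univ.filter (fun k => v k ≠ 0)).card = 0 →
      TT n 2 X v := by
    intro v h0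
    have hv0 : v = 0 := by
      rw [Finset.card_eq_zero, Finset.filter_eq_empty_iff] at h0
      funext k
      exact not_not.mp (h0 (Finset.mem_univ k))
    rw [hv0]
    exact tt_zero hX
  intro r
  induction r with
  | zero =>
    intro v hv hr
    exact hzero v (by omega)
  | succ r ih =>
    intro v hv hr
    by_cases h4c : 4 ≤ (Finset.univ.filter (fun k => v k ≠ 0)).card
    · obtain ⟨a, b, c, d, ha, hb, hc, hd, hab, hac, had, hbc, hbd, hcd⟩ := exists_four h4c
      rw [Finset.mem_filter] at ha hb hc hd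
      have hk : Function.Injective ![a, b, c, d] := by
        intro i j hij
        have hba := hab.symm
        have hca := hac.symm
        have hda := had.symm
        have hcb := hbc.symm
        have hdb := hbd.symm
        have hdc := hcd.symm
        fin_cases i <;> fin_cases j <;> simp_all
      have hcc : ∀ i, (![v a, v b, ω * v c, ω ^ 2 * v d] : Fin 4 → F) i ≠ 0 := by
        intro i
        fin_cases i
        · exact ha.2
        · exact hb.2
        · exact mul_ne_zero hω0 hc.2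
        · exact mul_ne_zero (pow_ne_zero 2 hω0) hd.2
      obtain ⟨u, hu⟩ : ∃ u : Fin n → F,
          u = sv ![a, b, c, d] ![v a, v b, ω * v c, ω ^ 2 * v d] := ⟨_, rfl⟩
      have huT : TT n 2 X u := by
        rw [hu]
        exact h4 _ hk _ hcc
      have na := norm_eq_one hF4 ha.2
      have nb := norm_eq_one hF4 hb.2
      have nc := norm_eq_one hF4 hc.2
      have nd := norm_eq_one hF4 hd.2
      have huv : hermForm n F 2 u v = 1 := by
        rw [hu, herm_sv_left, Fin.sum_univ_four]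
        show v a * v a ^ 2 + v b * v b ^ 2 + ω * v c * v c ^ 2 + ω ^ 2 * v d * v d ^ 2 = 1
        linear_combination na + nb + ω * nc + ω ^ 2 * nd + hω
      have hvu : hermForm n F 2 v u = 1 := by
        rw [← hermForm_conj hF4, huv, one_pow]
      have hua : u a = v a := by
        rw [hu]
        exact sv_apply_self hk _ 0
      have hux : ∀ x, x ≠ a → x ≠ b → x ≠ c → x ≠ d → u x = 0 := by
        intro x h1 h2 h3 h4'
        rw [hu]
        apply sv_apply_of_ne
        intro i
        fin_cases i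
        · exact h1
        · exact h2
        · exact h3
        · exact h4'
      obtain ⟨v', hv'⟩ : ∃ v' : Fin n → F, v' = v + u := ⟨_, rfl⟩
      have hv'iso : hermForm n F 2 v' v' = 0 := by
        rw [hv']
        simp only [hermForm_add_left, hermForm_add_right hF4, hv, huv, hvu, huT.1]
        linear_combination h2F
      have hv'a : v' a = 0 := by
        rw [hv', Pi.add_apply, hua]
        linear_combination (v a) * h2F
      have hsub : Finset.univ.filter (fun k => v' k ≠ 0) ⊂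
          Finset.univ.filter (fun k => v k ≠ 0) := by
        rw [Finset.ssubset_iff_of_subset]
        · exact ⟨a, Finset.mem_filter.mpr ha, fun h => (Finset.mem_filter.mp h).2 hv'a⟩
        · intro x hx
          rw [Finset.mem_filter] at hx ⊢
          refine ⟨Finset.mem_univ x, ?_⟩
          by_cases hxa : x = a
          · exact absurd (hxa ▸ hv'a) hx.2
          by_cases hxb : x = b
          · rw [hxb]
            exact hb.2
          by_cases hxc : x = c
          · rw [hxc]
            exact hc.2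
          by_cases hxd : x = d
          · rw [hxd]
            exact hd.2
          · have h5 := hx.2
            rw [hv', Pi.add_apply, hux x hxa hxb hxc hxd, add_zero] at h5
            exact h5
      have hlt := Finset.card_lt_card hsub
      have hv'T : TT n 2 X v' := ih v' hv'iso (by omega)
      have h5 := tt_hyp hX huT hv'T
      have h6 : hermForm n F 2 v' u = 1 := by
        rw [hv', hermForm_add_left, hvu, huT.1, add_zero]
      rw [h6, one_smul] at h5
      have e : v' + u = v := by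
        rw [hv']
        funext x
        rw [Pi.add_apply, Pi.add_apply]
        linear_combination (u x) * h2F
      rw [e] at h5
      exact h5
    · -- weight at most three
      obtain ⟨t, ht⟩ := even_weight hF4 hv
      have hcases : (Finset.univ.filter (fun k => v k ≠ 0)).card = 0 ∨
          (Finset.univ.filter (fun k => v k ≠ 0)).card = 2 := by omega
      rcases hcases with h0 | h2
      · exact hzero v h0
      · obtain ⟨x, y, hxy, hs⟩ := Finset.card_eq_two.mp h2
        have hvx : v x ≠ 0 := by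
          have : x ∈ Finset.univ.filter (fun k => v k ≠ 0) := by
            rw [hs]
            exact Finset.mem_insert_self x _
          exact (Finset.mem_filter.mp this).2
        have hvy : v y ≠ 0 := by
          have : y ∈ Finset.univ.filter (fun k => v k ≠ 0) := by
            rw [hs]
            exact Finset.mem_insert_of_mem (Finset.mem_singleton_self y)
          exact (Finset.mem_filter.mp this).2
        have hvk : ∀ k, k ≠ x → k ≠ y → v k = 0 := by
          intro k hkx hky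
          by_contra hk
          have : k ∈ Finset.univ.filter (fun k => v k ≠ 0) :=
            Finset.mem_filter.mpr ⟨Finset.mem_univ k, hk⟩
          rw [hs, Finset.mem_insert, Finset.mem_singleton] at this
          rcases this with h | h
          · exact hkx h
          · exact hky h
        have e : v = (v x) • ((1 : F) • (Pi.single x (1 : F) : Fin n → F) +
            (v y * (v x)⁻¹) • Pi.single y 1) := by
          funext k
          by_cases hkx : k = x
          · rw [hkx, Pi.smul_apply, pair_apply_left hxy, smul_eq_mul, mul_one]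
          by_cases hky : k = y
          · rw [hky, Pi.smul_apply, pair_apply_right hxy, smul_eq_mul]
            field_simp
          · rw [Pi.smul_apply, pair_apply_other hkx hky, smul_zero, hvk k hkx hky]
        rw [e]
        exact tt_smul (tt_pair hF4 hX h2F hxy _
          (cube_eq_one hF4 (mul_ne_zero hvy (inv_ne_zero hvx)))) (v x) (cube_eq_one hF4 hvx)

/-- (Q2) for `q = 2`, a proper overgroup of the monomial subgroup of the special unitary group
is the special unitary group -/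
theorem mono_q2 {F : Type*} [Field F] [Fintype F] {q n : ℕ}
    (hF : Fintype.card F = q ^ 2) (hq : q = 2) (hn : 13 ≤ n)
    {X : Subgroup (Matrix.GeneralLinearGroup (Fin n) F)} (hX : UM.Ctx n F q X)
    (hne : ∃ g ∈ X, ¬ Mono.IsMono (g : Matrix (Fin n) (Fin n) F)) :
    UM.SUg n F q ≤ X := by
  subst hq
  have h2F : (2 : F) = 0 := two_eq_zero_of_even hF even_two
  have hall : ∀ v : Fin n → F, hermForm n F 2 v v = 0 → TT n 2 X v := by
    obtain ⟨w, hwT, a, b, c, hab, hac, hbc, ha, hb, hc⟩ :=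
      tt_exists_three_two hF hX (by omega) hne
    have h3 : 2 < (Finset.univ.filter (fun k => w k ≠ 0)).card :=
      Finset.two_lt_card.mpr ⟨a, Finset.mem_filter.mpr ⟨Finset.mem_univ a, ha⟩,
        b, Finset.mem_filter.mpr ⟨Finset.mem_univ b, hb⟩,
        c, Finset.mem_filter.mpr ⟨Finset.mem_univ c, hc⟩, hab, hac, hbc⟩
    have h4 : 4 ≤ (Finset.univ.filter (fun k => w k ≠ 0)).card := by
      obtain ⟨t, ht⟩ := even_weight hF hwT.1
      omega
    obtain ⟨w', hw'T, a', b', c', d', z₀, h1, h2, h3', h4', h5, h6, h7, h8, h9, h10, h11⟩ :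
        ∃ w' : Fin n → F, TT n 2 X w' ∧ ∃ a b c d z₀ : Fin n, a ≠ b ∧ a ≠ c ∧ a ≠ d ∧ b ≠ c ∧
          b ≠ d ∧ c ≠ d ∧ w' a ≠ 0 ∧ w' b ≠ 0 ∧ w' c ≠ 0 ∧ w' d ≠ 0 ∧ w' z₀ = 0 := by
      by_cases hfull : ∀ k, w k ≠ 0
      · exact tt_full_two hF hX hn hwT hfull
      · push Not at hfull
        obtain ⟨z₀, hz₀⟩ := hfull
        obtain ⟨a', b', c', d', ha', hb', hc', hd', e1, e2, e3, e4, e5, e6⟩ := exists_four h4
        exact ⟨w, hwT, a', b', c', d', z₀, e1, e2, e3, e4, e5, e6, (Finset.mem_filter.mp ha').2,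
          (Finset.mem_filter.mp hb').2, (Finset.mem_filter.mp hc').2,
          (Finset.mem_filter.mp hd').2, hz₀⟩
    obtain ⟨k', hk', c'', hc'', hsv⟩ := tt_reduce hF hX hw'T h1 h2 h3' h4' h5 h6 h7 h8 h9 h10 h11
    have h4all : ∀ k : Fin 4 → Fin n, Function.Injective k → ∀ c : Fin 4 → F,
        (∀ i, c i ≠ 0) → TT n 2 X (sv k c) :=
      fun k hk c hc => tt_sv_all hF hX (by omega) hk' hc'' hsv hk hc
    intro v hv
    exact tt_spread hF hX h4all _ v hv le_rfl
  apply SU_le hF (by omega) (by omega)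
  intro v hv
  obtain ⟨hiso, g, hg, hact⟩ := hall v hv
  refine ⟨hiso, fun c hc => ?_⟩
  have hc' : c ^ 2 = -c := (qcond_iso n hiso c).mp hc
  have hc01 : c = 0 ∨ c = 1 := by
    have h : c * (c - 1) = 0 := by linear_combination hc' - c * h2F
    rcases mul_eq_zero.mp h with h | h
    · left
      exact h
    · right
      linear_combination h
  have hgU : g ∈ Cfsg.GU n F 2 := (hX.le hg).1
  rcases hc01 with rfl | rfl
  · have h : qtv hF n v 0 hc = 1 := by
      apply ext_gact
      intro x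
      rw [gact_qtv, zero_mul, zero_smul, add_zero, gact_one]
    rw [h, Subgroup.coe_one]
    exact X.one_mem
  · have h : qtv hF n v 1 hc = ⟨g, hgU⟩ := by
      apply ext_gact
      intro x
      rw [gact_qtv, one_mul]
      exact (hact x).symm
    rw [h]
    exact hg

end Cfsg.Agent.Lib.Helper7.UD
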