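import Mathlib
import Cfsg.Prelude
import Cfsg.Agent.Lib.Helper7.UD12

set_option autoImplicit false
set_option linter.unusedSectionVars false
set_option linter.unusedVariables false
open Cfsg

/-! Unitary decompositions, part 13: decompositions into non-degenerate lines; reduction to the
standard orthonormal frame. -/

namespace Cfsg.Agent.Lib.Helper7.UD

open Matrix Cfsg.Agent.Lib.Helper5.Herm Cfsg.Agent.Lib.Helper5.HermBridge
  Cfsg.Agent.Lib.Helper5.HermTv Cfsg.Agent.Lib.Helper5.HermGen Cfsg.Agent.Lib.Helper5.HermEich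
  Cfsg.Agent.Lib.Helper5.SUCentres Cfsg.Agent.Lib.Helper5.SpSingularMax
  Cfsg.Agent.Lib.Helper5.SUSingularMax Cfsg.Agent.Lib.Helper5.HermPair
open Cfsg.Agent.Lib.Helper8

variable {F : Type*} [Field F] [Fintype F] {q : ℕ} (hF : Fintype.card F = q ^ 2) {n : ℕ}

/-- conjugation by a unitary matrix preserves the special unitary group -/
theorem su_conj {P x : Matrix.GeneralLinearGroup (Fin n) F} (hP : P ∈ Cfsg.GU n F q)
    (hx : x ∈ Cfsg.GU n F q ⊓ Cfsg.Geo.specialLinear (Fin n) F) :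
    P * x * P⁻¹ ∈ Cfsg.GU n F q ⊓ Cfsg.Geo.specialLinear (Fin n) F := by
  rw [mem_SU_iff] at hx ⊢
  refine ⟨(Cfsg.GU n F q).mul_mem ((Cfsg.GU n F q).mul_mem hP hx.1)
    ((Cfsg.GU n F q).inv_mem hP), ?_⟩
  rw [Units.val_mul, Units.val_mul, Matrix.det_mul, Matrix.det_mul, mul_right_comm,
    ← Matrix.det_mul, ← Units.val_mul, mul_inv_cancel, Units.val_one, Matrix.det_one, one_mul]
  exact hx.2

/-- the entries of a unitary transvection -/
theorem qtv_entry (u : Fin n → F) (c : F) (hc : QCond n q u c) (a x : Fin n) :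
    (((qtv hF n u c hc : ↥(Cfsg.GU n F q)) : Matrix.GeneralLinearGroup (Fin n) F) :
      Matrix (Fin n) (Fin n) F) a x = (if a = x then 1 else 0) + c * u x ^ q * u a := by
  have h : (((qtv hF n u c hc : ↥(Cfsg.GU n F q)) : Matrix.GeneralLinearGroup (Fin n) F) :
      Matrix (Fin n) (Fin n) F) *ᵥ Pi.single x 1 =
      Pi.single x 1 + (c * hermForm n F q (Pi.single x 1) u) • u :=
    gact_qtv hF n u c hc (Pi.single x 1)
  have h' := congrFun h a
  rw [Matrix.mulVec_single_one, Matrix.col_apply, Pi.add_apply, Pi.smul_apply,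
    hermForm_single_left, Pi.single_apply, smul_eq_mul] at h'
  exact h'

include hF in
/-- a non-monomial element of the special unitary group -/
theorem exists_nonmono (hn : 4 ≤ n) :
    ∃ t₀ : Matrix.GeneralLinearGroup (Fin n) F,
      t₀ ∈ Cfsg.GU n F q ⊓ Cfsg.Geo.specialLinear (Fin n) F ∧
      ¬ Mono.IsMono (t₀ : Matrix (Fin n) (Fin n) F) := by
  obtain ⟨κ, hκ⟩ := Cfsg.Agent.Lib.Helper5.HermCount.exists_norm_eq hF (-1 : F)
    (neg_ne_zero.mpr one_ne_zero) (pow_q_neg_one hF)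
  have hκ' : κ * κ ^ q = -1 := by
    rw [← hκ, pow_succ, mul_comm]
  have hκ0 : κ ≠ 0 := by
    rintro rfl
    rw [zero_mul] at hκ'
    exact one_ne_zero (α := F) (by linear_combination hκ')
  obtain ⟨τ, hτ0, hτ⟩ := exists_trace_zero hF
  obtain ⟨k, hk⟩ : ∃ k : Fin 4 → Fin n, k = Fin.castLE hn := ⟨_, rfl⟩
  have hkinj : Function.Injective k := by
    rw [hk]
    exact Fin.castLE_injective hn
  obtain ⟨u, hu⟩ : ∃ u : Fin n → F, u = sv k ![1, κ, 1, κ] := ⟨_, rfl⟩
  have hu0 : u (k 0) = 1 := by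
    rw [hu]
    exact sv_apply_self hkinj _ 0
  have hu1 : u (k 1) = κ := by
    rw [hu]
    exact sv_apply_self hkinj _ 1
  have hu2 : u (k 2) = 1 := by
    rw [hu]
    exact sv_apply_self hkinj _ 2
  have hu3 : u (k 3) = κ := by
    rw [hu]
    exact sv_apply_self hkinj _ 3
  have huiso : hermForm n F q u u = 0 := by
    have h1 : hermForm n F q u u = ∑ i, (![1, κ, 1, κ] : Fin 4 → F) i * u (k i) ^ q := by
      rw [hu, herm_sv_left]
    rw [h1, Fin.sum_univ_four, hu0, hu1, hu2, hu3]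
    show 1 * 1 ^ q + κ * κ ^ q + 1 * 1 ^ q + κ * κ ^ q = 0
    rw [one_pow]
    linear_combination 2 * hκ'
  have hQ : QCond n q u τ := (qcond_iso n huiso τ).mpr hτ
  refine ⟨_, qtv_mem_SU hF u huiso τ hQ, ?_⟩
  intro hmono
  obtain ⟨i₀, hi₀⟩ := hmono (k 0)
  have h10 : k 1 ≠ k 0 := hkinj.ne (by decide)
  have h20 : k 2 ≠ k 0 := hkinj.ne (by decide)
  have h21 : k 2 ≠ k 1 := hkinj.ne (by decide)
  have e1 : (((qtv hF n u τ hQ : ↥(Cfsg.GU n F q)) : Matrix.GeneralLinearGroup (Fin n) F) :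
      Matrix (Fin n) (Fin n) F) (k 1) (k 0) ≠ 0 := by
    rw [qtv_entry, if_neg h10, zero_add, hu0, hu1, one_pow, mul_one]
    exact mul_ne_zero hτ0 hκ0
  have e2 : (((qtv hF n u τ hQ : ↥(Cfsg.GU n F q)) : Matrix.GeneralLinearGroup (Fin n) F) :
      Matrix (Fin n) (Fin n) F) (k 2) (k 0) ≠ 0 := by
    rw [qtv_entry, if_neg h20, zero_add, hu0, hu2, one_pow, mul_one, mul_one]
    exact hτ0
  by_cases h : k 1 = i₀
  · exact e2 (hi₀ (k 2) (by rw [← h]; exact h21))
  · exact e1 (hi₀ (k 1) h)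

/-- (translation layer) maximality of the stabiliser of a decomposition into non-degenerate
lines follows from the statement for the standard frame -/
theorem isMaximalIn_of_one {F : Type*} [Field F] [Fintype F] {n q : ℕ}
    (hF : Fintype.card F = q ^ 2) (hn : 13 ≤ n) {t : ℕ}
    {D : Fin t → Submodule F (Fin n → F)}
    (hD : Cfsg.Geo.IsNondegenerateMDecomposition (hermForm n F q) 1 D)
    (hstd : ∀ X : Subgroup (Matrix.GeneralLinearGroup (Fin n) F), UM.Ctx n F q X →
      (∃ g ∈ X, ¬ Mono.IsMono (g : Matrix (Fin n) (Fin n) F)) → UM.SUg n F q ≤ X) :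
    Cfsg.Geo.IsMaximalIn (Cfsg.GU n F q ⊓ Cfsg.Geo.specialLinear (Fin n) F)
      (Cfsg.Geo.decompositionStabilizer D ⊓
        (Cfsg.GU n F q ⊓ Cfsg.Geo.specialLinear (Fin n) F)) := by
  have hq0 := q_ne_zero hF
  have htn : n = t := by
    have := card_blocks hD
    omega
  choose v hv using exists_onb hF hD
  obtain ⟨e, he⟩ : ∃ e : Fin n ≃ Fin t, e = finCongr htn := ⟨_, rfl⟩
  obtain ⟨b', hb'⟩ : ∃ b' : Fin n → (Fin n → F),
      b' = fun j => ((v (e j) 0 : D (e j)) : Fin n → F) := ⟨_, rfl⟩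
  have hb'D : ∀ j, b' j ∈ D (e j) := by
    intro j
    rw [hb']
    exact (v (e j) 0).2
  have hspan : ∀ j, ∀ x ∈ D (e j), ∃ c : F, x = c • b' j := by
    intro j x hx
    have h1 := (v (e j)).sum_repr ⟨x, hx⟩
    have h3 := congrArg (Submodule.subtype (D (e j))) h1
    rw [map_sum, Fin.sum_univ_one] at h3
    simp only [map_smul, Submodule.subtype_apply] at h3
    refine ⟨((v (e j)).repr ⟨x, hx⟩) 0, ?_⟩
    rw [hb']
    exact h3.symm
  have hgramb' : ∀ a c, hermForm n F q (b' a) (b' c) = if a = c then 1 else 0 := by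
    intro a c
    rw [hb']
    by_cases hac : a = c
    · subst hac
      rw [if_pos rfl]
      exact (hv (e a) 0 0).trans (if_pos rfl)
    · rw [if_neg hac]
      exact orth' hD (fun h => hac (e.injective h)) (v (e a) 0).2 (v (e c) 0).2
  obtain ⟨P, hPU, hP⟩ := Cfsg.Agent.Lib.Helper2.Upp.exists_GU_of_gram hF
    (Pi.basisFun F (Fin n)) b' (by
      intro a c
      rw [hgramb', Pi.basisFun_apply, Pi.basisFun_apply, hermForm_single_left, Pi.single_apply]
      by_cases hac : a = c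
      · rw [if_pos hac, one_pow]
      · rw [if_neg hac, zero_pow hq0])
  have hPb : ∀ j, (P : Matrix (Fin n) (Fin n) F) *ᵥ Pi.single j 1 = b' j := by
    intro j
    have h := hP j
    rw [Pi.basisFun_apply] at h
    exact h
  have hPinvU : P⁻¹ ∈ Cfsg.GU n F q := (Cfsg.GU n F q).inv_mem hPU
  -- monomial in the adapted basis implies stabilising the decomposition
  have L1 : ∀ g : Matrix.GeneralLinearGroup (Fin n) F,
      Mono.IsMono ((P⁻¹ * g * P : Matrix.GeneralLinearGroup (Fin n) F) :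
        Matrix (Fin n) (Fin n) F) → g ∈ Cfsg.Geo.decompositionStabilizer D := by
    intro g hm
    obtain ⟨m, hm'⟩ : ∃ m : Matrix.GeneralLinearGroup (Fin n) F, m = P⁻¹ * g * P := ⟨_, rfl⟩
    rw [← hm'] at hm
    have hPm : P * m = g * P := by
      rw [hm']
      group
    obtain ⟨σ, hσ0, -, -, -⟩ := Mono.exists_perm hm
      (show ((m⁻¹ : Matrix.GeneralLinearGroup (Fin n) F) : Matrix (Fin n) (Fin n) F) *
        (m : Matrix (Fin n) (Fin n) F) = 1 by
        rw [← Units.val_mul, inv_mul_cancel, Units.val_one])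
    have hme : ∀ j, (m : Matrix (Fin n) (Fin n) F) *ᵥ Pi.single j 1 =
        ((m : Matrix (Fin n) (Fin n) F) (σ j) j) • (Pi.single (σ j) (1 : F) : Fin n → F) := by
      intro j
      funext i
      rw [Matrix.mulVec_single_one, Matrix.col_apply, Pi.smul_apply, Pi.single_apply,
        smul_eq_mul]
      by_cases hi : i = σ j
      · rw [if_pos hi, mul_one, hi]
      · rw [if_neg hi, mul_zero, hσ0 i j hi]
    have hgb : ∀ j, (g : Matrix (Fin n) (Fin n) F) *ᵥ b' j =
        ((m : Matrix (Fin n) (Fin n) F) (σ j) j) • b' (σ j) := by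
      intro j
      rw [← hPb j, mulVec_mulVec, ← Units.val_mul, ← hPm, Units.val_mul, ← mulVec_mulVec, hme,
        mulVec_smul, hPb]
    apply mem_decompStab_of_le hD g ((e.symm.trans σ).trans e)
    intro i x hx
    obtain ⟨j, rfl⟩ : ∃ j, e j = i := ⟨e.symm i, e.apply_symm_apply i⟩
    obtain ⟨c, rfl⟩ := hspan j x hx
    rw [mulVec_smul, hgb]
    have h1 : ((e.symm.trans σ).trans e) (e j) = e (σ j) := by
      simp
    rw [h1]
    exact Submodule.smul_mem _ _ (Submodule.smul_mem _ _ (hb'D (σ j)))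
  -- stabilising the decomposition implies monomial in the adapted basis
  have L2 : ∀ g : Matrix.GeneralLinearGroup (Fin n) F,
      g ∈ Cfsg.Geo.decompositionStabilizer D →
      Mono.IsMono ((P⁻¹ * g * P : Matrix.GeneralLinearGroup (Fin n) F) :
        Matrix (Fin n) (Fin n) F) := by
    intro g hg j
    obtain ⟨σ', hσ'⟩ := hg
    have h1 : (g : Matrix (Fin n) (Fin n) F) *ᵥ b' j ∈ D (σ' (e j)) := by
      rw [← hσ' (e j)]
      exact ⟨b' j, hb'D j, Matrix.toLin'_apply _ _⟩
    obtain ⟨j', hj'⟩ : ∃ j', e j' = σ' (e j) := ⟨e.symm _, e.apply_symm_apply _⟩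
    rw [← hj'] at h1
    obtain ⟨c, hc⟩ := hspan j' _ h1
    refine ⟨j', fun i hi => ?_⟩
    have h2 : ((P⁻¹ * g * P : Matrix.GeneralLinearGroup (Fin n) F) :
        Matrix (Fin n) (Fin n) F) *ᵥ Pi.single j 1 = c • (Pi.single j' (1 : F) : Fin n → F) := by
      rw [Units.val_mul, Units.val_mul, ← mulVec_mulVec, ← mulVec_mulVec, hPb, hc, mulVec_smul,
        ← hPb j', mulVec_mulVec, ← Units.val_mul, inv_mul_cancel, Units.val_one, one_mulVec]
    have h3 := congrFun h2 i
    rw [Matrix.mulVec_single_one, Matrix.col_apply, Pi.smul_apply, Pi.single_apply, if_neg hi,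
      smul_zero] at h3
    exact h3
  refine ⟨lt_of_le_of_ne inf_le_right ?_, ?_⟩
  · -- properness
    intro h
    obtain ⟨t₀, ht₀, ht₀m⟩ := exists_nonmono (n := n) hF (by omega)
    have h1 : P * t₀ * P⁻¹ ∈ Cfsg.GU n F q ⊓ Cfsg.Geo.specialLinear (Fin n) F :=
      su_conj hPU ht₀
    rw [← h] at h1
    have h2 := L2 _ h1.1
    have h3 : P⁻¹ * (P * t₀ * P⁻¹) * P = t₀ := by group
    rw [h3] at h2
    exact ht₀m h2
  · intro M hHM hMS
    obtain ⟨X, hX⟩ : ∃ X : Subgroup (Matrix.GeneralLinearGroup (Fin n) F),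
        X = M.comap (MulAut.conj P).toMonoidHom := ⟨_, rfl⟩
    have hXmem : ∀ x, x ∈ X ↔ P * x * P⁻¹ ∈ M := by
      intro x
      rw [hX]
      exact Iff.rfl
    have hCtx : UM.Ctx n F q X := by
      refine ⟨?_, ?_⟩
      · intro x hx
        have h1 := su_conj hPinvU (hMS ((hXmem x).mp hx))
        have h2 : P⁻¹ * (P * x * P⁻¹) * P⁻¹⁻¹ = x := by group
        rw [h2] at h1
        exact h1
      · intro x hxm hxS
        rw [hXmem]
        apply hHM
        refine ⟨L1 _ ?_, su_conj hPU hxS⟩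
        have h2 : P⁻¹ * (P * x * P⁻¹) * P = x := by group
        rw [h2]
        exact hxm
    by_cases hne : ∃ x ∈ X, ¬ Mono.IsMono (x : Matrix (Fin n) (Fin n) F)
    · right
      apply le_antisymm hMS
      intro s hs
      have h1 : P⁻¹ * s * P⁻¹⁻¹ ∈ X := hstd X hCtx hne (su_conj hPinvU hs)
      rw [hXmem] at h1
      have h2 : P * (P⁻¹ * s * P⁻¹⁻¹) * P⁻¹ = s := by group
      rw [h2] at h1
      exact h1
    · left
      push Not at hne
      apply le_antisymm _ hHM
      intro m hm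
      refine ⟨L1 m ?_, hMS hm⟩
      apply hne
      rw [hXmem]
      have h2 : P * (P⁻¹ * m * P) * P⁻¹ = m := by group
      rw [h2]
      exact hm

end Cfsg.Agent.Lib.Helper7.UD
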