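import Mathlib
import Cfsg.Agent.Lib.Helper5.HermBasis
import Cfsg.Agent.Lib.Helper5.HermBridge

set_option autoImplicit false

/-!
# Hermitian forms `f : V → V → F` for `x ↦ x ^ q₀` on arbitrary spaces (for S5982)
-/

namespace Cfsg.Agent.Lib.Helper7.UQ

open Module Cfsg
open Cfsg.Agent.Lib.Helper5.Herm Cfsg.Agent.Lib.Helper5.HermBridge

universe u

section basics
variable {F : Type u} [Field F] [Fintype F] {q₀ : ℕ} {V : Type u} [AddCommGroup V] [Module F V]

/-- `f` is linear in the first variable and hermitian for `x ↦ x ^ q₀` -/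
structure Herm (q₀ : ℕ) (f : V → V → F) : Prop where
  add_left : ∀ x y v, f (x + y) v = f x v + f y v
  smul_left : ∀ (c : F) (x v : V), f (c • x) v = c * f x v
  herm : ∀ v w, f v w = (f w v) ^ q₀

/-- nondegeneracy -/
def HNd (f : V → V → F) : Prop := ∀ v, (∀ w, f w v = 0) → v = 0

/-- `y` multiplies `f` by `c` -/
def USim (f : V → V → F) (y : Module.End F V) (c : F) : Prop :=
  ∀ u v, f (y u) (y v) = c * f u v

variable (hF : Fintype.card F = q₀ ^ 2) {f : V → V → F} (hf : Herm q₀ f)

include hF hf in
theorem Herm.add_right (v x y : V) : f v (x + y) = f v x + f v y := by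
  rw [hf.herm, hf.add_left, pow_q_add hF, ← hf.herm, ← hf.herm]

include hf in
theorem Herm.smul_right (c : F) (v x : V) : f v (c • x) = c ^ q₀ * f v x := by
  rw [hf.herm, hf.smul_left, mul_pow, ← hf.herm]

include hf in
theorem Herm.zero_left (y : V) : f 0 y = 0 := by
  have h := hf.smul_left 0 0 y
  rwa [zero_smul, zero_mul] at h

include hF hf in
theorem Herm.zero_right (y : V) : f y 0 = 0 := by
  rw [hf.herm, hf.zero_left, zero_pow (q_ne_zero hF)]

include hf in
theorem Herm.neg_left (x y : V) : f (-x) y = -f x y := by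
  have h := hf.smul_left (-1) x y
  rwa [neg_one_smul, neg_one_mul] at h

include hf in
theorem Herm.sub_left (x x' y : V) : f (x - x') y = f x y - f x' y := by
  rw [sub_eq_add_neg, hf.add_left, hf.neg_left, ← sub_eq_add_neg]

include hf in
theorem Herm.sum_left {α : Type*} (s : Finset α) (v : α → V) (y : V) :
    f (∑ a ∈ s, v a) y = ∑ a ∈ s, f (v a) y := by
  classical
  induction s using Finset.induction_on with
  | empty => simp [hf.zero_left]
  | insert a s ha ih => rw [Finset.sum_insert ha, Finset.sum_insert ha, hf.add_left, ih]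

include hF hf in
theorem Herm.sum_right {α : Type*} (s : Finset α) (v : α → V) (y : V) :
    f y (∑ a ∈ s, v a) = ∑ a ∈ s, f y (v a) := by
  classical
  induction s using Finset.induction_on with
  | empty => simp [hf.zero_right hF]
  | insert a s ha ih => rw [Finset.sum_insert ha, Finset.sum_insert ha, hf.add_right hF, ih]

include hF hf in
/-- the other nondegeneracy -/
theorem HNd.left (hnd : HNd f) : ∀ v, (∀ w, f v w = 0) → v = 0 := by
  intro v hv
  apply hnd
  intro w
  rw [hf.herm, hv w, zero_pow (q_ne_zero hF)]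

omit [Fintype F] in
theorem HNd.exists_ne_zero [Nontrivial V] (hnd : HNd f) : ∃ u v, f u v ≠ 0 := by
  by_contra hcon
  push Not at hcon
  obtain ⟨v, hv⟩ := exists_ne (0 : V)
  exact hv (hnd v (fun w => hcon w v))

/-- the sesquilinear map of a hermitian form (semilinear in the first variable) -/
noncomputable def Herm.toSesq : V →ₛₗ[sigma hF] V →ₗ[F] F :=
  LinearMap.mk₂'ₛₗ (sigma hF) (RingHom.id F) (fun x y => f y x)
    (fun x x' y => hf.add_right hF y x x')
    (fun c x y => by rw [hf.smul_right, sigma_apply, smul_eq_mul])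
    (fun x y y' => hf.add_left y y' x)
    (fun c x y => by rw [hf.smul_left, RingHom.id_apply, smul_eq_mul])

theorem Herm.toSesq_apply (x y : V) : hf.toSesq hF x y = f y x := rfl

include hF hf in
/-- orthonormal bases -/
theorem Herm.exists_orthonormal [FiniteDimensional F V] (hnd : HNd f) (m : ℕ)
    (hm : finrank F V = m) :
    ∃ b : Basis (Fin m) F V, ∀ i j, f (b i) (b j) = if i = j then 1 else 0 := by
  subst hm
  have hS : (hf.toSesq hF).IsSymm := ⟨fun x y => by
    rw [Herm.toSesq_apply, Herm.toSesq_apply, sigma_apply, ← hf.herm]⟩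
  have hN : (hf.toSesq hF).Nondegenerate := by
    constructor
    · intro x hx
      apply hnd
      intro w
      exact hx w
    · intro y hy
      apply HNd.left hF hf hnd
      intro w
      exact hy w
  obtain ⟨b, hb⟩ := Cfsg.Agent.Lib.Helper5.HermBasis.exists_orthonormal_basis (sigma_ne_id hF)
    (sigma_sigma hF) (hf.toSesq hF) hS hN
  refine ⟨b, fun i j => ?_⟩
  have h1 := hb j i
  rw [Herm.toSesq_apply] at h1
  rw [h1]
  by_cases hij : i = j
  · rw [if_pos hij, if_pos hij.symm]
  · rw [if_neg hij, if_neg (Ne.symm hij)]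

include hF hf in
/-- in an orthonormal basis the form is the standard one -/
theorem Herm.apply_of_orthonormal {m : ℕ} (b : Basis (Fin m) F V)
    (hb : ∀ i j, f (b i) (b j) = if i = j then 1 else 0) (u v : V) :
    f u v = hermForm m F q₀ (b.equivFun u) (b.equivFun v) := by
  conv_lhs => rw [← b.sum_equivFun u, ← b.sum_equivFun v]
  rw [hf.sum_left]
  unfold hermForm
  apply Finset.sum_congr rfl
  intro i _
  rw [hf.sum_right hF, Finset.sum_eq_single i]
  · rw [hf.smul_left, hf.smul_right, hb, if_pos rfl, mul_one]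
  · intro j _ hji
    rw [hf.smul_left, hf.smul_right, hb, if_neg (Ne.symm hji), mul_zero, mul_zero]
  · intro h
    exact absurd (Finset.mem_univ _) h

end basics

/-! ### the twisted standard form of a basis -/

section tau
variable {F : Type u} [Field F] [Fintype F] {q₀ : ℕ} {V : Type u} [AddCommGroup V] [Module F V]
  {ι : Type} [Fintype ι]

/-- `Σ_i u_i (v_{τ i})^q₀` in the coordinates of a basis -/
noncomputable def hermTau (q₀ : ℕ) (b : Basis ι F V) (τ : ι → ι) (u v : V) : F :=
  ∑ i, b.repr u i * (b.repr v (τ i)) ^ q₀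

variable (hF : Fintype.card F = q₀ ^ 2) (b : Basis ι F V) (τ : ι → ι) (hτ : ∀ i, τ (τ i) = i)

include hF hτ in
theorem hermTau_herm : Herm q₀ (hermTau q₀ b τ) := by
  refine ⟨?_, ?_, ?_⟩
  · intro x y v
    unfold hermTau
    rw [← Finset.sum_add_distrib]
    apply Finset.sum_congr rfl
    intro i _
    rw [map_add, Finsupp.add_apply, add_mul]
  · intro c x v
    unfold hermTau
    rw [Finset.mul_sum]
    apply Finset.sum_congr rfl
    intro i _
    rw [map_smul, Finsupp.smul_apply, smul_eq_mul, mul_assoc]
  · intro v w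
    unfold hermTau
    rw [pow_q_sum hF]
    have h1 := Equiv.sum_comp (Function.Involutive.toPerm τ hτ)
      (fun i => (b.repr w i * (b.repr v (τ i)) ^ q₀) ^ q₀)
    rw [← h1]
    apply Finset.sum_congr rfl
    intro i _
    show _ = (b.repr w (τ i) * (b.repr v (τ (τ i))) ^ q₀) ^ q₀
    rw [hτ, mul_pow, pow_q_pow_q hF, mul_comm]

include hF hτ in
theorem hermTau_nd : HNd (hermTau q₀ b τ) := by
  classical
  intro v hv
  rw [← b.forall_coord_eq_zero_iff]
  intro j
  have h1 := hv (b (τ j))
  unfold hermTau at h1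
  rw [Finset.sum_eq_single (τ j)] at h1
  · rw [Basis.repr_self, Finsupp.single_eq_same, one_mul, hτ] at h1
    rw [Basis.coord_apply]
    exact pow_eq_zero_iff (q_ne_zero hF) |>.mp h1
  · intro i _ hi
    rw [Basis.repr_self, Finsupp.single_apply, if_neg (Ne.symm hi), zero_mul]
  · intro h
    exact absurd (Finset.mem_univ _) h

omit [Fintype F] in
theorem repr_of_eigen (y : Module.End F V) (d : ι → F) (hy : ∀ i, y (b i) = d i • b i) (i : ι)
    (u : V) : b.repr (y u) i = d i * b.repr u i := by
  classical
  have h : (b.coord i) ∘ₗ y = d i • b.coord i := by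
    apply b.ext
    intro j
    rw [LinearMap.comp_apply, hy, map_smul, LinearMap.smul_apply, Basis.coord_apply,
      Basis.repr_self, Finsupp.single_apply, smul_eq_mul, smul_eq_mul]
    by_cases hji : j = i
    · rw [hji]
    · rw [if_neg hji, mul_zero, mul_zero]
  have h1 := LinearMap.congr_fun h u
  rw [LinearMap.comp_apply, LinearMap.smul_apply, smul_eq_mul, Basis.coord_apply,
    Basis.coord_apply] at h1
  exact h1

omit [Fintype F] in
theorem hermTau_sim (y : Module.End F V) (d : ι → F) (hy : ∀ i, y (b i) = d i • b i) (c : F)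
    (hc : ∀ i, d i * (d (τ i)) ^ q₀ = c) : USim (hermTau q₀ b τ) y c := by
  intro u v
  unfold hermTau
  rw [Finset.mul_sum]
  apply Finset.sum_congr rfl
  intro i _
  rw [repr_of_eigen b y d hy i u, repr_of_eigen b y d hy (τ i) v, ← hc i, mul_pow]
  ring

end tau

end Cfsg.Agent.Lib.Helper7.UQ
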