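import Mathlib
import Cfsg.Agent.Lib.Helper7.UQ1
import Cfsg.Agent.Lib.Helper7.OQ2

set_option autoImplicit false

/-!
# Diagonal elements of `SL_n(q₀²)` that are similitudes of no hermitian form (for S5982)
-/

namespace Cfsg.Agent.Lib.Helper7.UQ

open Module Cfsg
open Cfsg.Agent.Lib.Helper5.Herm Cfsg.Agent.Lib.Helper7.OQ

universe u

section gram
variable {F : Type u} [Field F] [Fintype F] {q₀ : ℕ} {V : Type u} [AddCommGroup V] [Module F V]
  {ι : Type} [Fintype ι] [DecidableEq ι]

omit [Fintype ι] [DecidableEq ι] in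
theorem ugram_eq_zero (b : Basis ι F V) {f : V → V → F} (hf : Herm q₀ f) (y : Module.End F V)
    (d : ι → F) (hy : ∀ i, y (b i) = d i • b i) (c : F) (hsim : USim f y c) (i j : ι)
    (hij : d i * (d j) ^ q₀ ≠ c) : f (b i) (b j) = 0 := by
  have h := hsim (b i) (b j)
  rw [hy, hy, hf.smul_left, hf.smul_right] at h
  have h1 : (d i * (d j) ^ q₀ - c) * f (b i) (b j) = 0 := by linear_combination h
  rcases mul_eq_zero.1 h1 with h2 | h2
  · exact absurd (sub_eq_zero.1 h2) hij
  · exact h2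

omit [DecidableEq ι] in
theorem uexists_partner (b : Basis ι F V) {f : V → V → F} (hf : Herm q₀ f) (hnd : HNd f)
    (y : Module.End F V) (d : ι → F) (hy : ∀ i, y (b i) = d i • b i) (c : F) (hsim : USim f y c)
    (i : ι) : ∃ j, d j * (d i) ^ q₀ = c := by
  by_contra hcon
  push Not at hcon
  apply b.ne_zero i
  apply hnd
  intro w
  rw [← b.sum_repr w, hf.sum_left]
  apply Finset.sum_eq_zero
  intro j _
  rw [hf.smul_left, ugram_eq_zero b hf y d hy c hsim j i (hcon j), mul_zero]

/-- if more than half of the eigenvalues are equal to `β`, the multiplier is `β ^ (q₀ + 1)` -/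
theorem umult_eq_of_big (hF : Fintype.card F = q₀ ^ 2) (b : Basis ι F V) {f : V → V → F}
    (hf : Herm q₀ f) (hnd : HNd f) (y : Module.End F V) (d : ι → F)
    (hy : ∀ i, y (b i) = d i • b i) (c : F) (hsim : USim f y c) (β : F)
    (hbig : 2 * Nat.card {i // d i ≠ β} < Fintype.card ι) : c = β * β ^ q₀ := by
  classical
  rw [Nat.card_eq_fintype_card] at hbig
  by_contra hne
  have hS : ∀ i j : {i // d i = β}, f (b i.1) (b j.1) = 0 := by
    intro i j
    apply ugram_eq_zero b hf y d hy c hsim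
    rw [i.2, j.2]
    exact fun h => hne h.symm
  obtain ⟨M, hM⟩ : ∃ M : Matrix {i // d i ≠ β} {i // d i = β} F,
      M = Matrix.of fun j i => f (b i.1) (b j.1) := ⟨_, rfl⟩
  have hcard : Fintype.card {i // d i ≠ β} = Fintype.card ι - Fintype.card {i // d i = β} :=
    Fintype.card_subtype_compl (fun i => d i = β)
  have hle : Fintype.card {i // d i = β} ≤ Fintype.card ι := Fintype.card_subtype_le _
  have hlt : finrank F ({i // d i ≠ β} → F) < finrank F ({i // d i = β} → F) := by
    rw [Module.finrank_fintype_fun_eq_card, Module.finrank_fintype_fun_eq_card]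
    omega
  have hker := LinearMap.ker_ne_bot_of_finrank_lt (f := M.mulVecLin) hlt
  obtain ⟨a, hamem, ha0⟩ := (Submodule.ne_bot_iff _).1 hker
  rw [LinearMap.mem_ker, Matrix.mulVecLin_apply] at hamem
  have hli : LinearIndependent F (fun i : {i // d i = β} => b i.1) :=
    b.linearIndependent.comp _ Subtype.val_injective
  apply ha0
  have hv : ∑ i : {i // d i = β}, a i • b i.1 = 0 := by
    apply HNd.left hF hf hnd
    have h0 : ∀ j, f (∑ i : {i // d i = β}, a i • b i.1) (b j) = 0 := by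
      intro j
      rw [hf.sum_left]
      by_cases hj : d j = β
      · apply Finset.sum_eq_zero
        intro i _
        rw [hf.smul_left, hS i ⟨j, hj⟩, mul_zero]
      · have h1 := congrFun hamem ⟨j, hj⟩
        rw [Matrix.mulVec, dotProduct, Pi.zero_apply] at h1
        rw [← h1]
        apply Finset.sum_congr rfl
        intro i _
        rw [hf.smul_left, hM, Matrix.of_apply, mul_comm]
    intro w
    rw [← b.sum_repr w, hf.sum_right hF]
    apply Finset.sum_eq_zero
    intro j _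
    rw [hf.smul_right, h0 j, mul_zero]
  funext i
  exact Fintype.linearIndependent_iff.1 hli a hv i

end gram

section general
variable {F : Type u} [Field F] [Fintype F] {q₀ : ℕ} {ι : Type} [Fintype ι] [DecidableEq ι]

/-- `y` is a similitude of no nondegenerate hermitian form -/
def UNoSim (q₀ : ℕ) (y : Module.End F (ι → F)) : Prop :=
  ∀ f : (ι → F) → (ι → F) → F, Herm q₀ f → HNd f → ∀ c : F, ¬ USim f y c

theorem unoSim_diag (hF : Fintype.card F = q₀ ^ 2) (d : ι → F) (β : F)
    (hbig : 2 * Nat.card {i // d i ≠ β} < Fintype.card ι) (i₀ : ι)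
    (hi₀ : ∀ j, d j * (d i₀) ^ q₀ ≠ β * β ^ q₀) :
    UNoSim q₀ (Matrix.toLin' (Matrix.diagonal d)) := by
  intro f hf hnd c hsim
  have hc := umult_eq_of_big hF (Pi.basisFun F ι) hf hnd _ d (toLin'_diagonal_basis d) c hsim β
    hbig
  obtain ⟨j, hj⟩ := uexists_partner (Pi.basisFun F ι) hf hnd _ d (toLin'_diagonal_basis d) c
    hsim i₀
  exact hi₀ j (hj.trans hc)

end general

section elements
variable {F : Type u} [Field F] [Fintype F] {q₀ : ℕ} {n : ℕ}

/-- `diag(ω, ω, ω⁻², 1, …, 1)` with `ω ∈ F_{q₀}` -/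
theorem exists_uder_D2 (hF : Fintype.card F = q₀ ^ 2) (hn : 7 ≤ n) (ω : F) (r : ℕ) (hr : Odd r)
    (hω : ω ^ r = 1) (hω1 : ω ≠ 1) (hωσ : ω ^ q₀ = ω) :
    ∃ y : Module.End F (Fin n → F), LinearMap.det y = 1 ∧ y ^ r = 1 ∧ (∀ c : F, y ≠ c • 1) ∧
      UNoSim q₀ y := by
  classical
  have hω0 : ω ≠ 0 := by
    intro h
    rw [h, zero_pow (by obtain ⟨k, rfl⟩ := hr; omega)] at hω
    exact zero_ne_one hω
  have hω2 := sq_ne_one_of_odd hr hω hω1
  obtain ⟨a, ha⟩ : ∃ a : Fin n, a = ⟨0, by omega⟩ := ⟨_, rfl⟩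
  obtain ⟨b, hb⟩ : ∃ b : Fin n, b = ⟨1, by omega⟩ := ⟨_, rfl⟩
  obtain ⟨c', hc'⟩ : ∃ c' : Fin n, c' = ⟨2, by omega⟩ := ⟨_, rfl⟩
  obtain ⟨e, he⟩ : ∃ e : Fin n, e = ⟨3, by omega⟩ := ⟨_, rfl⟩
  have hab : a ≠ b := by rw [ha, hb]; simp [Fin.ext_iff]
  have hac : a ≠ c' := by rw [ha, hc']; simp [Fin.ext_iff]
  have hbc : b ≠ c' := by rw [hb, hc']; simp [Fin.ext_iff]
  have hea : e ≠ a := by rw [ha, he]; simp [Fin.ext_iff]
  have heb : e ≠ b := by rw [hb, he]; simp [Fin.ext_iff]
  have hec : e ≠ c' := by rw [hc', he]; simp [Fin.ext_iff]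
  obtain ⟨d, hd⟩ : ∃ d : Fin n → F, d = fun i => (if i = a then ω else 1) *
      (if i = b then ω else 1) * (if i = c' then (ω * ω)⁻¹ else 1) := ⟨_, rfl⟩
  have hda : d a = ω := by rw [hd]; simp [hab, hac]
  have hdo : ∀ j, j ≠ a → j ≠ b → j ≠ c' → d j = 1 := by
    intro j h1 h2 h3
    rw [hd]
    simp [h1, h2, h3]
  have hdvals : ∀ j, d j = ω ∨ d j = (ω * ω)⁻¹ ∨ d j = 1 := by
    intro j
    by_cases h1 : j = a
    · left; rw [h1, hda]
    by_cases h2 : j = b
    · left; rw [h2, hd]; simp [hab.symm, hbc]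
    by_cases h3 : j = c'
    · right; left; rw [h3, hd]; simp [hac.symm, hbc.symm]
    · right; right; exact hdo j h1 h2 h3
  have hprod : ∏ i, d i = 1 := by
    rw [hd]
    simp only []
    rw [Finset.prod_mul_distrib, Finset.prod_mul_distrib, Finset.prod_ite_eq', Finset.prod_ite_eq',
      Finset.prod_ite_eq']
    simp only [Finset.mem_univ, if_true]
    exact mul_inv_cancel₀ (mul_ne_zero hω0 hω0)
  have hpow : d ^ r = fun _ => (1 : F) := by
    funext i
    rcases hdvals i with h | h | h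
    · rw [Pi.pow_apply, h, hω]
    · rw [Pi.pow_apply, h, inv_pow, mul_pow, hω, one_mul, inv_one]
    · rw [Pi.pow_apply, h, one_pow]
  refine ⟨Matrix.toLin' (Matrix.diagonal d), ?_, ?_, ?_, ?_⟩
  · rw [LinearMap.det_toLin', Matrix.det_diagonal, hprod]
  · rw [toLin'_pow', Matrix.diagonal_pow, hpow, Matrix.diagonal_one, Matrix.toLin'_one,
      Module.End.one_eq_id]
  · intro c
    apply diag_ne_smul d (i := a) (j := e)
    rw [hda, hdo e hea heb hec]
    exact hω1
  · apply unoSim_diag hF d 1 _ a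
    · intro j
      rw [hda, hωσ, one_pow, mul_one]
      rcases hdvals j with h | h | h
      · rw [h]; exact hω2
      · rw [h]
        intro h1
        apply hω1
        have h2 : (ω * ω)⁻¹ * ω * (ω * ω) = ω * ω := by rw [h1, one_mul]
        have h3 : (ω * ω)⁻¹ * ω * (ω * ω) = ω := by
          rw [mul_comm ((ω * ω)⁻¹) ω, mul_assoc, inv_mul_cancel₀ (mul_ne_zero hω0 hω0), mul_one]
        rw [h3] at h2
        have h4 : ω * (ω - 1) = 0 := by linear_combination -h2
        rcases mul_eq_zero.1 h4 with h5 | h5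
        · exact absurd h5 hω0
        · exact sub_eq_zero.1 h5
      · rw [h, one_mul]; exact hω1
    · rw [Nat.card_eq_fintype_card, Fintype.card_subtype, Fintype.card_fin]
      have hsub : (Finset.univ.filter fun i => d i ≠ 1) ⊆ {a, b, c'} := by
        intro j hj
        rw [Finset.mem_filter] at hj
        by_contra hcon
        simp only [Finset.mem_insert, Finset.mem_singleton, not_or] at hcon
        exact hj.2 (hdo j hcon.1 hcon.2.1 hcon.2.2)
      have h3 := (Finset.card_le_card hsub).trans Finset.card_le_three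
      omega

/-- `s · diag(s⁻ⁿ, 1, …, 1)` with `sⁿ ∈ F_{q₀}` -/
theorem exists_uder_D1 (hF : Fintype.card F = q₀ ^ 2) (hn : 3 ≤ n) (s : F) (hs : s ≠ 0) (r : ℕ)
    (hr : Odd r) (hζ : (s ^ n) ^ r = 1) (hζ1 : s ^ n ≠ 1) (hζσ : (s ^ n) ^ q₀ = s ^ n) :
    ∃ y : Module.End F (Fin n → F), LinearMap.det y = 1 ∧ y ^ r = (s ^ r) • 1 ∧
      (∀ c : F, y ≠ c • 1) ∧ UNoSim q₀ y := by
  classical
  have hζ0 : s ^ n ≠ 0 := pow_ne_zero n hs
  have hζ2 := sq_ne_one_of_odd hr hζ hζ1
  obtain ⟨a, ha⟩ : ∃ a : Fin n, a = ⟨0, by omega⟩ := ⟨_, rfl⟩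
  obtain ⟨b, hb⟩ : ∃ b : Fin n, b = ⟨1, by omega⟩ := ⟨_, rfl⟩
  have hab : a ≠ b := by rw [ha, hb]; simp [Fin.ext_iff]
  obtain ⟨d, hd⟩ : ∃ d : Fin n → F, d = fun i => s * (if i = a then (s ^ n)⁻¹ else 1) := ⟨_, rfl⟩
  have hda : d a = s * (s ^ n)⁻¹ := by rw [hd]; simp
  have hdo : ∀ j, j ≠ a → d j = s := by
    intro j h1
    rw [hd]
    simp [h1]
  have hprod : ∏ i, d i = 1 := by
    rw [hd]
    simp only []
    rw [Finset.prod_mul_distrib, Finset.prod_ite_eq', Finset.prod_const, Finset.card_univ,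
      Fintype.card_fin]
    simp only [Finset.mem_univ, if_true]
    exact mul_inv_cancel₀ hζ0
  have hpow : d ^ r = fun _ => s ^ r := by
    funext i
    by_cases h : i = a
    · rw [Pi.pow_apply, h, hda, mul_pow, inv_pow, hζ, inv_one, mul_one]
    · rw [Pi.pow_apply, hdo i h]
  have hne : d a ≠ s := by
    rw [hda]
    intro h
    apply hζ1
    have h1 : s * (s ^ n)⁻¹ * s ^ n = s := by
      rw [mul_assoc, inv_mul_cancel₀ hζ0, mul_one]
    rw [h] at h1
    have h2 : s * (s ^ n - 1) = 0 := by linear_combination h1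
    rcases mul_eq_zero.1 h2 with h3 | h3
    · exact absurd h3 hs
    · exact sub_eq_zero.1 h3
  have hsq0 : s * s ^ q₀ ≠ 0 := mul_ne_zero hs (pow_ne_zero _ hs)
  have hdaq : (d a) ^ q₀ = s ^ q₀ * (s ^ n)⁻¹ := by
    rw [hda, mul_pow, inv_pow, hζσ]
  refine ⟨Matrix.toLin' (Matrix.diagonal d), ?_, ?_, ?_, ?_⟩
  · rw [LinearMap.det_toLin', Matrix.det_diagonal, hprod]
  · rw [toLin'_pow', Matrix.diagonal_pow, hpow, ← Matrix.smul_one_eq_diagonal, map_smul,
      Matrix.toLin'_one, Module.End.one_eq_id]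
  · intro c
    apply diag_ne_smul d (i := a) (j := b)
    rw [hdo b hab.symm]
    exact hne
  · apply unoSim_diag hF d s _ a
    · intro j
      rw [hdaq]
      by_cases h : j = a
      · rw [h, hda]
        intro h1
        apply hζ2
        have h2 : s * (s ^ n)⁻¹ * (s ^ q₀ * (s ^ n)⁻¹) * (s ^ n * s ^ n) = s * s ^ q₀ := by
          field_simp
        rw [h1] at h2
        have h3 : s * s ^ q₀ * (s ^ n * s ^ n - 1) = 0 := by linear_combination h2
        rcases mul_eq_zero.1 h3 with h4 | h4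
        · exact absurd h4 hsq0
        · exact sub_eq_zero.1 h4
      · rw [hdo j h]
        intro h1
        apply hζ1
        have h2 : s * (s ^ q₀ * (s ^ n)⁻¹) * s ^ n = s * s ^ q₀ := by
          field_simp
        rw [h1] at h2
        have h3 : s * s ^ q₀ * (s ^ n - 1) = 0 := by linear_combination h2
        rcases mul_eq_zero.1 h3 with h4 | h4
        · exact absurd h4 hsq0
        · exact sub_eq_zero.1 h4
    · rw [Nat.card_eq_fintype_card, Fintype.card_subtype, Fintype.card_fin]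
      have hsub : (Finset.univ.filter fun i => d i ≠ s) ⊆ {a} := by
        intro j hj
        rw [Finset.mem_filter] at hj
        by_contra hcon
        rw [Finset.mem_singleton] at hcon
        exact hj.2 (hdo j hcon)
      have h3 := Finset.card_le_card hsub
      rw [Finset.card_singleton] at h3
      omega

end elements

end Cfsg.Agent.Lib.Helper7.UQ
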