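import Mathlib
import Cfsg.Agent.Lib.Helper7.UQ2
import Cfsg.Agent.Lib.Helper7.OQ3
import Cfsg.Agent.Lib.Helper5.HermCard
import Cfsg.Agent.Lib.Helper2.UppB

set_option autoImplicit false

/-!
# S5982: arithmetic modulo `r` for unitary groups, and the single block element
-/

namespace Cfsg.Agent.Lib.Helper7.UQ

open Module Cfsg Matrix
open Cfsg.Agent.Lib.Helper2 Cfsg.Agent.Lib.Helper5.Herm Cfsg.Agent.Lib.Helper5.HermBridge
  Cfsg.Agent.Lib.Helper5

universe u

/-! ### arithmetic modulo `r` -/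

section zmod
variable (r : ℕ) [hr : Fact r.Prime] (q₀ : ℕ)

theorem zmod_of_dvd_U (hq₀ : 0 < q₀) (j : ℕ)
    (h : r ∣ (if Even j then q₀ ^ (j + 1) + 1 else q₀ ^ (j + 1) - 1)) :
    (-(q₀ : ZMod r)) ^ (j + 1) = 1 := by
  by_cases hj : Even j
  · rw [if_pos hj] at h
    have h1 := (ZMod.natCast_eq_zero_iff _ r).2 h
    rw [Nat.cast_add, Nat.cast_pow, Nat.cast_one] at h1
    rw [Odd.neg_pow (Even.add_one hj)]
    linear_combination -h1
  · rw [if_neg hj] at h
    have h1 := (ZMod.natCast_eq_zero_iff _ r).2 h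
    rw [Nat.cast_sub (Nat.one_le_pow _ _ hq₀), Nat.cast_pow, Nat.cast_one] at h1
    have hodd : Odd j := Nat.not_even_iff_odd.1 hj
    rw [Even.neg_pow (Odd.add_one hodd)]
    linear_combination h1

theorem zmod_of_dvd_W (hq₀ : 0 < q₀) (j : ℕ)
    (h : r ∣ (if Even j then q₀ ^ (j + 1) - 1 else q₀ ^ (j + 1) + 1)) :
    (-(q₀ : ZMod r)) ^ (j + 1) = -1 := by
  by_cases hj : Even j
  · rw [if_pos hj] at h
    have h1 := (ZMod.natCast_eq_zero_iff _ r).2 h
    rw [Nat.cast_sub (Nat.one_le_pow _ _ hq₀), Nat.cast_pow, Nat.cast_one] at h1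
    rw [Odd.neg_pow (Even.add_one hj)]
    linear_combination -h1
  · rw [if_neg hj] at h
    have h1 := (ZMod.natCast_eq_zero_iff _ r).2 h
    rw [Nat.cast_add, Nat.cast_pow, Nat.cast_one] at h1
    have hodd : Odd j := Nat.not_even_iff_odd.1 hj
    rw [Even.neg_pow (Odd.add_one hodd)]
    linear_combination h1

theorem sq_cast_pow (J : ℕ) :
    (((q₀ ^ 2 : ℕ) : ℕ) : ZMod r) ^ J = ((-(q₀ : ZMod r)) ^ J) ^ 2 := by
  rw [← pow_mul, mul_comm, pow_mul, neg_sq, Nat.cast_pow]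

theorem ord_dvd_of_pow_one (J : ℕ) (h : (-(q₀ : ZMod r)) ^ J = 1) :
    orderOf (((q₀ ^ 2 : ℕ) : ℕ) : ZMod r) ∣ J := by
  apply orderOf_dvd_of_pow_eq_one
  rw [sq_cast_pow, h, one_pow]

theorem ord_dvd_of_pow_neg_one (J : ℕ) (h : (-(q₀ : ZMod r)) ^ J = -1) :
    orderOf (((q₀ ^ 2 : ℕ) : ℕ) : ZMod r) ∣ J := by
  apply orderOf_dvd_of_pow_eq_one
  rw [sq_cast_pow, h]
  ring

theorem block_contra (hr2 : r ≠ 2) (i : ℕ) (hi : i = orderOf (((q₀ ^ 2 : ℕ) : ℕ) : ZMod r))
    (J₁ : ℕ) (h1 : 1 ≤ J₁) (h1i : J₁ ≤ i) (hJ₁ : (-(q₀ : ZMod r)) ^ J₁ = 1) (J₂ : ℕ)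
    (hJ₂ : (-(q₀ : ZMod r)) ^ J₂ = -1) : False := by
  haveI : Fact (2 < r) := ⟨lt_of_le_of_ne hr.out.two_le (Ne.symm hr2)⟩
  have hd1 := ord_dvd_of_pow_one r q₀ J₁ hJ₁
  rw [← hi] at hd1
  have hle := Nat.le_of_dvd (by omega) hd1
  have hJi : J₁ = i := le_antisymm h1i hle
  have hd2 := ord_dvd_of_pow_neg_one r q₀ J₂ hJ₂
  rw [← hi] at hd2
  obtain ⟨k, hk⟩ := hd2
  rw [hk, pow_mul, ← hJi, hJ₁, one_pow] at hJ₂
  exact ZMod.neg_one_ne_one hJ₂.symm

end zmod

/-! ### powers of similitudes -/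

section pow
variable {F : Type u} [Field F] {V : Type u} [AddCommGroup V] [Module F V]

theorem USim.pow {f : V → V → F} {y : Module.End F V} {c : F} (h : USim f y c) (k : ℕ) :
    USim f (y ^ k) (c ^ k) := by
  induction k with
  | zero =>
    intro u v
    rw [pow_zero, pow_zero, Module.End.one_apply, Module.End.one_apply, one_mul]
  | succ k ih =>
    intro u v
    rw [pow_succ, Module.End.mul_apply, Module.End.mul_apply, ih (y u) (y v), h u v, pow_succ,
      mul_assoc]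

theorem USim.const_pow {f : V → V → F} {y : Module.End F V} {c : F} (h : USim f y c) {r : ℕ}
    (hy : y ^ r = 1) {u v : V} (huv : f u v ≠ 0) : c ^ r = 1 := by
  have h1 := h.pow r u v
  rw [hy, Module.End.one_apply, Module.End.one_apply] at h1
  have h2 : (c ^ r - 1) * f u v = 0 := by linear_combination -h1
  rcases mul_eq_zero.1 h2 with h3 | h3
  · exact sub_eq_zero.1 h3
  · exact absurd h3 huv

end pow

/-! ### the block element -/

section block
variable {F : Type u} [Field F] [Fintype F] {p : ℕ} [hp : Fact p.Prime] [CharP F p]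

/-- an element of order `r` with a single nontrivial block, together with its decomposition -/
theorem exists_block_elt' (n r : ℕ) [hr : Fact r.Prime] (hrp : r ≠ p) (i : ℕ)
    (hi : i = orderOf ((Fintype.card F : ℕ) : ZMod r)) (hi2 : 2 ≤ i) (hin : i ≤ n) :
    ∃ (y : Module.End F (Fin n → F)) (y₀ : Module.End F (Fin i → F))
      (ι : (Fin i → F) →ₗ[F] (Fin n → F)) (κ : (Fin (n - i) → F) →ₗ[F] (Fin n → F)),
      LinearMap.det y = 1 ∧ y ^ r = 1 ∧ (∀ c : F, y ≠ c • 1) ∧ y₀ ^ r = 1 ∧ (∃ a, y₀ a ≠ a) ∧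
      (∀ a, y (ι a) = ι (y₀ a)) ∧ (∀ b, y (κ b) = κ b) ∧ (∀ v, ∃ a b, v = ι a + κ b) ∧
      (∀ a, ∃ a', y₀ a' - a' = a) ∧ Function.Injective ι := by
  obtain ⟨y₀, hdet₀, hpow₀, hns₀, hker₀⟩ := Elus.exists_ss_elt (F := F) (p := p) i r hrp
    (by rw [← hi]; exact hi2) (by rw [← hi])
  rw [← hi, Nat.mod_self] at hker₀
  have hbot : LinearMap.ker (y₀ - 1) = ⊥ := Submodule.finrank_eq_zero.1 hker₀
  have hsurj := LinearMap.injective_iff_surjective.1 (LinearMap.ker_eq_bot.1 hbot)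
  have hne₀ : ∃ a, y₀ a ≠ a := by
    by_contra h
    push Not at h
    apply hns₀ 1
    apply LinearMap.ext
    intro a
    rw [h a, LinearMap.smul_apply, Module.End.one_apply, one_smul]
  obtain ⟨y', hy'⟩ : ∃ y' : Module.End F ((Fin i → F) × (Fin (n - i) → F)),
      y' = LinearMap.prodMap y₀ LinearMap.id := ⟨_, rfl⟩
  have hy'app : ∀ v, y' v = (y₀ v.1, v.2) := by
    intro v
    rw [hy']
    rfl
  have hy'pow : ∀ (k : ℕ) (v : (Fin i → F) × (Fin (n - i) → F)),
      (y' ^ k) v = ((y₀ ^ k) v.1, v.2) := by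
    intro k
    induction k with
    | zero =>
      intro v
      simp
    | succ k ih =>
      intro v
      rw [pow_succ', Module.End.mul_apply, ih, pow_succ', Module.End.mul_apply, hy']
      rfl
  have hfin : finrank F ((Fin i → F) × (Fin (n - i) → F)) = finrank F (Fin n → F) := by
    rw [Module.finrank_prod, Module.finrank_fin_fun, Module.finrank_fin_fun,
      Module.finrank_fin_fun]
    omega
  obtain ⟨e, -⟩ : ∃ e : ((Fin i → F) × (Fin (n - i) → F)) ≃ₗ[F] (Fin n → F), True :=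
    ⟨LinearEquiv.ofFinrankEq _ _ hfin, trivial⟩
  obtain ⟨y, hy⟩ : ∃ y : Module.End F (Fin n → F),
      y = e.toLinearMap ∘ₗ y' ∘ₗ e.symm.toLinearMap := ⟨_, rfl⟩
  have hyapp : ∀ v, y v = e (y' (e.symm v)) := by
    intro v
    rw [hy]
    rfl
  have hypow : y ^ r = 1 := by
    apply LinearMap.ext
    intro v
    rw [hy, Elus.conj_pow, hy'pow, hpow₀, Module.End.one_apply, Module.End.one_apply]
    exact e.apply_symm_apply v
  obtain ⟨ι, hι⟩ : ∃ ι : (Fin i → F) →ₗ[F] (Fin n → F),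
      ι = e.toLinearMap ∘ₗ LinearMap.inl F (Fin i → F) (Fin (n - i) → F) := ⟨_, rfl⟩
  obtain ⟨κ, hκ⟩ : ∃ κ : (Fin (n - i) → F) →ₗ[F] (Fin n → F),
      κ = e.toLinearMap ∘ₗ LinearMap.inr F (Fin i → F) (Fin (n - i) → F) := ⟨_, rfl⟩
  have hιapp : ∀ a, ι a = e (a, 0) := by
    intro a
    rw [hι]
    rfl
  have hκapp : ∀ b, κ b = e (0, b) := by
    intro b
    rw [hκ]
    rfl
  have hyι : ∀ a, y (ι a) = ι (y₀ a) := by
    intro a
    rw [hιapp, hιapp, hyapp, e.symm_apply_apply, hy'app]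
  have hιinj : Function.Injective ι := by
    intro a a' haa
    rw [hιapp, hιapp] at haa
    exact congrArg Prod.fst (e.injective haa)
  refine ⟨y, y₀, ι, κ, ?_, hypow, ?_, hpow₀, hne₀, hyι, ?_, ?_, ?_, hιinj⟩
  · rw [hy, LinearMap.det_conj, hy', LinearMap.det_prodMap, hdet₀, LinearMap.det_id, one_mul]
  · intro c hc
    apply hns₀ c
    apply LinearMap.ext
    intro a
    have h1 := hyι a
    rw [hc, LinearMap.smul_apply, Module.End.one_apply, ← map_smul] at h1
    rw [LinearMap.smul_apply, Module.End.one_apply]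
    exact (hιinj h1).symm
  · intro b
    rw [hκapp, hyapp, e.symm_apply_apply, hy'app, map_zero]
  · intro v
    refine ⟨(e.symm v).1, (e.symm v).2, ?_⟩
    rw [hιapp, hκapp, ← map_add]
    have h1 : (((e.symm v).1, (0 : Fin (n - i) → F)) + ((0 : Fin i → F), (e.symm v).2)) =
        e.symm v := by
      apply Prod.ext
      · show (e.symm v).1 + 0 = (e.symm v).1
        rw [add_zero]
      · show 0 + (e.symm v).2 = (e.symm v).2
        rw [zero_add]
    rw [h1, e.apply_symm_apply]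
  · intro a
    obtain ⟨a', ha'⟩ := hsurj a
    refine ⟨a', ?_⟩
    rw [LinearMap.sub_apply, Module.End.one_apply] at ha'
    exact ha'

/-- the single block element is a similitude of no nondegenerate hermitian form, when some
`(-q₀)^J = -1` modulo `r` -/
theorem unoSim_of_block {q₀ : ℕ} (hF : Fintype.card F = q₀ ^ 2) {n : ℕ} (hn : 0 < n) (r : ℕ)
    [hr : Fact r.Prime] (hr2 : r ≠ 2) (hrq : ¬ r ∣ q₀) (i : ℕ)
    (hi : i = orderOf ((Fintype.card F : ℕ) : ZMod r)) (hi2 : 2 ≤ i) (J : ℕ)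
    (hJ : (-(q₀ : ZMod r)) ^ J = -1)
    (y : Module.End F (Fin n → F)) (y₀ : Module.End F (Fin i → F))
    (ι : (Fin i → F) →ₗ[F] (Fin n → F)) (κ : (Fin (n - i) → F) →ₗ[F] (Fin n → F))
    (hyr : y ^ r = 1) (hy₀r : y₀ ^ r = 1) (hne : ∃ a, y₀ a ≠ a)
    (hyι : ∀ a, y (ι a) = ι (y₀ a)) (hyκ : ∀ b, y (κ b) = κ b)
    (hdec : ∀ v, ∃ a b, v = ι a + κ b) (hsur : ∀ a, ∃ a', y₀ a' - a' = a)
    (hinj : Function.Injective ι) : UNoSim q₀ y := by
  intro f hf hnd c hsim
  have hq0 : 0 < Fintype.card F := Fintype.card_pos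
  have hq₀pos : 0 < q₀ := Nat.pos_of_ne_zero (q_ne_zero hF)
  have hr1 : ¬ r ∣ Fintype.card F - 1 := by
    intro h
    rw [← Elus.ord_eq_one_iff r _ hq0, ← hi] at h
    omega
  haveI : Nonempty (Fin n) := ⟨⟨0, hn⟩⟩
  haveI : Nontrivial (Fin n → F) := inferInstance
  obtain ⟨u₀, v₀, huv⟩ := HNd.exists_ne_zero hnd
  have hc1 : c = 1 := Elus.eq_one_of_pow r hr1 c (hsim.const_pow hyr huv)
  have hiso : ∀ u v, f (y u) (y v) = f u v := by
    intro u v
    rw [hsim u v, hc1, one_mul]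
  have orth : ∀ a b, f (ι a) (κ b) = 0 := by
    intro a b
    obtain ⟨a', ha'⟩ := hsur a
    rw [← ha', map_sub, ← hyι, hf.sub_left]
    nth_rewrite 1 [← hyκ b]
    rw [hiso, sub_self]
  have orth' : ∀ a b, f (κ b) (ι a) = 0 := by
    intro a b
    rw [hf.herm, orth, zero_pow (q_ne_zero hF)]
  obtain ⟨fW, hfWdef⟩ : ∃ fW : (Fin i → F) → (Fin i → F) → F,
      fW = fun a a' => f (ι a) (ι a') := ⟨_, rfl⟩
  have hfWapp : ∀ a a', fW a a' = f (ι a) (ι a') := by
    intro a a'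
    rw [hfWdef]
  have hfW : Herm q₀ fW := by
    refine ⟨?_, ?_, ?_⟩
    · intro x x' v
      rw [hfWapp, hfWapp, hfWapp, map_add, hf.add_left]
    · intro c' x v
      rw [hfWapp, hfWapp, map_smul, hf.smul_left]
    · intro v w
      rw [hfWapp, hfWapp]
      exact hf.herm _ _
  have hndW : HNd fW := by
    intro a ha
    apply hinj
    rw [map_zero]
    apply hnd
    intro w
    obtain ⟨a', b, rfl⟩ := hdec w
    rw [hf.add_left, orth', add_zero, ← hfWapp]
    exact ha a'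
  have hisoW : ∀ a a', fW (y₀ a) (y₀ a') = fW a a' := by
    intro a a'
    rw [hfWapp, hfWapp, ← hyι, ← hyι, hiso]
  obtain ⟨b, hb⟩ := Herm.exists_orthonormal hF hfW hndW i (Module.finrank_fin_fun F)
  have key : ∀ a a', fW a a' = hermForm i F q₀ (b.equivFun a) (b.equivFun a') :=
    Herm.apply_of_orthonormal hF hfW b hb
  obtain ⟨G₀, hG₀⟩ : ∃ G₀ : Module.End F (Fin i → F),
      G₀ = b.equivFun.toLinearMap ∘ₗ y₀ ∘ₗ b.equivFun.symm.toLinearMap := ⟨_, rfl⟩
  have hG₀app : ∀ u, G₀ u = b.equivFun (y₀ (b.equivFun.symm u)) := by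
    intro u
    rw [hG₀]
    rfl
  have hG₀iso : ∀ u v, hermForm i F q₀ (G₀ u) (G₀ v) = hermForm i F q₀ u v := by
    intro u v
    rw [hG₀app, hG₀app, ← key, hisoW, key, LinearEquiv.apply_symm_apply,
      LinearEquiv.apply_symm_apply]
  have hinjG := Upp.injective_of_isometry hF G₀ hG₀iso
  obtain ⟨A, hA⟩ := exists_GU_of_isometry (q := q₀) i (LinearEquiv.ofInjectiveEndo G₀ hinjG) (by
    intro u w
    rw [LinearEquiv.coe_ofInjectiveEndo]
    exact hG₀iso u w)
  have hAlin : Matrix.toLin' ((A : GL (Fin i) F) : Matrix (Fin i) (Fin i) F) = G₀ := by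
    apply LinearMap.ext
    intro v
    rw [Matrix.toLin'_apply, hA, LinearEquiv.coe_ofInjectiveEndo]
  have hG₀r : G₀ ^ r = 1 := by
    apply LinearMap.ext
    intro v
    rw [hG₀, Elus.conj_pow, hy₀r, Module.End.one_apply, LinearEquiv.apply_symm_apply,
      Module.End.one_apply]
  have hAr : A ^ r = 1 := by
    apply Subtype.ext
    apply Units.ext
    rw [Subgroup.coe_pow, Units.val_pow_eq_pow_val, Subgroup.coe_one, Units.val_one]
    apply Matrix.toLin'.injective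
    rw [Elus.toLin'_pow, hAlin, hG₀r, Matrix.toLin'_one]
    rfl
  have hA1 : A ≠ 1 := by
    intro h
    obtain ⟨a, ha⟩ := hne
    apply ha
    have h1 : G₀ = 1 := by
      rw [← hAlin, h, Subgroup.coe_one, Units.val_one, Matrix.toLin'_one]
      rfl
    have h2 := hG₀app (b.equivFun a)
    rw [h1, Module.End.one_apply, LinearEquiv.symm_apply_apply] at h2
    exact (b.equivFun.injective h2).symm
  have hord : orderOf A = r := orderOf_eq_prime hAr hA1
  have hdvd : r ∣ Nat.card (GU i F q₀) := by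
    rw [← hord]
    exact orderOf_dvd_natCard A
  rw [HermCard.card_GU hF i] at hdvd
  rcases (Nat.Prime.dvd_mul hr.out).1 hdvd with h3 | h3
  · exact hrq (hr.out.dvd_of_dvd_pow h3)
  · obtain ⟨j, hj, hj2⟩ := (Prime.dvd_finsetProd_iff hr.out.prime _).1 h3
    rw [Finset.mem_range] at hj
    have ht1 := zmod_of_dvd_U r q₀ hq₀pos j hj2
    rw [hF] at hi
    exact block_contra r q₀ hr2 i hi (j + 1) (by omega) (by omega) ht1 J hJ

end block

end Cfsg.Agent.Lib.Helper7.UQ
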