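import Mathlib
import Cfsg.Agent.Lib.Helper7.UQ3
import Cfsg.Agent.Lib.Helper7.OQ8

set_option autoImplicit false

/-!
# S5982: the index of the similarity group of a hermitian form in `SL_n(q₀²)`
-/

namespace Cfsg.Agent.Lib.Helper7.UQ

open Module Cfsg Matrix
open Cfsg.Agent.Lib.Helper2 Cfsg.Agent.Lib.Helper5.Herm Cfsg.Agent.Lib.Helper5

universe u

/-! ### arithmetic -/

section arith

/-- the factors of `|GU_n(q₀)|` -/
def UU (q₀ j : ℕ) : ℕ := if Even j then q₀ ^ (j + 1) + 1 else q₀ ^ (j + 1) - 1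

/-- the complementary factors -/
def WW (q₀ j : ℕ) : ℕ := if Even j then q₀ ^ (j + 1) - 1 else q₀ ^ (j + 1) + 1

theorem UU_mul_WW (q₀ j : ℕ) (hq₀ : 1 ≤ q₀) : (q₀ ^ 2) ^ (j + 1) - 1 = UU q₀ j * WW q₀ j := by
  have h := OQ.sq_sub_one q₀ (j + 1) hq₀
  rw [← pow_mul, h]
  unfold UU WW
  split_ifs
  · ring
  · ring

theorem UU_pos (q₀ j : ℕ) (hq₀ : 2 ≤ q₀) : 0 < UU q₀ j := by
  unfold UU
  have h1 : 2 ^ (j + 1) ≤ q₀ ^ (j + 1) := Nat.pow_le_pow_left hq₀ _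
  have h2 : 2 ^ 1 ≤ 2 ^ (j + 1) := Nat.pow_le_pow_right (by norm_num) (by omega)
  split_ifs
  · omega
  · omega

theorem WW_zero (q₀ : ℕ) : WW q₀ 0 = q₀ - 1 := by
  unfold WW
  simp

theorem gfac_sq (q₀ n : ℕ) (hq₀ : 1 ≤ q₀) :
    Elus.gfac (q₀ ^ 2) n = (∏ j ∈ Finset.range n, UU q₀ j) * ∏ j ∈ Finset.range n, WW q₀ j := by
  unfold Elus.gfac
  rw [← Finset.prod_mul_distrib]
  apply Finset.prod_congr rfl
  intro j _
  exact UU_mul_WW q₀ j hq₀

theorem sq_sub_one' (q₀ : ℕ) (hq₀ : 1 ≤ q₀) : q₀ ^ 2 - 1 = (q₀ + 1) * (q₀ - 1) := by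
  have h := OQ.sq_sub_one q₀ 1 hq₀
  rw [mul_one, pow_one] at h
  rw [h, mul_comm]

theorem exists_dvd_WW (r : ℕ) [hr : Fact r.Prime] (q₀ n : ℕ) (hq₀ : 2 ≤ q₀) (hn : 1 ≤ n)
    (hrq : ¬ r ∣ q₀) (NU NG : ℕ)
    (hU : NU = q₀ ^ (n * (n - 1) / 2) * ∏ j ∈ Finset.range n, UU q₀ j)
    (hG : NG = (∏ i : Fin n, (q₀ ^ 2) ^ (i : ℕ)) * Elus.gfac (q₀ ^ 2) n)
    (hdvd : r * NU * (q₀ - 1) ∣ NG) : ∃ j, j + 1 < n ∧ r ∣ WW q₀ (j + 1) := by
  obtain ⟨n', rfl⟩ : ∃ n', n = n' + 1 := ⟨n - 1, by omega⟩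
  obtain ⟨C, hC⟩ : ∃ C, C = (∏ j ∈ Finset.range (n' + 1), UU q₀ j) * (q₀ - 1) := ⟨_, rfl⟩
  have hC0 : 0 < C := by
    rw [hC]
    apply Nat.mul_pos
    · apply Finset.prod_pos
      intro j _
      exact UU_pos q₀ j hq₀
    · omega
  have hL : r * NU * (q₀ - 1) = C * (r * q₀ ^ ((n' + 1) * (n' + 1 - 1) / 2)) := by
    rw [hU, hC]
    ring
  have hR : NG = C * ((∏ i : Fin (n' + 1), (q₀ ^ 2) ^ (i : ℕ)) *
      ∏ j ∈ Finset.range n', WW q₀ (j + 1)) := by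
    rw [hG, gfac_sq q₀ _ (by omega), Finset.prod_range_succ' (WW q₀) n', WW_zero, hC]
    ring
  rw [hL, hR] at hdvd
  have h1 := Nat.dvd_of_mul_dvd_mul_left hC0 hdvd
  have h2 : r ∣ (∏ i : Fin (n' + 1), (q₀ ^ 2) ^ (i : ℕ)) * ∏ j ∈ Finset.range n', WW q₀ (j + 1) :=
    (Dvd.intro _ rfl).trans h1
  have hrq' : ¬ r ∣ q₀ ^ 2 := fun h => hrq (hr.out.dvd_of_dvd_pow h)
  rcases (Nat.Prime.dvd_mul hr.out).1 h2 with h3 | h3
  · exact absurd h3 (OQ.not_dvd_prod_pow r (q₀ ^ 2) _ hrq')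
  · obtain ⟨j, hj, hj2⟩ := (Prime.dvd_finsetProd_iff hr.out.prime _).1 h3
    rw [Finset.mem_range] at hj
    exact ⟨j, by omega, hj2⟩

end arith

/-! ### a conjugate of the standard unitary group inside the similarity group -/

section conj
variable {F : Type u} [Field F] [Fintype F] {q₀ : ℕ} (hF : Fintype.card F = q₀ ^ 2) {n : ℕ}
  {f : (Fin n → F) → (Fin n → F) → F}

include hF in
theorem exists_conj_GU (hf : Herm q₀ f) (hnd : HNd f) :
    ∃ a : GL (Fin n) F, ∀ g ∈ GU n F q₀, a * g * a⁻¹ ∈ Geo.similarityGroup f := by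
  obtain ⟨b, hb⟩ := Herm.exists_orthonormal hF hf hnd n (Module.finrank_fin_fun F)
  have key := Herm.apply_of_orthonormal hF hf b hb
  obtain ⟨L, hL⟩ : ∃ L : (Fin n → F) →ₗ[F] (Fin n → F),
      L = (b.equivFun.symm : (Fin n → F) →ₗ[F] (Fin n → F)) := ⟨_, rfl⟩
  have hLapp : ∀ v, L v = b.equivFun.symm v := by
    intro v
    rw [hL]
    rfl
  have hdet : (LinearMap.toMatrix' L).det ≠ 0 := by
    rw [LinearMap.det_toMatrix', hL]
    exact (LinearEquiv.isUnit_det' b.equivFun.symm).ne_zero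
  obtain ⟨a, ha⟩ : ∃ a : GL (Fin n) F,
      a = Matrix.GeneralLinearGroup.mkOfDetNeZero (LinearMap.toMatrix' L) hdet := ⟨_, rfl⟩
  have hav : ∀ v, (a : Matrix (Fin n) (Fin n) F) *ᵥ v = b.equivFun.symm v := by
    intro v
    rw [ha, ← hLapp, ← Matrix.toLin'_apply]
    show Matrix.toLin' (LinearMap.toMatrix' L) v = L v
    rw [Matrix.toLin'_toMatrix']
  have hainv : ∀ v, ((a⁻¹ : GL (Fin n) F) : Matrix (Fin n) (Fin n) F) *ᵥ v = b.equivFun v := by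
    intro v
    have h1 := OQ.inv_mulVec_mulVec a (b.equivFun v)
    rw [hav, LinearEquiv.symm_apply_apply] at h1
    exact h1
  refine ⟨a, fun g hg => ⟨1, fun u v => ?_⟩⟩
  have hmv : ∀ w, ((a * g * a⁻¹ : GL (Fin n) F) : Matrix (Fin n) (Fin n) F) *ᵥ w =
      b.equivFun.symm ((g : Matrix (Fin n) (Fin n) F) *ᵥ b.equivFun w) := by
    intro w
    rw [Units.val_mul, Units.val_mul, ← Matrix.mulVec_mulVec, ← Matrix.mulVec_mulVec, hainv, hav]
  rw [hmv, hmv, key, LinearEquiv.apply_symm_apply, LinearEquiv.apply_symm_apply,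
    (Upp.mem_GU_iff' g).1 hg, ← key, Units.val_one, one_mul]

include hF in
theorem index_chain_U (hn : 1 ≤ n) (hf : Herm q₀ f) (hnd : HNd f) (r : ℕ)
    (hΩ : r ∣ (Geo.similarityGroup f).relIndex (Geo.specialLinear (Fin n) F)) :
    r * Nat.card (GU n F q₀) * (q₀ - 1) ∣ Nat.card (GL (Fin n) F) := by
  haveI : Nonempty (Fin n) := ⟨⟨0, hn⟩⟩
  obtain ⟨a, ha⟩ := exists_conj_GU hF hf hnd
  obtain ⟨S, hS⟩ : ∃ S : Subgroup (GL (Fin n) F), S = Geo.specialLinear (Fin n) F := ⟨_, rfl⟩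
  obtain ⟨K, hK⟩ : ∃ K : Subgroup (GL (Fin n) F),
      K = (GU n F q₀).map (MulAut.conj a).toMonoidHom := ⟨_, rfl⟩
  have hKmem : ∀ k ∈ K, ∃ g ∈ GU n F q₀, a * g * a⁻¹ = k := by
    intro k hk
    rw [hK] at hk
    obtain ⟨g, hg, hgk⟩ := hk
    exact ⟨g, hg, hgk⟩
  have hKM : K ≤ Geo.similarityGroup f := by
    intro k hk
    obtain ⟨g, hg, rfl⟩ := hKmem k hk
    exact ha g hg
  have hKcard : Nat.card K = Nat.card (GU n F q₀) := by
    rw [hK]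
    exact Subgroup.card_map_of_injective (MulAut.conj a).injective
  have h1 : r ∣ K.relIndex S := by
    rw [hS]
    exact hΩ.trans (Subgroup.relIndex_dvd_of_le_left _ hKM)
  have h2 := Subgroup.relIndex_mul_relIndex ⊥ (K ⊓ S) S bot_le inf_le_right
  rw [Subgroup.relIndex_bot_left, Subgroup.relIndex_bot_left, Subgroup.inf_relIndex_right] at h2
  have h3 := Subgroup.relIndex_mul_relIndex ⊥ (S ⊓ K) K bot_le inf_le_right
  rw [Subgroup.relIndex_bot_left, Subgroup.relIndex_bot_left, Subgroup.inf_relIndex_right] at h3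
  obtain ⟨φ, hφ⟩ : ∃ φ : K →* Fˣ,
      φ = (Matrix.GeneralLinearGroup.det : GL (Fin n) F →* Fˣ).comp K.subtype := ⟨_, rfl⟩
  have hker : S.subgroupOf K = φ.ker := by
    rw [hφ, hS]
    exact MonoidHom.comap_ker _ _
  have hrel : S.relIndex K = Nat.card φ.range := by
    unfold Subgroup.relIndex
    rw [hker, Subgroup.index_ker]
  have hle : φ.range ≤ (HermCount.normHom F q₀).ker := by
    rintro x ⟨k, rfl⟩
    obtain ⟨g, hg, hgk⟩ := hKmem k.1 k.2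
    have hdet : φ k = HermCard.detGU F q₀ n ⟨g, hg⟩ := by
      apply Units.ext
      rw [HermCard.detGU_val, hφ, MonoidHom.comp_apply, Matrix.GeneralLinearGroup.val_det_apply]
      show ((k : GL (Fin n) F) : Matrix (Fin n) (Fin n) F).det =
        (g : Matrix (Fin n) (Fin n) F).det
      rw [← hgk, Units.val_mul, Units.val_mul, Matrix.det_mul, Matrix.det_mul, mul_right_comm,
        ← Matrix.det_mul, ← Units.val_mul, mul_inv_cancel, Units.val_one, Matrix.det_one, one_mul]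
    rw [hdet]
    exact HermCard.detGU_mem_ker hF _
  have h4 : S.relIndex K ∣ q₀ + 1 := by
    rw [hrel, ← HermCount.card_ker hF]
    exact Subgroup.card_dvd_of_le hle
  have h5 : Nat.card S * (q₀ ^ 2 - 1) = Nat.card (GL (Fin n) F) := by
    have h6 := Subgroup.card_mul_index S
    have h7 : S.index = q₀ ^ 2 - 1 := by
      rw [hS]
      unfold Geo.specialLinear
      rw [Subgroup.index_ker,
        MonoidHom.range_eq_top.2 (Matrix.GeneralLinearGroup.det_surjective (n := Fin n) (R := F)),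
        Subgroup.card_top, Nat.card_units, Nat.card_eq_fintype_card, hF]
    rw [h7] at h6
    exact h6
  have hq₀ : 1 ≤ q₀ := by
    have := two_le_q hF
    omega
  rw [← h5, sq_sub_one' q₀ hq₀, ← hKcard, ← h3, ← h2, inf_comm S K]
  obtain ⟨t, ht⟩ := h1
  obtain ⟨s, hs⟩ := h4
  rw [ht, hs]
  exact ⟨t * s, by ring⟩

include hF in
theorem exists_pow_eq_neg_one (p : ℕ) [hp : Fact p.Prime] [CharP F p] (hn : 1 ≤ n)
    (hf : Herm q₀ f) (hnd : HNd f) (r : ℕ) [hr : Fact r.Prime] (hrp : r ≠ p)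
    (hΩ : r ∣ (Geo.similarityGroup f).relIndex (Geo.specialLinear (Fin n) F)) :
    ∃ J, 2 ≤ J ∧ J ≤ n ∧ (-(q₀ : ZMod r)) ^ J = -1 := by
  have hchain := index_chain_U hF hn hf hnd r hΩ
  rw [OQ.card_GL_eq, HermCard.card_GU hF n, hF] at hchain
  have hrq : ¬ r ∣ q₀ := by
    intro h
    apply Elus.not_dvd_card_of_ne (F := F) r hrp
    rw [hF]
    exact dvd_pow h (by norm_num)
  obtain ⟨j, hj, hj2⟩ := exists_dvd_WW r q₀ n (two_le_q hF) hn hrq _ _ rfl rfl hchain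
  refine ⟨j + 2, by omega, by omega, ?_⟩
  have hq₀ : 0 < q₀ := by
    have := two_le_q hF
    omega
  exact zmod_of_dvd_W r q₀ hq₀ (j + 1) hj2

end conj

end Cfsg.Agent.Lib.Helper7.UQ
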