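import Mathlib
import Cfsg.Agent.Lib.Helper7.UQ4
import Cfsg.Agent.Lib.Helper2.SpInvC

set_option autoImplicit false

/-!
# S5982, the forward direction for endomorphisms: derangements of prime order
-/

namespace Cfsg.Agent.Lib.Helper7.UQ

open Module Cfsg Matrix
open Cfsg.Agent.Lib.Helper2 Cfsg.Agent.Lib.Helper5.Herm Cfsg.Agent.Lib.Helper5

universe u

section main
variable {F : Type u} [Field F] [Fintype F] {q₀ : ℕ} (hF : Fintype.card F = q₀ ^ 2)

include hF in
/-- involutions: a non-square scalar square -/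
theorem exists_uder_two (p : ℕ) [hp : Fact p.Prime] [CharP F p] (hp2 : p ≠ 2) (n : ℕ)
    (hn : 3 ≤ n) (hv : padicValNat 2 (Fintype.card F - 1) < padicValNat 2 n) :
    ∃ y : Module.End F (Fin n → F), LinearMap.det y = 1 ∧ (∃ z : F, y ^ 2 = z • 1) ∧
      (∀ c : F, y ≠ c • 1) ∧ UNoSim q₀ y := by
  classical
  haveI : Fact (Nat.Prime 2) := ⟨Nat.prime_two⟩
  have hodd : Fintype.card F % 2 = 1 := SpInv.card_odd_of_char (p := p) hp2
  have hq1 : Fintype.card F - 1 ≠ 0 := by
    have := Fintype.one_lt_card (α := F)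
    omega
  have h2dvd : 2 ∣ Fintype.card F - 1 := by omega
  obtain ⟨z, hzord, hznp⟩ := Elus.exists_nonpow (F := F) 2 h2dvd
  obtain ⟨a, ha⟩ : ∃ a, a = padicValNat 2 (Fintype.card F - 1) := ⟨_, rfl⟩
  rw [← ha] at hzord hv
  have ha1 : 1 ≤ a := by
    rw [ha]
    exact one_le_padicValNat_of_dvd hq1 h2dvd
  have hn0 : n ≠ 0 := by omega
  have hdvdn : 2 ^ (a + 1) ∣ n := (padicValNat_dvd_iff_le hn0).2 hv
  obtain ⟨k₁, hk₁⟩ := hdvdn
  obtain ⟨m, hm⟩ : ∃ m, m = 2 ^ a * k₁ := ⟨_, rfl⟩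
  have hnm : n = 2 * m := by
    rw [hk₁, hm, pow_succ]
    ring
  subst hnm
  obtain ⟨y, hy⟩ := Elus.exists_caseB_map 2 z m
  have hz0 : z ≠ 0 := by
    intro h
    exact hznp 0 (by rw [h, zero_pow two_ne_zero])
  have hdet : LinearMap.det y = 1 := by
    rw [Elus.det_of_pow_eq_smul 2 z hznp m (Fin (2 * m) → F) y hy (Module.finrank_fin_fun F)]
    have hzm : z ^ m = 1 := by
      rw [hm, pow_mul, ← hzord, pow_orderOf_eq_one, one_pow]
    have hmev : Even m := by
      obtain ⟨a', rfl⟩ : ∃ a', a = a' + 1 := ⟨a - 1, by omega⟩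
      exact ⟨2 ^ a' * k₁, by rw [hm, pow_succ]; ring⟩
    rw [mul_pow, hzm, mul_one, ← pow_mul, Even.neg_one_pow]
    exact hmev.mul_left _
  refine ⟨y, hdet, ⟨z, hy⟩, ?_, ?_⟩
  · intro c hc
    have h1 : (c ^ 2) • (1 : Module.End F (Fin (2 * m) → F)) = z • 1 := by
      rw [← hy, hc, smul_pow, one_pow]
    exact hznp c (Elus.smul_one_inj (by omega) h1)
  · intro f hf hnd c hsim
    haveI : Nonempty (Fin (2 * m)) := ⟨⟨0, by omega⟩⟩
    haveI : Nontrivial (Fin (2 * m) → F) := inferInstance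
    obtain ⟨u, v, huv⟩ := HNd.exists_ne_zero hnd
    have hc2 : c ^ 2 = z * z ^ q₀ := by
      have h1 := hsim.pow 2 u v
      rw [hy, LinearMap.smul_apply, LinearMap.smul_apply, Module.End.one_apply,
        Module.End.one_apply, hf.smul_left, hf.smul_right] at h1
      have h2 : (c ^ 2 - z * z ^ q₀) * f u v = 0 := by linear_combination -h1
      rcases mul_eq_zero.1 h2 with h3 | h3
      · exact sub_eq_zero.1 h3
      · exact absurd h3 huv
    have hcq : c ^ q₀ = c := by
      have h1 := hsim u v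
      rw [hf.herm, hsim v u, mul_pow, ← hf.herm] at h1
      have h2 : (c ^ q₀ - c) * f u v = 0 := by linear_combination h1
      rcases mul_eq_zero.1 h2 with h3 | h3
      · exact sub_eq_zero.1 h3
      · exact absurd h3 huv
    have hc0 : c ≠ 0 := by
      intro h
      rw [h, zero_pow two_ne_zero] at hc2
      exact mul_ne_zero hz0 (pow_ne_zero _ hz0) hc2.symm
    have hq₀odd : q₀ % 2 = 1 := by
      by_contra h
      have h0 : q₀ % 2 = 0 := by omega
      rw [hF, Nat.pow_mod, h0] at hodd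
      norm_num at hodd
    obtain ⟨k, hk⟩ : ∃ k, q₀ = 2 * k + 1 := ⟨q₀ / 2, by omega⟩
    have hc1 : c ^ (2 * k) = 1 := by
      have h1 : c ^ (2 * k) * c = c := by
        rw [← pow_succ, ← hk, hcq]
      exact mul_right_cancel₀ hc0 (by rw [h1, one_mul])
    have hhalf : Fintype.card F / 2 = (q₀ + 1) * k := by
      rw [hF, hk]
      have e : (2 * k + 1) ^ 2 = 2 * ((2 * k + 1 + 1) * k) + 1 := by ring
      omega
    have hzsq : z ^ (Fintype.card F / 2) = 1 := by
      rw [hhalf, pow_mul, pow_succ, mul_comm, ← hc2, ← pow_mul, hc1]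
    have hchar : ringChar F ≠ 2 := by
      rw [ringChar.eq F p]
      exact hp2
    obtain ⟨b, hb⟩ := (FiniteField.isSquare_iff hchar hz0).2 hzsq
    exact hznp b (by rw [hb, pow_two])

include hF in
/-- **The derangements**: when the arithmetic condition fails there is an element of order `r`
of `SL_n(q)` which is a similitude of no nondegenerate hermitian form. -/
theorem exists_uderangement (p : ℕ) [hp : Fact p.Prime] [CharP F p] (n : ℕ) (hn : 3 ≤ n)
    (f : (Fin n → F) → (Fin n → F) → F) (hf : Herm q₀ f) (hnd : HNd f)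
    (r : ℕ) [hr : Fact r.Prime] (hrp : r = 2 ∨ r ≠ p) (hgap : ¬ (n = 6 ∧ r = 3))
    (hΩ : r ∣ (Geo.similarityGroup f).relIndex (Geo.specialLinear (Fin n) F))
    (hneg : ¬ ((r = 2 ∧ (p = 2 ∨ padicValNat 2 n ≤ padicValNat 2 (q₀ ^ 2 - 1))) ∨
      ((r = 3 ∨ r = 5) ∧ n = r ∧ padicValNat r (q₀ - 1) = 1))) :
    ∃ y : Module.End F (Fin n → F), LinearMap.det y = 1 ∧ (∃ z : F, y ^ r = z • 1) ∧
      (∀ c : F, y ≠ c • 1) ∧ UNoSim q₀ y := by
  by_cases hr2 : r = 2
  · subst hr2
    have hp2 : p ≠ 2 := fun h => hneg (Or.inl ⟨rfl, Or.inl h⟩)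
    have hv : padicValNat 2 (Fintype.card F - 1) < padicValNat 2 n := by
      by_contra h
      push Not at h
      rw [hF] at h
      exact hneg (Or.inl ⟨rfl, Or.inr h⟩)
    exact exists_uder_two hF p hp2 n hn hv
  have hrp' : r ≠ p := hrp.resolve_left hr2
  have hrodd : Odd r := hr.out.odd_of_ne_two hr2
  haveI : Fact (2 < r) := ⟨lt_of_le_of_ne hr.out.two_le (Ne.symm hr2)⟩
  have hq₀2 := two_le_q hF
  have hq₀1 : 1 ≤ q₀ := by omega
  have hq0 : 0 < Fintype.card F := Fintype.card_pos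
  obtain ⟨J, hJ2, hJn, hJ⟩ := exists_pow_eq_neg_one hF p (by omega) hf hnd r hrp' hΩ
  have hrq : ¬ r ∣ Fintype.card F := Elus.not_dvd_card_of_ne r hrp'
  have hrq₀ : ¬ r ∣ q₀ := by
    intro h
    apply hrq
    rw [hF]
    exact dvd_pow h (by norm_num)
  obtain ⟨i, hi⟩ : ∃ i, i = orderOf ((Fintype.card F : ℕ) : ZMod r) := ⟨_, rfl⟩
  have hi0 : 0 < i := by
    rw [hi]
    exact Elus.ord_pos r _ hrq
  have hidvd : i ∣ J := by
    rw [hi, hF]
    exact ord_dvd_of_pow_neg_one r q₀ J hJ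
  by_cases hi1 : i = 1
  · have hr1 : r ∣ Fintype.card F - 1 := by
      rw [← Elus.ord_eq_one_iff r _ hq0, ← hi]
      exact hi1
    have hr1' := hr1
    rw [hF, sq_sub_one' q₀ hq₀1] at hr1'
    rcases (Nat.Prime.dvd_mul hr.out).1 hr1' with h3 | h3
    · exfalso
      have h4 := (ZMod.natCast_eq_zero_iff _ r).2 h3
      rw [Nat.cast_add, Nat.cast_one] at h4
      have h5 : -(q₀ : ZMod r) = 1 := by linear_combination -h4
      rw [h5, one_pow] at hJ
      exact ZMod.neg_one_ne_one hJ.symm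
    · have hσ : ∀ ω : F, ω ^ r = 1 → ω ^ q₀ = ω := by
        intro ω hω
        obtain ⟨k, hk⟩ := h3
        have h4 : q₀ = r * k + 1 := by omega
        rw [h4, pow_succ, pow_mul, hω, one_pow, one_mul]
      by_cases hv : padicValNat r n < padicValNat r (Fintype.card F - 1)
      · obtain ⟨s, hs0, hs1, hs2⟩ := OQ.exists_s (F := F) (n := n) r (by omega) hv
        obtain ⟨y, h1, h2, h3', h4⟩ := exists_uder_D1 hF hn s hs0 r hrodd hs1 hs2 (hσ _ hs1)
        exact ⟨y, h1, ⟨_, h2⟩, h3', h4⟩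
      · push Not at hv
        have hq1 : Fintype.card F - 1 ≠ 0 := by
          have := Fintype.one_lt_card (α := F)
          omega
        have hv1 : 1 ≤ padicValNat r (Fintype.card F - 1) := one_le_padicValNat_of_dvd hq1 hr1
        have hrn : r ∣ n := dvd_of_one_le_padicValNat (hv1.trans hv)
        by_cases hn7 : 7 ≤ n
        · obtain ⟨ω, hω1, hω2, -⟩ := OQ.exists_root_of_unity (F := F) r hr1
          obtain ⟨y, h1, h2, h3', h4⟩ := exists_uder_D2 hF hn7 ω r hrodd hω1 hω2 (hσ ω hω1)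
          refine ⟨y, h1, ⟨1, ?_⟩, h3', h4⟩
          rw [h2, one_smul]
        · exfalso
          rcases OQ.small_cases n r hr.out hr2 hn hn7 hrn with ⟨h1, h2⟩ | h
          · apply hneg
            right
            refine ⟨h2, h1, ?_⟩
            rw [h1, padicValNat_self, hF, sq_sub_one' q₀ hq₀1,
              padicValNat.mul (by omega) (by omega)] at hv
            have h5 : 1 ≤ padicValNat r (q₀ - 1) := one_le_padicValNat_of_dvd (by omega) h3
            omega
          · exact hgap h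
  · have hi2 : 2 ≤ i := by omega
    have hin : i ≤ n := (Nat.le_of_dvd (by omega) hidvd).trans hJn
    obtain ⟨y, y₀, ι, κ, h1, h2, h3, h4, h5, h6, h7, h8, h9, h10⟩ :=
      exists_block_elt' (F := F) (p := p) n r hrp' i hi hi2 hin
    refine ⟨y, h1, ⟨1, by rw [h2, one_smul]⟩, h3, ?_⟩
    exact unoSim_of_block hF (by omega) r hr2 hrq₀ i hi hi2 J hJ y y₀ ι κ h2 h4 h5 h6 h7 h8 h9 h10

end main

end Cfsg.Agent.Lib.Helper7.UQ
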