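import Mathlib
import Cfsg.Agent.Lib.Helper7.UQ5

set_option autoImplicit false

/-!
# S5982, the converse direction: hermitian forms with a prescribed similitude
-/

namespace Cfsg.Agent.Lib.Helper7.UQ

open Module Cfsg Matrix
open Cfsg.Agent.Lib.Helper2 Cfsg.Agent.Lib.Helper5.Herm Cfsg.Agent.Lib.Helper5

universe u

/-! ### assembling -/

section assemble
variable {F : Type u} [Field F] [Fintype F] {q₀ : ℕ} (hF : Fintype.card F = q₀ ^ 2)
  {V : Type u} [AddCommGroup V] [Module F V]

include hF in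
/-- from a form with a similitude `y` to a conjugate of `y` that is a similitude of `f` -/
theorem uassemble [FiniteDimensional F V] {f h : V → V → F} (hf : Herm q₀ f) (hfn : HNd f)
    (hh : Herm q₀ h) (hhn : HNd h) (y : Module.End F V) (c : F) (hsim : USim h y c)
    (hcent : ∀ δ : F, δ ≠ 0 → ∃ k : Module.End F V, k * y = y * k ∧ LinearMap.det k = δ) :
    ∃ g : V ≃ₗ[F] V, LinearMap.det (g : V →ₗ[F] V) = 1 ∧
      ∀ u v, f (g.symm (y (g u))) (g.symm (y (g v))) = c * f u v := by
  obtain ⟨bf, hbf⟩ := Herm.exists_orthonormal hF hf hfn (finrank F V) rfl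
  obtain ⟨bh, hbh⟩ := Herm.exists_orthonormal hF hh hhn (finrank F V) rfl
  obtain ⟨φ, hφdef⟩ : ∃ φ : V ≃ₗ[F] V, φ = bf.equivFun.trans bh.equivFun.symm := ⟨_, rfl⟩
  have hφ : ∀ u v, h (φ u) (φ v) = f u v := by
    intro u v
    rw [Herm.apply_of_orthonormal hF hh bh hbh, Herm.apply_of_orthonormal hF hf bf hbf, hφdef,
      LinearEquiv.trans_apply, LinearEquiv.trans_apply, LinearEquiv.apply_symm_apply,
      LinearEquiv.apply_symm_apply]
  have hdetφ : LinearMap.det (φ : V →ₗ[F] V) ≠ 0 := by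
    intro h0
    have h1 := LinearEquiv.det_mul_det_symm φ
    rw [h0, zero_mul] at h1
    exact zero_ne_one h1
  obtain ⟨k, hcomm, hdet⟩ := hcent _ (inv_ne_zero hdetφ)
  have hunit : IsUnit (LinearMap.det k) := by
    rw [hdet]
    exact isUnit_iff_ne_zero.2 (inv_ne_zero hdetφ)
  obtain ⟨k', hk'⟩ : ∃ k' : V ≃ₗ[F] V, ∀ x, k' x = k x :=
    ⟨LinearMap.equivOfIsUnitDet hunit, LinearMap.equivOfIsUnitDet_apply hunit⟩
  have hcomm' : ∀ x, k (y x) = y (k x) := fun x => by
    have h1 := LinearMap.congr_fun hcomm x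
    rwa [Module.End.mul_apply, Module.End.mul_apply] at h1
  have e2 : ∀ v, (φ.trans k').symm (y ((φ.trans k') v)) = φ.symm (y (φ v)) := by
    intro v
    rw [LinearEquiv.trans_apply, LinearEquiv.symm_trans_apply, hk', ← hcomm', ← hk',
      k'.symm_apply_apply]
  refine ⟨φ.trans k', ?_, ?_⟩
  · have e1 : ((φ.trans k' : V ≃ₗ[F] V) : V →ₗ[F] V) = k ∘ₗ (φ : V →ₗ[F] V) := by
      apply LinearMap.ext
      intro x
      rw [LinearEquiv.coe_coe, LinearEquiv.trans_apply, hk', LinearMap.comp_apply,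
        LinearEquiv.coe_coe]
    rw [e1, LinearMap.det_comp, hdet, inv_mul_cancel₀ hdetφ]
  · intro u v
    rw [e2 u, e2 v, ← hφ, φ.apply_symm_apply, φ.apply_symm_apply, hsim, hφ]

end assemble

/-! ### a basis permuted by an involution -/

section perm
variable {F : Type u} [Field F] {q₀ : ℕ} {V : Type u} [AddCommGroup V] [Module F V]
  {ι : Type} [Fintype ι]

omit [Fintype ι] in
theorem repr_of_perm (b : Basis ι F V) (T : Module.End F V) (π : ι → ι)
    (hπ : ∀ i, π (π i) = i) (hT : ∀ i, T (b i) = b (π i)) (i : ι) (u : V) :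
    b.repr (T u) i = b.repr u (π i) := by
  classical
  have h : (b.coord i) ∘ₗ T = b.coord (π i) := by
    apply b.ext
    intro j
    rw [LinearMap.comp_apply, hT, Basis.coord_apply, Basis.coord_apply, Basis.repr_self,
      Basis.repr_self, Finsupp.single_apply, Finsupp.single_apply]
    by_cases hji : π j = i
    · rw [if_pos hji, if_pos]
      rw [← hji, hπ]
    · rw [if_neg hji, if_neg]
      intro h'
      apply hji
      rw [h', hπ]
  have h1 := LinearMap.congr_fun h u
  rw [LinearMap.comp_apply, Basis.coord_apply, Basis.coord_apply] at h1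
  exact h1

theorem hermTau_perm (b : Basis ι F V) (T : Module.End F V) (π : ι → ι)
    (hπ : ∀ i, π (π i) = i) (hT : ∀ i, T (b i) = b (π i)) :
    USim (hermTau q₀ b id) T 1 := by
  intro u v
  unfold hermTau
  rw [one_mul]
  have h1 := Equiv.sum_comp (Function.Involutive.toPerm π hπ)
    (fun i => b.repr u i * (b.repr v (id i)) ^ q₀)
  rw [← h1]
  apply Finset.sum_congr rfl
  intro i _
  rw [repr_of_perm b T π hπ hT, repr_of_perm b T π hπ hT]
  rfl

end perm

/-! ### gluing and involutions in characteristic two -/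

section glue
variable {F : Type u} [Field F] [Fintype F] {q₀ : ℕ} (hF : Fintype.card F = q₀ ^ 2)

include hF in
/-- orthogonal sum of hermitian forms on complementary invariant subspaces -/
theorem glue_herm {V : Type u} [AddCommGroup V] [Module F V] [FiniteDimensional F V]
    {P C : Submodule F V}
    (hPC : IsCompl P C) (y : Module.End F V) (c : F)
    (hP : ∀ x ∈ P, y x ∈ P) (hC : ∀ x ∈ C, y x ∈ C)
    (fP : P → P → F) (hfP : Herm q₀ fP) (hnP : HNd fP) (hsP : USim fP (y.restrict hP) c)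
    (fC : C → C → F) (hfC : Herm q₀ fC) (hnC : HNd fC) (hsC : USim fC (y.restrict hC) c) :
    ∃ f : V → V → F, Herm q₀ f ∧ HNd f ∧ USim f y c := by
  obtain ⟨f, hfdef⟩ : ∃ f : V → V → F, f = fun u v =>
      fP (P.projectionOnto C hPC u) (P.projectionOnto C hPC v) +
      fC (C.projectionOnto P hPC.symm u) (C.projectionOnto P hPC.symm v) := ⟨_, rfl⟩
  have hap : ∀ u v, f u v = fP (P.projectionOnto C hPC u) (P.projectionOnto C hPC v) +
      fC (C.projectionOnto P hPC.symm u) (C.projectionOnto P hPC.symm v) := by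
    intro u v
    rw [hfdef]
  refine ⟨f, ⟨?_, ?_, ?_⟩, ?_, ?_⟩
  · intro x x' v
    rw [hap, hap, hap, map_add, map_add, hfP.add_left, hfC.add_left]
    ring
  · intro a x v
    rw [hap, hap, map_smul, map_smul, hfP.smul_left, hfC.smul_left, mul_add]
  · intro v w
    rw [hap, hap, pow_q_add hF, ← hfP.herm, ← hfC.herm]
  · intro v hv
    have h1 : P.projectionOnto C hPC v = 0 := by
      apply hnP
      intro w
      have h2 := hv (w : V)
      rw [hap, Submodule.projectionOnto_apply_left hPC w,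
        Submodule.projectionOnto_apply_of_mem_right hPC.symm w.2, hfC.zero_left, add_zero] at h2
      exact h2
    have h3 : C.projectionOnto P hPC.symm v = 0 := by
      apply hnC
      intro w
      have h2 := hv (w : V)
      rw [hap, Submodule.projectionOnto_apply_left hPC.symm w,
        Submodule.projectionOnto_apply_of_mem_right hPC w.2, hfP.zero_left, zero_add] at h2
      exact h2
    have h4 := SpInv.proj_add hPC v
    rw [h1, h3] at h4
    simpa using h4.symm
  · intro u v
    rw [hap, hap, SpInv.proj_restrict hPC y hP hC, SpInv.proj_restrict hPC y hP hC,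
      SpInv.proj_restrict hPC.symm y hC hP, SpInv.proj_restrict hPC.symm y hC hP, hsP, hsC,
      mul_add]

include hF in
/-- an involution in characteristic two preserves a nondegenerate hermitian form -/
theorem exists_herm_invol (h2 : (2 : F) = 0) : ∀ (k : ℕ) (V : Type u) [AddCommGroup V]
    [Module F V] [FiniteDimensional F V] (T : Module.End F V), finrank F V = k →
    (∀ u, T (T u) = u) → ∃ h : V → V → F, Herm q₀ h ∧ HNd h ∧ USim h T 1 := by
  intro k
  induction k using Nat.strong_induction_on with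
  | _ k ih =>
    intro V _ _ _ T hfin hrel
    by_cases hs : ∀ u, T u = u
    · obtain ⟨b, -⟩ : ∃ b : Basis (Fin (finrank F V)) F V, True :=
        ⟨Module.finBasis F V, trivial⟩
      refine ⟨hermTau q₀ b id, hermTau_herm hF b id (fun _ => rfl),
        hermTau_nd hF b id (fun _ => rfl), ?_⟩
      exact hermTau_sim b id T (fun _ => 1) (fun i => by rw [hs, one_smul]) 1
        (fun i => by rw [one_pow, one_mul])
    · push Not at hs
      obtain ⟨f, hf⟩ := hs
      have hneg : ∀ u : V, -u = u := fun u => by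
        have h0 : u + u = 0 := by rw [← two_smul F u, h2, zero_smul]
        exact neg_eq_of_add_eq_zero_left h0
      have hrel' : ∀ u, T (T u) = ((1 : F) + 1) • T u + (-((1 : F) * 1)) • u := by
        intro u
        rw [hrel, one_add_one_eq_two, h2, zero_smul, zero_add, mul_one, neg_smul, one_smul, hneg]
      have hli := SpInv.li_of_not_eigen T 1 hrel' f (by rw [one_smul]; exact hf)
      have hrel0 : ∀ u, T (T u) = (0 : F) • T u + (1 : F) • u := by
        intro u
        rw [hrel, zero_smul, zero_add, one_smul]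
      obtain ⟨P, C, hPC, hP, hC, a, b, hfP, hli', hTa, hTb, -⟩ :=
        SpInv.quad_split T 0 1 hrel0 one_ne_zero f hli
      have hsum := Submodule.finrank_add_eq_of_isCompl hPC
      have hfC : finrank F C = k - 2 := by omega
      obtain ⟨hCf, hC1, hC2, hC3⟩ := ih (k - 2) (by omega) C (T.restrict hC) hfC (by
        intro u
        apply Subtype.ext
        rw [LinearMap.coe_restrict_apply, LinearMap.coe_restrict_apply]
        exact hrel u)
      obtain ⟨bas, hb0, hb1⟩ := SpInv.plane_basis a b hli' hfP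
      have hperm : USim (hermTau q₀ bas id) (T.restrict hP) 1 := by
        apply hermTau_perm bas (T.restrict hP) (fun i => i + 1) (by decide)
        intro i
        fin_cases i
        · show T.restrict hP (bas 0) = bas 1
          rw [hb0, hTa, zero_smul, zero_add, one_smul, hb1]
        · show T.restrict hP (bas 1) = bas 0
          rw [hb1, hTb, one_smul, zero_smul, add_zero, hb0]
      exact glue_herm hF hPC T 1 hP hC _ (hermTau_herm hF bas id (fun _ => rfl))
        (hermTau_nd hF bas id (fun _ => rfl)) hperm hCf hC1 hC2 hC3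

end glue

/-! ### the three cases -/

section cases
variable {F : Type u} [Field F] [Fintype F] {q₀ : ℕ} (hF : Fintype.card F = q₀ ^ 2)

include hF in
/-- involutions, odd characteristic -/
theorem conj_usim_two_odd (p : ℕ) [hp : Fact p.Prime] [CharP F p] (hp2 : p ≠ 2) (n : ℕ)
    (hn : 3 ≤ n) {f : (Fin n → F) → (Fin n → F) → F} (hf : Herm q₀ f) (hnd : HNd f)
    (hv : padicValNat 2 n ≤ padicValNat 2 (Fintype.card F - 1))
    (y : Module.End F (Fin n → F)) (hdet : LinearMap.det y = 1) (z : F) (hy : y ^ 2 = z • 1) :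
    ∃ (g : (Fin n → F) ≃ₗ[F] (Fin n → F)) (c : F),
      LinearMap.det (g : (Fin n → F) →ₗ[F] (Fin n → F)) = 1 ∧ c ≠ 0 ∧
      ∀ u v, f (g.symm (y (g u))) (g.symm (y (g v))) = c * f u v := by
  haveI : Fact (Nat.Prime 2) := ⟨Nat.prime_two⟩
  have h2 : (2 : F) ≠ 0 := SpInv.two_ne_zero_of_char (p := p) hp2
  have hodd : Fintype.card F % 2 = 1 := SpInv.card_odd_of_char (p := p) hp2
  have hq₀odd : q₀ % 2 = 1 := by
    by_contra h
    have h0 : q₀ % 2 = 0 := by omega
    rw [hF, Nat.pow_mod, h0] at hodd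
    norm_num at hodd
  have hzn : z ^ n = 1 := by
    have h1 := congrArg LinearMap.det hy
    rw [map_pow, hdet, one_pow, LinearMap.det_smul, Module.finrank_fin_fun, map_one,
      mul_one] at h1
    exact h1.symm
  have hz : z ≠ 0 := by
    intro h
    rw [h, zero_pow (by omega)] at hzn
    exact zero_ne_one hzn
  have hrel : ∀ u, y (y u) = z • u := by
    intro u
    have h1 := LinearMap.congr_fun hy u
    rw [pow_two, Module.End.mul_apply, LinearMap.smul_apply, Module.End.one_apply] at h1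
    exact h1
  by_cases hsq : ∃ w : F, w * w = z
  · obtain ⟨w, hw⟩ := hsq
    have hw0 : w ≠ 0 := by
      intro h
      rw [h, mul_zero] at hw
      exact hz hw.symm
    obtain ⟨k₀, hk₀⟩ : ∃ k₀, n = k₀ + 1 := ⟨n - 1, by omega⟩
    have hrel' : ∀ u, y (y u) = (w * w) • u := by
      intro u
      rw [hw]
      exact hrel u
    have hfin : finrank F (Fin n → F) = k₀ + 1 := by rw [Module.finrank_fin_fun, hk₀]
    obtain ⟨b, dd, hb, hdd2⟩ := OQ.exists_eigenbasis_sq h2 y w hw0 hrel' k₀ hfin
    obtain ⟨k', hk'⟩ : ∃ k', q₀ + 1 = 2 * k' := ⟨(q₀ + 1) / 2, by omega⟩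
    have hc : ∀ i, dd i * (dd (id i)) ^ q₀ = (w * w) ^ k' := by
      intro i
      show dd i * (dd i) ^ q₀ = _
      rw [← pow_succ', hk', pow_mul, pow_two, hdd2]
    have hsim := hermTau_sim (q₀ := q₀) b id y dd hb _ hc
    have hcent : ∀ δ : F, δ ≠ 0 →
        ∃ h : Module.End F (Fin n → F), h * y = y * h ∧ LinearMap.det h = δ := by
      intro δ _
      have h2' : ((2 : ℕ) : F) ≠ 0 := by exact_mod_cast h2
      obtain ⟨T, hT⟩ : ∃ T : Module.End F (Fin n → F), T = w⁻¹ • y := ⟨_, rfl⟩
      have hT2 : T ^ 2 = 1 := by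
        apply LinearMap.ext
        intro u
        rw [pow_two, Module.End.mul_apply, hT, LinearMap.smul_apply, LinearMap.smul_apply,
          map_smul, hrel', Module.End.one_apply, smul_smul, smul_smul]
        have h3 : w⁻¹ * w⁻¹ * (w * w) = 1 := by field_simp
        rw [h3, one_smul]
      have hss := Elus.isSemisimple_of_pow_eq_one T 2 h2' hT2
      have hTb : T (b 0) = (w⁻¹ * dd 0) • b 0 := by
        rw [hT, LinearMap.smul_apply, hb, smul_smul]
      obtain ⟨h, hh1, hh2⟩ := SpInv.cent_line T hss (b 0) (b.ne_zero 0) _ hTb δ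
      refine ⟨h, ?_, hh2⟩
      have hyT : y = w • T := by
        rw [hT, smul_smul, mul_inv_cancel₀ hw0, one_smul]
      rw [hyT, mul_smul_comm, smul_mul_assoc, hh1]
    obtain ⟨g, hg1, hg2⟩ := uassemble hF hf hnd (hermTau_herm hF b id (fun _ => rfl))
      (hermTau_nd hF b id (fun _ => rfl)) y _ hsim hcent
    exact ⟨g, (w * w) ^ k', hg1, pow_ne_zero _ (mul_ne_zero hw0 hw0), hg2⟩
  · exfalso
    push Not at hsq
    have hmod4 : Fintype.card F % 4 = 1 := by
      rw [hF, Nat.pow_mod]
      have h4 : q₀ % 4 = 1 ∨ q₀ % 4 = 3 := by omega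
      rcases h4 with h4 | h4 <;> rw [h4]
    exact Elus.caseB_arith n 2 y z hdet hy (fun b hb => hsq b (by rw [← hb, pow_two])) hv
      (fun _ _ => hmod4) (by omega)

include hF in
/-- involutions, characteristic two -/
theorem conj_usim_two_even (h2 : (2 : F) = 0) (hchar : ringChar F = 2) (n : ℕ) (hn : 3 ≤ n)
    {f : (Fin n → F) → (Fin n → F) → F} (hf : Herm q₀ f) (hnd : HNd f)
    (y : Module.End F (Fin n → F)) (hdet : LinearMap.det y = 1) (z : F) (hy : y ^ 2 = z • 1)
    (hns : ∀ c : F, y ≠ c • 1) :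
    ∃ (g : (Fin n → F) ≃ₗ[F] (Fin n → F)) (c : F),
      LinearMap.det (g : (Fin n → F) →ₗ[F] (Fin n → F)) = 1 ∧ c ≠ 0 ∧
      ∀ u v, f (g.symm (y (g u))) (g.symm (y (g v))) = c * f u v := by
  have hneg : ∀ u : Fin n → F, -u = u := fun u => by
    have h0 : u + u = 0 := by rw [← two_smul F u, h2, zero_smul]
    exact neg_eq_of_add_eq_zero_left h0
  have hzn : z ^ n = 1 := by
    have h1 := congrArg LinearMap.det hy
    rw [map_pow, hdet, one_pow, LinearMap.det_smul, Module.finrank_fin_fun, map_one,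
      mul_one] at h1
    exact h1.symm
  have hz : z ≠ 0 := by
    intro h
    rw [h, zero_pow (by omega)] at hzn
    exact zero_ne_one hzn
  have hrel : ∀ u, y (y u) = z • u := by
    intro u
    have h1 := LinearMap.congr_fun hy u
    rw [pow_two, Module.End.mul_apply, LinearMap.smul_apply, Module.End.one_apply] at h1
    exact h1
  obtain ⟨w, hw⟩ := FiniteField.isSquare_of_char_two hchar z
  have hw0 : w ≠ 0 := by
    intro h
    rw [h, mul_zero] at hw
    exact hz hw
  obtain ⟨T, hT⟩ : ∃ T : Module.End F (Fin n → F), T = w⁻¹ • y := ⟨_, rfl⟩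
  have hTT : ∀ u, T (T u) = u := by
    intro u
    rw [hT, LinearMap.smul_apply, LinearMap.smul_apply, map_smul, hrel, smul_smul, smul_smul, hw]
    have h3 : w⁻¹ * w⁻¹ * (w * w) = 1 := by field_simp
    rw [h3, one_smul]
  obtain ⟨h, hh1, hh2, hh3⟩ :=
    exists_herm_invol hF h2 n (Fin n → F) T (Module.finrank_fin_fun F) hTT
  have hyT : ∀ u, y u = w • T u := by
    intro u
    rw [hT, LinearMap.smul_apply, smul_smul, mul_inv_cancel₀ hw0, one_smul]
  have hsim : USim h y (w * w ^ q₀) := by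
    intro u v
    rw [hyT, hyT, hh1.smul_left, hh1.smul_right, hh3, one_mul, mul_assoc]
  have hrelA : ∀ u, y (y u) = (w + w) • y u + (-(w * w)) • u := by
    intro u
    rw [hrel, hw, ← two_mul, h2, zero_mul, zero_smul, zero_add, neg_smul, hneg]
  have hcent : ∀ δ : F, δ ≠ 0 →
      ∃ k : Module.End F (Fin n → F), k * y = y * k ∧ LinearMap.det k = δ := by
    intro δ _
    obtain ⟨f₀, hf₀⟩ : ∃ f₀, y f₀ ≠ w • f₀ := by
      by_contra hall
      push Not at hall
      apply hns w
      apply LinearMap.ext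
      intro u
      rw [hall u, LinearMap.smul_apply, Module.End.one_apply]
    exact SpInv.cent_quad_A y w hw0 hrelA f₀ hf₀ (fun δ' => by
      obtain ⟨ε, hε⟩ := FiniteField.isSquare_of_char_two hchar δ'
      exact ⟨ε, hε.symm⟩) δ
  obtain ⟨g, hg1, hg2⟩ := uassemble hF hf hnd hh1 hh2 y _ hsim hcent
  exact ⟨g, w * w ^ q₀, hg1, mul_ne_zero hw0 (pow_ne_zero _ hw0), hg2⟩

include hF in
/-- `r ∈ {3, 5}`, `n = r` -/
theorem conj_usim_odd (p : ℕ) [hp : Fact p.Prime] [CharP F p] (r : ℕ) [hr : Fact r.Prime]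
    (hr35 : r = 3 ∨ r = 5) (hv : padicValNat r (q₀ - 1) = 1)
    {f : (Fin r → F) → (Fin r → F) → F} (hf : Herm q₀ f) (hnd : HNd f)
    (y : Module.End F (Fin r → F)) (hdet : LinearMap.det y = 1) (z : F) (hy : y ^ r = z • 1)
    (hns : ∀ c : F, y ≠ c • 1) :
    ∃ (g : (Fin r → F) ≃ₗ[F] (Fin r → F)) (c : F),
      LinearMap.det (g : (Fin r → F) →ₗ[F] (Fin r → F)) = 1 ∧ c ≠ 0 ∧
      ∀ u v, f (g.symm (y (g u))) (g.symm (y (g v))) = c * f u v := by
  classical
  have hr2 : r ≠ 2 := by
    rcases hr35 with h | h <;> omega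
  have hrodd : Odd r := hr.out.odd_of_ne_two hr2
  have hr0 : 0 < r := hr.out.pos
  haveI : NeZero r := ⟨hr0.ne'⟩
  have hq₀2 := two_le_q hF
  have hr1₀ : r ∣ q₀ - 1 := dvd_of_one_le_padicValNat (by omega)
  have hnd1 : ¬ r ∣ q₀ + 1 := by
    intro h
    have h3 : r ∣ (q₀ + 1) - (q₀ - 1) := Nat.dvd_sub h hr1₀
    have h4 : (q₀ + 1) - (q₀ - 1) = 2 := by omega
    rw [h4] at h3
    have h5 := Nat.le_of_dvd (by norm_num) h3
    have h6 := hr.out.two_le
    omega
  have hvq : padicValNat r (Fintype.card F - 1) = 1 := by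
    rw [hF, sq_sub_one' q₀ (by omega), padicValNat.mul (by omega) (by omega), hv,
      padicValNat.eq_zero_of_not_dvd hnd1]
  have hq1 : Fintype.card F - 1 ≠ 0 := by
    have := Fintype.one_lt_card (α := F)
    omega
  have hr1 : r ∣ Fintype.card F - 1 := dvd_of_one_le_padicValNat (by omega)
  have hrp : r ≠ p := Elus.ne_char_of_dvd_sub_one (F := F) r 1 one_pos (by rwa [pow_one])
  have hrF : ((r : ℕ) : F) ≠ 0 := by
    intro h
    have h1 : p ∣ r := (CharP.cast_eq_zero_iff F p r).1 h
    exact hrp ((Nat.prime_dvd_prime_iff_eq hp.out hr.out).1 h1).symm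
  have hσ : ∀ ω : F, ω ^ r = 1 → ω ^ q₀ = ω := by
    intro ω hω
    obtain ⟨k, hk⟩ := hr1₀
    have h4 : q₀ = r * k + 1 := by omega
    rw [h4, pow_succ, pow_mul, hω, one_pow, one_mul]
  have hzr : z ^ r = 1 := by
    have h1 := congrArg LinearMap.det hy
    rw [map_pow, hdet, one_pow, LinearMap.det_smul, Module.finrank_fin_fun, map_one,
      mul_one] at h1
    exact h1.symm
  have hz1 : z = 1 := by
    have hpow : ∃ w : F, w ^ r = z := by
      by_contra hno
      push Not at hno
      have h1 := Elus.det_of_pow_eq_smul r z hno 1 (Fin r → F) y hy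
        (by rw [Module.finrank_fin_fun, mul_one])
      rw [hdet, pow_one, Even.neg_one_pow hrodd.add_one, one_mul] at h1
      exact hno 1 (by rw [one_pow, h1])
    obtain ⟨w, hw⟩ := hpow
    have hw0 : w ≠ 0 := by
      intro h
      rw [h, zero_pow hr0.ne'] at hw
      rw [← hw, zero_pow hr0.ne'] at hzr
      exact zero_ne_one hzr
    have hw1 : w ^ (r * r) = 1 := by rw [pow_mul, hw, hzr]
    have hw2 : w ^ (Fintype.card F - 1) = 1 := FiniteField.pow_card_sub_one_eq_one w hw0
    have hw3 : w ^ r = 1 := by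
      have h1 := pow_gcd_eq_one.2 ⟨hw1, hw2⟩
      rwa [OQ.gcd_sq_eq r _ hq1 hvq] at h1
    rw [← hw, hw3]
  rw [hz1, one_smul] at hy
  obtain ⟨ζ, hζ1, -, hζ3⟩ := OQ.exists_root_of_unity (F := F) r hr1
  obtain ⟨ι, hι, b, e, hb⟩ := Sfr.exists_eigenbasis ζ r hζ3 hrF r (Fin r → F) y hy
    (Module.finrank_fin_fun F)
  have hcard : Fintype.card ι = r := by
    rw [← Module.finrank_eq_card_basis b, Module.finrank_fin_fun]
  have hsum0 : ∑ i, e i = 0 := by
    have hM : LinearMap.toMatrix b b y = Matrix.diagonal (fun i => Sfr.pw ζ r (e i)) := by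
      ext i j
      rw [LinearMap.toMatrix_apply, hb, map_smul, Basis.repr_self, Finsupp.smul_apply,
        Finsupp.single_apply, Matrix.diagonal_apply, smul_eq_mul]
      by_cases hij : i = j
      · rw [if_pos hij, if_pos hij.symm, mul_one, hij]
      · rw [if_neg hij, if_neg (Ne.symm hij), mul_zero]
    have h1 : LinearMap.det y = ∏ i, Sfr.pw ζ r (e i) := by
      rw [← LinearMap.det_toMatrix b, hM, Matrix.det_diagonal]
    rw [hdet, Sfr.pw_sum ζ r hζ1 Finset.univ e] at h1
    apply Sfr.pw_injective ζ r hζ3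
    rw [← h1, Sfr.pw_zero]
  have hm1 : ∑ a, Nat.card {i // e i = a} = r := (OQ.sum_card_fiber e).trans hcard
  have hm2 : ∑ a, Nat.card {i // e i = a} • a = 0 := (OQ.sum_eq_fiber e).symm.trans hsum0
  have hm3 : ∀ a, Nat.card {i // e i = a} ≠ r := by
    intro a hma
    apply hns (Sfr.pw ζ r a)
    apply b.ext
    intro i
    rw [hb, LinearMap.smul_apply, Module.End.one_apply]
    by_contra hne
    have hia : ¬ e i = a := fun h => hne (by rw [h])
    have h1 := Fintype.card_subtype_lt (p := fun i => e i = a) hia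
    rw [Nat.card_eq_fintype_card] at hma
    omega
  obtain ⟨c0, hc0⟩ := OQ.exists_center r hr35 (fun a => Nat.card {i // e i = a}) hm1 hm2 hm3
  obtain ⟨τ, hτ1, hτ2⟩ :=
    OQ.exists_involution e (fun a => c0 - a) (fun a => sub_sub_cancel c0 a) hc0
  have hsim := hermTau_sim (q₀ := q₀) b τ y (fun i => Sfr.pw ζ r (e i)) hb (Sfr.pw ζ r c0) (by
    intro i
    show Sfr.pw ζ r (e i) * (Sfr.pw ζ r (e (τ i))) ^ q₀ = _
    rw [hσ _ (Sfr.pw_pow ζ r hζ1 _), hτ2 i, ← Sfr.pw_add ζ r hζ1]
    congr 1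
    ring)
  have hss := Elus.isSemisimple_of_pow_eq_one y r hrF hy
  haveI : Nonempty ι := Fintype.card_pos_iff.1 (by omega)
  obtain ⟨i₀⟩ := ‹Nonempty ι›
  have hcent : ∀ δ : F, δ ≠ 0 →
      ∃ h : Module.End F (Fin r → F), h * y = y * h ∧ LinearMap.det h = δ := by
    intro δ _
    exact SpInv.cent_line y hss (b i₀) (b.ne_zero i₀) _ (hb i₀) δ
  obtain ⟨g, hg1, hg2⟩ := uassemble hF hf hnd (hermTau_herm hF b τ hτ1) (hermTau_nd hF b τ hτ1)
    y _ hsim hcent
  exact ⟨g, Sfr.pw ζ r c0, hg1, Sfr.pw_ne_zero ζ r hζ1 c0, hg2⟩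

end cases

end Cfsg.Agent.Lib.Helper7.UQ
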