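import Mathlib
import Cfsg.Agent.Lib.Helper7.UQ6

set_option autoImplicit false

/-!
# S5982: from endomorphisms to matrices, and the final statement
-/

namespace Cfsg.Agent.Lib.Helper7.UQ

open Module Cfsg Matrix
open Cfsg.Agent.Lib.Helper2

universe u

section bridge
variable {F : Type u} [Field F] {n : ℕ} {q₀ : ℕ}

theorem herm_of_unitary {f : (Fin n → F) → (Fin n → F) → F}
    (hf : Geo.IsUnitaryFormPow q₀ f) : Herm q₀ f ∧ HNd f := by
  refine ⟨⟨hf.add_left, hf.smul_left, hf.herm⟩, ?_⟩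
  intro v hv
  by_contra hv0
  obtain ⟨⟨x, hx⟩, -⟩ := hf.nondegenerate v hv0
  exact hx (hv x)

/-- if a conjugate of `x` lies in the similarity group of `f`, then `x` is a similitude of a
nondegenerate hermitian form -/
theorem usim_of_conj_mem {f : (Fin n → F) → (Fin n → F) → F} (hf : Herm q₀ f) (hnd : HNd f)
    (x g : GL (Fin n) F) (h : g⁻¹ * x * g ∈ Geo.similarityGroup f) :
    ∃ (f' : (Fin n → F) → (Fin n → F) → F) (c : F), Herm q₀ f' ∧ HNd f' ∧
      USim f' (Matrix.toLin' (x : Matrix (Fin n) (Fin n) F)) c := by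
  obtain ⟨c, hc⟩ := h
  obtain ⟨f', hf'⟩ : ∃ f' : (Fin n → F) → (Fin n → F) → F, f' = fun u v =>
      f (((g⁻¹ : GL (Fin n) F) : Matrix (Fin n) (Fin n) F) *ᵥ u)
        (((g⁻¹ : GL (Fin n) F) : Matrix (Fin n) (Fin n) F) *ᵥ v) := ⟨_, rfl⟩
  have hap : ∀ u v, f' u v = f (((g⁻¹ : GL (Fin n) F) : Matrix (Fin n) (Fin n) F) *ᵥ u)
      (((g⁻¹ : GL (Fin n) F) : Matrix (Fin n) (Fin n) F) *ᵥ v) := by
    intro u v
    rw [hf']
  refine ⟨f', (c : F), ⟨?_, ?_, ?_⟩, ?_, ?_⟩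
  · intro a b v
    rw [hap, hap, hap, Matrix.mulVec_add, hf.add_left]
  · intro a u v
    rw [hap, hap, Matrix.mulVec_smul, hf.smul_left]
  · intro v w
    rw [hap, hap]
    exact hf.herm _ _
  · intro v hv
    have h1 : ((g⁻¹ : GL (Fin n) F) : Matrix (Fin n) (Fin n) F) *ᵥ v = 0 := by
      apply hnd
      intro w
      have h2 := hv ((g : Matrix (Fin n) (Fin n) F) *ᵥ w)
      rw [hap, OQ.inv_mulVec_mulVec] at h2
      exact h2
    have h3 := OQ.mulVec_inv_mulVec g v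
    rw [h1, Matrix.mulVec_zero] at h3
    exact h3.symm
  · intro u v
    rw [hap, hap, Matrix.toLin'_apply, Matrix.toLin'_apply]
    have h1 := hc (((g⁻¹ : GL (Fin n) F) : Matrix (Fin n) (Fin n) F) *ᵥ u)
      (((g⁻¹ : GL (Fin n) F) : Matrix (Fin n) (Fin n) F) *ᵥ v)
    rw [OQ.conj_mulVec, OQ.conj_mulVec, OQ.mulVec_inv_mulVec, OQ.mulVec_inv_mulVec] at h1
    exact h1

/-- a conjugate by an element of determinant one that is a similitude of `f` -/
theorem conj_mem_of_usim (f : (Fin n → F) → (Fin n → F) → F) (x : GL (Fin n) F)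
    (g : (Fin n → F) ≃ₗ[F] (Fin n → F))
    (hg : LinearMap.det (g : (Fin n → F) →ₗ[F] (Fin n → F)) = 1) (c : F) (hc : c ≠ 0)
    (h : ∀ u v, f (g.symm (Matrix.toLin' (x : Matrix (Fin n) (Fin n) F) (g u)))
      (g.symm (Matrix.toLin' (x : Matrix (Fin n) (Fin n) F) (g v))) = c * f u v) :
    ∃ P ∈ Geo.specialLinear (Fin n) F, P⁻¹ * x * P ∈ Geo.similarityGroup f := by
  obtain ⟨P, hP1, hP2⟩ := OQ.exists_gl_of_end (g : (Fin n → F) →ₗ[F] (Fin n → F)) hg
  have hPv : ∀ v, (P : Matrix (Fin n) (Fin n) F) *ᵥ v = g v := by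
    intro v
    rw [← Matrix.toLin'_apply, hP2]
    rfl
  have hPinv : ∀ v, ((P⁻¹ : GL (Fin n) F) : Matrix (Fin n) (Fin n) F) *ᵥ v = g.symm v := by
    intro v
    have h1 := OQ.inv_mulVec_mulVec P (g.symm v)
    rw [hPv, g.apply_symm_apply] at h1
    exact h1
  refine ⟨P, hP1, ⟨Units.mk0 c hc, fun u v => ?_⟩⟩
  rw [OQ.conj_mulVec, OQ.conj_mulVec, hPv, hPv, hPinv, hPinv, Units.val_mk0]
  have h1 := h u v
  rw [Matrix.toLin'_apply, Matrix.toLin'_apply] at h1
  exact h1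

end bridge

section main
variable {F : Type u} [Field F] [Fintype F] {q₀ : ℕ}

theorem main_uq (hF : Fintype.card F = q₀ ^ 2) (p : ℕ) [hp : Fact p.Prime] [CharP F p] (n : ℕ)
    (hn : 3 ≤ n) (f : (Fin n → F) → (Fin n → F) → F) (hf : Geo.IsUnitaryFormPow q₀ f)
    (r : ℕ) [hr : Fact r.Prime] (hrp : r = 2 ∨ r ≠ p) (hgap : ¬ (n = 6 ∧ r = 3))
    (hΩ : r ∣ (Geo.similarityGroup f).relIndex (Geo.specialLinear (Fin n) F)) :
    (∀ x ∈ Geo.specialLinear (Fin n) F,
      (∃ z : F, ((x ^ r : GL (Fin n) F) : Matrix (Fin n) (Fin n) F) =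
        z • (1 : Matrix (Fin n) (Fin n) F)) →
      (∀ z : F, (x : Matrix (Fin n) (Fin n) F) ≠ z • (1 : Matrix (Fin n) (Fin n) F)) →
      ∃ g ∈ Geo.specialLinear (Fin n) F, g⁻¹ * x * g ∈ Geo.similarityGroup f) ↔
    ((r = 2 ∧ (p = 2 ∨ padicValNat 2 n ≤ padicValNat 2 (q₀ ^ 2 - 1))) ∨
      ((r = 3 ∨ r = 5) ∧ n = r ∧ padicValNat r (q₀ - 1) = 1)) := by
  obtain ⟨hfH, hfN⟩ := herm_of_unitary hf
  constructor
  · intro hall
    by_contra hneg
    obtain ⟨y, hy1, ⟨z, hy2⟩, hy3, hy4⟩ :=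
      exists_uderangement hF p n hn f hfH hfN r hrp hgap hΩ hneg
    obtain ⟨x, hx1, hx2⟩ := OQ.exists_gl_of_end y hy1
    have hpow : ((x ^ r : GL (Fin n) F) : Matrix (Fin n) (Fin n) F) =
        z • (1 : Matrix (Fin n) (Fin n) F) := by
      rw [Units.val_pow_eq_pow_val]
      apply Matrix.toLin'.injective
      rw [Elus.toLin'_pow, hx2, hy2, Elus.toLin'_smul_one]
    have hns : ∀ z' : F, (x : Matrix (Fin n) (Fin n) F) ≠ z' • (1 : Matrix (Fin n) (Fin n) F) := by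
      intro z' hz'
      apply hy3 z'
      rw [← hx2, hz', Elus.toLin'_smul_one]
    obtain ⟨g, -, hg2⟩ := hall x hx1 ⟨z, hpow⟩ hns
    obtain ⟨f', c, h1, h2, h3⟩ := usim_of_conj_mem hfH hfN x g hg2
    rw [hx2] at h3
    exact hy4 f' h1 h2 c h3
  · intro hR x hx hpow hns
    obtain ⟨z, hz⟩ := hpow
    rw [Units.val_pow_eq_pow_val] at hz
    obtain ⟨y, hy⟩ : ∃ y : Module.End F (Fin n → F),
        y = Matrix.toLin' (x : Matrix (Fin n) (Fin n) F) := ⟨_, rfl⟩
    have hdet : LinearMap.det y = 1 := by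
      rw [hy, LinearMap.det_toLin']
      exact (OQ.mem_specialLinear_iff x).1 hx
    have hyr : y ^ r = z • 1 := by
      rw [hy, ← Elus.toLin'_pow, hz, Elus.toLin'_smul_one]
    have hns' : ∀ c : F, y ≠ c • 1 := by
      intro c hc
      apply hns c
      apply Matrix.toLin'.injective
      rw [← hy, hc, Elus.toLin'_smul_one]
    rcases hR with ⟨h2, hcase⟩ | ⟨h35, hnr, hv⟩
    · subst h2
      by_cases hp2 : p = 2
      · subst hp2
        have h2F : (2 : F) = 0 := by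
          have h0 := CharP.cast_eq_zero F 2
          exact_mod_cast h0
        have hchar : ringChar F = 2 := ringChar.eq F 2
        obtain ⟨g, c, hg1, hc, hg2⟩ :=
          conj_usim_two_even hF h2F hchar n hn hfH hfN y hdet z hyr hns'
        rw [hy] at hg2
        exact conj_mem_of_usim f x g hg1 c hc hg2
      · have hv : padicValNat 2 n ≤ padicValNat 2 (Fintype.card F - 1) := by
          rw [hF]
          exact hcase.resolve_left hp2
        obtain ⟨g, c, hg1, hc, hg2⟩ := conj_usim_two_odd hF p hp2 n hn hfH hfN hv y hdet z hyr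
        rw [hy] at hg2
        exact conj_mem_of_usim f x g hg1 c hc hg2
    · subst hnr
      obtain ⟨g, c, hg1, hc, hg2⟩ := conj_usim_odd hF p n h35 hv hfH hfN y hdet z hyr hns'
      rw [hy] at hg2
      exact conj_mem_of_usim f x g hg1 c hc hg2

end main

end Cfsg.Agent.Lib.Helper7.UQ
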