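import Mathlib
import Cfsg.Prelude.Def_GeometricClasses
import Cfsg.Agent.Lib.Helper5.SpCentres
import Cfsg.Agent.Lib.Helper5.QuadWitt

set_option autoImplicit false

/-! Quadratic extension data inside the symplectic group: a matrix `J` with `J * J = δ`,
`δ` a non-square, skew for the standard alternating form.  Basic calculus. -/

namespace Cfsg.Agent.Lib.Helper7.UnA

open Matrix Cfsg Cfsg.Agent.Lib.Helper5.SympTv Cfsg.Agent.Lib.Helper5.SympBridge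
  Cfsg.Agent.Lib.Helper5.SpCentres

variable {F : Type*} [Field F] {m : ℕ}

abbrev Vc (m : ℕ) (F : Type*) := Fin m ⊕ Fin m → F
abbrev Mt (m : ℕ) (F : Type*) := Matrix (Fin m ⊕ Fin m) (Fin m ⊕ Fin m) F
abbrev Gl (m : ℕ) (F : Type*) [Field F] := Matrix.GeneralLinearGroup (Fin m ⊕ Fin m) F

local notation "⟪" u ", " v "⟫" => Cfsg.sympForm m F u v

theorem sf_neg_left (u v : Vc m F) : ⟪-u, v⟫ = -⟪u, v⟫ := by
  have := sympForm_smul_left m (-1 : F) u v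
  rw [neg_one_smul] at this
  rw [this]; ring

theorem sf_neg_right (u v : Vc m F) : ⟪u, -v⟫ = -⟪u, v⟫ := by
  have := sympForm_smul_right m (-1 : F) u v
  rw [neg_one_smul] at this
  rw [this]; ring

theorem sf_zero_left (v : Vc m F) : ⟪(0 : Vc m F), v⟫ = 0 := by
  have := sympForm_smul_left m (0 : F) (0 : Vc m F) v
  rw [zero_smul, zero_mul] at this
  exact this

theorem sf_zero_right (v : Vc m F) : ⟪v, (0 : Vc m F)⟫ = 0 := by
  have := sympForm_smul_right m (0 : F) v (0 : Vc m F)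
  rw [zero_smul, zero_mul] at this
  exact this

theorem gl_inv_mulVec (g : Gl m F) (x : Vc m F) : (g⁻¹).1 *ᵥ (g.1 *ᵥ x) = x := by
  rw [Matrix.mulVec_mulVec, Units.inv_mul, Matrix.one_mulVec]

theorem gl_mulVec_inv (g : Gl m F) (x : Vc m F) : g.1 *ᵥ ((g⁻¹).1 *ᵥ x) = x := by
  rw [Matrix.mulVec_mulVec, Units.mul_inv, Matrix.one_mulVec]

/-- the datum -/
structure Dat (J : Mt m F) (δ : F) : Prop where
  sq : J * J = δ • (1 : Mt m F)
  skew : ∀ u v : Vc m F, ⟪J *ᵥ u, v⟫ = -⟪u, J *ᵥ v⟫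
  nsq : ∀ c : F, c * c ≠ δ

/-- `X` contains the centraliser of `J` in the symplectic group -/
def CenIn (X : Subgroup (Gl m F)) (J : Mt m F) : Prop :=
  ∀ h : Gl m F, h ∈ spGL m F → h.1 * J = J * h.1 → h ∈ X

/-- the `F[J]`-line through `x` -/
def Es (J : Mt m F) (x : Vc m F) : Submodule F (Vc m F) := Submodule.span F {x, J *ᵥ x}

theorem mem_Es {J : Mt m F} {x z : Vc m F} : z ∈ Es J x ↔ ∃ a b : F, a • x + b • J *ᵥ x = z :=
  Submodule.mem_span_pair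

theorem self_mem_Es (J : Mt m F) (x : Vc m F) : x ∈ Es J x :=
  mem_Es.mpr ⟨1, 0, by simp⟩

theorem J_mem_Es (J : Mt m F) (x : Vc m F) : J *ᵥ x ∈ Es J x :=
  mem_Es.mpr ⟨0, 1, by simp⟩

namespace Dat

variable {J : Mt m F} {δ : F}

theorem JJ (hJ : Dat J δ) (x : Vc m F) : J *ᵥ (J *ᵥ x) = δ • x := by
  rw [Matrix.mulVec_mulVec, hJ.sq, Matrix.smul_mulVec, Matrix.one_mulVec]

theorem δ_ne (hJ : Dat J δ) : δ ≠ 0 := fun h => hJ.nsq 0 (by rw [h, mul_zero])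

theorem skew' (hJ : Dat J δ) (u v : Vc m F) : ⟪u, J *ᵥ v⟫ = -⟪J *ᵥ u, v⟫ := by
  rw [hJ.skew, neg_neg]

theorem gsymm (hJ : Dat J δ) (u v : Vc m F) : ⟪J *ᵥ u, v⟫ = ⟪J *ᵥ v, u⟫ := by
  rw [hJ.skew, sympForm_swap m u, neg_neg]

theorem fJJ (hJ : Dat J δ) (u v : Vc m F) : ⟪J *ᵥ u, J *ᵥ v⟫ = -(δ * ⟪u, v⟫) := by
  rw [hJ.skew, hJ.JJ, sympForm_smul_right]

theorem norm_ne (hJ : Dat J δ) {a b : F} (h : a ≠ 0 ∨ b ≠ 0) : a * a - δ * (b * b) ≠ 0 := by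
  intro h0
  by_cases hb : b = 0
  · subst hb
    have ha : a ≠ 0 := by tauto
    apply ha
    have : a * a = 0 := by linear_combination h0
    exact mul_self_eq_zero.mp this
  · apply hJ.nsq (a / b)
    field_simp
    linear_combination h0

theorem J_comb (hJ : Dat J δ) (a b : F) (x : Vc m F) :
    J *ᵥ (a • x + b • J *ᵥ x) = (δ * b) • x + a • J *ᵥ x := by
  rw [Matrix.mulVec_add, Matrix.mulVec_smul, Matrix.mulVec_smul, hJ.JJ]
  module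

theorem indep (hJ : Dat J δ) {a b : F} {x : Vc m F} (hx : x ≠ 0)
    (h : a • x + b • J *ᵥ x = 0) : a = 0 ∧ b = 0 := by
  have h' : (δ * b) • x + a • J *ᵥ x = 0 := by rw [← hJ.J_comb, h, Matrix.mulVec_zero]
  have h3 : (a * a - δ * (b * b)) • x = 0 := by
    linear_combination (norm := module) a • h - b • h'
  by_contra hab
  have : a ≠ 0 ∨ b ≠ 0 := by tauto
  exact hx ((smul_eq_zero.mp h3).resolve_left (hJ.norm_ne this))

theorem Es_inv (hJ : Dat J δ) {x z : Vc m F} (hz : z ∈ Es J x) : J *ᵥ z ∈ Es J x := by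
  obtain ⟨a, b, rfl⟩ := mem_Es.mp hz
  rw [hJ.J_comb]
  exact mem_Es.mpr ⟨_, _, rfl⟩

/-- a `J`-invariant subspace containing a non-trivial `F[J]`-multiple of `x` contains `x` -/
theorem mem_of_comb_mem (hJ : Dat J δ) (S : Submodule F (Vc m F)) (hS : ∀ z ∈ S, J *ᵥ z ∈ S)
    {a b : F} (hab : a ≠ 0 ∨ b ≠ 0) {x : Vc m F} (h : a • x + b • J *ᵥ x ∈ S) : x ∈ S := by
  have hn := hJ.norm_ne hab
  have h' := hS _ h
  rw [hJ.J_comb] at h'
  have h3 : (a * a - δ * (b * b)) • x ∈ S := by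
    have : (a * a - δ * (b * b)) • x
        = a • (a • x + b • J *ᵥ x) - b • ((δ * b) • x + a • J *ᵥ x) := by module
    rw [this]
    exact S.sub_mem (S.smul_mem a h) (S.smul_mem b h')
  have h4 := S.smul_mem (a * a - δ * (b * b))⁻¹ h3
  rwa [smul_smul, inv_mul_cancel₀ hn, one_smul] at h4

theorem Es_swap (hJ : Dat J δ) {x y : Vc m F} (hx : x ≠ 0) (h : x ∈ Es J y) : y ∈ Es J x := by
  obtain ⟨a, b, hab⟩ := mem_Es.mp h
  have hne : a ≠ 0 ∨ b ≠ 0 := by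
    by_contra hcon
    push Not at hcon
    apply hx
    rw [← hab, hcon.1, hcon.2]
    simp
  apply hJ.mem_of_comb_mem (Es J x) (fun z hz => hJ.Es_inv hz) hne
  rw [hab]
  exact self_mem_Es J x

theorem Q_add (hJ : Dat J δ) (u v : Vc m F) :
    ⟪J *ᵥ (u + v), u + v⟫ = ⟪J *ᵥ u, u⟫ + ⟪J *ᵥ v, v⟫ + 2 * ⟪J *ᵥ u, v⟫ := by
  rw [Matrix.mulVec_add]
  simp only [sympForm_add_left, sympForm_add_right]
  rw [hJ.gsymm v u]
  ring

theorem Q_smul (a : F) (J : Mt m F) (v : Vc m F) :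
    ⟪J *ᵥ (a • v), a • v⟫ = a * a * ⟪J *ᵥ v, v⟫ := by
  rw [Matrix.mulVec_smul, sympForm_smul_left, sympForm_smul_right]
  ring

theorem Q_comb (hJ : Dat J δ) (a b : F) (x : Vc m F) :
    ⟪J *ᵥ (a • x + b • J *ᵥ x), a • x + b • J *ᵥ x⟫ = (a * a - δ * (b * b)) * ⟪J *ᵥ x, x⟫ := by
  rw [hJ.J_comb]
  simp only [sympForm_add_left, sympForm_add_right, sympForm_smul_left, sympForm_smul_right]
  rw [sympForm_self, sympForm_self, hJ.skew' x x]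
  ring

theorem conj (hJ : Dat J δ) {g : Gl m F} (hg : g ∈ spGL m F) : Dat (g.1 * J * (g⁻¹).1) δ := by
  have hg' := (mem_spGL_iff m g).mp hg
  refine ⟨?_, ?_, hJ.nsq⟩
  · rw [ext_iff_mulVec]
    intro x
    simp only [← Matrix.mulVec_mulVec]
    rw [gl_inv_mulVec, hJ.JJ, Matrix.mulVec_smul, gl_mulVec_inv, Matrix.smul_mulVec,
      Matrix.one_mulVec]
  · intro u v
    simp only [← Matrix.mulVec_mulVec]
    have e1 := hg' (J *ᵥ ((g⁻¹).1 *ᵥ u)) ((g⁻¹).1 *ᵥ v)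
    rw [gl_mulVec_inv] at e1
    have e2 := hg' ((g⁻¹).1 *ᵥ u) (J *ᵥ ((g⁻¹).1 *ᵥ v))
    rw [gl_mulVec_inv] at e2
    rw [e1, e2, hJ.skew]

end Dat

theorem CenIn.conj {X : Subgroup (Gl m F)} {J : Mt m F} (hX : X ≤ spGL m F) (hC : CenIn X J)
    {g : Gl m F} (hg : g ∈ X) : CenIn X (g.1 * J * (g⁻¹).1) := by
  intro h hh hcomm
  have h1 : g⁻¹ * h * g ∈ X := by
    apply hC
    · exact mul_mem (mul_mem (inv_mem (hX hg)) hh) (hX hg)
    · rw [ext_iff_mulVec]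
      intro x
      have e := congrArg (fun A : Mt m F => A *ᵥ (g.1 *ᵥ x)) hcomm
      simp only [← Matrix.mulVec_mulVec, gl_inv_mulVec] at e
      simp only [Units.val_mul, ← Matrix.mulVec_mulVec]
      rw [e, gl_inv_mulVec]
  have : h = g * (g⁻¹ * h * g) * g⁻¹ := by group
  rw [this]
  exact mul_mem (mul_mem hg h1) (inv_mem hg)

/-! ### dual vectors -/

theorem exists_vec_of_functional (φ : Vc m F →ₗ[F] F) : ∃ w : Vc m F, ∀ z, ⟪z, w⟫ = φ z := by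
  have hB := sympBilin_nondegenerate (F := F) m
  refine ⟨-(((sympBilin F m).toDual hB).symm φ), fun z => ?_⟩
  have := LinearMap.BilinForm.apply_toDual_symm_apply (B := sympBilin F m) (hB := hB) φ z
  rw [sympBilin_apply] at this
  rw [sf_neg_right, sympForm_swap m z, neg_neg]
  exact this

theorem exists_dual_vec (S : Submodule F (Vc m F)) {y : Vc m F} (hy : y ∉ S) :
    ∃ w : Vc m F, (∀ z ∈ S, ⟪z, w⟫ = 0) ∧ ⟪y, w⟫ = 1 := by
  obtain ⟨φ, hφy, hφS⟩ := Submodule.exists_dual_map_eq_bot_of_notMem hy inferInstance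
  obtain ⟨w, hw⟩ := exists_vec_of_functional ((φ y)⁻¹ • φ)
  refine ⟨w, fun z hz => ?_, ?_⟩
  · rw [hw]
    have h0 : φ z = 0 := by
      have : φ z ∈ Submodule.map φ S := Submodule.mem_map_of_mem hz
      rw [hφS] at this
      exact (Submodule.mem_bot F).mp this
    rw [LinearMap.smul_apply, h0, smul_zero]
  · rw [hw, LinearMap.smul_apply, smul_eq_mul, inv_mul_cancel₀ hφy]

theorem exists_form_eq_one {u : Vc m F} (hu : u ≠ 0) : ∃ y : Vc m F, ⟪u, y⟫ = 1 := by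
  by_contra hne
  push Not at hne
  apply hu
  apply eq_zero_of_sympForm_right m u
  intro v
  by_contra hv
  exact hne ((⟪u, v⟫)⁻¹ • v) (by rw [sympForm_smul_right, inv_mul_cancel₀ hv])

theorem Dat.exists_dual {J : Mt m F} {δ : F} (hJ : Dat J δ) (S : Submodule F (Vc m F))
    (hS : ∀ z ∈ S, J *ᵥ z ∈ S) {y : Vc m F} (hy : y ∉ S) (c₁ c₂ : F) :
    ∃ w : Vc m F, (∀ z ∈ S, ⟪z, w⟫ = 0) ∧ ⟪y, w⟫ = c₁ ∧ ⟪J *ᵥ y, w⟫ = c₂ := by
  obtain ⟨w₀, hw₀S, hw₀y⟩ := exists_dual_vec S hy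
  obtain ⟨t, ht⟩ : ∃ t : F, t = ⟪J *ᵥ y, w₀⟫ := ⟨_, rfl⟩
  have hn : t * t - δ ≠ 0 := fun h => hJ.nsq t (by linear_combination h)
  obtain ⟨b, hb⟩ : ∃ b : F, b = (c₂ - c₁ * t) / (t * t - δ) := ⟨_, rfl⟩
  have hb' : b * (t * t - δ) = c₂ - c₁ * t := by rw [hb, div_mul_cancel₀ _ hn]
  refine ⟨(c₁ + b * t) • w₀ + b • J *ᵥ w₀, fun z hz => ?_, ?_, ?_⟩
  · rw [sympForm_add_right, sympForm_smul_right, sympForm_smul_right, hw₀S z hz, hJ.skew',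
      hw₀S _ (hS z hz)]
    ring
  · rw [sympForm_add_right, sympForm_smul_right, sympForm_smul_right, hw₀y, hJ.skew' y w₀, ← ht]
    ring
  · rw [sympForm_add_right, sympForm_smul_right, sympForm_smul_right, hJ.fJJ, hw₀y, ← ht]
    linear_combination hb'

/-! ### perpendicular spaces of finite families -/

/-- vectors `z` with `⟪z, p i⟫ = 0` for all `i` -/
noncomputable def perpK {k : ℕ} (p : Fin k → Vc m F) : Submodule F (Vc m F) :=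
  LinearMap.ker (LinearMap.pi (fun i => (sympBilin F m).flip (p i)))

theorem mem_perpK {k : ℕ} (p : Fin k → Vc m F) (z : Vc m F) :
    z ∈ perpK p ↔ ∀ i, ⟪z, p i⟫ = 0 := by
  unfold perpK
  rw [LinearMap.mem_ker]
  constructor
  · intro h i
    have := congrFun h i
    simpa using this
  · intro h
    funext i
    simpa using h i

theorem finrank_perpK {k : ℕ} (p : Fin k → Vc m F) :
    2 * m ≤ Module.finrank F (perpK p) + k := by
  obtain ⟨L, hL⟩ : ∃ L : Vc m F →ₗ[F] (Fin k → F),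
      L = LinearMap.pi (fun i => (sympBilin F m).flip (p i)) := ⟨_, rfl⟩
  have hk : perpK p = LinearMap.ker L := by rw [hL]; rfl
  rw [hk]
  have h1 := LinearMap.finrank_range_add_finrank_ker L
  have h2 : Module.finrank F (LinearMap.range L) ≤ k := by
    have := Submodule.finrank_le (LinearMap.range L)
    rwa [Module.finrank_fintype_fun_eq_card, Fintype.card_fin] at this
  have h3 : Module.finrank F (Vc m F) = 2 * m := by
    rw [Module.finrank_fintype_fun_eq_card, Fintype.card_sum, Fintype.card_fin]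
    ring
  omega

/-! ### isotropic vectors -/

/-- the quadratic form `x ↦ ⟪J x, x⟫` -/
noncomputable def qf (J : Mt m F) : QuadraticForm F (Vc m F) :=
  LinearMap.BilinMap.toQuadraticMap
    (LinearMap.BilinForm.comp (sympBilin F m) (Matrix.mulVecLin J) LinearMap.id)

theorem qf_apply (J : Mt m F) (x : Vc m F) : qf J x = ⟪J *ᵥ x, x⟫ := by
  unfold qf
  rw [LinearMap.BilinMap.toQuadraticMap_apply, LinearMap.BilinForm.comp_apply]
  rfl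

theorem exists_iso [Finite F] (J : Mt m F) (C : Submodule F (Vc m F))
    (hC : 3 ≤ Module.finrank F C) : ∃ z ∈ C, z ≠ 0 ∧ ⟪J *ᵥ z, z⟫ = 0 := by
  obtain ⟨v, hv, hQ⟩ := Cfsg.Agent.Lib.Helper5.exists_singular ((qf J).comp C.subtype) hC
  refine ⟨v.1, v.2, fun h => hv (Subtype.ext h), ?_⟩
  rw [QuadraticMap.comp_apply, qf_apply] at hQ
  exact hQ

theorem exists_iso_top [Finite F] (J : Mt m F) (hm : 2 ≤ m) :
    ∃ z : Vc m F, z ≠ 0 ∧ ⟪J *ᵥ z, z⟫ = 0 := by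
  have h3 : Module.finrank F (⊤ : Submodule F (Vc m F)) = 2 * m := by
    rw [finrank_top, Module.finrank_fintype_fun_eq_card, Fintype.card_sum, Fintype.card_fin]
    ring
  obtain ⟨z, -, hz, hQ⟩ := exists_iso J ⊤ (by omega)
  exact ⟨z, hz, hQ⟩

namespace Dat

variable {J : Mt m F} {δ : F}

theorem J_ne (hJ : Dat J δ) {z : Vc m F} (hz : z ≠ 0) : J *ᵥ z ≠ 0 := by
  intro h
  have := hJ.JJ z
  rw [h, Matrix.mulVec_zero] at this
  exact hz ((smul_eq_zero.mp this.symm).resolve_left hJ.δ_ne)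

/-- every vector is an isotropic vector plus a combination of a fixed hyperbolic pair -/
theorem iso_decomp (hJ : Dat J δ) [Finite F] (h2 : (2 : F) ≠ 0) (hm : 2 ≤ m) :
    ∃ z z' : Vc m F, z ≠ 0 ∧ ⟪J *ᵥ z, z⟫ = 0 ∧ ⟪J *ᵥ z', z'⟫ = 0 ∧
      ∀ y : Vc m F, ∃ (x : Vc m F) (a b : F), ⟪J *ᵥ x, x⟫ = 0 ∧ y = x + a • z + b • z' := by
  obtain ⟨z, hz, hQz⟩ := exists_iso_top J hm
  obtain ⟨y₁, hy₁⟩ := exists_form_eq_one (hJ.J_ne hz)
  obtain ⟨c, hc⟩ : ∃ c : F, 2 * c = -⟪J *ᵥ y₁, y₁⟫ := ⟨2⁻¹ * -⟪J *ᵥ y₁, y₁⟫, by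
    rw [← mul_assoc, mul_inv_cancel₀ h2, one_mul]⟩
  have hzy₁ : ⟪J *ᵥ y₁, z⟫ = 1 := by rw [hJ.gsymm]; exact hy₁
  -- z' = y₁ + c z
  have hQz' : ⟪J *ᵥ (y₁ + c • z), y₁ + c • z⟫ = 0 := by
    rw [hJ.Q_add, Q_smul, hQz, sympForm_smul_right, hzy₁]
    linear_combination hc
  have hzz' : ⟪J *ᵥ z, y₁ + c • z⟫ = 1 := by
    rw [sympForm_add_right, sympForm_smul_right, hQz, hy₁]; ring
  have hz'z : ⟪J *ᵥ (y₁ + c • z), z⟫ = 1 := by rw [hJ.gsymm]; exact hzz'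
  refine ⟨z, y₁ + c • z, hz, hQz, hQz', fun y => ?_⟩
  obtain ⟨z', hz'def⟩ : ∃ z' : Vc m F, z' = y₁ + c • z := ⟨_, rfl⟩
  rw [← hz'def] at hQz' hzz' hz'z ⊢
  obtain ⟨s, hs⟩ : ∃ s : F, s = ⟪J *ᵥ y, z'⟫ := ⟨_, rfl⟩
  obtain ⟨r, hr⟩ : ∃ r : F, r = ⟪J *ᵥ y, z⟫ := ⟨_, rfl⟩
  obtain ⟨y₀, hy₀⟩ : ∃ y₀ : Vc m F, y₀ = y - s • z - r • z' := ⟨_, rfl⟩
  have hy₀z : ⟪J *ᵥ y₀, z⟫ = 0 := by
    rw [hy₀, Matrix.mulVec_sub, Matrix.mulVec_sub, Matrix.mulVec_smul, Matrix.mulVec_smul,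
      sympForm_sub_left, sympForm_sub_left, sympForm_smul_left, sympForm_smul_left, hQz, hz'z,
      ← hr]
    ring
  have hy₀z' : ⟪J *ᵥ y₀, z'⟫ = 0 := by
    rw [hy₀, Matrix.mulVec_sub, Matrix.mulVec_sub, Matrix.mulVec_smul, Matrix.mulVec_smul,
      sympForm_sub_left, sympForm_sub_left, sympForm_smul_left, sympForm_smul_left, hQz', hzz',
      ← hs]
    ring
  obtain ⟨e, he⟩ : ∃ e : F, 2 * e = -⟪J *ᵥ y₀, y₀⟫ := ⟨2⁻¹ * -⟪J *ᵥ y₀, y₀⟫, by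
    rw [← mul_assoc, mul_inv_cancel₀ h2, one_mul]⟩
  refine ⟨y₀ + (z + e • z'), s - 1, r - e, ?_, ?_⟩
  · rw [hJ.Q_add, hJ.Q_add z, Q_smul, hQz, hQz', sympForm_add_right, sympForm_smul_right,
      sympForm_smul_right, hy₀z, hy₀z', hzz']
    linear_combination he
  · rw [hy₀]
    module

theorem exists_iso_ne (hJ : Dat J δ) [Finite F] (h2 : (2 : F) ≠ 0) (hm : 2 ≤ m) {u : Vc m F}
    (hu : u ≠ 0) : ∃ x : Vc m F, ⟪J *ᵥ x, x⟫ = 0 ∧ ⟪u, x⟫ ≠ 0 := by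
  by_contra hne
  push Not at hne
  obtain ⟨z, z', -, hz, hz', hdec⟩ := hJ.iso_decomp h2 hm
  apply hu
  apply eq_zero_of_sympForm_right m u
  intro y
  obtain ⟨x, a, b, hx, rfl⟩ := hdec y
  rw [sympForm_add_right, sympForm_add_right, sympForm_smul_right, sympForm_smul_right,
    hne x hx, hne z hz, hne z' hz']
  ring

theorem mat_eq_zero_of_iso (hJ : Dat J δ) [Finite F] (h2 : (2 : F) ≠ 0) (hm : 2 ≤ m)
    (N : Mt m F) (h : ∀ x : Vc m F, ⟪J *ᵥ x, x⟫ = 0 → N *ᵥ x = 0) : N = 0 := by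
  obtain ⟨z, z', -, hz, hz', hdec⟩ := hJ.iso_decomp h2 hm
  rw [ext_iff_mulVec]
  intro y
  obtain ⟨x, a, b, hx, rfl⟩ := hdec y
  rw [Matrix.mulVec_add, Matrix.mulVec_add, Matrix.mulVec_smul, Matrix.mulVec_smul, h x hx,
    h z hz, h z' hz', Matrix.zero_mulVec]
  simp

/-- a common isotropic neighbour of two nonzero vectors -/
theorem exists_bridge (hJ : Dat J δ) [Finite F] (hm : 7 ≤ m) {x y : Vc m F} (hx : x ≠ 0)
    (hy : y ≠ 0) :
    ∃ z : Vc m F, z ≠ 0 ∧ ⟪J *ᵥ z, z⟫ = 0 ∧ ⟪z, x⟫ = 0 ∧ ⟪J *ᵥ z, x⟫ = 0 ∧ ⟪z, y⟫ = 0 ∧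
      ⟪J *ᵥ z, y⟫ = 0 ∧ x ∉ Es J z ∧ y ∉ Es J z := by
  obtain ⟨p, hp⟩ := exists_form_eq_one hx
  obtain ⟨r, hr⟩ := exists_form_eq_one hy
  have hfin := finrank_perpK ![x, J *ᵥ x, y, J *ᵥ y, p, J *ᵥ p, r, J *ᵥ r]
  obtain ⟨z, hzC, hz, hQz⟩ := exists_iso J
    (perpK ![x, J *ᵥ x, y, J *ᵥ y, p, J *ᵥ p, r, J *ᵥ r]) (by omega)
  have hall := (mem_perpK _ z).mp hzC
  have h0 : ⟪z, x⟫ = 0 := hall 0
  have h1 : ⟪z, J *ᵥ x⟫ = 0 := hall 1
  have h2 : ⟪z, y⟫ = 0 := hall 2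
  have h3 : ⟪z, J *ᵥ y⟫ = 0 := hall 3
  have h4 : ⟪z, p⟫ = 0 := hall 4
  have h5 : ⟪z, J *ᵥ p⟫ = 0 := hall 5
  have h6 : ⟪z, r⟫ = 0 := hall 6
  have h7 : ⟪z, J *ᵥ r⟫ = 0 := hall 7
  refine ⟨z, hz, hQz, h0, ?_, h2, ?_, ?_, ?_⟩
  · rw [hJ.skew, h1, neg_zero]
  · rw [hJ.skew, h3, neg_zero]
  · intro hmem
    obtain ⟨a, b, hab⟩ := mem_Es.mp hmem
    rw [← hab, sympForm_add_left, sympForm_smul_left, sympForm_smul_left, h4, hJ.skew, h5] at hp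
    simp at hp
  · intro hmem
    obtain ⟨a, b, hab⟩ := mem_Es.mp hmem
    rw [← hab, sympForm_add_left, sympForm_smul_left, sympForm_smul_left, h6, hJ.skew, h7] at hr
    simp at hr

end Dat

/-- a form-preserving linear map is given by an element of the symplectic group -/
theorem exists_spGL_of_linear (φ : Vc m F →ₗ[F] Vc m F)
    (hφ : ∀ u v, ⟪φ u, φ v⟫ = ⟪u, v⟫) :
    ∃ A : Gl m F, A ∈ spGL m F ∧ ∀ x, A.1 *ᵥ x = φ x := by
  have hinj : Function.Injective φ := by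
    rw [injective_iff_map_eq_zero]
    intro u hu
    apply eq_zero_of_sympForm_right m u
    intro v
    rw [← hφ u v, hu, sf_zero_left]
  obtain ⟨A, hA⟩ := exists_spGL_of_isometry m (LinearEquiv.ofInjectiveEndo φ hinj) (by
    intro u v
    simp only [LinearEquiv.coe_ofInjectiveEndo]
    exact hφ u v)
  exact ⟨A.1, A.2, fun x => by rw [hA x, LinearEquiv.coe_ofInjectiveEndo]⟩

end Cfsg.Agent.Lib.Helper7.UnA
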