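import Mathlib
import Cfsg.Agent.Lib.Helper7.UnA

set_option autoImplicit false

/-! Siegel (Eichler) elements of the centraliser of `J` in the symplectic group. -/

namespace Cfsg.Agent.Lib.Helper7.UnB

open Matrix Cfsg Cfsg.Agent.Lib.Helper5.SympTv Cfsg.Agent.Lib.Helper5.SympBridge
  Cfsg.Agent.Lib.Helper5.SpCentres Cfsg.Agent.Lib.Helper7.UnA

variable {F : Type*} [Field F] {m : ℕ}

local notation "⟪" u ", " v "⟫" => Cfsg.sympForm m F u v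

/-- the functional `x ↦ ⟪x, u⟫` -/
noncomputable def fl (u : Vc m F) : Vc m F →ₗ[F] F := (sympBilin F m).flip u

/-- the functional `x ↦ ⟪J x, u⟫` -/
noncomputable def flJ (J : Mt m F) (u : Vc m F) : Vc m F →ₗ[F] F :=
  (fl u).comp (Matrix.mulVecLin J)

theorem fl_apply (u x : Vc m F) : fl u x = ⟪x, u⟫ := rfl

theorem flJ_apply (J : Mt m F) (u x : Vc m F) : flJ J u x = ⟪J *ᵥ x, u⟫ := rfl

/-- the Siegel map, as a linear map -/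
noncomputable def sieg (J : Mt m F) (h d κ : F) (v w : Vc m F) : Vc m F →ₗ[F] Vc m F :=
  LinearMap.id + (h • fl w + κ • flJ J v).smulRight v
    + (d • flJ J w + κ • fl v).smulRight (J *ᵥ v)
    + (h • fl v).smulRight w + (d • flJ J v).smulRight (J *ᵥ w)

theorem sieg_apply (J : Mt m F) (h d κ : F) (v w x : Vc m F) :
    sieg J h d κ v w x = x + (h * ⟪x, w⟫ + κ * ⟪J *ᵥ x, v⟫) • v
      + (d * ⟪J *ᵥ x, w⟫ + κ * ⟪x, v⟫) • J *ᵥ v + (h * ⟪x, v⟫) • w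
      + (d * ⟪J *ᵥ x, v⟫) • J *ᵥ w := rfl

theorem sieg_pres {J : Mt m F} {δ : F} (hJ : Dat J δ) (h d κ : F) (v w : Vc m F)
    (hv : ⟪J *ᵥ v, v⟫ = 0) (hvw : ⟪v, w⟫ = 0) (hJvw : ⟪J *ᵥ v, w⟫ = 0)
    (hκ : 2 * κ = h * d * ⟪J *ᵥ w, w⟫) (x y : Vc m F) :
    ⟪sieg J h d κ v w x, sieg J h d κ v w y⟫ = ⟪x, y⟫ := by
  have g1 : ⟪v, v⟫ = 0 := sympForm_self m v
  have g2 : ⟪v, J *ᵥ v⟫ = 0 := by rw [hJ.skew', hv, neg_zero]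
  have g4 : ⟪v, J *ᵥ w⟫ = 0 := by rw [hJ.skew', hJvw, neg_zero]
  have g6 : ⟪J *ᵥ v, J *ᵥ v⟫ = 0 := sympForm_self m _
  have g8 : ⟪J *ᵥ v, J *ᵥ w⟫ = 0 := by rw [hJ.fJJ, hvw, mul_zero, neg_zero]
  have g9 : ⟪w, v⟫ = 0 := by rw [sympForm_swap, hvw, neg_zero]
  have g13 : ⟪J *ᵥ w, v⟫ = 0 := by rw [hJ.gsymm, hJvw]
  have g10 : ⟪w, J *ᵥ v⟫ = 0 := by rw [hJ.skew', g13, neg_zero]
  have g11 : ⟪w, w⟫ = 0 := sympForm_self m w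
  have g12 : ⟪w, J *ᵥ w⟫ = -⟪J *ᵥ w, w⟫ := hJ.skew' w w
  have g14 : ⟪J *ᵥ w, J *ᵥ v⟫ = 0 := by rw [hJ.fJJ, g9, mul_zero, neg_zero]
  have g16 : ⟪J *ᵥ w, J *ᵥ w⟫ = 0 := sympForm_self m _
  have e1 : ⟪x, J *ᵥ v⟫ = -⟪J *ᵥ x, v⟫ := hJ.skew' x v
  have e2 : ⟪x, J *ᵥ w⟫ = -⟪J *ᵥ x, w⟫ := hJ.skew' x w
  have e3 : ⟪v, y⟫ = -⟪y, v⟫ := sympForm_swap m v y
  have e4 : ⟪J *ᵥ v, y⟫ = ⟪J *ᵥ y, v⟫ := hJ.gsymm v y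
  have e5 : ⟪w, y⟫ = -⟪y, w⟫ := sympForm_swap m w y
  have e6 : ⟪J *ᵥ w, y⟫ = ⟪J *ᵥ y, w⟫ := hJ.gsymm w y
  rw [sieg_apply, sieg_apply]
  simp only [sympForm_add_left, sympForm_add_right, sympForm_smul_left, sympForm_smul_right]
  rw [g1, g2, hvw, g4, hv, g6, hJvw, g8, g9, g10, g11, g12, g13, g14, g16, e1, e2, e3, e4, e5,
    e6]
  linear_combination (⟪x, v⟫ * ⟪J *ᵥ y, v⟫ - ⟪J *ᵥ x, v⟫ * ⟪y, v⟫) * hκ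

theorem sieg_comm {J : Mt m F} {δ : F} (hJ : Dat J δ) (h d κ : F) (v w : Vc m F)
    (hd : d * δ = h) (x : Vc m F) :
    sieg J h d κ v w (J *ᵥ x) = J *ᵥ (sieg J h d κ v w x) := by
  subst hd
  rw [sieg_apply, sieg_apply]
  simp only [Matrix.mulVec_add, Matrix.mulVec_smul, hJ.JJ, sympForm_smul_left]
  module

theorem sieg_restr (J : Mt m F) (h d κ : F) (v w x : Vc m F) (h1 : ⟪x, v⟫ = 0)
    (h2 : ⟪J *ᵥ x, v⟫ = 0) :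
    sieg J h d κ v w x = x + (h * ⟪x, w⟫) • v + (d * ⟪J *ᵥ x, w⟫) • J *ᵥ v := by
  rw [sieg_apply, h1, h2]
  simp

/-- existence of Siegel elements -/
theorem exists_siegel {J : Mt m F} {δ : F} (hJ : Dat J δ) (h2 : (2 : F) ≠ 0) (v w : Vc m F)
    (hv : ⟪J *ᵥ v, v⟫ = 0) (hvw : ⟪v, w⟫ = 0) (hJvw : ⟪J *ᵥ v, w⟫ = 0) :
    ∃ q : Gl m F, q ∈ spGL m F ∧ q.1 * J = J * q.1 ∧
      ∀ x : Vc m F, ⟪x, v⟫ = 0 → ⟪J *ᵥ x, v⟫ = 0 →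
        q.1 *ᵥ x = x + (2⁻¹ * ⟪x, w⟫) • v + ((2 * δ)⁻¹ * ⟪J *ᵥ x, w⟫) • J *ᵥ v := by
  have hδ := hJ.δ_ne
  have hd : (2 * δ)⁻¹ * δ = 2⁻¹ := by field_simp
  have hκ : 2 * (2⁻¹ * (2⁻¹ * (2 * δ)⁻¹ * ⟪J *ᵥ w, w⟫)) = 2⁻¹ * (2 * δ)⁻¹ * ⟪J *ᵥ w, w⟫ := by
    rw [← mul_assoc, mul_inv_cancel₀ h2, one_mul]
  obtain ⟨A, hA, hAφ⟩ := exists_spGL_of_linear
    (sieg J 2⁻¹ (2 * δ)⁻¹ (2⁻¹ * (2⁻¹ * (2 * δ)⁻¹ * ⟪J *ᵥ w, w⟫)) v w)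
    (sieg_pres hJ _ _ _ v w hv hvw hJvw hκ)
  refine ⟨A, hA, ?_, fun x h1 h2' => ?_⟩
  · rw [ext_iff_mulVec]
    intro x
    rw [← Matrix.mulVec_mulVec, ← Matrix.mulVec_mulVec, hAφ, hAφ]
    exact sieg_comm hJ _ _ _ v w hd x
  · rw [hAφ]
    exact sieg_restr J _ _ _ v w x h1 h2'

end Cfsg.Agent.Lib.Helper7.UnB
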