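import Mathlib
import Cfsg.Agent.Lib.Helper7.UnB

set_option autoImplicit false

/-! A subgroup of the symplectic group containing the centraliser of `J` and all transvections
with a given isotropic centre is the whole symplectic group. -/

namespace Cfsg.Agent.Lib.Helper7.UnC

open Matrix Cfsg Cfsg.Agent.Lib.Helper5.SympTv Cfsg.Agent.Lib.Helper5.SympBridge
  Cfsg.Agent.Lib.Helper5.SpCentres Cfsg.Agent.Lib.Helper7.UnA Cfsg.Agent.Lib.Helper7.UnB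

variable {F : Type*} [Field F] {m : ℕ}

local notation "⟪" u ", " v "⟫" => Cfsg.sympForm m F u v

variable {J : Mt m F} {δ : F} {X : Subgroup (Gl m F)}

theorem T_a (hJ : Dat J δ) (h2 : (2 : F) ≠ 0) (hX : X ≤ spGL m F) (hC : CenIn X J)
    {v x : Vc m F} (hv : IsCentre m X v) (hx : ⟪J *ᵥ x, x⟫ = 0) (h1 : ⟪x, v⟫ = 0)
    (h1' : ⟪J *ᵥ x, v⟫ = 0) (hind : v ∉ Es J x) (α β : F) :
    IsCentre m X (v + α • x + β • J *ᵥ x) := by
  obtain ⟨w, hwS, hw1, hw2⟩ := hJ.exists_dual (Es J x) (fun z hz => hJ.Es_inv hz) hind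
    (2 * α) (2 * δ * β)
  have hxw : ⟪x, w⟫ = 0 := hwS x (self_mem_Es J x)
  have hJxw : ⟪J *ᵥ x, w⟫ = 0 := hwS _ (J_mem_Es J x)
  obtain ⟨q, hq, hqJ, hqx⟩ := exists_siegel hJ h2 x w hx hxw hJxw
  have hqX : q ∈ X := hC q hq hqJ
  have hvx : ⟪v, x⟫ = 0 := by rw [sympForm_swap, h1, neg_zero]
  have hJvx : ⟪J *ᵥ v, x⟫ = 0 := by rw [hJ.gsymm, h1']
  have hqv := hqx v hvx hJvx
  rw [hw1, hw2] at hqv
  have hδ := hJ.δ_ne
  have e1 : (2 : F)⁻¹ * (2 * α) = α := by field_simp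
  have e2 : (2 * δ)⁻¹ * (2 * δ * β) = β := by field_simp
  rw [e1, e2] at hqv
  rw [← hqv]
  exact isCentre_mulVec hX q hqX hv

theorem T_b (hJ : Dat J δ) (h2 : (2 : F) ≠ 0) (hX : X ≤ spGL m F) (hC : CenIn X J)
    {v x : Vc m F} (hv : IsCentre m X v) (hQv : ⟪J *ᵥ v, v⟫ = 0) (hx : ⟪J *ᵥ x, x⟫ = 0)
    (h1 : ⟪x, v⟫ = 0) (h1' : ⟪J *ᵥ x, v⟫ = 0) (hind : v ∉ Es J x) : IsCentre m X x := by
  by_cases hx0 : x = 0
  · rw [hx0]; exact isCentre_zero X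
  have hy := T_a hJ h2 hX hC hv hx h1 h1' hind 1 0
  -- y = v + x
  have hyv : ⟪v, v + (1 : F) • x + (0 : F) • J *ᵥ x⟫ = 0 := by
    simp only [sympForm_add_right, sympForm_smul_right]
    rw [sympForm_self, sympForm_swap m v x, h1]
    ring
  have hJyv : ⟪J *ᵥ v, v + (1 : F) • x + (0 : F) • J *ᵥ x⟫ = 0 := by
    simp only [sympForm_add_right, sympForm_smul_right]
    rw [hQv, hJ.gsymm v x, h1']
    ring
  have hind' : v + (1 : F) • x + (0 : F) • J *ᵥ x ∉ Es J v := by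
    intro hmem
    apply hind
    apply hJ.Es_swap hx0
    have : x = (v + (1 : F) • x + (0 : F) • J *ᵥ x) - v := by module
    rw [this]
    exact (Es J v).sub_mem hmem (self_mem_Es J v)
  have := T_a hJ h2 hX hC hy hQv hyv hJyv hind' (-1) 0
  have e : v + (1 : F) • x + (0 : F) • J *ᵥ x + (-1 : F) • v + (0 : F) • J *ᵥ v = x := by module
  rwa [e] at this

theorem T_c (hJ : Dat J δ) [Finite F] (h2 : (2 : F) ≠ 0) (hm : 7 ≤ m) (hX : X ≤ spGL m F)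
    (hC : CenIn X J) {v : Vc m F} (hv0 : v ≠ 0) (hv : IsCentre m X v)
    (hQv : ⟪J *ᵥ v, v⟫ = 0) (y : Vc m F) (hy : ⟪J *ᵥ y, y⟫ = 0) : IsCentre m X y := by
  by_cases hy0 : y = 0
  · rw [hy0]; exact isCentre_zero X
  obtain ⟨z, hz0, hQz, hzv, hJzv, hzy, hJzy, hvz, hyz⟩ := hJ.exists_bridge hm hv0 hy0
  have hz : IsCentre m X z := T_b hJ h2 hX hC hv hQv hQz hzv hJzv hvz
  have hyz' : ⟪y, z⟫ = 0 := by rw [sympForm_swap, hzy, neg_zero]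
  have hJyz : ⟪J *ᵥ y, z⟫ = 0 := by rw [hJ.gsymm, hJzy]
  have hzy' : z ∉ Es J y := fun hmem => hyz (hJ.Es_swap hz0 hmem)
  exact T_b hJ h2 hX hC hz hQz hy hyz' hJyz hzy'

theorem T_d (hJ : Dat J δ) [Finite F] (h2 : (2 : F) ≠ 0) (hm : 7 ≤ m) (hX : X ≤ spGL m F)
    (hC : CenIn X J) {v : Vc m F} (hv0 : v ≠ 0) (hv : IsCentre m X v)
    (hQv : ⟪J *ᵥ v, v⟫ = 0) (w : Vc m F) : IsCentre m X w := by
  by_cases hQw : ⟪J *ᵥ w, w⟫ = 0
  · exact T_c hJ h2 hm hX hC hv0 hv hQv w hQw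
  have hw0 : w ≠ 0 := by
    intro h
    apply hQw
    rw [h, sf_zero_right]
  have hδ := hJ.δ_ne
  -- an isotropic vector with both products nonzero
  obtain ⟨x', hx', hs', ht'⟩ : ∃ x' : Vc m F, ⟪J *ᵥ x', x'⟫ = 0 ∧ ⟪w, x'⟫ ≠ 0 ∧
      ⟪J *ᵥ w, x'⟫ ≠ 0 := by
    obtain ⟨x, hx, hs⟩ := hJ.exists_iso_ne h2 (by omega) hw0
    by_cases ht : ⟪J *ᵥ w, x⟫ = 0
    · refine ⟨(1 : F) • x + (1 : F) • J *ᵥ x, ?_, ?_, ?_⟩
      · rw [hJ.Q_comb, hx, mul_zero]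
      · simp only [sympForm_add_right, sympForm_smul_right]
        rw [hJ.skew' w x, ht]
        simpa using hs
      · simp only [sympForm_add_right, sympForm_smul_right]
        rw [hJ.fJJ, ht]
        simpa using ⟨hδ, hs⟩
    · exact ⟨x, hx, hs, ht⟩
  obtain ⟨c, hc⟩ : ∃ c : F, c = ⟪J *ᵥ w, w⟫ / (2 * ⟪J *ᵥ w, x'⟫) := ⟨_, rfl⟩
  have hc0 : c ≠ 0 := by
    rw [hc]
    exact div_ne_zero hQw (mul_ne_zero h2 ht')
  have hc2 : 2 * (c * ⟪J *ᵥ w, x'⟫) = ⟪J *ᵥ w, w⟫ := by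
    rw [hc]; field_simp
  have hx1 : ⟪J *ᵥ (c • x'), c • x'⟫ = 0 := by rw [Dat.Q_smul, hx', mul_zero]
  have hx2 : ⟪J *ᵥ (w - c • x'), w - c • x'⟫ = 0 := by
    rw [Matrix.mulVec_sub]
    simp only [sympForm_sub_left, sympForm_sub_right]
    rw [hx1, hJ.gsymm (c • x') w, sympForm_smul_right]
    linear_combination -hc2
  have h12 : ⟪w - c • x', c • x'⟫ ≠ 0 := by
    rw [sympForm_sub_left, sympForm_self, sympForm_smul_right, sub_zero]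
    exact mul_ne_zero hc0 hs'
  have hc1 := T_c hJ h2 hm hX hC hv0 hv hQv (c • x') hx1
  have hc2' := T_c hJ h2 hm hX hC hv0 hv hQv (w - c • x') hx2
  have := isCentre_add_smul hX hc1 hc2' h12 1
  have e : w - c • x' + (1 : F) • c • x' = w := by module
  rwa [e] at this

/-- Lemma T -/
theorem T_main (hJ : Dat J δ) [Finite F] (h2 : (2 : F) ≠ 0) (hm : 7 ≤ m) (hX : X ≤ spGL m F)
    (hC : CenIn X J) {v : Vc m F} (hv0 : v ≠ 0) (hv : IsCentre m X v)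
    (hQv : ⟪J *ᵥ v, v⟫ = 0) : spGL m F ≤ X :=
  spGL_le (fun w => T_d hJ h2 hm hX hC hv0 hv hQv w)

end Cfsg.Agent.Lib.Helper7.UnC
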