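import Mathlib
import Cfsg.Agent.Lib.Helper7.UnC

set_option autoImplicit false

/-! The core step: an overgroup of the centraliser of `J` containing an element that does not
normalise `F[J]` is the whole symplectic group. -/

namespace Cfsg.Agent.Lib.Helper7.UnD

open Matrix Cfsg Cfsg.Agent.Lib.Helper5.SympTv Cfsg.Agent.Lib.Helper5.SympBridge
  Cfsg.Agent.Lib.Helper5.SpCentres Cfsg.Agent.Lib.Helper7.UnA Cfsg.Agent.Lib.Helper7.UnB
  Cfsg.Agent.Lib.Helper7.UnC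

variable {F : Type*} [Field F] {m : ℕ}

local notation "⟪" u ", " v "⟫" => Cfsg.sympForm m F u v

variable {J : Mt m F} {δ : F} {X : Subgroup (Gl m F)}

/-- a matrix stabilising every isotropic `F[J]`-line lies in `F[J]` -/
theorem N_iso (hJ : Dat J δ) [Finite F] (h2 : (2 : F) ≠ 0) (hm : 7 ≤ m) (J' : Mt m F)
    (h : ∀ x : Vc m F, ⟪J *ᵥ x, x⟫ = 0 → ∃ a b : F, J' *ᵥ x = a • x + b • J *ᵥ x) :
    ∃ a b : F, J' = a • (1 : Mt m F) + b • J := by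
  have pair : ∀ p q : Vc m F, ⟪J *ᵥ p, p⟫ = 0 → ⟪J *ᵥ q, q⟫ = 0 → ⟪J *ᵥ p, q⟫ = 0 → q ≠ 0 →
      p ∉ Es J q → ∀ ap bp aq bq : F, J' *ᵥ p = ap • p + bp • J *ᵥ p →
      J' *ᵥ q = aq • q + bq • J *ᵥ q → ap = aq ∧ bp = bq := by
    intro p q hp hq hpq hq0 hind ap bp aq bq hJp hJq
    have hpq' : ⟪J *ᵥ (p + q), p + q⟫ = 0 := by rw [hJ.Q_add, hp, hq, hpq]; ring
    obtain ⟨a, b, hab⟩ := h (p + q) hpq'
    rw [Matrix.mulVec_add, hJp, hJq, Matrix.mulVec_add] at hab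
    have E1 : (a - ap) • p + (b - bp) • J *ᵥ p = (aq - a) • q + (bq - b) • J *ᵥ q := by
      linear_combination (norm := module) -hab
    have hzero : a - ap = 0 ∧ b - bp = 0 := by
      by_contra hcon
      have hne : a - ap ≠ 0 ∨ b - bp ≠ 0 := by tauto
      apply hind
      apply hJ.mem_of_comb_mem (Es J q) (fun z hz => hJ.Es_inv hz) hne
      rw [E1]
      exact mem_Es.mpr ⟨_, _, rfl⟩
    rw [hzero.1, hzero.2, zero_smul, zero_smul, add_zero] at E1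
    obtain ⟨h3, h4⟩ := hJ.indep hq0 E1.symm
    constructor
    · linear_combination -hzero.1 - h3
    · linear_combination -hzero.2 - h4
  obtain ⟨z₀, hz₀, hQz₀⟩ := exists_iso_top J (show 2 ≤ m by omega)
  obtain ⟨a₀, b₀, h₀⟩ := h z₀ hQz₀
  have hall : ∀ x : Vc m F, ⟪J *ᵥ x, x⟫ = 0 → J' *ᵥ x = a₀ • x + b₀ • J *ᵥ x := by
    intro x hx
    by_cases hx0 : x = 0
    · rw [hx0]; simp
    obtain ⟨y, hy0, hQy, hyz, hJyz, hyx, hJyx, hzy, hxy⟩ := hJ.exists_bridge hm hz₀ hx0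
    obtain ⟨ay, bY, hy⟩ := h y hQy
    obtain ⟨ax, bx, hxx⟩ := h x hx
    have hJzy : ⟪J *ᵥ z₀, y⟫ = 0 := by rw [hJ.gsymm, hJyz]
    have hJxy : ⟪J *ᵥ x, y⟫ = 0 := by rw [hJ.gsymm, hJyx]
    obtain ⟨e1, e2⟩ := pair z₀ y hQz₀ hQy hJzy hy0 hzy a₀ b₀ ay bY h₀ hy
    obtain ⟨e3, e4⟩ := pair x y hx hQy hJxy hy0 hxy ax bx ay bY hxx hy
    rw [hxx, e3, e4, e1, e2]
  refine ⟨a₀, b₀, ?_⟩
  have := hJ.mat_eq_zero_of_iso h2 (show 2 ≤ m by omega) (J' - (a₀ • (1 : Mt m F) + b₀ • J)) (by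
    intro x hx
    rw [Matrix.sub_mulVec, Matrix.add_mulVec, Matrix.smul_mulVec, Matrix.smul_mulVec,
      Matrix.one_mulVec, hall x hx, sub_self])
  exact sub_eq_zero.mp this

/-- two commutators with a suitable element produce the transvections with centre `v` -/
theorem tv_step (hJ : Dat J δ) (h2 : (2 : F) ≠ 0) (hX : X ≤ spGL m F) (hC : CenIn X J)
    {v : Vc m F} (hQv : ⟪J *ᵥ v, v⟫ = 0) {h₀ : Gl m F} (hh₀ : h₀ ∈ X) (hv1 : h₀.1 *ᵥ v = v)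
    (hv2 : h₀.1 *ᵥ (J *ᵥ v) = J *ᵥ v + v) : IsCentre m X v := by
  have g1 : ⟪v, v⟫ = 0 := sympForm_self m v
  have g2 : ⟪v, J *ᵥ v⟫ = 0 := by rw [hJ.skew', hQv, neg_zero]
  have g3 : ⟪J *ᵥ v, J *ᵥ v⟫ = 0 := sympForm_self m _
  have hh₀s : h₀ ∈ spGL m F := hX hh₀
  -- the unitary transvections
  have ht : ∀ c : F, tvGL m v (-δ * c) * tvGL m (J *ᵥ v) c ∈ X := by
    intro c
    apply hC
    · exact mul_mem (tvGL_mem m _ _) (tvGL_mem m _ _)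
    · rw [ext_iff_mulVec]
      intro x
      simp only [Units.val_mul, ← Matrix.mulVec_mulVec, tvGL_mulVec, Matrix.mulVec_add,
        Matrix.mulVec_smul, hJ.JJ, hQv, hJ.fJJ]
      rw [hJ.skew x v]
      module
  have hconj : ∀ (u : Vc m F) (c : F), h₀ * tvGL m u c * h₀⁻¹ = tvGL m (h₀.1 *ᵥ u) c :=
    fun u c => conj_tvGL m h₀ hh₀s u c
  -- first commutator
  have hd : ∀ c : F, tvGL m (J *ᵥ v + v) c * tvGL m (J *ᵥ v) (-c) ∈ X := by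
    intro c
    have E : h₀ * (tvGL m v (-δ * c) * tvGL m (J *ᵥ v) c) * h₀⁻¹
        = (tvGL m (J *ᵥ v + v) c * tvGL m (J *ᵥ v) (-c))
          * (tvGL m v (-δ * c) * tvGL m (J *ᵥ v) c) := by
      have : h₀ * (tvGL m v (-δ * c) * tvGL m (J *ᵥ v) c) * h₀⁻¹
          = (h₀ * tvGL m v (-δ * c) * h₀⁻¹) * (h₀ * tvGL m (J *ᵥ v) c * h₀⁻¹) := by group
      rw [this, hconj, hconj, hv1, hv2]
      apply Units.ext
      rw [ext_iff_mulVec]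
      intro x
      simp only [Units.val_mul, ← Matrix.mulVec_mulVec, tvGL_mulVec, sympForm_add_left,
        sympForm_add_right, sympForm_smul_left, g1, g2, g3, hQv]
      module
    have : tvGL m (J *ᵥ v + v) c * tvGL m (J *ᵥ v) (-c)
        = h₀ * (tvGL m v (-δ * c) * tvGL m (J *ᵥ v) c) * h₀⁻¹
          * (tvGL m v (-δ * c) * tvGL m (J *ᵥ v) c)⁻¹ := by
      rw [E]; group
    rw [this]
    exact mul_mem (mul_mem (mul_mem hh₀ (ht c)) (inv_mem hh₀)) (inv_mem (ht c))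
  -- second commutator
  have hk : ∀ c : F, tvGL m v (2 * c) ∈ X := by
    intro c
    have hv3 : h₀.1 *ᵥ (J *ᵥ v + v) = J *ᵥ v + v + v := by
      rw [Matrix.mulVec_add, hv1, hv2]
    have E : h₀ * (tvGL m (J *ᵥ v + v) c * tvGL m (J *ᵥ v) (-c)) * h₀⁻¹
        = tvGL m v (2 * c) * (tvGL m (J *ᵥ v + v) c * tvGL m (J *ᵥ v) (-c)) := by
      have : h₀ * (tvGL m (J *ᵥ v + v) c * tvGL m (J *ᵥ v) (-c)) * h₀⁻¹
          = (h₀ * tvGL m (J *ᵥ v + v) c * h₀⁻¹) * (h₀ * tvGL m (J *ᵥ v) (-c) * h₀⁻¹) := by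
        group
      rw [this, hconj, hconj, hv3, hv2]
      apply Units.ext
      rw [ext_iff_mulVec]
      intro x
      simp only [Units.val_mul, ← Matrix.mulVec_mulVec, tvGL_mulVec, sympForm_add_left,
        sympForm_add_right, sympForm_smul_left, g1, g2, g3, hQv]
      module
    have : tvGL m v (2 * c)
        = h₀ * (tvGL m (J *ᵥ v + v) c * tvGL m (J *ᵥ v) (-c)) * h₀⁻¹
          * (tvGL m (J *ᵥ v + v) c * tvGL m (J *ᵥ v) (-c))⁻¹ := by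
      rw [E]; group
    rw [this]
    exact mul_mem (mul_mem (mul_mem hh₀ (hd c)) (inv_mem hh₀)) (inv_mem (hd c))
  intro c
  have := hk (2⁻¹ * c)
  rwa [← mul_assoc, mul_inv_cancel₀ h2, one_mul] at this

/-- the core step -/
theorem core (hJ : Dat J δ) [Finite F] (h2 : (2 : F) ≠ 0) (hm : 7 ≤ m) (hX : X ≤ spGL m F)
    (hC : CenIn X J) {g : Gl m F} (hg : g ∈ X)
    (hng : ∀ a b : F, g.1 * J * (g⁻¹).1 ≠ a • (1 : Mt m F) + b • J) : spGL m F ≤ X := by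
  obtain ⟨J', hJ'def⟩ : ∃ J' : Mt m F, J' = g.1 * J * (g⁻¹).1 := ⟨_, rfl⟩
  have hJ' : Dat J' δ := by rw [hJ'def]; exact hJ.conj (hX hg)
  have hC' : CenIn X J' := by rw [hJ'def]; exact hC.conj hX hg
  rw [← hJ'def] at hng
  have hδ := hJ.δ_ne
  -- S1
  obtain ⟨v, hQv, hv'⟩ : ∃ v : Vc m F, ⟪J *ᵥ v, v⟫ = 0 ∧
      ∀ a b : F, J' *ᵥ v ≠ a • v + b • J *ᵥ v := by
    by_contra hcon
    push Not at hcon
    obtain ⟨a, b, hab⟩ := N_iso hJ h2 hm J' hcon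
    exact hng a b hab
  have hv0 : v ≠ 0 := by
    intro h
    apply hv' 0 0
    rw [h]; simp
  have K1 : J *ᵥ v ∉ Es J' v := by
    intro hmem
    obtain ⟨a, b, hab⟩ := mem_Es.mp hmem
    by_cases hb : b = 0
    · rw [hb, zero_smul, add_zero] at hab
      have := hJ.indep hv0 (show a • v + (-1 : F) • J *ᵥ v = 0 by rw [← hab]; module)
      exact one_ne_zero (neg_eq_zero.mp this.2)
    · apply hv' (-(b⁻¹ * a)) b⁻¹
      have e1 : b • J' *ᵥ v = J *ᵥ v - a • v := by rw [← hab]; module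
      have e2 : J' *ᵥ v = b⁻¹ • (b • J' *ᵥ v) := by
        rw [smul_smul, inv_mul_cancel₀ hb, one_smul]
      rw [e2, e1]; module
  obtain ⟨p, hp⟩ := exists_form_eq_one hv0
  obtain ⟨r, hrS, hr1, hr2⟩ := hJ'.exists_dual (Es J' v) (fun z hz => hJ'.Es_inv hz) K1 1 0
  have hvr : ⟪v, r⟫ = 0 := hrS v (self_mem_Es J' v)
  -- S2
  have hfin := finrank_perpK ![v, J' *ᵥ v, J *ᵥ v, J' *ᵥ (J *ᵥ v), r, J' *ᵥ r, p]
  obtain ⟨a', ha'C, ha'0, hQa'⟩ := exists_iso J'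
    (perpK ![v, J' *ᵥ v, J *ᵥ v, J' *ᵥ (J *ᵥ v), r, J' *ᵥ r, p]) (by omega)
  have hall := (mem_perpK _ a').mp ha'C
  have A0 : ⟪a', v⟫ = 0 := hall 0
  have A1 : ⟪a', J' *ᵥ v⟫ = 0 := hall 1
  have A2 : ⟪a', J *ᵥ v⟫ = 0 := hall 2
  have A3 : ⟪a', J' *ᵥ (J *ᵥ v)⟫ = 0 := hall 3
  have A4 : ⟪a', r⟫ = 0 := hall 4
  have A5 : ⟪a', J' *ᵥ r⟫ = 0 := hall 5
  have A6 : ⟪a', p⟫ = 0 := hall 6
  -- S3
  have hS₃inv : ∀ z ∈ Es J' v ⊔ Es J' a', J' *ᵥ z ∈ Es J' v ⊔ Es J' a' := by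
    intro z hz
    obtain ⟨y₁, hy₁, y₂, hy₂, rfl⟩ := Submodule.mem_sup.mp hz
    rw [Matrix.mulVec_add]
    exact Submodule.add_mem_sup (hJ'.Es_inv hy₁) (hJ'.Es_inv hy₂)
  have hS₃r : ∀ z ∈ Es J' v ⊔ Es J' a', ⟪z, r⟫ = 0 := by
    intro z hz
    obtain ⟨y₁, hy₁, y₂, hy₂, rfl⟩ := Submodule.mem_sup.mp hz
    obtain ⟨c, d, rfl⟩ := mem_Es.mp hy₂
    rw [sympForm_add_left, hrS y₁ hy₁, sympForm_add_left, sympForm_smul_left,
      sympForm_smul_left, A4, hJ'.skew, A5]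
    ring
  have hJvS₃ : J *ᵥ v ∉ Es J' v ⊔ Es J' a' := by
    intro hmem
    have := hS₃r _ hmem
    rw [hr1] at this
    exact one_ne_zero this
  obtain ⟨w', hw'S, hw'1, hw'2⟩ := hJ'.exists_dual _ hS₃inv hJvS₃ 2 0
  have hvw' : ⟪v, w'⟫ = 0 := hw'S v (Submodule.mem_sup_left (self_mem_Es J' v))
  have hJ'vw' : ⟪J' *ᵥ v, w'⟫ = 0 := hw'S _ (Submodule.mem_sup_left (J_mem_Es J' v))
  have ha'w' : ⟪a', w'⟫ = 0 := hw'S a' (Submodule.mem_sup_right (self_mem_Es J' a'))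
  have hJ'a'w' : ⟪J' *ᵥ a', w'⟫ = 0 := hw'S _ (Submodule.mem_sup_right (J_mem_Es J' a'))
  obtain ⟨q', hq's, hq'J, hq'x⟩ := exists_siegel hJ' h2 a' w' hQa' ha'w' hJ'a'w'
  have hq'X : q' ∈ X := hC' q' hq's hq'J
  have hva' : ⟪v, a'⟫ = 0 := by rw [sympForm_swap, A0, neg_zero]
  have hJ'va' : ⟪J' *ᵥ v, a'⟫ = 0 := by rw [sympForm_swap, A1, neg_zero]
  have hJva' : ⟪J *ᵥ v, a'⟫ = 0 := by rw [sympForm_swap, A2, neg_zero]
  have hJ'Jva' : ⟪J' *ᵥ (J *ᵥ v), a'⟫ = 0 := by rw [sympForm_swap, A3, neg_zero]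
  have hq'v : q'.1 *ᵥ v = v := by
    rw [hq'x v hva' hJ'va', hvw', hJ'vw']
    simp
  have hq'Jv : q'.1 *ᵥ (J *ᵥ v) = J *ᵥ v + a' := by
    rw [hq'x _ hJva' hJ'Jva', hw'1, hw'2, inv_mul_cancel₀ h2]
    simp
  -- the second conjugate
  obtain ⟨J'', hJ''def⟩ : ∃ J'' : Mt m F, J'' = q'.1 * J * (q'⁻¹).1 := ⟨_, rfl⟩
  have hJ'' : Dat J'' δ := by rw [hJ''def]; exact hJ.conj hq's
  have hC'' : CenIn X J'' := by rw [hJ''def]; exact hC.conj hX hq'X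
  have hq'inv : (q'⁻¹).1 *ᵥ v = v := by
    have := gl_inv_mulVec q' v
    rwa [hq'v] at this
  have hJ''v : J'' *ᵥ v = J *ᵥ v + a' := by
    rw [hJ''def, ← Matrix.mulVec_mulVec, ← Matrix.mulVec_mulVec, hq'inv, hq'Jv]
  have hQ''v : ⟪J'' *ᵥ v, v⟫ = 0 := by
    rw [hJ''v, sympForm_add_left, hQv, A0, add_zero]
  -- S4
  have K4 : J *ᵥ v ∉ Es J'' v := by
    intro hmem
    obtain ⟨a, b, hab⟩ := mem_Es.mp hmem
    rw [hJ''v] at hab
    have e := congrArg (fun z : Vc m F => ⟪z, r⟫) hab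
    simp only [sympForm_add_left, sympForm_smul_left] at e
    rw [hvr, hr1, A4] at e
    have hb1 : b = 1 := by linear_combination e
    rw [hb1, one_smul] at hab
    have e' : a • v + a' = 0 := by linear_combination (norm := module) hab
    have e'' := congrArg (fun z : Vc m F => ⟪z, p⟫) e'
    simp only [sympForm_add_left, sympForm_smul_left] at e''
    rw [hp, A6, sf_zero_left] at e''
    have ha : a = 0 := by linear_combination e''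
    rw [ha, zero_smul, zero_add] at e'
    exact ha'0 e'
  obtain ⟨w'', hw''S, hw''1, hw''2⟩ := hJ''.exists_dual (Es J'' v)
    (fun z hz => hJ''.Es_inv hz) K4 2 0
  have hvw'' : ⟪v, w''⟫ = 0 := hw''S v (self_mem_Es J'' v)
  have hJ''vw'' : ⟪J'' *ᵥ v, w''⟫ = 0 := hw''S _ (J_mem_Es J'' v)
  obtain ⟨q'', hq''s, hq''J, hq''x⟩ := exists_siegel hJ'' h2 v w'' hQ''v hvw'' hJ''vw''
  have hq''X : q'' ∈ X := hC'' q'' hq''s hq''J
  have hq''v : q''.1 *ᵥ v = v := by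
    rw [hq''x v (sympForm_self m v) hQ''v, hvw'', hJ''vw'']
    simp
  have hJ''Jvv : ⟪J'' *ᵥ (J *ᵥ v), v⟫ = 0 := by
    rw [hJ''.skew, hJ''v, sympForm_add_right, sympForm_self, hJva']
    ring
  have hq''Jv : q''.1 *ᵥ (J *ᵥ v) = J *ᵥ v + v := by
    rw [hq''x _ hQv hJ''Jvv, hw''1, hw''2, inv_mul_cancel₀ h2]
    simp
  have hcen : IsCentre m X v := tv_step hJ h2 hX hC hQv hq''X hq''v hq''Jv
  exact T_main hJ h2 hm hX hC hv0 hcen hQv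

end Cfsg.Agent.Lib.Helper7.UnD
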