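import Mathlib
import Cfsg.Agent.Lib.Helper7.UnD

set_option autoImplicit false

/-! The normaliser in `Sp_2m(F)` of a quadratic field subalgebra on which the adjoint map is
the non-trivial automorphism is maximal. -/

namespace Cfsg.Agent.Lib.Helper7.UnF

open Matrix Cfsg Cfsg.Agent.Lib.Helper5.SympTv Cfsg.Agent.Lib.Helper5.SympBridge
  Cfsg.Agent.Lib.Helper5.SpCentres Cfsg.Agent.Lib.Helper7.UnA Cfsg.Agent.Lib.Helper7.UnB
  Cfsg.Agent.Lib.Helper7.UnC Cfsg.Agent.Lib.Helper7.UnD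

variable {F : Type*} [Field F] {m : ℕ}

local notation "⟪" u ", " v "⟫" => Cfsg.sympForm m F u v

theorem two_ne_zero_of_odd [Fintype F] (hodd : Odd (Fintype.card F)) : (2 : F) ≠ 0 := by
  intro h
  have := CharTwo.of_one_ne_zero_of_two_eq_zero (R := F) one_ne_zero h
  have h2 : ringChar F = 2 := ringChar.eq F 2
  have := FiniteField.even_card_iff_char_two.mp h2
  rcases hodd with ⟨k, hk⟩
  omega

theorem exists_datum (hm : 1 ≤ m) (h2 : (2 : F) ≠ 0) (K : Subalgebra F (Mt m F))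
    (hK : Geo.IsFieldSubalgebra 2 K)
    (hac : Geo.IsAdjointClosedFor (sympForm m F) K)
    (hnsa : ¬ Geo.IsSelfAdjointFor (sympForm m F) K) :
    ∃ (J : Mt m F) (δ : F), Dat J δ ∧ J ∈ K ∧
      ∀ k : Mt m F, k ∈ K ↔ ∃ a b : F, k = a • (1 : Mt m F) + b • J := by
  unfold Geo.IsSelfAdjointFor at hnsa
  push Not at hnsa
  obtain ⟨k, hk, u₀, v₀, hne⟩ := hnsa
  obtain ⟨k', hk', hadj⟩ := hac k hk
  have hadj' : ∀ u v : Vc m F, ⟪k' *ᵥ u, v⟫ = ⟪u, k *ᵥ v⟫ := by
    intro u v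
    rw [sympForm_swap m (k' *ᵥ u) v, ← hadj v u, sympForm_swap m (k *ᵥ v) u, neg_neg]
  obtain ⟨J₀, hJ₀def⟩ : ∃ J₀ : Mt m F, J₀ = k - k' := ⟨_, rfl⟩
  have hJ₀K : J₀ ∈ K := by rw [hJ₀def]; exact K.sub_mem hk hk'
  have hskew : ∀ u v : Vc m F, ⟪J₀ *ᵥ u, v⟫ = -⟪u, J₀ *ᵥ v⟫ := by
    intro u v
    rw [hJ₀def, Matrix.sub_mulVec, Matrix.sub_mulVec, sympForm_sub_left, sympForm_sub_right,
      hadj, hadj']
    ring
  have hne0 : ⟪J₀ *ᵥ u₀, v₀⟫ ≠ 0 := by
    rw [hJ₀def, Matrix.sub_mulVec, sympForm_sub_left, hadj']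
    exact sub_ne_zero.mpr hne
  have hnscal : ∀ c : F, J₀ ≠ c • (1 : Mt m F) := by
    intro c hc
    have e := hskew u₀ v₀
    rw [hc, Matrix.smul_mulVec, Matrix.one_mulVec, Matrix.smul_mulVec, Matrix.one_mulVec,
      sympForm_smul_left, sympForm_smul_right] at e
    apply hne0
    rw [hc, Matrix.smul_mulVec, Matrix.one_mulVec, sympForm_smul_left]
    have : 2 * (c * ⟪u₀, v₀⟫) = 0 := by linear_combination e
    exact (mul_eq_zero.mp this).resolve_left h2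
  have hone : (1 : Mt m F) ≠ 0 := by
    have : Nonempty (Fin m ⊕ Fin m) := ⟨Sum.inl ⟨0, by omega⟩⟩
    exact one_ne_zero
  have hli : LinearIndependent F ![(1 : Mt m F), J₀] := by
    rw [LinearIndependent.pair_iff]
    intro s t hst
    by_cases ht : t = 0
    · rw [ht, zero_smul, add_zero] at hst
      exact ⟨(smul_eq_zero.mp hst).resolve_right hone, ht⟩
    · exfalso
      apply hnscal (-(t⁻¹ * s))
      have e1 : t • J₀ = -(s • (1 : Mt m F)) := by
        linear_combination (norm := module) hst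
      have e2 : J₀ = t⁻¹ • (t • J₀) := by rw [smul_smul, inv_mul_cancel₀ ht, one_smul]
      rw [e2, e1]
      module
  have hS : Submodule.span F {(1 : Mt m F), J₀} = Subalgebra.toSubmodule K := by
    apply Submodule.eq_of_le_of_finrank_eq
    · rw [Submodule.span_le]
      intro x hx
      rcases hx with hx | hx
      · rw [hx]; exact K.one_mem
      · rw [Set.mem_singleton_iff.mp hx]; exact hJ₀K
    · rw [Subalgebra.finrank_toSubmodule, hK.finrank_eq]
      have := finrank_span_eq_card hli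
      rw [Fintype.card_fin] at this
      have hr : Set.range ![(1 : Mt m F), J₀] = {1, J₀} := by simp [Set.pair_comm]
      rw [hr] at this
      exact this
  have hchar : ∀ x : Mt m F, x ∈ K ↔ ∃ a b : F, x = a • (1 : Mt m F) + b • J₀ := by
    intro x
    rw [← Subalgebra.mem_toSubmodule, ← hS, Submodule.mem_span_pair]
    constructor
    · rintro ⟨a, b, h⟩; exact ⟨a, b, h.symm⟩
    · rintro ⟨a, b, h⟩; exact ⟨a, b, h.symm⟩
  obtain ⟨α, β, hsq⟩ := (hchar (J₀ * J₀)).mp (K.mul_mem hJ₀K hJ₀K)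
  have hβ : β = 0 := by
    have a1 := hskew (J₀ *ᵥ u₀) v₀
    have a2 := hskew u₀ (J₀ *ᵥ v₀)
    have a3 := hskew u₀ v₀
    have e1 : ⟪(J₀ * J₀) *ᵥ u₀, v₀⟫ = ⟪u₀, (J₀ * J₀) *ᵥ v₀⟫ := by
      rw [← Matrix.mulVec_mulVec, ← Matrix.mulVec_mulVec]
      linear_combination a1 - a2
    rw [hsq] at e1
    simp only [Matrix.add_mulVec, Matrix.smul_mulVec, Matrix.one_mulVec, sympForm_add_left,
      sympForm_add_right, sympForm_smul_left, sympForm_smul_right] at e1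
    have : 2 * (β * ⟪J₀ *ᵥ u₀, v₀⟫) = 0 := by linear_combination e1 + β * a3
    rcases mul_eq_zero.mp ((mul_eq_zero.mp this).resolve_left h2) with h | h
    · exact h
    · exact absurd h hne0
  rw [hβ, zero_smul, add_zero] at hsq
  have hnsq : ∀ c : F, c * c ≠ α := by
    intro c hc
    have hmem : J₀ - c • (1 : Mt m F) ∈ K := K.sub_mem hJ₀K (K.smul_mem K.one_mem c)
    have hne' : J₀ - c • (1 : Mt m F) ≠ 0 := fun h => hnscal c (sub_eq_zero.mp h)
    obtain ⟨y, hyK, hy⟩ := hK.inv _ hmem hne'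
    have hy' : y * (J₀ - c • (1 : Mt m F)) = 1 := by
      rw [← hK.comm _ hmem _ hyK]; exact hy
    have hprod : (J₀ - c • (1 : Mt m F)) * (J₀ + c • (1 : Mt m F)) = 0 := by
      rw [Matrix.sub_mul, Matrix.mul_add, Matrix.mul_add, hsq, ← hc]
      simp only [Matrix.smul_mul, Matrix.mul_smul, Matrix.one_mul, Matrix.mul_one, smul_smul]
      module
    apply hnscal (-c)
    have : J₀ + c • (1 : Mt m F) = 0 := by
      calc J₀ + c • (1 : Mt m F)
          = (y * (J₀ - c • (1 : Mt m F))) * (J₀ + c • (1 : Mt m F)) := by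
            rw [hy', Matrix.one_mul]
        _ = y * ((J₀ - c • (1 : Mt m F)) * (J₀ + c • (1 : Mt m F))) := by
            rw [Matrix.mul_assoc]
        _ = 0 := by rw [hprod, Matrix.mul_zero]
    rw [neg_smul]
    exact eq_neg_of_add_eq_zero_left this
  exact ⟨J₀, α, ⟨hsq, hskew, hnsq⟩, hJ₀K, hchar⟩

variable {K : Subalgebra F (Mt m F)} {J : Mt m F} {δ : F}

theorem conj_comb (g : Gl m F) (J : Mt m F) (c d : F) :
    g.1 * (c • (1 : Mt m F) + d • J) * (g⁻¹).1 = c • (1 : Mt m F) + d • (g.1 * J * (g⁻¹).1) := by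
  rw [Matrix.mul_add, Matrix.add_mul, Matrix.mul_smul, Matrix.smul_mul, Matrix.mul_one,
    Units.mul_inv, Matrix.mul_smul, Matrix.smul_mul]

theorem conj_back (g : Gl m F) (k : Mt m F) : k = (g⁻¹).1 * (g.1 * k * (g⁻¹).1) * g.1 := by
  calc k = ((g⁻¹).1 * g.1) * k * ((g⁻¹).1 * g.1) := by
        rw [Units.inv_mul, Matrix.one_mul, Matrix.mul_one]
    _ = (g⁻¹).1 * (g.1 * k * (g⁻¹).1) * g.1 := by simp only [Matrix.mul_assoc]

theorem cen_mem_normalizer
    (hchar : ∀ k : Mt m F, k ∈ K ↔ ∃ a b : F, k = a • (1 : Mt m F) + b • J) (h : Gl m F)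
    (hcomm : h.1 * J = J * h.1) : h ∈ Geo.subalgebraNormalizer K := by
  have key2 : h.1 * J * (h⁻¹).1 = J := by
    rw [hcomm, Matrix.mul_assoc, Units.mul_inv, Matrix.mul_one]
  show ∀ k : Mt m F, k ∈ K ↔ h.1 * k * (h⁻¹).1 ∈ K
  intro k
  constructor
  · intro hk
    obtain ⟨a, b, rfl⟩ := (hchar k).mp hk
    rw [conj_comb, key2]
    exact hk
  · intro hk
    obtain ⟨a, b, hab⟩ := (hchar _).mp hk
    have key3 : (h⁻¹).1 * J * h.1 = J := by
      rw [Matrix.mul_assoc, ← hcomm, ← Matrix.mul_assoc, Units.inv_mul, Matrix.one_mul]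
    have : k = a • (1 : Mt m F) + b • J := by
      have e := conj_comb h⁻¹ J a b
      rw [inv_inv, key3] at e
      rw [conj_back h k, hab, e]
    rw [this]
    exact (hchar _).mpr ⟨a, b, rfl⟩

theorem exists_conj_not_mem (hJK : J ∈ K)
    (hchar : ∀ k : Mt m F, k ∈ K ↔ ∃ a b : F, k = a • (1 : Mt m F) + b • J)
    {X : Subgroup (Gl m F)} {x : Gl m F} (hx : x ∈ X)
    (hxN : x ∉ Geo.subalgebraNormalizer K) :
    ∃ g ∈ X, ∀ a b : F, g.1 * J * (g⁻¹).1 ≠ a • (1 : Mt m F) + b • J := by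
  by_contra hcon
  push Not at hcon
  apply hxN
  obtain ⟨a, b, hab⟩ := hcon x hx
  obtain ⟨a', b', hab'⟩ := hcon x⁻¹ (inv_mem hx)
  rw [inv_inv] at hab'
  have hmemK : ∀ c d e f : F, c • (1 : Mt m F) + d • (e • (1 : Mt m F) + f • J) ∈ K :=
    fun c d e f => K.add_mem (K.smul_mem K.one_mem c)
      (K.smul_mem (K.add_mem (K.smul_mem K.one_mem e) (K.smul_mem hJK f)) d)
  show ∀ k : Mt m F, k ∈ K ↔ x.1 * k * (x⁻¹).1 ∈ K
  intro k
  constructor
  · intro hk
    obtain ⟨c, d, rfl⟩ := (hchar k).mp hk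
    rw [conj_comb, hab]
    exact hmemK c d a b
  · intro hk
    obtain ⟨c, d, hcd⟩ := (hchar _).mp hk
    have e := conj_comb x⁻¹ J c d
    rw [inv_inv, hab'] at e
    rw [conj_back x k, hcd, e]
    exact hmemK c d a' b'

theorem exists_not_mem_normalizer [Finite F] (hJ : Dat J δ) (hm : 2 ≤ m) (hJK : J ∈ K)
    (hchar : ∀ k : Mt m F, k ∈ K ↔ ∃ a b : F, k = a • (1 : Mt m F) + b • J) :
    ∃ τ ∈ spGL m F, τ ∉ Geo.subalgebraNormalizer K := by
  obtain ⟨z, hz0, hQz⟩ := exists_iso_top J hm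
  refine ⟨tvGL m z 1, tvGL_mem m z 1, fun hmem => ?_⟩
  have hmem' : ∀ k : Mt m F, k ∈ K ↔ (tvGL m z 1).1 * k * ((tvGL m z 1)⁻¹).1 ∈ K := hmem
  have h1 : (tvGL m z 1).1 * J * ((tvGL m z 1)⁻¹).1 ∈ K := (hmem' J).mp hJK
  obtain ⟨α, β, hαβ⟩ := (hchar _).mp h1
  have hvec : ∀ x : Vc m F, (tvGL m z 1).1 *ᵥ (J *ᵥ x)
      = (α • (1 : Mt m F) + β • J) *ᵥ ((tvGL m z 1).1 *ᵥ x) := by
    intro x
    rw [← hαβ]
    simp only [← Matrix.mulVec_mulVec]
    rw [gl_inv_mulVec]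
  have e := hvec z
  rw [tvGL_mulVec, tvGL_mulVec, hQz, sympForm_self] at e
  simp only [mul_zero, zero_smul, add_zero, Matrix.add_mulVec, Matrix.smul_mulVec,
    Matrix.one_mulVec] at e
  obtain ⟨hα, hβ⟩ := hJ.indep hz0 (show α • z + (β - 1) • J *ᵥ z = 0 by
    linear_combination (norm := module) -e)
  have hβ' : β = 1 := by linear_combination hβ
  obtain ⟨y₁, hy₁⟩ := exists_form_eq_one hz0
  have e2 := hvec y₁
  rw [hα, hβ', tvGL_mulVec, tvGL_mulVec] at e2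
  simp only [zero_smul, zero_add, one_smul, one_mul, Matrix.mulVec_add, Matrix.mulVec_smul]
    at e2
  have hy₁z : ⟪y₁, z⟫ = -1 := by rw [sympForm_swap, hy₁]
  rw [hy₁z] at e2
  obtain ⟨-, h10⟩ := hJ.indep hz0 (show (⟪J *ᵥ y₁, z⟫) • z + (1 : F) • J *ᵥ z = 0 by
    linear_combination (norm := module) e2)
  exact one_ne_zero h10

/-- the main theorem -/
theorem main [Fintype F] (hm : 7 ≤ m) (hodd : Odd (Fintype.card F))
    (K : Subalgebra F (Mt m F)) (hK : Geo.IsFieldSubalgebra 2 K)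
    (hac : Geo.IsAdjointClosedFor (sympForm m F) K)
    (hnsa : ¬ Geo.IsSelfAdjointFor (sympForm m F) K) :
    Geo.IsMaximalIn (spGL m F) (Geo.subalgebraNormalizer K ⊓ spGL m F) := by
  have h2 := two_ne_zero_of_odd hodd
  obtain ⟨J, δ, hJ, hJK, hchar⟩ := exists_datum (by omega) h2 K hK hac hnsa
  refine ⟨lt_of_le_of_ne inf_le_right ?_, fun X hNX hXS => ?_⟩
  · intro heq
    obtain ⟨τ, hτ, hτN⟩ := exists_not_mem_normalizer hJ (by omega) hJK hchar
    rw [← heq] at hτ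
    exact hτN (Subgroup.mem_inf.mp hτ).1
  · by_cases hXN : X ≤ Geo.subalgebraNormalizer K
    · left
      exact le_antisymm (le_inf hXN hXS) hNX
    · right
      obtain ⟨x, hxX, hxN⟩ := SetLike.not_le_iff_exists.mp hXN
      obtain ⟨g, hgX, hg⟩ := exists_conj_not_mem hJK hchar hxX hxN
      have hC : CenIn X J := fun h hh hcomm =>
        hNX (Subgroup.mem_inf.mpr ⟨cen_mem_normalizer hchar h hcomm, hh⟩)
      exact le_antisymm hXS (core hJ h2 hm hXS hC hgX hg)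

end Cfsg.Agent.Lib.Helper7.UnF
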