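import Mathlib

/-!
# Uniform partitions and permutations of prime order, part A: arithmetic (helper7)

`Cov a b r A j` : a permutation of prime order `r` with `j` cycles can respect a partition of
`a * b` points into `b` parts of size `a` (here `A = a / r`).
-/

namespace Cfsg.Agent.Lib.Helper7.UPP

def Cov (a b r A j : ℕ) : Prop :=
  ∃ c U : ℕ, r * c ≤ b ∧ U + r * c * A ≤ b * A ∧ j = c * a + U

def RHS (a b r : ℕ) : Prop :=
  r ≤ a ∧ (a % r = 0 ∨ (b % r = 0 ∧ a % r = 1) ∨
    (a % r ≠ 0 ∧ b % r ≠ 0 ∧ (b % r) * (a % r) < r ∧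
      (b < r ∨ (b % r + r) * (a % r) ≤ (b % r) * a + r)))

/-- necessity, in terms of quotients and remainders -/
theorem arith_nec_aux {a b r A l B k : ℕ} (ha : 2 ≤ a) (hb : 2 ≤ b) (_hr : 2 ≤ r)
    (hA : a = r * A + l) (hl : l < r) (hB : b = r * B + k) (hk : k < r) (hrab : r ≤ a * b)
    (H : ∀ j, 1 ≤ j → r * j ≤ a * b → Cov a b r A j) :
    r ≤ a ∧ (l = 0 ∨ (k = 0 ∧ l = 1) ∨
      (l ≠ 0 ∧ k ≠ 0 ∧ k * l < r ∧ (b < r ∨ (k + r) * l ≤ k * a + r))) := by
  -- (a) r ≤ a
  have hra : r ≤ a := by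
    by_contra hlt
    push Not at hlt
    have hA0 : A = 0 := by
      by_contra hne
      have : 1 ≤ A := Nat.one_le_iff_ne_zero.mpr hne
      nlinarith
    obtain ⟨c, U, -, hU, hj⟩ := H 1 le_rfl (by omega)
    rw [hA0] at hU
    have hU0 : U = 0 := by omega
    rw [hU0] at hj
    rcases Nat.eq_zero_or_pos c with h0 | h0
    · rw [h0] at hj; omega
    · nlinarith
  have hA1 : 1 ≤ A := by
    by_contra hne
    have hA0 : A = 0 := by omega
    rw [hA0] at hA
    omega
  have hab : a * b = r * (A * b + l * B) + l * k := by rw [hA, hB]; ring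
  -- bound on c
  have hcB : ∀ c, r * c ≤ b → c ≤ B := by
    intro c hc
    by_contra hlt
    push Not at hlt
    have : r * (B + 1) ≤ r * c := Nat.mul_le_mul_left r hlt
    nlinarith
  -- (b)
  have hb' : l ≠ 0 → k * l < r := by
    intro hl0
    by_contra hge
    push Not at hge
    have hj1 : r * (b * A + B * l + 1) ≤ a * b := by rw [hab]; nlinarith
    obtain ⟨c, U, hc, hU, hj⟩ := H (b * A + B * l + 1) (by omega) hj1
    have hc' := hcB c hc
    have h1 : c * l ≤ B * l := Nat.mul_le_mul_right l hc'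
    have h2 : c * a = r * c * A + c * l := by rw [hA]; ring
    omega
  -- (c)
  have hc' : l ≠ 0 → k * l < r → 1 ≤ B → l ≤ k * A + 1 := by
    intro hl0 hkl hB1
    by_contra hgt
    push Not at hgt
    obtain ⟨B', rfl⟩ : ∃ B', B = B' + 1 := ⟨B - 1, by omega⟩
    have hl1 : 1 ≤ l := Nat.one_le_iff_ne_zero.mpr hl0
    have hj1 : r * (b * A + B' * l + 1) ≤ a * b := by rw [hab]; nlinarith
    obtain ⟨c, U, hc, hU, hj⟩ := H (b * A + B' * l + 1) (by omega) hj1
    have hcB' := hcB c hc
    have h2 : c * a = r * c * A + c * l := by rw [hA]; ring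
    rcases Nat.lt_or_ge c (B' + 1) with hlt | hge
    · have h1 : c * l ≤ B' * l := Nat.mul_le_mul_right l (by omega)
      omega
    · have hceq : c = B' + 1 := by omega
      subst hceq
      have h3 : b * A = r * (B' + 1) * A + k * A := by rw [hB]; ring
      have h4 : (B' + 1) * l = B' * l + l := by ring
      omega
  refine ⟨hra, ?_⟩
  by_cases hl0 : l = 0
  · exact Or.inl hl0
  have hkl := hb' hl0
  by_cases hk0 : k = 0
  · right; left
    refine ⟨hk0, ?_⟩
    have hB1 : 1 ≤ B := by
      by_contra hne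
      have hB0 : B = 0 := by omega
      rw [hB0, hk0] at hB
      omega
    have := hc' hl0 hkl hB1
    rw [hk0] at this
    have hl1 : 1 ≤ l := Nat.one_le_iff_ne_zero.mpr hl0
    omega
  · right; right
    refine ⟨hl0, hk0, hkl, ?_⟩
    by_cases hbr : b < r
    · exact Or.inl hbr
    · right
      have hB1 : 1 ≤ B := by
        by_contra hne
        have hB0 : B = 0 := by omega
        rw [hB0] at hB
        omega
      have h5 := hc' hl0 hkl hB1
      rw [hA]
      nlinarith

/-- sufficiency, in terms of quotients and remainders -/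
theorem arith_suf_aux {a b r A l B k : ℕ} (hr : 2 ≤ r)
    (hA : a = r * A + l) (hl : l < r) (hB : b = r * B + k) (hk : k < r)
    (h : l = 0 ∨ (k = 0 ∧ l = 1) ∨
      (l ≠ 0 ∧ k ≠ 0 ∧ k * l < r ∧ (b < r ∨ (k + r) * l ≤ k * a + r)))
    (j : ℕ) (hj : r * j ≤ a * b) : Cov a b r A j := by
  have hab : a * b = r * (A * b + l * B) + l * k := by rw [hA, hB]; ring
  by_cases hjs : j ≤ b * A
  · exact ⟨0, j, by omega, by omega, by omega⟩
  push Not at hjs
  have hl0 : l ≠ 0 := by
    rintro rfl
    have hab' : a * b = r * (A * b) := by rw [hab]; ring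
    have h1 : r * j ≤ r * (A * b) := by rw [hab'] at hj; exact hj
    have h2 := Nat.le_of_mul_le_mul_left h1 (by omega)
    nlinarith
  have hl1 : 1 ≤ l := Nat.one_le_iff_ne_zero.mpr hl0
  have hkl : k * l < r := by
    rcases h with h | h | h
    · exact absurd h hl0
    · rw [h.1]; omega
    · exact h.2.2.1
  have hjle : j ≤ A * b + l * B := by
    by_contra hgt
    push Not at hgt
    have : r * (A * b + l * B + 1) ≤ r * j := Nat.mul_le_mul_left r hgt
    nlinarith
  have hB1 : 1 ≤ B := by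
    by_contra hne
    have hB0 : B = 0 := by omega
    rw [hB0] at hjle
    nlinarith
  have hlk : l ≤ k * A + 1 := by
    rcases h with h | h | h
    · exact absurd h hl0
    · omega
    · rcases h.2.2.2 with h' | h'
      · exfalso
        rw [hB] at h'
        nlinarith
      · rw [hA] at h'
        by_contra hgt
        push Not at hgt
        nlinarith
  -- d = j - b * A
  obtain ⟨d, hd⟩ : ∃ d, j = b * A + d := ⟨j - b * A, by omega⟩
  have hd1 : 1 ≤ d := by omega
  have hdle : d ≤ l * B := by nlinarith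
  obtain ⟨e, he⟩ : ∃ e, e = (d - 1) / l := ⟨_, rfl⟩
  have he1 : e * l ≤ d - 1 := by rw [he]; exact Nat.div_mul_le_self _ _
  have he2 : d - 1 < l * (e + 1) := by rw [he]; exact Nat.lt_mul_div_succ _ hl1
  have heB : e < B := by
    rw [he]
    apply Nat.div_lt_of_lt_mul
    omega
  have hca : (e + 1) * a ≤ j := by
    have h1 : (e + 1) * a = r * (e + 1) * A + e * l + l := by rw [hA]; ring
    have h2 : b * A = r * B * A + k * A := by rw [hB]; ring
    have h3 : r * (e + 1) * A ≤ r * B * A :=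
      Nat.mul_le_mul_right A (Nat.mul_le_mul_left r heB)
    omega
  obtain ⟨U, hU⟩ : ∃ U, j = (e + 1) * a + U := ⟨j - (e + 1) * a, by omega⟩
  refine ⟨e + 1, U, ?_, ?_, hU⟩
  · have : r * (e + 1) ≤ r * B := Nat.mul_le_mul_left r heB
    omega
  · have h1 : (e + 1) * a = r * (e + 1) * A + e * l + l := by rw [hA]; ring
    have h4 : l * (e + 1) = e * l + l := by ring
    omega

theorem arith_iff {a b r : ℕ} (ha : 2 ≤ a) (hb : 2 ≤ b) (hr : 2 ≤ r) (hrab : r ≤ a * b) :
    (∀ j, 1 ≤ j → r * j ≤ a * b → Cov a b r (a / r) j) ↔ RHS a b r := by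
  have hA : a = r * (a / r) + a % r := (Nat.div_add_mod a r).symm
  have hB : b = r * (b / r) + b % r := (Nat.div_add_mod b r).symm
  have hl : a % r < r := Nat.mod_lt _ (by omega)
  have hk : b % r < r := Nat.mod_lt _ (by omega)
  constructor
  · intro H
    exact arith_nec_aux ha hb hr hA hl hB hk hrab H
  · intro h j _ hj
    exact arith_suf_aux hr hA hl hB hk h.2 j hj

end Cfsg.Agent.Lib.Helper7.UPP
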