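import Mathlib
import Cfsg.Agent.Lib.Helper7.UppA
import Cfsg.Agent.Lib.Helper7.HsnA

/-!
# Uniform partitions and permutations of prime order, part B: permutations (helper7)
-/

namespace Cfsg.Agent.Lib.Helper7.UPP

open Equiv Equiv.Perm

section general

variable {Y : Type*} [Fintype Y] [DecidableEq Y]

theorem dvd_support_card (τ : Perm Y) {r : ℕ} (hr : r.Prime) (h : τ ^ r = 1) :
    r ∣ τ.support.card := by
  have hd := orderOf_dvd_of_pow_eq_one h
  rcases (Nat.dvd_prime hr).mp hd with h1 | h1
  · rw [orderOf_eq_one_iff] at h1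
    rw [h1, support_one, Finset.card_empty]
    exact dvd_zero _
  · have hp : (orderOf τ).Prime := h1 ▸ hr
    obtain ⟨n, hn⟩ := cycleType_prime_order hp
    rw [← sum_cycleType, hn, Multiset.sum_replicate, h1, smul_eq_mul]
    exact dvd_mul_left _ _

theorem cycleType_of_order (τ : Perm Y) {r : ℕ} (hr : r.Prime) (h : orderOf τ = r) :
    τ.cycleType = Multiset.replicate (τ.support.card / r) r := by
  have hp : (orderOf τ).Prime := h ▸ hr
  obtain ⟨n, hn⟩ := cycleType_prime_order hp
  have hs : τ.support.card = (n + 1) * r := by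
    rw [← sum_cycleType, hn, Multiset.sum_replicate, h, smul_eq_mul]
  rw [hn, h, hs, Nat.mul_div_cancel _ hr.pos]

theorem isConj_of_order (σ τ : Perm Y) {r : ℕ} (hr : r.Prime) (hσ : orderOf σ = r)
    (hτ : orderOf τ = r) (hc : σ.support.card = τ.support.card) : IsConj σ τ := by
  rw [isConj_iff_cycleType_eq, cycleType_of_order σ hr hσ, cycleType_of_order τ hr hτ, hc]

theorem orderOf_of_pow (τ : Perm Y) {r : ℕ} (hr : r.Prime) (h : τ ^ r = 1)
    (hs : 0 < τ.support.card) : orderOf τ = r := by
  have : Fact r.Prime := ⟨hr⟩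
  apply orderOf_eq_prime h
  rintro rfl
  rw [support_one, Finset.card_empty] at hs
  exact lt_irrefl _ hs

end general

theorem exists_perm_pow (n r m : ℕ) (hr : 2 ≤ r) (h : r * m ≤ n) :
    ∃ ρ : Perm (Fin n), ρ ^ r = 1 ∧ ρ.support.card = r * m := by
  obtain ⟨g, hg⟩ := (exists_with_cycleType_iff (Fin n) (m := Multiset.replicate m r)).mpr
    ⟨by rw [Multiset.sum_replicate, smul_eq_mul, Fintype.card_fin, mul_comm]; exact h,
     fun a ha => by rw [Multiset.eq_of_mem_replicate ha]; exact hr⟩
  refine ⟨g, ?_, ?_⟩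
  · apply orderOf_dvd_iff_pow_eq_one.mp
    rw [← lcm_cycleType, hg]
    apply Multiset.lcm_dvd.mpr
    intro a ha
    rw [Multiset.eq_of_mem_replicate ha]
  · rw [← sum_cycleType, hg, Multiset.sum_replicate, smul_eq_mul, mul_comm]

/-! ### Necessity -/

theorem necessity {a b r : ℕ} (hr : r.Prime) (ha : 1 ≤ a) (σ : Perm (Fin (a * b)))
    (hσ : σ ^ r = 1) (f : Fin (a * b) → Fin b)
    (hf : ∀ j : Fin b, Nat.card {x : Fin (a * b) // f x = j} = a)
    (π : Perm (Fin b)) (hπ : ∀ x, f (σ x) = π (f x)) :
    ∃ c U : ℕ, r * c ≤ b ∧ U + r * c * (a / r) ≤ b * (a / r) ∧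
      σ.support.card = r * (c * a + U) := by
  classical
  have hfib : ∀ j : Fin b, (Finset.univ.filter (fun x => f x = j)).card = a := by
    intro j
    have h1 := hf j
    rw [Nat.card_eq_fintype_card, Fintype.card_subtype] at h1
    exact h1
  have hsurj : Function.Surjective f := by
    intro j
    have h0 : 0 < (Finset.univ.filter (fun x => f x = j)).card := by rw [hfib j]; exact ha
    obtain ⟨x, hx⟩ := Finset.card_pos.mp h0
    exact ⟨x, (Finset.mem_filter.mp hx).2⟩
  have hpow : ∀ m : ℕ, ∀ x, f ((σ ^ m) x) = (π ^ m) (f x) := by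
    intro m
    induction m with
    | zero => intro x; simp
    | succ m ih =>
      intro x
      rw [pow_succ', pow_succ', Perm.mul_apply, Perm.mul_apply, hπ, ih]
  have hπr : π ^ r = 1 := by
    ext j
    obtain ⟨x, rfl⟩ := hsurj j
    rw [← hpow r x, hσ]
    simp
  obtain ⟨c, hc⟩ := dvd_support_card π hr hπr
  have hcb : r * c ≤ b := by
    rw [← hc]
    have h1 := Finset.card_le_univ π.support
    rwa [Fintype.card_fin] at h1
  have hsum := Finset.card_eq_sum_card_fiberwise (f := f) (s := σ.support) (t := Finset.univ)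
    (fun x _ => Finset.mem_coe.mpr (Finset.mem_univ _))
  have hmoved : ∀ j ∈ π.support, (σ.support.filter (fun x => f x = j)).card = a := by
    intro j hj
    have h0 : σ.support.filter (fun x => f x = j) = Finset.univ.filter (fun x => f x = j) := by
      ext x
      simp only [Finset.mem_filter, Finset.mem_univ, true_and, mem_support]
      constructor
      · exact fun h => h.2
      · intro h
        refine ⟨fun hx => ?_, h⟩
        have h1 := hπ x
        rw [hx, h] at h1
        exact (mem_support.mp hj) h1.symm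
    rw [h0]
    exact hfib j
  have hfixed : ∀ j ∉ π.support, r ∣ (σ.support.filter (fun x => f x = j)).card ∧
      (σ.support.filter (fun x => f x = j)).card ≤ a := by
    intro j hj
    have hπj : π j = j := notMem_support.mp hj
    refine ⟨?_, ?_⟩
    · have hinv : ∀ x, σ x ∈ Finset.univ.filter (fun x => f x = j) ↔
          x ∈ Finset.univ.filter (fun x => f x = j) := by
        intro x
        simp only [Finset.mem_filter, Finset.mem_univ, true_and]
        rw [hπ]
        constructor
        · intro h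
          apply π.injective
          rw [h, hπj]
        · intro h
          rw [h, hπj]
      obtain ⟨τ, hτ⟩ : ∃ τ : Perm {x // x ∈ Finset.univ.filter (fun x => f x = j)},
          τ = σ.subtypePerm hinv := ⟨_, rfl⟩
      have hτr : τ ^ r = 1 := by
        ext x
        rw [hτ, subtypePerm_pow, subtypePerm_apply]
        simp [hσ]
      have hcard : (σ.support.filter (fun x => f x = j)).card = τ.support.card := by
        rw [← Finset.card_map (Function.Embedding.subtype _)]
        congr 1
        ext x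
        rw [Finset.mem_map]
        constructor
        · intro hx
          rw [Finset.mem_filter] at hx
          refine ⟨⟨x, Finset.mem_filter.mpr ⟨Finset.mem_univ _, hx.2⟩⟩, ?_, rfl⟩
          rw [mem_support, hτ, subtypePerm_apply]
          intro h
          exact (mem_support.mp hx.1) (congrArg Subtype.val h)
        · rintro ⟨y, hy, rfl⟩
          rw [Finset.mem_filter]
          refine ⟨?_, (Finset.mem_filter.mp y.2).2⟩
          rw [mem_support, hτ, subtypePerm_apply] at hy
          rw [mem_support]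
          intro h
          exact hy (Subtype.ext h)
      rw [hcard]
      exact dvd_support_card τ hr hτr
    · exact (Finset.card_le_card (Finset.filter_subset_filter _ (Finset.subset_univ _))).trans
        (hfib j).le
  rw [← Finset.sum_add_sum_compl π.support] at hsum
  have h1 : ∑ j ∈ π.support, (σ.support.filter (fun x => f x = j)).card = r * c * a := by
    rw [Finset.sum_congr rfl hmoved, Finset.sum_const, smul_eq_mul, hc]
  have h2 : ∑ j ∈ π.supportᶜ, (σ.support.filter (fun x => f x = j)).card =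
      r * ∑ j ∈ π.supportᶜ, (σ.support.filter (fun x => f x = j)).card / r := by
    rw [Finset.mul_sum]
    apply Finset.sum_congr rfl
    intro j hj
    exact (Nat.mul_div_cancel' (hfixed j (Finset.mem_compl.mp hj)).1).symm
  have h3 : ∑ j ∈ π.supportᶜ, (σ.support.filter (fun x => f x = j)).card / r ≤
      (b - r * c) * (a / r) := by
    have h4 := Finset.sum_le_card_nsmul π.supportᶜ
      (fun j => (σ.support.filter (fun x => f x = j)).card / r) (a / r)
      (fun j hj => Nat.div_le_div_right (hfixed j (Finset.mem_compl.mp hj)).2)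
    rwa [Finset.card_compl, Fintype.card_fin, hc, smul_eq_mul] at h4
  refine ⟨c, ∑ j ∈ π.supportᶜ, (σ.support.filter (fun x => f x = j)).card / r, hcb, ?_, ?_⟩
  · have h5 : (b - r * c) * (a / r) + r * c * (a / r) = b * (a / r) := by
      rw [← add_mul, Nat.sub_add_cancel hcb]
    omega
  · rw [hsum, h1, h2]
    ring

/-! ### The model -/

theorem exists_u {ι : Type*} [DecidableEq ι] (T : Finset ι) (A : ℕ) :
    ∀ U : ℕ, U ≤ T.card * A →
      ∃ u : ι → ℕ, (∀ i ∉ T, u i = 0) ∧ (∀ i, u i ≤ A) ∧ ∑ i ∈ T, u i = U := by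
  induction T using Finset.induction_on with
  | empty =>
    intro U hU
    refine ⟨fun _ => 0, fun _ _ => rfl, fun _ => Nat.zero_le _, ?_⟩
    simp at hU
    simp [hU]
  | insert t T ht ih =>
    intro U hU
    rw [Finset.card_insert_of_notMem ht] at hU
    obtain ⟨v, hvA, hvU, hrest⟩ : ∃ v, v ≤ A ∧ v ≤ U ∧ U - v ≤ T.card * A := by
      by_cases hUA : U ≤ A
      · exact ⟨U, hUA, le_rfl, by simp⟩
      · refine ⟨A, le_rfl, by omega, ?_⟩
        have : (T.card + 1) * A = T.card * A + A := by ring
        omega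
    obtain ⟨u', hu1, hu2, hu3⟩ := ih (U - v) hrest
    refine ⟨Function.update u' t v, ?_, ?_, ?_⟩
    · intro i hi
      rw [Finset.mem_insert, not_or] at hi
      rw [Function.update_of_ne hi.1]
      exact hu1 i hi.2
    · intro i
      by_cases hit : i = t
      · rw [hit, Function.update_self]; exact hvA
      · rw [Function.update_of_ne hit]; exact hu2 i
    · rw [Finset.sum_insert ht, Function.update_self]
      have h1 : ∑ x ∈ T, Function.update u' t v x = ∑ x ∈ T, u' x := by
        apply Finset.sum_congr rfl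
        intro x hx
        rw [Function.update_of_ne]
        rintro rfl
        exact ht hx
      rw [h1, hu3]
      omega

set_option maxHeartbeats 1600000 in
theorem model {a b r : ℕ} (hr : r.Prime) (c U : ℕ) (hcb : r * c ≤ b)
    (hU : U + r * c * (a / r) ≤ b * (a / r)) (hpos : 1 ≤ c * a + U) :
    ∃ (σ : Perm (Fin (a * b))) (f : Fin (a * b) → Fin b) (π : Perm (Fin b)),
      orderOf σ = r ∧ σ.support.card = r * (c * a + U) ∧
      (∀ j : Fin b, Nat.card {x : Fin (a * b) // f x = j} = a) ∧ ∀ x, f (σ x) = π (f x) := by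
  classical
  obtain ⟨π₀, hπr, hπs⟩ := exists_perm_pow b r c hr.two_le hcb
  have hT : U ≤ (π₀.supportᶜ).card * (a / r) := by
    rw [Finset.card_compl, Fintype.card_fin, hπs, Nat.sub_mul]
    omega
  obtain ⟨u, hu1, hu2, hu3⟩ := exists_u π₀.supportᶜ (a / r) U hT
  have hur : ∀ i, r * u i ≤ a := by
    intro i
    have h1 := (Nat.le_div_iff_mul_le hr.pos).mp (hu2 i)
    rwa [mul_comm] at h1
  choose ρ hρ1 hρ2 using fun i => exists_perm_pow a r (u i) hr.two_le (hur i)
  have hρone : ∀ i ∈ π₀.support, ρ i = 1 := by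
    intro i hi
    apply card_support_eq_zero.mp
    rw [hρ2, hu1 i (by simpa using hi), mul_zero]
  -- the permutation of `Fin a × Fin b`
  obtain ⟨σ₀, hσ₀⟩ : ∃ σ₀ : Perm (Fin a × Fin b), σ₀ =
      (Equiv.prodComm _ _).trans ((Equiv.prodShear π₀ ρ).trans (Equiv.prodComm _ _)) :=
    ⟨_, rfl⟩
  have happ : ∀ y i, σ₀ (y, i) = (ρ i y, π₀ i) := by
    intro y i
    rw [hσ₀]
    rfl
  have hpow : ∀ m : ℕ, ∀ y i, (σ₀ ^ m) (y, i) = ((ρ i ^ m) y, (π₀ ^ m) i) := by
    intro m
    induction m with
    | zero => intro y i; simp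
    | succ m ih =>
      intro y i
      rw [pow_succ', Perm.mul_apply, ih, happ, pow_succ', pow_succ', Perm.mul_apply,
        Perm.mul_apply]
      congr 1
      by_cases hi : i ∈ π₀.support
      · have h1 : (π₀ ^ m) i ∈ π₀.support := pow_apply_mem_support.mpr hi
        rw [hρone _ h1, hρone _ hi]
      · have h1 : (π₀ ^ m) i = i :=
          pow_apply_eq_self_of_apply_eq_self (notMem_support.mp hi) m
        rw [h1]
  have hσr : σ₀ ^ r = 1 := by
    ext ⟨y, i⟩ : 1
    rw [hpow, hρ1, hπr]
    rfl
  -- support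
  have hmem : ∀ y i, (y, i) ∈ σ₀.support ↔ (ρ i y ≠ y ∨ π₀ i ≠ i) := by
    intro y i
    rw [mem_support, happ, Ne, Prod.mk.injEq, not_and_or]
  have hsum := Finset.card_eq_sum_card_fiberwise (f := Prod.snd) (s := σ₀.support)
    (t := (Finset.univ : Finset (Fin b))) (fun x _ => Finset.mem_coe.mpr (Finset.mem_univ _))
  have hmoved : ∀ i ∈ π₀.support, (σ₀.support.filter (fun x => x.2 = i)).card = a := by
    intro i hi
    have h1 : σ₀.support.filter (fun x => x.2 = i) =
        (Finset.univ : Finset (Fin a)).map ⟨fun y => (y, i), fun y y' h => (Prod.mk.inj h).1⟩ := by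
      ext p
      rw [Finset.mem_filter, Finset.mem_map]
      constructor
      · rintro ⟨-, hp⟩
        refine ⟨p.1, Finset.mem_univ _, ?_⟩
        change (p.1, i) = p
        rw [← hp]
      · rintro ⟨y', -, rfl⟩
        exact ⟨(hmem _ _).mpr (Or.inr (mem_support.mp hi)), rfl⟩
    rw [h1, Finset.card_map, Finset.card_univ, Fintype.card_fin]
  have hfixed : ∀ i ∈ π₀.supportᶜ, (σ₀.support.filter (fun x => x.2 = i)).card = r * u i := by
    intro i hi
    have hi' : π₀ i = i := notMem_support.mp (Finset.mem_compl.mp hi)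
    have h1 : σ₀.support.filter (fun x => x.2 = i) =
        (ρ i).support.map ⟨fun y => (y, i), fun y y' h => (Prod.mk.inj h).1⟩ := by
      ext p
      rw [Finset.mem_filter, Finset.mem_map]
      constructor
      · rintro ⟨h, hp⟩
        obtain ⟨y, i'⟩ := p
        change i' = i at hp
        subst hp
        rcases (hmem _ _).mp h with h' | h'
        · exact ⟨y, mem_support.mpr h', rfl⟩
        · exact absurd hi' h'
      · rintro ⟨y', hy', rfl⟩
        exact ⟨(hmem _ _).mpr (Or.inl (mem_support.mp hy')), rfl⟩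
    rw [h1, Finset.card_map, hρ2]
  have hcard : σ₀.support.card = r * (c * a + U) := by
    rw [hsum, ← Finset.sum_add_sum_compl π₀.support, Finset.sum_congr rfl hmoved,
      Finset.sum_congr rfl hfixed, Finset.sum_const, smul_eq_mul, hπs, ← Finset.mul_sum, hu3]
    ring
  have hord : orderOf σ₀ = r := by
    apply orderOf_of_pow σ₀ hr hσr
    rw [hcard]
    exact Nat.mul_pos hr.pos hpos
  -- transport to `Fin (a * b)`
  obtain ⟨e, -⟩ : ∃ e : Fin a × Fin b ≃ Fin (a * b), True := ⟨finProdFinEquiv, trivial⟩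
  have hσe : ∀ x, (Equiv.permCongrHom e σ₀) x = e (σ₀ (e.symm x)) := fun x => rfl
  refine ⟨(Equiv.permCongrHom e) σ₀, fun x => (e.symm x).2, π₀, ?_, ?_, ?_, ?_⟩
  · rw [MulEquiv.orderOf_eq, hord]
  · have h1 : ((Equiv.permCongrHom e) σ₀).support = σ₀.support.map e.toEmbedding := by
      ext x
      rw [mem_support, Finset.mem_map, hσe]
      constructor
      · intro h
        refine ⟨e.symm x, ?_, e.apply_symm_apply x⟩
        rw [mem_support]
        intro h'
        apply h
        rw [h', e.apply_symm_apply]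
      · rintro ⟨p, hp, rfl⟩
        change e (σ₀ (e.symm (e p))) ≠ e p
        rw [e.symm_apply_apply]
        intro h'
        exact (mem_support.mp hp) (e.injective h')
    rw [h1, Finset.card_map, hcard]
  · intro j
    have e' : {x : Fin (a * b) // (e.symm x).2 = j} ≃ Fin a :=
      { toFun := fun x => (e.symm x.1).1
        invFun := fun y => ⟨e (y, j), by rw [e.symm_apply_apply]⟩
        left_inv := by
          rintro ⟨x, hx⟩
          apply Subtype.ext
          change e ((e.symm x).1, j) = x
          rw [← hx]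
          exact e.apply_symm_apply x
        right_inv := by
          intro y
          change (e.symm (e (y, j))).1 = y
          rw [e.symm_apply_apply] }
    rw [Nat.card_congr e', Nat.card_eq_fintype_card, Fintype.card_fin]
  · intro x
    change (e.symm (e (σ₀ (e.symm x)))).2 = π₀ (e.symm x).2
    rw [e.symm_apply_apply]
    generalize e.symm x = p
    obtain ⟨y, i⟩ := p
    rw [happ]

/-! ### The statement -/

theorem suf_perm {a b r : ℕ} (hr : r.Prime) (σ : Perm (Fin (a * b))) (hσ : orderOf σ = r)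
    {c U : ℕ} (hcb : r * c ≤ b) (hU : U + r * c * (a / r) ≤ b * (a / r))
    (hs : σ.support.card = r * (c * a + U)) :
    ∃ f : Fin (a * b) → Fin b, (∀ j : Fin b, Nat.card {x : Fin (a * b) // f x = j} = a) ∧
      ∃ π : Perm (Fin b), ∀ x, f (σ x) = π (f x) := by
  have hpos : 1 ≤ c * a + U := by
    by_contra h
    have h0 : c * a + U = 0 := by omega
    rw [h0, mul_zero, card_support_eq_zero] at hs
    rw [hs, orderOf_one] at hσ
    exact hr.one_lt.ne hσ
  obtain ⟨σ₁, f₁, π₁, ho, hs₁, hf₁, hπ₁⟩ := model hr c U hcb hU hpos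
  obtain ⟨τ, hτ⟩ := isConj_iff.mp (isConj_of_order σ₁ σ hr ho hσ (by rw [hs₁, hs]))
  -- τ * σ₁ * τ⁻¹ = σ
  refine ⟨fun x => f₁ (τ⁻¹ x), ?_, π₁, ?_⟩
  · intro j
    have e : {x : Fin (a * b) // f₁ (τ⁻¹ x) = j} ≃ {x : Fin (a * b) // f₁ x = j} :=
      { toFun := fun x => ⟨τ⁻¹ x.1, x.2⟩
        invFun := fun x => ⟨τ x.1, by simpa using x.2⟩
        left_inv := by intro x; apply Subtype.ext; simp
        right_inv := by intro x; apply Subtype.ext; simp }
    rw [Nat.card_congr e, hf₁ j]
  · intro x
    have h1 : τ⁻¹ (σ x) = σ₁ (τ⁻¹ x) := by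
      rw [← hτ]
      simp
    change f₁ (τ⁻¹ (σ x)) = π₁ (f₁ (τ⁻¹ x))
    rw [h1, hπ₁]

theorem main (a b : ℕ) (ha : 2 ≤ a) (hb : 2 ≤ b) (r : ℕ) (hr : r.Prime)
    (hrd : r ∣ (a * b).factorial / (a.factorial ^ b * b.factorial)) :
    (∀ σ : Equiv.Perm (Fin (a * b)), orderOf σ = r →
        ∃ f : Fin (a * b) → Fin b, (∀ j : Fin b, Nat.card {x : Fin (a * b) // f x = j} = a) ∧
          ∃ π : Equiv.Perm (Fin b), ∀ x : Fin (a * b), f (σ x) = π (f x)) ↔
      (r ≤ a ∧ (a % r = 0 ∨ (b % r = 0 ∧ a % r = 1) ∨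
        (a % r ≠ 0 ∧ b % r ≠ 0 ∧ (b % r) * (a % r) < r ∧
          (b < r ∨ (b % r + r) * (a % r) ≤ (b % r) * a + r)))) := by
  have hrab : r ≤ a * b := by
    have hspec := Cfsg.Agent.Lib.Helper7.HSN.NN_spec (a := a) (by omega) b
    have hpos : 0 < a.factorial ^ b * b.factorial :=
      Nat.mul_pos (pow_pos (Nat.factorial_pos _) _) (Nat.factorial_pos _)
    rw [hspec, Nat.mul_div_cancel _ hpos] at hrd
    exact (hr.dvd_factorial).mp (hrd.trans (Dvd.intro _ hspec.symm))
  refine Iff.trans ?_ (arith_iff ha hb hr.two_le hrab)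
  constructor
  · intro H j hj1 hjr
    obtain ⟨ρ, hρ1, hρ2⟩ := exists_perm_pow (a * b) r j hr.two_le hjr
    have hord : orderOf ρ = r := by
      apply orderOf_of_pow ρ hr hρ1
      rw [hρ2]
      exact Nat.mul_pos hr.pos hj1
    obtain ⟨f, hf, π, hπ⟩ := H ρ hord
    obtain ⟨c, U, hcb, hU, hs⟩ := necessity hr (by omega) ρ hρ1 f hf π hπ
    rw [hρ2] at hs
    exact ⟨c, U, hcb, hU, Nat.eq_of_mul_eq_mul_left hr.pos hs⟩
  · intro H σ hσ
    have hσr : σ ^ r = 1 := by rw [← hσ]; exact pow_orderOf_eq_one σ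
    obtain ⟨j, hj⟩ := dvd_support_card σ hr hσr
    have hj1 : 1 ≤ j := by
      by_contra h
      have h0 : j = 0 := by omega
      rw [h0, mul_zero, card_support_eq_zero] at hj
      rw [hj, orderOf_one] at hσ
      exact hr.one_lt.ne hσ
    have hjr : r * j ≤ a * b := by
      rw [← hj]
      have h1 := Finset.card_le_univ σ.support
      rwa [Fintype.card_fin] at h1
    obtain ⟨c, U, hcb, hU, hjc⟩ := H j hj1 hjr
    exact suf_perm hr σ hσ hcb hU (by rw [hj, hjc])

end Cfsg.Agent.Lib.Helper7.UPP
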