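import Mathlib
import Cfsg.Agent.Lib.Helper7.W2H7b
import Cfsg.Agent.Lib.Helper8.W2Step1b

/-!
# W2 = S4402 (owner helper8): verbatim versions of the stubs `step4`, `step5a`, `step5b`, `step5`
(`Lib/Helper8/W2Stubs.lean`), obtained from the of-forms by plugging in helper8's `step1`.
-/

set_option autoImplicit false
set_option linter.unusedVariables false
set_option linter.unusedSectionVars false
set_option linter.style.longLine false

namespace Cfsg.Agent.Lib.Helper7.W2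

open Cfsg.Agent.Lib.Helper8.W2

universe u

variable {S : Type u} [Group S] [Finite S] {P V1 V2 B Z0 : Subgroup S} {z1 z2 τ : S}

/-- **STEP4** (verbatim) -/
theorem step4 (w : WD P V1 V2 B Z0 z1 z2 τ) (hr : Cfsg.SectionalPRankLE 2 4 S) (h2 : IsPGroup 2 S) :
    (∀ c : S, c ∈ Subgroup.center S ↔ c = 1 ∨ c = z1 * z2) ∧
    Subgroup.center S = (Subgroup.center ↥P).map P.subtype ∧ Nat.card ↥(Subgroup.center S) = 2 :=
  step4_of w h2 (fun x hxN hxV => Cfsg.Agent.Lib.Helper8.W2.step1 w hr h2 x hxN hxV)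

/-- **STEP5a** (verbatim) -/
theorem step5a (w : WD P V1 V2 B Z0 z1 z2 τ) (hr : Cfsg.SectionalPRankLE 2 4 S) (h2 : IsPGroup 2 S) (hPlt : P ≠ ⊤) :
    ∃ x0 ∈ Subgroup.normalizer (P : Set S), x0 ∉ P ∧ x0 * τ = τ * x0 :=
  step5a_of w h2 hPlt

/-- **STEP5b** (verbatim) -/
theorem step5b (w : WD P V1 V2 B Z0 z1 z2 τ) (hr : Cfsg.SectionalPRankLE 2 4 S) (h2 : IsPGroup 2 S) (hPlt : P ≠ ⊤) :
    Nat.card (Subgroup.normalizer (P : Set S) ⊓ Subgroup.centralizer {τ} : Subgroup S) = 32 ∧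
    ∀ k ∈ Subgroup.normalizer (P : Set S),
      (∀ n ∈ Subgroup.normalizer (P : Set S), n⁻¹ * k * n ∈ Subgroup.centralizer ({τ} : Set S)) →
      k = 1 ∨ k = z1 * z2 :=
  step5b_of' w h2 (fun x hxN hxV => Cfsg.Agent.Lib.Helper8.W2.step1 w hr h2 x hxN hxV) hPlt

/-- **STEP5** (verbatim) -/
theorem step5 (w : WD P V1 V2 B Z0 z1 z2 τ) (hr : Cfsg.SectionalPRankLE 2 4 S) (h2 : IsPGroup 2 S) (hPlt : P ≠ ⊤) :
    ∃ (_ : ((Subgroup.center S).subgroupOf (Subgroup.normalizer (P : Set S))).Normal)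
      (T : Sylow 2 (Equiv.Perm (Fin 8))),
      Nonempty (↥(Subgroup.normalizer (P : Set S)) ⧸ (Subgroup.center S).subgroupOf (Subgroup.normalizer (P : Set S)) ≃*
        ↥(T : Subgroup (Equiv.Perm (Fin 8)))) :=
  step5_of w h2 (fun x hxN hxV => Cfsg.Agent.Lib.Helper8.W2.step1 w hr h2 x hxN hxV) hPlt

end Cfsg.Agent.Lib.Helper7.W2
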