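import Mathlib
import Cfsg.Agent.Lib.Helper7.W2H7w
import Cfsg.Agent.Lib.Helper6.W2Step3

/-!
# W2 = S4402 (owner helper8): final glue in of-form: the conclusion of S4402 from the existence of the
`WD` data on `P` (stub `exists_wd` = CONC + TRANSPORT).
-/

set_option autoImplicit false
set_option linter.unusedVariables false
set_option linter.unusedSectionVars false
set_option linter.style.longLine false

namespace Cfsg.Agent.Lib.Helper7.W2

open Cfsg.Agent.Lib.Helper8.W2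

universe u

/-- the conclusion of S4402 from a `WD` structure on `P` -/
theorem result_of_wd {S : Type u} [Group S] [Finite S] (h2 : IsPGroup 2 S) (hr : Cfsg.SectionalPRankLE 2 4 S)
    (P : Subgroup S) (hPlt : P ≠ ⊤)
    (hex : ∃ (V1 V2 B Z0 : Subgroup S) (z1 z2 τ : S), WD P V1 V2 B Z0 z1 z2 τ) :
    Subgroup.center S = (Subgroup.center ↥P).map P.subtype ∧ Nat.card ↥(Subgroup.center S) = 2 ∧
    P.relIndex (Subgroup.normalizer (P : Set S)) = 2 ∧
    (∃ (_ : ((Subgroup.center S).subgroupOf (Subgroup.normalizer (P : Set S))).Normal) (T : Sylow 2 (Equiv.Perm (Fin 8))),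
      Nonempty (↥(Subgroup.normalizer (P : Set S)) ⧸ (Subgroup.center S).subgroupOf (Subgroup.normalizer (P : Set S)) ≃*
        ↥(T : Subgroup (Equiv.Perm (Fin 8))))) ∧
    ∀ V : Subgroup S, V ≤ P → (∀ g ∈ P, ∀ v ∈ V, g * v * g⁻¹ ∈ V) → Cfsg.IsElementaryAbelian 2 V → Nat.card ↥V = 16 →
      Subgroup.normalizer (V : Set S) = P := by
  obtain ⟨V1, V2, B, Z0, z1, z2, τ, w⟩ := hex
  have hs1 : ∀ x ∈ Subgroup.normalizer (P : Set S), (∀ v ∈ V1, x * v * x⁻¹ ∈ V1) → x ∈ P :=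
    fun x hxN hxV => Cfsg.Agent.Lib.Helper8.W2.step1 w hr h2 x hxN hxV
  obtain ⟨_, h4b, h4c⟩ := step4 w hr h2
  exact ⟨h4b, h4c, Cfsg.Agent.Lib.Helper6.W2S2.step2_of w h2 hPlt hs1, step5 w hr h2 hPlt,
    fun V hVP hVn hVe hVc => Cfsg.Agent.Lib.Helper6.W2S2.step3_of w h2 hs1 V hVP hVn hVe hVc⟩

/-- S4402 from `exists_wd` as a hypothesis -/
theorem result_of {S : Type u} [Group S] [Finite S]
    (hexists : ∀ (P : Subgroup S),
      (∃ T : Sylow 2 (Equiv.Perm (Fin 8)), Nonempty (↥P ≃* ↥(T : Subgroup (Equiv.Perm (Fin 8))))) →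
      ∃ (V1 V2 B Z0 : Subgroup S) (z1 z2 τ : S), WD P V1 V2 B Z0 z1 z2 τ)
    (h2 : IsPGroup 2 S) (hr : Cfsg.SectionalPRankLE 2 4 S)
    (P : Subgroup S) (hPlt : P ≠ ⊤) (hP : ∃ T : Sylow 2 (Equiv.Perm (Fin 8)), Nonempty (↥P ≃* ↥(T : Subgroup (Equiv.Perm (Fin 8))))) :
    Subgroup.center S = (Subgroup.center ↥P).map P.subtype ∧ Nat.card ↥(Subgroup.center S) = 2 ∧
    P.relIndex (Subgroup.normalizer (P : Set S)) = 2 ∧
    (∃ (_ : ((Subgroup.center S).subgroupOf (Subgroup.normalizer (P : Set S))).Normal) (T : Sylow 2 (Equiv.Perm (Fin 8))),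
      Nonempty (↥(Subgroup.normalizer (P : Set S)) ⧸ (Subgroup.center S).subgroupOf (Subgroup.normalizer (P : Set S)) ≃*
        ↥(T : Subgroup (Equiv.Perm (Fin 8))))) ∧
    ∀ V : Subgroup S, V ≤ P → (∀ g ∈ P, ∀ v ∈ V, g * v * g⁻¹ ∈ V) → Cfsg.IsElementaryAbelian 2 V → Nat.card ↥V = 16 →
      Subgroup.normalizer (V : Set S) = P :=
  result_of_wd h2 hr P hPlt (hexists P hP)

end Cfsg.Agent.Lib.Helper7.W2
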