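import Mathlib
import Cfsg.Agent.Lib.Helper8.W2Defs

/-!
# W2 = S4402, CONC helper: the field `uniq` of `WD` from an elementwise (decidable) fact.

If every involution-or-identity `x ∈ P` commuting with all its `P`-conjugates lies in `V1 ∪ V2` (a `decide`-able table fact),
then the only normal elementary abelian subgroups of order 16 of `P` are `V1` and `V2`.
-/

set_option autoImplicit false
set_option linter.unusedVariables false
set_option linter.unusedSectionVars false
set_option linter.style.longLine false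

namespace Cfsg.Agent.Lib.Helper7.W2

universe u

/-- a subgroup contained in the union of two subgroups is contained in one of them -/
theorem le_or_le_of_forall_mem {T : Type u} [Group T] (V V1 V2 : Subgroup T)
    (h : ∀ v ∈ V, v ∈ V1 ∨ v ∈ V2) : V ≤ V1 ∨ V ≤ V2 := by
  by_contra hcon
  rw [not_or] at hcon
  obtain ⟨h1, h2⟩ := hcon
  rw [SetLike.not_le_iff_exists] at h1 h2
  obtain ⟨a, haV, ha1⟩ := h1
  obtain ⟨b, hbV, hb2⟩ := h2
  have ha2 : a ∈ V2 := (h a haV).resolve_left ha1
  have hb1 : b ∈ V1 := (h b hbV).resolve_right hb2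
  rcases h (a * b) (V.mul_mem haV hbV) with hab | hab
  · apply ha1
    have : a = (a * b) * b⁻¹ := by group
    rw [this]
    exact V1.mul_mem hab (V1.inv_mem hb1)
  · apply hb2
    have : b = a⁻¹ * (a * b) := by group
    rw [this]
    exact V2.mul_mem (V2.inv_mem ha2) hab

/-- **`uniq` from an elementwise fact.** -/
theorem uniq_of_forall {T : Type u} [Group T] [Finite T] (P V1 V2 : Subgroup T)
    (hV1c : Nat.card V1 = 16) (hV2c : Nat.card V2 = 16)
    (hX : ∀ x ∈ P, x * x = 1 → (∀ g ∈ P, x * (g * x * g⁻¹) = (g * x * g⁻¹) * x) → x ∈ V1 ∨ x ∈ V2) :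
    ∀ V : Subgroup T, V ≤ P → (∀ g ∈ P, ∀ v ∈ V, g * v * g⁻¹ ∈ V) → Cfsg.IsElementaryAbelian 2 V →
      Nat.card V = 16 → V = V1 ∨ V = V2 := by
  intro V hVP hVn hVe hVc
  have hmem : ∀ v ∈ V, v ∈ V1 ∨ v ∈ V2 := by
    intro v hv
    apply hX v (hVP hv)
    · have := hVe.2 v hv
      rwa [pow_two] at this
    · intro g hg
      have hc : g * v * g⁻¹ ∈ V := hVn g hg v hv
      have := hVe.1.is_comm.comm (⟨v, hv⟩ : V) ⟨g * v * g⁻¹, hc⟩
      exact congrArg Subtype.val this
  rcases le_or_le_of_forall_mem V V1 V2 hmem with hle | hle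
  · left
    exact Subgroup.eq_of_le_of_card_ge hle (by rw [hV1c, hVc])
  · right
    exact Subgroup.eq_of_le_of_card_ge hle (by rw [hV2c, hVc])

end Cfsg.Agent.Lib.Helper7.W2
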