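import Cfsg.Agent.Lib.Helper7.StrongAG3
import Cfsg.Agent.Lib.Helper1.ThreeSubgroups

/-! Weak closures of a weakly closed subgroup: `L° = O^p(L°) Q`, `[O^p(L°), Q] = O^p(L°)`. -/

set_option autoImplicit false

namespace Cfsg.Agent.Lib.Helper7

open Cfsg
open scoped commutatorElement

variable {G : Type*} [Group G]

local notation:max Q "⋏" g:max => Subgroup.map (MulEquiv.toMonoidHom (MulAut.conj g)) Q

/-- `[H, K] ≤ H` when `K` normalizes `H`. -/
theorem wcf_commutator_le_left {H K : Subgroup G} (h : K ≤ Subgroup.normalizer (H : Set G)) :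
    ⁅H, K⁆ ≤ H := by
  rw [Subgroup.commutator_le]
  intro a ha b hb
  have h1 : b * a⁻¹ * b⁻¹ ∈ H := (Subgroup.mem_normalizer_iff.mp (h hb) a⁻¹).mp (H.inv_mem ha)
  have e : ⁅a, b⁆ = a * (b * a⁻¹ * b⁻¹) := by rw [commutatorElement_def]; group
  rw [e]
  exact H.mul_mem ha h1

/-- `[A ⊔ B, C] ≤ Y` when both `[A, C]`, `[B, C]` lie in `Y` and `A`, `B` normalize `Y`. -/
theorem wcf_commutator_sup_le {A B C Y : Subgroup G} (hA : ⁅A, C⁆ ≤ Y) (hB : ⁅B, C⁆ ≤ Y)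
    (hAn : A ≤ Subgroup.normalizer (Y : Set G)) (hBn : B ≤ Subgroup.normalizer (Y : Set G)) :
    ⁅A ⊔ B, C⁆ ≤ Y := by
  rw [sup_eq_iSup]
  apply commutator_iSup_le_of_le_normalizer
  · intro b
    cases b
    · exact hB
    · exact hA
  · intro b
    cases b
    · exact hBn
    · exact hAn

/-- A `K`-conjugate of `Q` lies in `Q [K, Q]`. -/
theorem wcf_map_conj_le_sup_commutator {K Q : Subgroup G} {k : G} (hk : k ∈ K) :
    Q ⋏ k ≤ Q ⊔ ⁅K, Q⁆ := by
  rintro _ ⟨q, hq, rfl⟩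
  show k * q * k⁻¹ ∈ Q ⊔ ⁅K, Q⁆
  have e : k * q * k⁻¹ = ⁅k, q⁆ * q := by rw [commutatorElement_def]; group
  rw [e]
  exact Subgroup.mul_mem _ (Subgroup.mem_sup_right (Subgroup.commutator_mem_commutator hk hq))
    (Subgroup.mem_sup_left hq)

/-- `L` normalizes the subgroup generated by the `L`-conjugates of `Q`. -/
theorem wcf_le_normalizer_iSup_conj [Finite G] (Q L : Subgroup G) :
    L ≤ Subgroup.normalizer ((⨆ l : ↥L, Q ⋏ (l : G) : Subgroup G) : Set G) := by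
  intro x hx
  apply mem_normalizer_of_map_conj_le
  rw [Subgroup.map_iSup]
  apply iSup_le
  intro l
  rw [map_conj_map_conj]
  exact le_iSup (fun l : ↥L => Q ⋏ (l : G)) ⟨x * l, L.mul_mem hx l.2⟩

section wc

variable [Finite G] {p : ℕ} [Fact p.Prime] {Q : Subgroup G}

theorem wcf_le_weakClosure (hwc : IsWeaklyClosedSubgroup p Q) {L : Subgroup G} (hQL : Q ≤ L) :
    Q ≤ weakClosure Q L := by
  rw [weakClosure_eq_iSup hwc hQL]
  have h1 : Q ⋏ (((1 : ↥L) : G)) ≤ ⨆ l : ↥L, Q ⋏ (l : G) :=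
    le_iSup (fun l : ↥L => Q ⋏ (l : G)) (1 : ↥L)
  rw [Subgroup.coe_one, map_conj_one] at h1
  exact h1

theorem wcf_le_normalizer_weakClosure (hwc : IsWeaklyClosedSubgroup p Q) {L : Subgroup G}
    (hQL : Q ≤ L) : L ≤ Subgroup.normalizer (weakClosure Q L : Set G) := by
  rw [weakClosure_eq_iSup hwc hQL]
  exact wcf_le_normalizer_iSup_conj Q L

/-- Every `L`-conjugate of `Q` is an `O^p(L°)`-conjugate. -/
theorem wcf_conj_eq (hwc : IsWeaklyClosedSubgroup p Q) {L : Subgroup G} (hQL : Q ≤ L) {l : G}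
    (hl : l ∈ L) : ∃ k ∈ pResidualIn p (weakClosure Q L), Q ⋏ l = Q ⋏ k := by
  have hQp := wc_isPGroup hwc
  obtain ⟨W, hW⟩ : ∃ W, W = weakClosure Q L := ⟨_, rfl⟩
  rw [← hW]
  have hQW : Q ≤ W := by rw [hW]; exact wcf_le_weakClosure hwc hQL
  have hlW : Q ⋏ l ≤ W := by
    rw [hW, weakClosure_eq_iSup hwc hQL]
    exact le_iSup (fun l : ↥L => Q ⋏ (l : G)) ⟨l, hl⟩
  obtain ⟨w, hw, e⟩ := wc_conj_in hwc hQW l hlW
  obtain ⟨T, hQT, hT⟩ := exists_isSylowIn_ge hQW hQp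
  have hsup : T ⊔ pResidualIn p W = W := sup_pResidualIn_eq_of_isSylowIn hT
  have hTn : T ≤ Subgroup.normalizer (pResidualIn p W : Set G) :=
    hT.1.trans (le_normalizer_pResidualIn p W)
  have hw' : w ∈ ((pResidualIn p W ⊔ T : Subgroup G) : Set G) := by
    rw [sup_comm, hsup]; exact hw
  rw [Subgroup.coe_mul_of_right_le_normalizer_left _ _ hTn] at hw'
  obtain ⟨k, hk, t, ht, rfl⟩ := Set.mem_mul.mp hw'
  refine ⟨k, hk, ?_⟩
  rw [e, ← map_conj_map_conj,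
    map_conj_eq_of_mem_normalizer (wc_normalizer_le hwc hT.2.1 hQT (Subgroup.le_normalizer ht))]

theorem wcf_weakClosure_le_sup_commutator (hwc : IsWeaklyClosedSubgroup p Q) {L : Subgroup G}
    (hQL : Q ≤ L) : weakClosure Q L ≤ Q ⊔ ⁅pResidualIn p (weakClosure Q L), Q⁆ := by
  refine (weakClosure_eq_iSup hwc hQL).le.trans ?_
  apply iSup_le
  rintro ⟨l, hl⟩
  obtain ⟨k, hk, e⟩ := wcf_conj_eq hwc hQL hl
  show Q ⋏ l ≤ _
  rw [e]
  exact wcf_map_conj_le_sup_commutator hk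

/-- `[O^p(L°), Q] = O^p(L°)`. -/
theorem wcf_commutator_eq (hwc : IsWeaklyClosedSubgroup p Q) {L : Subgroup G} (hQL : Q ≤ L) :
    ⁅pResidualIn p (weakClosure Q L), Q⁆ = pResidualIn p (weakClosure Q L) := by
  have hQp := wc_isPGroup hwc
  have hWle := wcf_weakClosure_le_sup_commutator hwc hQL
  obtain ⟨W, hW⟩ : ∃ W, W = weakClosure Q L := ⟨_, rfl⟩
  rw [← hW] at hWle ⊢
  have hQW : Q ≤ W := by rw [hW]; exact wcf_le_weakClosure hwc hQL
  have hQn : Q ≤ Subgroup.normalizer (pResidualIn p W : Set G) :=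
    hQW.trans (le_normalizer_pResidualIn p W)
  apply le_antisymm (wcf_commutator_le_left hQn)
  have hQC : Q ≤ Subgroup.normalizer ((⁅pResidualIn p W, Q⁆ : Subgroup G) : Set G) :=
    Cfsg.Agent.Lib.Helper1.le_normalizer_commutator_right _ _
  have hgoal : Subgroup.closure {g : G | g ∈ W ∧ (orderOf g).Coprime p} ≤
      ⁅pResidualIn p W, Q⁆ := by
    rw [Subgroup.closure_le]
    rintro g ⟨hgW, hg⟩
    exact mem_of_mem_sup_of_coprime hQp hQC (hWle hgW) hg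
  rwa [← pResidualIn_eq_closure] at hgoal

/-- `L° = Q O^p(L°)`. -/
theorem wcf_weakClosure_eq_sup (hwc : IsWeaklyClosedSubgroup p Q) {L : Subgroup G} (hQL : Q ≤ L) :
    weakClosure Q L = Q ⊔ pResidualIn p (weakClosure Q L) := by
  apply le_antisymm
  · have h := wcf_weakClosure_le_sup_commutator hwc hQL
    rw [wcf_commutator_eq hwc hQL] at h
    exact h
  · exact sup_le (wcf_le_weakClosure hwc hQL) (pResidualIn_le p _)

/-- `[R, Hc] ≤ O_p(Hc)` when `Hc` is generated by its conjugates of the `p`-group `Q` and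
`R ⊴ Hc` normalizes `Q`. -/
theorem wcf_commutator_R_le (hQp : IsPGroup p Q) {Hc R : Subgroup G} (hQHc : Q ≤ Hc)
    (hgen : Hc ≤ ⨆ h : ↥Hc, Q ⋏ (h : G)) (hR : R ≤ Hc)
    (hRn : Hc ≤ Subgroup.normalizer (R : Set G)) (hRQ : R ≤ Subgroup.normalizer (Q : Set G)) :
    ⁅R, Hc⁆ ≤ pCoreIn p Hc := by
  have hOn : Hc ≤ Subgroup.normalizer (pCoreIn p Hc : Set G) := le_normalizer_pCoreIn p Hc
  have hcore : pCoreIn p R ≤ pCoreIn p Hc :=
    le_pCoreIn ((pCoreIn_le p R).trans hR) (pCoreIn_isPGroup p R)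
      (hRn.trans (normalizer_le_normalizer_pCoreIn p R))
  have key : ∀ h : ↥Hc, ⁅Q ⋏ (h : G), R⁆ ≤ pCoreIn p Hc := by
    rintro ⟨h, hh⟩
    show ⁅Q ⋏ h, R⁆ ≤ _
    have hQh : Q ⋏ h ≤ Hc := map_conj_le_of_mem hQHc hh
    have hRh : R ≤ Subgroup.normalizer ((Q ⋏ h : Subgroup G) : Set G) := by
      intro r hr
      have h1 : h⁻¹ * r * h⁻¹⁻¹ ∈ R :=
        (Subgroup.mem_normalizer_iff.mp (hRn (Hc.inv_mem hh)) r).mp hr
      have h2 := conj_mem_normalizer_map_conj (hRQ h1) h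
      have e : h * (h⁻¹ * r * h⁻¹⁻¹) * h⁻¹ = r := by group
      rwa [e] at h2
    have h3 : ⁅Q ⋏ h, R⁆ ≤ Q ⋏ h ⊓ R := (commutator_le_inf_iff _ _).mpr ⟨hQh.trans hRn, hRh⟩
    have h4 : Q ⋏ h ⊓ R ≤ pCoreIn p R := by
      apply le_pCoreIn inf_le_right ((hQp.map _).to_le inf_le_left)
      intro r hr
      apply mem_normalizer_of_map_conj_le
      refine (Subgroup.map_inf_le _ _ _).trans (inf_le_inf ?_ ?_)
      · exact map_conj_le_of_mem_normalizer (hRh hr)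
      · exact map_conj_le_of_mem_normalizer (Subgroup.le_normalizer hr)
    exact h3.trans (h4.trans hcore)
  have h5 : ⁅⨆ h : ↥Hc, Q ⋏ (h : G), R⁆ ≤ pCoreIn p Hc :=
    commutator_iSup_le_of_le_normalizer (fun h : ↥Hc => Q ⋏ (h : G)) R (pCoreIn p Hc) key
      (fun h => (map_conj_le_of_mem hQHc h.2).trans hOn)
  rw [Subgroup.commutator_comm]
  exact (Subgroup.commutator_mono hgen le_rfl).trans h5

end wc

end Cfsg.Agent.Lib.Helper7
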