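import Mathlib
import Cfsg.Agent.Lib.Helper7.OnePt

/-!
# One point extensions relative to a frozen set (towards Witt's lemma)
-/

set_option autoImplicit false

namespace Cfsg.Agent.Lib.Helper7.Witt

open Equiv Function

variable {α : Type*}

/-- `X` is `k`-fold transitive on the complement of `F` (tuples given as injective functions). -/
def TransOff (X : Subgroup (Perm α)) (F : Set α) (k : ℕ) : Prop :=
  ∀ a b : Fin k → α, Injective a → Injective b → (∀ i, a i ∉ F) → (∀ i, b i ∉ F) →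
    ∃ f ∈ X, ∀ i, f (a i) = b i

theorem TransOff.mono {X : Subgroup (Perm α)} {F F' : Set α} {k : ℕ} (h : TransOff X F k)
    (hFF : F ⊆ F') : TransOff X F' k := by
  intro a b ha hb haF hbF
  exact h a b ha hb (fun i hi => haF i (hFF hi)) (fun i hi => hbF i (hFF hi))

theorem swap_apply_mem_of [DecidableEq α] (P : α → Prop) {u v z : α} (hu : P u) (hv : P v)
    (hz : P z) : P (swap u v z) := by
  rw [swap_apply_def]
  split_ifs <;> assumption

/-- The one point extension step. -/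
theorem ext_step [DecidableEq α] (X : Subgroup (Perm α)) (F : Set α) (p : α) (hpF : p ∉ F)
    (hXp : ∀ f ∈ X, f p = p) (hXF : ∀ f ∈ X, ∀ z ∈ F, f z = z)
    (k : ℕ) (hk : 2 ≤ k) (e : Fin k → α) (he : Injective e) (hep : ∀ i, e i ≠ p)
    (heF : ∀ i, e i ∉ F)
    (htrans : TransOff X (insert p F) k)
    (h g : Perm α) (hhF : ∀ z ∈ F, h z = z) (hg : g ∈ X) (x y : α)
    (hxp : x ≠ p) (hxF : x ∉ F) (hyp : y ≠ p) (hyF : y ∉ F)
    (h1 : h p = x) (h2 : h x = p) (h3 : h y = y) (h5 : g y = x)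
    (h6 : (g * h) ^ 3 ∈ X) (h7 : h ^ 2 ∈ X) (h8 : ∀ f ∈ X, f x = x → h * f * h ∈ X) :
    (∀ f ∈ Subgroup.closure ((X : Set (Perm α)) ∪ {h}), f p = p ↔ f ∈ X) ∧
    (∀ f ∈ Subgroup.closure ((X : Set (Perm α)) ∪ {h}), ∀ z ∈ F, f z = z) ∧
    TransOff (Subgroup.closure ((X : Set (Perm α)) ∪ {h})) F (k + 1) := by
  classical
  -- the "free" points
  have hΩ : ∀ z, z ∉ insert p F ↔ z ≠ p ∧ z ∉ F := by
    intro z
    rw [Set.mem_insert_iff, not_or]
  have hXΩ : ∀ f ∈ X, ∀ z, (z ≠ p ∧ z ∉ F) → (f z ≠ p ∧ f z ∉ F) := by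
    intro f hf z ⟨hz1, hz2⟩
    constructor
    · intro hh
      exact hz1 (f.injective (hh.trans (hXp f hf).symm))
    · intro hh
      have := hXF f hf (f z) hh
      exact hz2 (f.injective this ▸ hh)
  have hxy : x ≠ y := by
    intro hxy
    rw [hxy, h3] at h2
    exact hyp h2
  obtain ⟨i0, hi0⟩ : ∃ i0 : Fin k, i0.val = 0 := ⟨⟨0, by omega⟩, rfl⟩
  obtain ⟨i1, hi1⟩ : ∃ i1 : Fin k, i1.val = 1 := ⟨⟨1, by omega⟩, rfl⟩
  have hi01 : i0 ≠ i1 := by
    intro hh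
    have := congrArg Fin.val hh
    omega
  have E2 : ∀ x₁ z₁ : α, x₁ ≠ z₁ → (x₁ ≠ p ∧ x₁ ∉ F) → (z₁ ≠ p ∧ z₁ ∉ F) →
      ∃ a : Fin k → α, Injective a ∧ (∀ i, a i ≠ p ∧ a i ∉ F) ∧ a i0 = x₁ ∧ a i1 = z₁ := by
    intro x₁ z₁ hne hx₁ hz₁
    obtain ⟨π₁, hπ₁⟩ : ∃ π₁ : Perm α, π₁ = swap (e i0) x₁ := ⟨_, rfl⟩
    have h0 : π₁ (e i0) = x₁ := by rw [hπ₁]; exact swap_apply_left _ _
    obtain ⟨w, hwdef⟩ : ∃ w : α, w = π₁ (e i1) := ⟨_, rfl⟩
    have hw : w ≠ x₁ := by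
      intro hw
      have h9 : π₁ (e i1) = π₁ (e i0) := by rw [h0, ← hwdef]; exact hw
      exact hi01 (he (π₁.injective h9)).symm
    have hπΩ : ∀ i, π₁ (e i) ≠ p ∧ π₁ (e i) ∉ F := by
      intro i
      rw [hπ₁]
      exact swap_apply_mem_of (fun z => z ≠ p ∧ z ∉ F) ⟨hep i0, heF i0⟩ hx₁ ⟨hep i, heF i⟩
    have hwΩ : w ≠ p ∧ w ∉ F := hwdef ▸ hπΩ i1
    refine ⟨fun i => swap w z₁ (π₁ (e i)), ?_, ?_, ?_, ?_⟩
    · intro i j hij
      exact he (π₁.injective ((swap w z₁).injective hij))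
    · intro i
      exact swap_apply_mem_of (fun z => z ≠ p ∧ z ∉ F) hwΩ hz₁ (hπΩ i)
    · show swap w z₁ (π₁ (e i0)) = x₁
      rw [h0]
      exact swap_apply_of_ne_of_ne hw.symm hne
    · show swap w z₁ (π₁ (e i1)) = z₁
      rw [← hwdef]
      exact swap_apply_left _ _
  have T2 : ∀ x₁ z₁ x₂ z₂ : α, x₁ ≠ z₁ → x₂ ≠ z₂ → (x₁ ≠ p ∧ x₁ ∉ F) → (z₁ ≠ p ∧ z₁ ∉ F) →
      (x₂ ≠ p ∧ x₂ ∉ F) → (z₂ ≠ p ∧ z₂ ∉ F) → ∃ f ∈ X, f x₁ = x₂ ∧ f z₁ = z₂ := by
    intro x₁ z₁ x₂ z₂ hne1 hne2 hx₁ hz₁ hx₂ hz₂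
    obtain ⟨a, hai, haΩ, ha0, ha1⟩ := E2 x₁ z₁ hne1 hx₁ hz₁
    obtain ⟨b, hbi, hbΩ, hb0, hb1⟩ := E2 x₂ z₂ hne2 hx₂ hz₂
    obtain ⟨f, hf, hfab⟩ := htrans a b hai hbi (fun i => (hΩ _).mpr (haΩ i))
      (fun i => (hΩ _).mpr (hbΩ i))
    refine ⟨f, hf, ?_, ?_⟩
    · have h9 := hfab i0
      rwa [ha0, hb0] at h9
    · have h9 := hfab i1
      rwa [ha1, hb1] at h9
  have hxΩ : x ≠ p ∧ x ∉ F := ⟨hxp, hxF⟩
  have hyΩ : y ≠ p ∧ y ∉ F := ⟨hyp, hyF⟩
  have T1 : ∀ w : α, (w ≠ p ∧ w ∉ F) → ∃ t ∈ X, t w = x := by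
    intro w hw
    by_cases hwx : w = x
    · exact ⟨1, X.one_mem, by rw [hwx]; rfl⟩
    · obtain ⟨f, hf, hf1, _⟩ := T2 w x x w hwx (Ne.symm hwx) hw hxΩ hxΩ hw
      exact ⟨f, hf, hf1⟩
  have key : ∀ s ∈ X, h * s * h ∈ X ∨ ∃ a ∈ X, ∃ b ∈ X, h * s * h = a * h * b := by
    intro s hs
    by_cases hsx : s x = x
    · exact Or.inl (h8 s hs hsx)
    · right
      obtain ⟨z, hz⟩ : ∃ z, z = s x := ⟨_, rfl⟩
      have hzΩ : z ≠ p ∧ z ∉ F := hz ▸ hXΩ s hs x hxΩ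
      have hzx : x ≠ z := by
        intro hh
        apply hsx
        rw [← hz, ← hh]
      obtain ⟨t, ht, ht1, ht2⟩ := T2 x z x y hzx hxy hxΩ hzΩ hxΩ hyΩ
      have hr : (g * t * s) x = x := by
        show g (t (s x)) = x
        rw [← hz, ht2, h5]
      have htinv : t⁻¹ x = x := by
        rw [Equiv.Perm.inv_eq_iff_eq]; exact ht1.symm
      have hA := h8 t⁻¹ (X.inv_mem ht) htinv
      have hB := h8 (g * t * s) (X.mul_mem (X.mul_mem hg ht) hs) hr
      refine ⟨h * t⁻¹ * h * g, X.mul_mem hA hg, ((g * h) ^ 3)⁻¹ * g * (h * (g * t * s) * h),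
        X.mul_mem (X.mul_mem (X.inv_mem h6) hg) hB, ?_⟩
      have e3 : (g * h) ^ 3 = g * h * (g * h) * (g * h) := by
        rw [pow_succ, pow_succ, pow_one]
      rw [e3]
      group
  have hsub := OnePt.closure_sub X h h7 key
  obtain ⟨C, hC⟩ : ∃ C : Subgroup (Perm α),
      C = Subgroup.closure ((X : Set (Perm α)) ∪ {h}) := ⟨_, rfl⟩
  rw [← hC]
  rw [← hC] at hsub
  have hXC : ∀ f ∈ X, f ∈ C := fun f hf => by
    rw [hC]; exact Subgroup.subset_closure (Or.inl hf)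
  have hhC : h ∈ C := by
    rw [hC]; exact Subgroup.subset_closure (Or.inr rfl)
  refine ⟨?_, ?_, ?_⟩
  · intro f hf
    rcases hsub f hf with hfX | ⟨a, ha, b, hb, rfl⟩
    · exact ⟨fun _ => hfX, fun _ => hXp f hfX⟩
    · have hne : (a * h * b) p ≠ p := by
        show a (h (b p)) ≠ p
        rw [hXp b hb, h1]
        intro hh
        exact hxp (a.injective (hh.trans (hXp a ha).symm))
      exact ⟨fun hh => absurd hh hne, fun hh => absurd (hXp _ hh) hne⟩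
  · intro f hf z hz
    rcases hsub f hf with hfX | ⟨a, ha, b, hb, rfl⟩
    · exact hXF f hfX z hz
    · show a (h (b z)) = z
      rw [hXF b hb z hz, hhF z hz, hXF a ha z hz]
  · -- transitivity
    have norm : ∀ u : Fin (k + 1) → α, Injective u → (∀ i, u i ∉ F) → ∃ f ∈ C,
        f (u (Fin.last k)) = p ∧ ∀ i : Fin k, (f (u (Fin.castSucc i)) ≠ p ∧
          f (u (Fin.castSucc i)) ∉ F) := by
      intro u hu huF
      by_cases hlast : u (Fin.last k) = p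
      · refine ⟨1, C.one_mem, hlast, fun i => ⟨?_, huF _⟩⟩
        intro hh
        have h9 : u (Fin.castSucc i) = u (Fin.last k) := hh.trans hlast.symm
        exact (Fin.castSucc_lt_last i).ne (hu h9)
      · obtain ⟨w, hw⟩ : ∃ w, w = u (Fin.last k) := ⟨_, rfl⟩
        have hwΩ : w ≠ p ∧ w ∉ F := hw ▸ ⟨hlast, huF _⟩
        obtain ⟨t, ht, htw⟩ := T1 w hwΩ
        refine ⟨h * t, C.mul_mem hhC (hXC t ht), ?_, ?_⟩
        · show h (t (u (Fin.last k))) = p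
          rw [← hw, htw, h2]
        · intro i
          show h (t (u (Fin.castSucc i))) ≠ p ∧ h (t (u (Fin.castSucc i))) ∉ F
          have hvw : u (Fin.castSucc i) ≠ w := by
            intro hh
            rw [hw] at hh
            exact (Fin.castSucc_lt_last i).ne (hu hh)
          by_cases hvp : u (Fin.castSucc i) = p
          · rw [hvp, hXp t ht, h1]
            exact hxΩ
          · have hv := hXΩ t ht _ ⟨hvp, huF _⟩
            have htv : t (u (Fin.castSucc i)) ≠ x := by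
              intro hh
              exact hvw (t.injective (hh.trans htw.symm))
            constructor
            · intro hh
              exact htv (h.injective (hh.trans h2.symm))
            · intro hh
              have h9 := hhF _ hh
              have h10 := h.injective h9
              rw [h10] at hh
              exact hv.2 hh
    intro u v hu hv huF hvF
    obtain ⟨f₁, hf₁, ha0, ha⟩ := norm u hu huF
    obtain ⟨f₂, hf₂, hb0, hb⟩ := norm v hv hvF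
    obtain ⟨f, hf, hfab⟩ := htrans (fun i => f₁ (u (Fin.castSucc i)))
      (fun i => f₂ (v (Fin.castSucc i)))
      (fun i j hij => Fin.castSucc_injective k (hu (f₁.injective hij)))
      (fun i j hij => Fin.castSucc_injective k (hv (f₂.injective hij)))
      (fun i => (hΩ _).mpr (ha i)) (fun i => (hΩ _).mpr (hb i))
    refine ⟨f₂⁻¹ * f * f₁, C.mul_mem (C.mul_mem (C.inv_mem hf₂) (hXC f hf)) hf₁, ?_⟩
    intro j
    show f₂⁻¹ (f (f₁ (u j))) = v j
    rw [Equiv.Perm.inv_eq_iff_eq]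
    refine Fin.lastCases ?_ (fun i => ?_) j
    · rw [ha0, hb0, hXp f hf]
    · exact hfab i

end Cfsg.Agent.Lib.Helper7.Witt
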