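import Cfsg.Agent.Lib.Helper7.Witt1

/-!
# Witt's lemma on transitive extensions
-/

set_option autoImplicit false

namespace Cfsg.Agent.Lib.Helper7.Witt

open Equiv Function

variable {α : Type*} [DecidableEq α]

/-- generators of the `m`-th group -/
def gens (G : Subgroup (Perm α)) (s : ℕ → Perm α) (m : ℕ) : Set (Perm α) :=
  (G : Set (Perm α)) ∪ {x | ∃ i : ℕ, 2 ≤ i ∧ i + 1 ≤ m ∧ x = s i}

/-- the `m`-th group `⟨G, s 2, …, s (m-1)⟩` -/
def Xm (G : Subgroup (Perm α)) (s : ℕ → Perm α) (m : ℕ) : Subgroup (Perm α) :=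
  Subgroup.closure (gens G s m)

theorem G_le_Xm (G : Subgroup (Perm α)) (s : ℕ → Perm α) (m : ℕ) : G ≤ Xm G s m :=
  fun _ hf => Subgroup.subset_closure (Or.inl hf)

theorem s_mem_Xm (G : Subgroup (Perm α)) (s : ℕ → Perm α) (m i : ℕ) (h1 : 2 ≤ i)
    (h2 : i + 1 ≤ m) : s i ∈ Xm G s m :=
  Subgroup.subset_closure (Or.inr ⟨i, h1, h2, rfl⟩)

theorem Xm_mono (G : Subgroup (Perm α)) (s : ℕ → Perm α) {m m' : ℕ} (h : m ≤ m') :
    Xm G s m ≤ Xm G s m' := by
  apply Subgroup.closure_mono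
  rintro x (hx | ⟨i, h1, h2, rfl⟩)
  · exact Or.inl hx
  · exact Or.inr ⟨i, h1, by omega, rfl⟩

theorem Xm_two_le (G : Subgroup (Perm α)) (s : ℕ → Perm α) : Xm G s 2 ≤ G := by
  rw [Xm, Subgroup.closure_le]
  rintro x (hx | ⟨i, h1, h2, rfl⟩)
  · exact hx
  · omega

theorem Xm_succ (G : Subgroup (Perm α)) (s : ℕ → Perm α) (m : ℕ) (hm : 2 ≤ m) :
    Subgroup.closure ((Xm G s m : Set (Perm α)) ∪ {s m}) = Xm G s (m + 1) := by
  apply le_antisymm
  · rw [Subgroup.closure_le]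
    rintro x (hx | hx)
    · exact Xm_mono G s (Nat.le_succ m) hx
    · rw [Set.mem_singleton_iff] at hx
      rw [hx]
      exact s_mem_Xm G s (m + 1) m hm le_rfl
  · rw [Xm, Subgroup.closure_le]
    rintro x (hx | ⟨i, h1, h2, rfl⟩)
    · exact Subgroup.subset_closure (Or.inl (G_le_Xm G s m hx))
    · by_cases him : i = m
      · rw [him]
        exact Subgroup.subset_closure (Or.inr rfl)
      · exact Subgroup.subset_closure (Or.inl (s_mem_Xm G s m i h1 (by omega)))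

section main

variable (t : ℕ) (ht : 2 ≤ t) (q : ℕ → α)
  (hq : ∀ i j : ℕ, 1 ≤ i → i ≤ t → 1 ≤ j → j ≤ t → q i = q j → i = j)
  (G : Subgroup (Perm α))
  (hfix : ∀ g ∈ G, ∀ i : ℕ, 3 ≤ i → i ≤ t → g (q i) = q i)
  (h2 : ∀ a b c d : α, (∀ i, 3 ≤ i → i ≤ t → a ≠ q i ∧ b ≠ q i ∧ c ≠ q i ∧ d ≠ q i) →
    a ≠ b → c ≠ d → ∃ g ∈ G, g a = c ∧ g b = d)
  (s : ℕ → Perm α) (hs1 : s 1 ∈ G) (hs1q : s 1 (q 1) = q 2 ∧ s 1 (q 2) = q 1)
  (hsq : ∀ i : ℕ, 2 ≤ i → i + 1 ≤ t → s i (q i) = q (i + 1) ∧ s i (q (i + 1)) = q i ∧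
    ∀ j : ℕ, 1 ≤ j → j ≤ t → j ≠ i → j ≠ i + 1 → s i (q j) = q j)
  (H : Subgroup (Perm α))
  (hH : H = G ⊓ MulAction.stabilizer (Perm α) (q 1) ⊓ MulAction.stabilizer (Perm α) (q 2))
  (hsq2 : ∀ i : ℕ, 1 ≤ i → i + 1 ≤ t → s i ^ 2 ∈ H)
  (hbraid : ∀ i : ℕ, 1 ≤ i → i + 2 ≤ t → (s i * s (i + 1)) ^ 3 ∈ H)
  (hcomm : ∀ i j : ℕ, 1 ≤ i → i + 2 ≤ j → j + 1 ≤ t → (s i * s j) ^ 2 ∈ H ∧ (s j * s i) ^ 2 ∈ H)
  (hnorm : ∀ i : ℕ, 2 ≤ i → i + 1 ≤ t → ∀ g ∈ G ⊓ MulAction.stabilizer (Perm α) (q 2),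
    s i * g * (s i)⁻¹ ∈ G ⊓ MulAction.stabilizer (Perm α) (q 2))

include hH in
theorem mem_H (f : Perm α) : f ∈ H ↔ f ∈ G ∧ f (q 1) = q 1 ∧ f (q 2) = q 2 := by
  rw [hH, Subgroup.mem_inf, Subgroup.mem_inf, MulAction.mem_stabilizer_iff,
    MulAction.mem_stabilizer_iff, and_assoc]
  rfl

include hH in
theorem H_le_G : H ≤ G := fun f hf => ((mem_H q G H hH f).mp hf).1

include hnorm in
theorem norm_stab (i : ℕ) (h1 : 2 ≤ i) (h2' : i + 1 ≤ t) (g : Perm α) (hg : g ∈ G)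
    (hg2 : g (q 2) = q 2) : s i * g * (s i)⁻¹ ∈ G := by
  have := hnorm i h1 h2' g (by
    rw [Subgroup.mem_inf, MulAction.mem_stabilizer_iff]
    exact ⟨hg, hg2⟩)
  exact (Subgroup.mem_inf.mp this).1

include hq hfix h2 hs1 hs1q hH hsq2 hcomm hnorm in
/-- `s i` normalises `G` for `i ≥ 3`. -/
theorem conj_G (i : ℕ) (h3 : 3 ≤ i) (hi : i + 1 ≤ t) (f : Perm α) (hf : f ∈ G) :
    s i * f * (s i)⁻¹ ∈ G := by
  have hHG := H_le_G q G H hH
  by_cases hf2 : f (q 2) = q 2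
  · exact norm_stab t q G s hnorm i (by omega) hi f hf hf2
  · obtain ⟨z, hz⟩ : ∃ z, z = f (q 2) := ⟨_, rfl⟩
    have hzq : ∀ j, 3 ≤ j → j ≤ t → z ≠ q j := by
      intro j hj3 hjt hh
      have h9 : f (q 2) = f (q j) := by rw [← hz, hh, hfix f hf j hj3 hjt]
      have := hq 2 j (by omega) (by omega) (by omega) hjt (f.injective h9)
      omega
    have hq2 : ∀ j, 3 ≤ j → j ≤ t → q 2 ≠ q j := by
      intro j hj3 hjt hh
      have := hq 2 j (by omega) (by omega) (by omega) hjt hh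
      omega
    have hq1 : ∀ j, 3 ≤ j → j ≤ t → q 1 ≠ q j := by
      intro j hj3 hjt hh
      have := hq 1 j (by omega) (by omega) (by omega) hjt hh
      omega
    have hq21 : q 2 ≠ q 1 := by
      intro hh
      have := hq 2 1 (by omega) (by omega) (by omega) (by omega) hh
      omega
    obtain ⟨f₁, hf₁, hf₁2, hf₁1⟩ := h2 (q 2) (q 1) (q 2) z
      (fun j hj3 hjt => ⟨hq2 j hj3 hjt, hq1 j hj3 hjt, hq2 j hj3 hjt, hzq j hj3 hjt⟩) hq21
      (by rw [hz]; exact fun hh => hf2 hh.symm)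
    obtain ⟨f₂, hf₂def⟩ : ∃ f₂, f₂ = (f₁ * s 1)⁻¹ * f := ⟨_, rfl⟩
    have hf₂ : f₂ ∈ G := by
      rw [hf₂def]
      exact G.mul_mem (G.inv_mem (G.mul_mem hf₁ hs1)) hf
    have hf₂2 : f₂ (q 2) = q 2 := by
      rw [hf₂def]
      show (f₁ * s 1)⁻¹ (f (q 2)) = q 2
      rw [Equiv.Perm.inv_eq_iff_eq]
      show f (q 2) = f₁ (s 1 (q 2))
      rw [hs1q.2, hf₁1, hz]
    have hdec : f = f₁ * s 1 * f₂ := by
      rw [hf₂def]
      group
    have hc1 : s i * s 1 * (s i)⁻¹ ∈ G := by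
      have h4 := (hcomm 1 i le_rfl (by omega) hi).2
      have h5 := hsq2 i (by omega) hi
      have e : s i * s 1 * (s i)⁻¹ = (s i * s 1) ^ 2 * (s 1)⁻¹ * ((s i) ^ 2)⁻¹ := by
        rw [pow_two, pow_two]
        group
      rw [e]
      exact G.mul_mem (G.mul_mem (hHG h4) (G.inv_mem hs1)) (G.inv_mem (hHG h5))
    have e : s i * f * (s i)⁻¹ =
        (s i * f₁ * (s i)⁻¹) * (s i * s 1 * (s i)⁻¹) * (s i * f₂ * (s i)⁻¹) := by
      rw [hdec]
      group
    rw [e]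
    exact G.mul_mem (G.mul_mem (norm_stab t q G s hnorm i (by omega) hi f₁ hf₁ hf₁2) hc1)
      (norm_stab t q G s hnorm i (by omega) hi f₂ hf₂ hf₂2)

include hq hfix h2 hs1 hs1q hH hsq2 hcomm hnorm in
/-- `s i` normalises `Xm m'` for `m' + 1 ≤ i`. -/
theorem conj_Xm (i m' : ℕ) (hm' : 2 ≤ m') (him : m' + 1 ≤ i) (hi : i + 1 ≤ t) (f : Perm α)
    (hf : f ∈ Xm G s m') : s i * f * (s i)⁻¹ ∈ Xm G s m' := by
  have hHG := H_le_G q G H hH
  rw [Xm] at hf
  induction hf using Subgroup.closure_induction with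
  | mem x hx =>
    rcases hx with hx | ⟨j, hj1, hj2, rfl⟩
    · exact G_le_Xm G s m' (conj_G t q hq G hfix h2 s hs1 hs1q H hH hsq2 hcomm hnorm i (by omega)
        hi x hx)
    · have h4 := (hcomm j i (by omega) (by omega) hi).2
      have h5 := hsq2 i (by omega) hi
      have e : s i * s j * (s i)⁻¹ = (s i * s j) ^ 2 * (s j)⁻¹ * ((s i) ^ 2)⁻¹ := by
        rw [pow_two, pow_two]
        group
      rw [e]
      exact (Xm G s m').mul_mem ((Xm G s m').mul_mem (G_le_Xm G s m' (hHG h4))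
        ((Xm G s m').inv_mem (s_mem_Xm G s m' j hj1 hj2)))
        ((Xm G s m').inv_mem (G_le_Xm G s m' (hHG h5)))
  | one =>
    have e : s i * 1 * (s i)⁻¹ = 1 := by group
    rw [e]
    exact (Xm G s m').one_mem
  | mul a b _ _ iha ihb =>
    have e : s i * (a * b) * (s i)⁻¹ = (s i * a * (s i)⁻¹) * (s i * b * (s i)⁻¹) := by group
    rw [e]
    exact (Xm G s m').mul_mem iha ihb
  | inv a _ iha =>
    have e : s i * a⁻¹ * (s i)⁻¹ = (s i * a * (s i)⁻¹)⁻¹ := by group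
    rw [e]
    exact (Xm G s m').inv_mem iha

/-- the frozen points at stage `m` -/
def Fm (t : ℕ) (q : ℕ → α) (m : ℕ) : Set α := {z | ∃ j, m < j ∧ j ≤ t ∧ z = q j}

include hq hfix h2 hs1 hs1q hsq hH hsq2 hbraid hcomm hnorm in
/-- The inductive statement. -/
theorem stage (n : ℕ) : n + 2 ≤ t →
    (∀ f ∈ Xm G s (n + 2), ∀ j, n + 2 < j → j ≤ t → f (q j) = q j) ∧
    TransOff (Xm G s (n + 2)) (Fm t q (n + 2)) (n + 2) ∧
    (∀ f ∈ Xm G s (n + 2), (∀ j, 3 ≤ j → j ≤ n + 2 → f (q j) = q j) → f ∈ G) ∧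
    (n + 3 ≤ t → ∀ f ∈ Xm G s (n + 2), f (q (n + 2)) = q (n + 2) →
      s (n + 2) * f * s (n + 2) ∈ Xm G s (n + 2)) := by
  have hHG := H_le_G q G H hH
  induction n with
  | zero =>
    intro _
    refine ⟨?_, ?_, ?_, ?_⟩
    · intro f hf j hj hjt
      exact hfix f (Xm_two_le G s hf) j (by omega) hjt
    · intro a b ha hb haF hbF
      have hne : ∀ (c : Fin 2 → α), (∀ i, c i ∉ Fm t q (0 + 2)) →
          ∀ k : Fin 2, ∀ j, 3 ≤ j → j ≤ t → c k ≠ q j := by
        intro c hc k j hj hjt hh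
        exact hc k ⟨j, by omega, hjt, hh⟩
      obtain ⟨g, hg, hg0, hg1⟩ := h2 (a 0) (a 1) (b 0) (b 1)
        (fun j hj hjt => ⟨hne a haF 0 j hj hjt, hne a haF 1 j hj hjt, hne b hbF 0 j hj hjt,
          hne b hbF 1 j hj hjt⟩)
        (fun hh => by have := ha hh; simp at this)
        (fun hh => by have := hb hh; simp at this)
      refine ⟨g, G_le_Xm G s _ hg, ?_⟩
      intro i
      fin_cases i
      · exact hg0
      · exact hg1
    · intro f hf _
      exact Xm_two_le G s hf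
    · intro h3 f hf hf2
      have hfG := Xm_two_le G s hf
      have h4 := norm_stab t q G s hnorm 2 le_rfl (by omega) f hfG hf2
      have h5 := hsq2 2 (by omega) (by omega)
      have e : s (0 + 2) * f * s (0 + 2) = (s 2 * f * (s 2)⁻¹) * (s 2) ^ 2 := by group
      rw [e]
      exact G_le_Xm G s _ (G.mul_mem h4 (hHG h5))
  | succ n ih =>
    intro hnt
    obtain ⟨hA, hB, hC, hD⟩ := ih (by omega)
    -- the data of the extension step
    have hqne : ∀ i j, 1 ≤ i → i ≤ t → 1 ≤ j → j ≤ t → i ≠ j → q i ≠ q j :=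
      fun i j h1 h2' h3 h4 hne hh => hne (hq i j h1 h2' h3 h4 hh)
    have hpF : q (n + 3) ∉ Fm t q (n + 3) := by
      rintro ⟨j, hj, hjt, hh⟩
      exact hqne (n + 3) j (by omega) (by omega) (by omega) hjt (by omega) hh
    have hgX : s (n + 1) ∈ Xm G s (n + 2) := by
      rcases Nat.eq_zero_or_pos n with h0 | h0
      · rw [h0]
        exact G_le_Xm G s _ hs1
      · exact s_mem_Xm G s _ _ (by omega) (by omega)
    have h5 : s (n + 1) (q (n + 1)) = q (n + 2) := by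
      rcases Nat.eq_zero_or_pos n with h0 | h0
      · rw [h0]
        exact hs1q.1
      · exact (hsq (n + 1) (by omega) (by omega)).1
    obtain ⟨hs_a, hs_b, hs_c⟩ := hsq (n + 2) (by omega) (by omega)
    have hsub : Fm t q (n + 2) ⊆ insert (q (n + 3)) (Fm t q (n + 3)) := by
      rintro z ⟨j, hj, hjt, rfl⟩
      by_cases hj3 : j = n + 3
      · rw [hj3]
        exact Set.mem_insert _ _
      · exact Set.mem_insert_of_mem _ ⟨j, by omega, hjt, rfl⟩
    have hstep := ext_step (Xm G s (n + 2)) (Fm t q (n + 3)) (q (n + 3)) hpF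
      (fun f hf => hA f hf (n + 3) (by omega) (by omega))
      (fun f hf z hz => by
        obtain ⟨j, hj, hjt, rfl⟩ := hz
        exact hA f hf j (by omega) hjt)
      (n + 2) (by omega) (fun i : Fin (n + 2) => q (i.val + 1))
      (fun i j hij => by
        have := hq (i.val + 1) (j.val + 1) (by omega) (by have := i.2; omega) (by omega)
          (by have := j.2; omega) hij
        exact Fin.ext (by omega))
      (fun i => hqne (i.val + 1) (n + 3) (by omega) (by have := i.2; omega) (by omega) (by omega)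
        (by have := i.2; omega))
      (fun i => by
        rintro ⟨j, hj, hjt, hh⟩
        exact hqne (i.val + 1) j (by omega) (by have := i.2; omega) (by omega) hjt
          (by have := i.2; omega) hh)
      (hB.mono hsub)
      (s (n + 2)) (s (n + 1))
      (fun z hz => by
        obtain ⟨j, hj, hjt, rfl⟩ := hz
        exact hs_c j (by omega) hjt (by omega) (by omega))
      hgX (q (n + 2)) (q (n + 1))
      (hqne (n + 2) (n + 3) (by omega) (by omega) (by omega) (by omega) (by omega))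
      (by
        rintro ⟨j, hj, hjt, hh⟩
        exact hqne (n + 2) j (by omega) (by omega) (by omega) hjt (by omega) hh)
      (hqne (n + 1) (n + 3) (by omega) (by omega) (by omega) (by omega) (by omega))
      (by
        rintro ⟨j, hj, hjt, hh⟩
        exact hqne (n + 1) j (by omega) (by omega) (by omega) hjt (by omega) hh)
      hs_b hs_a (hs_c (n + 1) (by omega) (by omega) (by omega) (by omega)) h5
      (G_le_Xm G s _ (hHG (hbraid (n + 1) (by omega) (by omega))))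
      (G_le_Xm G s _ (hHG (hsq2 (n + 2) (by omega) (by omega))))
      (hD (by omega))
    rw [Xm_succ G s (n + 2) (by omega)] at hstep
    obtain ⟨hE1, hE2, hE3⟩ := hstep
    refine ⟨?_, hE3, ?_, ?_⟩
    · intro f hf j hj hjt
      exact hE2 f hf (q j) ⟨j, by omega, hjt, rfl⟩
    · intro f hf hfq
      have h9 : f ∈ Xm G s (n + 2) := (hE1 f hf).mp (hfq (n + 3) (by omega) (by omega))
      exact hC f h9 (fun j hj3 hj => hfq j hj3 (by omega))
    · intro hn4 f hf hfq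
      have h9 : f ∈ Xm G s (n + 2) := (hE1 f hf).mp hfq
      have h10 := conj_Xm t q hq G hfix h2 s hs1 hs1q H hH hsq2 hcomm hnorm (n + 3) (n + 2)
        (by omega) (by omega) (by omega) f h9
      have h11 := hsq2 (n + 3) (by omega) (by omega)
      have e : s (n + 1 + 2) * f * s (n + 1 + 2) =
          (s (n + 3) * f * (s (n + 3))⁻¹) * (s (n + 3)) ^ 2 := by group
      rw [e]
      exact Xm_mono G s (by omega) ((Xm G s (n + 2)).mul_mem h10 (G_le_Xm G s _ (hHG h11)))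

include ht hq hfix h2 hs1 hs1q hsq hH hsq2 hbraid hcomm hnorm in
/-- Witt's lemma. -/
theorem main_thm :
    MulAction.IsMultiplyPretransitive ↥(Xm G s t) α t ∧
    Xm G s t ⊓ fixingSubgroup (Perm α) {x | ∃ i : ℕ, 1 ≤ i ∧ i ≤ t ∧ x = q i} = H := by
  obtain ⟨n, rfl⟩ : ∃ n, t = n + 2 := ⟨t - 2, by omega⟩
  obtain ⟨hA, hB, hC, hD⟩ := stage (n + 2) q hq G hfix h2 s hs1 hs1q hsq H hH hsq2 hbraid hcomm
    hnorm n le_rfl
  constructor
  · rw [MulAction.isMultiplyPretransitive_iff]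
    intro x y
    obtain ⟨f, hf, hfxy⟩ := hB x y x.injective y.injective
      (fun i hi => by
        obtain ⟨j, hj, hjt, _⟩ := hi
        omega)
      (fun i hi => by
        obtain ⟨j, hj, hjt, _⟩ := hi
        omega)
    refine ⟨⟨f, hf⟩, ?_⟩
    ext i
    exact hfxy i
  · ext f
    rw [Subgroup.mem_inf, mem_fixingSubgroup_iff, mem_H q G H hH]
    constructor
    · rintro ⟨hf, hfix'⟩
      have hfq : ∀ j, 1 ≤ j → j ≤ n + 2 → f (q j) = q j :=
        fun j h1 h2' => hfix' (q j) ⟨j, h1, h2', rfl⟩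
      exact ⟨hC f hf (fun j hj3 hj => hfq j (by omega) hj), hfq 1 le_rfl (by omega),
        hfq 2 (by omega) (by omega)⟩
    · rintro ⟨hf, hf1, hf2⟩
      refine ⟨G_le_Xm G s _ hf, ?_⟩
      rintro z ⟨j, hj1, hjt, rfl⟩
      show f (q j) = q j
      rcases (by omega : j = 1 ∨ j = 2 ∨ 3 ≤ j) with rfl | rfl | hj3
      · exact hf1
      · exact hf2
      · exact hfix f hf j hj3 hjt

end main

end Cfsg.Agent.Lib.Helper7.Witt
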