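import Mathlib
import Cfsg.Prelude.Def_LocalStructure
import Cfsg.Agent.Lib.Helper7.YMinimal
import Cfsg.Agent.Lib.Helper7.WeaklyClosed
import Cfsg.Agent.Lib.Helper7.FrakM7

/-!
# `Y`-minimal groups II: generation by two conjugates
-/

set_option autoImplicit false

namespace Cfsg.Agent.Lib.Helper7

open Cfsg

variable {L : Type*} [Group L]

local notation:max Q "⋏" g:max => Subgroup.map (MulEquiv.toMonoidHom (MulAut.conj g)) Q

theorem map_conj_top (g : L) : (⊤ : Subgroup L) ⋏ g = ⊤ := by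
  have hsurj : Function.Surjective (MulAut.conj g : L ≃* L).toMonoidHom := (MulAut.conj g).surjective
  rw [← MonoidHom.range_eq_map, MonoidHom.range_eq_top.mpr hsurj]

theorem map_conj_ne_top {X : Subgroup L} (hX : X ≠ ⊤) (g : L) : X ⋏ g ≠ ⊤ := by
  intro h
  apply hX
  have hinj : Function.Injective (MulAut.conj g : L ≃* L).toMonoidHom := (MulAut.conj g).injective
  apply Subgroup.map_injective hinj
  rw [h, map_conj_top]

variable [Finite L] {p : ℕ} [Fact p.Prime]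

/-- In a `Y`-minimal group (with `Y` a `p`-group), `L = ⟨Y, Y^g⟩` for every `g` outside the maximal
subgroup `L₀` containing `Y`. -/
theorem IsMinimalOver.sup_map_conj_eq_top {Y L₀ : Subgroup L} (hmin : IsMinimalOver Y)
    (hL₀ : IsCoatom L₀) (hY : Y ≤ L₀) (hYp : IsPGroup p Y) {g : L} (hg : g ∉ L₀) :
    Y ⊔ Y ⋏ g = ⊤ := by
  by_contra hX
  set X : Subgroup L := Y ⊔ Y ⋏ g with hXdef
  obtain ⟨P, hYP⟩ := hYp.exists_le_sylow
  have hPL₀ := IsMinimalOver.sylow_le hmin hL₀ hY P hYP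
  have hPS : IsSylowIn p (P : Subgroup L) L₀ := isSylowIn_of_sylow P hPL₀
  -- `Y ≤ X^{g⁻¹}`, a proper subgroup
  have h1 : Y ≤ X ⋏ g⁻¹ := by
    rw [← map_conj_le_iff]
    exact le_sup_right
  have h3 := IsMinimalOver.le_coatom hmin hL₀ hY _ h1 (map_conj_ne_top hX g⁻¹)
  have h4 : Y ⋏ g⁻¹ ≤ L₀ := (Subgroup.map_mono (le_sup_left : Y ≤ X)).trans h3
  obtain ⟨R, hYR, hR⟩ := exists_isSylowIn_ge h4 (hYp.map _)
  obtain ⟨l, hl, hPl⟩ := IsSylowIn.exists_conj_eq hR hPS
  -- `Y ≤ P^{g l}`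
  have h5 : Y ≤ (P : Subgroup L) ⋏ (g * l) := by
    rw [← map_conj_map_conj, hPl, ← inv_inv g, ← map_conj_le_iff]
    exact hYR
  set P₂ : Sylow p L := (g * l) • P with hP₂
  have hP₂c : (P₂ : Subgroup L) = (P : Subgroup L) ⋏ (g * l) := sylow_smul_coe_eq_map _ _
  have h7 : (P₂ : Subgroup L) ≤ L₀ := IsMinimalOver.sylow_le hmin hL₀ hY P₂ (hP₂c ▸ h5)
  have hP₂S : IsSylowIn p (P₂ : Subgroup L) L₀ := isSylowIn_of_sylow P₂ h7
  obtain ⟨m, hm, hPm⟩ := IsSylowIn.exists_conj_eq hPS hP₂S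
  rw [hP₂c, map_conj_map_conj, map_conj_eq_self_iff] at hPm
  have h8 := IsMinimalOver.normalizer_le hmin hL₀ hY P.2 hYP hPm
  apply hg
  have e : g = m⁻¹ * (m * (g * l)) * l⁻¹ := by group
  rw [e]
  exact L₀.mul_mem (L₀.mul_mem (L₀.inv_mem hm) h8) (L₀.inv_mem hl)

/-- If moreover `Y` is abelian, `Y ∩ Y^g = C_Y(L)`. -/
theorem IsMinimalOver.inf_map_conj_eq {Y L₀ : Subgroup L} (hmin : IsMinimalOver Y)
    (hL₀ : IsCoatom L₀) (hY : Y ≤ L₀) (hYp : IsPGroup p Y)
    (hab : ∀ a ∈ Y, ∀ b ∈ Y, a * b = b * a) {g : L} (hg : g ∉ L₀) :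
    Y ⊓ Y ⋏ g = Y ⊓ Subgroup.center L := by
  have hg2 := IsMinimalOver.sup_map_conj_eq_top hmin hL₀ hY hYp hg
  apply le_antisymm
  · intro z hz
    rw [Subgroup.mem_inf] at hz ⊢
    obtain ⟨hz1, hz2⟩ := hz
    refine ⟨hz1, ?_⟩
    rw [Subgroup.mem_center_iff]
    have hcent : (⊤ : Subgroup L) ≤ Subgroup.centralizer {z} := by
      rw [← hg2]
      apply sup_le
      · intro y hy
        rw [Subgroup.mem_centralizer_iff]
        intro w hw
        rw [Set.mem_singleton_iff] at hw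
        subst hw
        exact hab w hz1 y hy
      · rintro _ ⟨y, hy, rfl⟩
        obtain ⟨w, hw, rfl⟩ := hz2
        rw [Subgroup.mem_centralizer_iff]
        intro v hv
        rw [Set.mem_singleton_iff] at hv
        subst hv
        have h' : w * y = y * w := hab w hw y hy
        simp only [MulEquiv.coe_toMonoidHom, MulAut.conj_apply]
        calc g * w * g⁻¹ * (g * y * g⁻¹) = g * (w * y) * g⁻¹ := by group
          _ = g * (y * w) * g⁻¹ := by rw [h']
          _ = g * y * g⁻¹ * (g * w * g⁻¹) := by group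
    intro v
    have := hcent (Subgroup.mem_top v)
    rw [Subgroup.mem_centralizer_iff] at this
    exact (this z rfl).symm
  · intro z hz
    rw [Subgroup.mem_inf] at hz ⊢
    obtain ⟨hz1, hz2⟩ := hz
    refine ⟨hz1, z, hz1, ?_⟩
    rw [Subgroup.mem_center_iff] at hz2
    simp only [MulEquiv.coe_toMonoidHom, MulAut.conj_apply]
    rw [hz2 g, mul_inv_cancel_right]

end Cfsg.Agent.Lib.Helper7
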