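import Mathlib
import Cfsg.Prelude.Def_LocalStructure
import Cfsg.Agent.Lib.Helper7.YMinimal2
import Cfsg.Agent.Lib.Helper7.PRedSub4
import Cfsg.Agent.Lib.Helper1.FrattiniP
import Cfsg.Agent.Lib.Helper2.FrattiniSub

/-!
# `Y`-minimal groups III: the normal closure of `O_p(L) ∩ Y`
-/

set_option autoImplicit false

namespace Cfsg.Agent.Lib.Helper7

open Cfsg
open scoped commutatorElement

variable {L : Type*} [Group L]

local notation:max Q "⋏" g:max => Subgroup.map (MulEquiv.toMonoidHom (MulAut.conj g)) Q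

open scoped Pointwise in
/-- For two abelian subgroups with `A₂ ≤ N(A₁)`, the derived group of `A₁A₂` is `[A₁, A₂]`. -/
theorem commutator_sup_sup_le {A₁ A₂ : Subgroup L} (h₁ : ∀ a ∈ A₁, ∀ b ∈ A₁, a * b = b * a)
    (h₂ : ∀ a ∈ A₂, ∀ b ∈ A₂, a * b = b * a)
    (hN : A₂ ≤ Subgroup.normalizer (A₁ : Set L)) : ⁅A₁ ⊔ A₂, A₁ ⊔ A₂⁆ ≤ ⁅A₁, A₂⁆ := by
  set K : Subgroup L := ⁅A₁, A₂⁆ with hK
  have hK1 : A₁ ≤ Subgroup.normalizer (K : Set L) := Subgroup.normalizer_commutator_ge_left A₁ A₂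
  have hK2 : A₂ ≤ Subgroup.normalizer (K : Set L) := Subgroup.normalizer_commutator_ge_right A₁ A₂
  have hset : ((A₂ ⊔ A₁ : Subgroup L) : Set L) = (A₂ : Set L) * (A₁ : Set L) :=
    Subgroup.coe_mul_of_left_le_normalizer_right A₂ A₁ hN
  have hdec : ∀ y ∈ A₁ ⊔ A₂, ∃ b₂ ∈ A₂, ∃ b₁ ∈ A₁, y = b₂ * b₁ := by
    intro y hy
    rw [sup_comm] at hy
    have : y ∈ (A₂ : Set L) * (A₁ : Set L) := by rw [← hset]; exact hy
    obtain ⟨b₂, hb₂, b₁, hb₁, rfl⟩ := Set.mem_mul.mp this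
    exact ⟨b₂, hb₂, b₁, hb₁, rfl⟩
  have conjK : ∀ n ∈ Subgroup.normalizer (K : Set L), ∀ k ∈ K, n * k * n⁻¹ ∈ K := by
    intro n hn k hk
    exact (Subgroup.mem_normalizer_iff.mp hn k).mp hk
  have aux1 : ∀ a ∈ A₁, ∀ y ∈ A₁ ⊔ A₂, ⁅a, y⁆ ∈ K := by
    intro a ha y hy
    obtain ⟨b₂, hb₂, b₁, hb₁, rfl⟩ := hdec y hy
    rw [commutatorElement_mul_right_eq_mul_conj]
    have e1 : ⁅a, b₁⁆ = 1 := commutatorElement_eq_one_iff_mul_comm.mpr (h₁ a ha b₁ hb₁)
    rw [e1, mul_one, mul_inv_cancel_right]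
    exact Subgroup.commutator_mem_commutator ha hb₂
  have aux2 : ∀ a ∈ A₂, ∀ y ∈ A₁ ⊔ A₂, ⁅a, y⁆ ∈ K := by
    intro a ha y hy
    obtain ⟨b₂, hb₂, b₁, hb₁, rfl⟩ := hdec y hy
    rw [commutatorElement_mul_right_eq_mul_conj]
    have e1 : ⁅a, b₂⁆ = 1 := commutatorElement_eq_one_iff_mul_comm.mpr (h₂ a ha b₂ hb₂)
    rw [e1, one_mul]
    apply conjK b₂ (hK2 hb₂)
    rw [← commutatorElement_inv]
    exact K.inv_mem (Subgroup.commutator_mem_commutator hb₁ ha)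
  rw [Subgroup.commutator_le]
  intro x hx y hy
  obtain ⟨a₂, ha₂, a₁, ha₁, rfl⟩ := hdec x hx
  rw [commutatorElement_mul_left_eq_conj_mul]
  exact K.mul_mem (conjK a₂ (hK2 ha₂) _ (aux1 a₁ ha₁ y hy)) (aux2 a₂ ha₂ y hy)

variable [Finite L] {p : ℕ} [Fact p.Prime]

section closure

variable {Y L₀ : Subgroup L} (hmin : IsMinimalOver Y) (hL₀ : IsCoatom L₀) (hY : Y ≤ L₀)
  (hYel : IsElementaryAbelian p Y)
  (hOY : pCore p L ≤ Subgroup.normalizer (Y : Set L)) {g : L} (hg : g ∉ L₀)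

include hmin hL₀ hY hYel hOY hg

/-- The normal closure of `O_p(L) ∩ Y` is `(O_p(L) ∩ Y)(O_p(L) ∩ Y^g)`. -/
theorem IsMinimalOver.normalClosure_pCore_inf :
    Subgroup.normalClosure (((pCore p L ⊓ Y : Subgroup L)) : Set L)
      = (pCore p L ⊓ Y) ⊔ (pCore p L ⊓ Y ⋏ g) := by
  have hYab : ∀ a ∈ Y, ∀ b ∈ Y, a * b = b * a := by
    intro a ha b hb
    have := hYel.1.is_comm.comm (⟨a, ha⟩ : ↥Y) ⟨b, hb⟩
    exact congrArg Subtype.val this
  have hYp : IsPGroup p Y := by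
    intro y
    refine ⟨1, ?_⟩
    apply Subtype.ext
    simpa using hYel.2 y y.2
  have hgen := IsMinimalOver.sup_map_conj_eq_top hmin hL₀ hY hYp hg
  set O := pCore p L with hO
  have hOn : O.Normal := pCore_normal p L
  have hOg : O ⋏ g = O := by
    apply map_conj_eq_of_mem_normalizer
    rw [Subgroup.normalizer_eq_top_iff.mpr hOn]
    exact Subgroup.mem_top g
  set A₁ := O ⊓ Y with hA₁
  set A₂ := O ⊓ Y ⋏ g with hA₂
  have hinj : Function.Injective (MulAut.conj g : L ≃* L).toMonoidHom := (MulAut.conj g).injective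
  have hA₂' : A₂ = A₁ ⋏ g := by
    rw [hA₁, Subgroup.map_inf _ _ _ hinj, hOg]
  have hOY' : O ≤ Subgroup.normalizer ((Y ⋏ g : Subgroup L) : Set L) := by
    rw [normalizer_map_conj, ← hOg]
    exact Subgroup.map_mono hOY
  have hc1 : ⁅O, Y⁆ ≤ A₁ :=
    le_inf (Subgroup.commutator_le_left O Y) (Subgroup.le_normalizer_iff_commutator_le_right.mp hOY)
  have hc2 : ⁅O, Y ⋏ g⁆ ≤ A₂ :=
    le_inf (Subgroup.commutator_le_left O _) (Subgroup.le_normalizer_iff_commutator_le_right.mp hOY')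
  have htopO : ∀ X : Subgroup L, X ≤ Subgroup.normalizer ((O : Subgroup L) : Set L) := by
    intro X
    rw [Subgroup.normalizer_eq_top_iff.mpr hOn]; exact le_top
  have hYA₁ : Y ≤ Subgroup.normalizer ((A₁ : Subgroup L) : Set L) :=
    Cfsg.Agent.Lib.Helper1.le_normalizer_inf (htopO Y) Subgroup.le_normalizer
  have hY'A₂ : Y ⋏ g ≤ Subgroup.normalizer ((A₂ : Subgroup L) : Set L) :=
    Cfsg.Agent.Lib.Helper1.le_normalizer_inf (htopO _) Subgroup.le_normalizer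
  -- conjugation by `Y` maps `A₂` into `A₁A₂`, and symmetrically
  have key : ∀ (U B C : Subgroup L), B ≤ O → ⁅O, U⁆ ≤ C → ∀ u ∈ U, B ⋏ u ≤ C ⊔ B := by
    intro U B C hBO hc u hu
    rintro _ ⟨b, hb, rfl⟩
    simp only [MulEquiv.coe_toMonoidHom, MulAut.conj_apply]
    have e : u * b * u⁻¹ = ⁅u, b⁆ * b := by
      rw [commutatorElement_def]; group
    rw [e]
    apply Subgroup.mul_mem _ _ (le_sup_right (a := C) hb)
    apply le_sup_left (b := B)
    apply hc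
    rw [Subgroup.commutator_comm]
    exact Subgroup.commutator_mem_commutator hu (hBO hb)
  have hYN : Y ≤ Subgroup.normalizer ((A₁ ⊔ A₂ : Subgroup L) : Set L) := by
    intro y hy
    apply mem_normalizer_of_map_conj_le
    rw [Subgroup.map_sup]
    apply sup_le
    · rw [map_conj_eq_of_mem_normalizer (hYA₁ hy)]; exact le_sup_left
    · exact key Y A₂ A₁ inf_le_left hc1 y hy
  have hY'N : Y ⋏ g ≤ Subgroup.normalizer ((A₁ ⊔ A₂ : Subgroup L) : Set L) := by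
    intro y hy
    apply mem_normalizer_of_map_conj_le
    rw [Subgroup.map_sup]
    apply sup_le
    · have := key (Y ⋏ g) A₁ A₂ inf_le_left hc2 y hy
      rwa [sup_comm] at this
    · rw [map_conj_eq_of_mem_normalizer (hY'A₂ hy)]; exact le_sup_right
  have hAn : (A₁ ⊔ A₂).Normal := by
    rw [← Subgroup.normalizer_eq_top_iff, eq_top_iff, ← hgen]
    exact sup_le hYN hY'N
  apply le_antisymm
  · exact Subgroup.normalClosure_le_normal (show ((A₁ : Subgroup L) : Set L) ⊆ _ from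
      (le_sup_left : A₁ ≤ A₁ ⊔ A₂))
  · apply sup_le Subgroup.le_normalClosure
    rw [hA₂']
    have hn : (Subgroup.normalClosure ((A₁ : Subgroup L) : Set L)).Normal :=
      Subgroup.normalClosure_normal
    have := map_conj_eq_of_mem_normalizer (M := Subgroup.normalClosure ((A₁ : Subgroup L) : Set L))
      (g := g) (by rw [Subgroup.normalizer_eq_top_iff.mpr hn]; exact Subgroup.mem_top g)
    calc A₁ ⋏ g ≤ (Subgroup.normalClosure ((A₁ : Subgroup L) : Set L)) ⋏ g :=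
          Subgroup.map_mono Subgroup.le_normalClosure
      _ = _ := this

end closure

end Cfsg.Agent.Lib.Helper7
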